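import Groth.Agent.KFlatLib.ModuleFlat
import Groth.Agent.KFlatLib.Scheme.Cover
import Groth.Agent.KFlatLib.Derived
import Mathlib.Algebra.Category.ModuleCat.Adjunctions

/-!
# K-flat resolutions of complexes of modules over a ring
-/

set_option linter.style.haveILetI false

universe u

open CategoryTheory CategoryTheory.Limits MonoidalCategory

namespace Groth.Agent.KFlatLib

variable (R : Type u) [CommRing R]

/-- The free cover of modules. -/
noncomputable def ringCover : FlatCover (ModuleCat.{u} R) where
  Flat M := Module.Flat R M
  G := forget (ModuleCat.{u} R) ⋙ ModuleCat.free R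
  π := (ModuleCat.adj R).counit
  epi M := by
    refine (ModuleCat.epi_iff_surjective _).2 fun m => ⟨ModuleCat.freeMk (R := R) m, ?_⟩
    exact ModuleCat.freeDesc_apply _ m
  flat M := inferInstanceAs (Module.Flat R ((M : Type u) →₀ R))
  of_iso _ _ e h := haveI := h; Module.Flat.of_linearEquiv e.symm.toLinearEquiv
  biprod M N h h' :=
    (Module.Flat.equiv_iff (ModuleCat.biprodIsoProd M N).toLinearEquiv).2 (flat_prod h h')
  zero M h := haveI : Subsingleton (M : Type u) := ModuleCat.subsingleton_of_isZero h; inferInstance
  colim _ _ hc h := flat_of_isColimit hc h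

variable {R}

lemma flatObj_ringCover (M : ModuleCat.{u} R) (h : (ringCover R).Flat M) :
    FlatObj (curriedTensor (ModuleCat.{u} R)) M :=
  haveI : Module.Flat R M := h
  flatObj_moduleCat M

instance preservesColimitsOfShape_curriedTensor_obj (M : ModuleCat.{u} R) (J : Type)
    [Category.{0} J] : PreservesColimitsOfShape J ((curriedTensor (ModuleCat.{u} R)).obj M) :=
  inferInstanceAs (PreservesColimitsOfShape J (tensorLeft M))

lemma kFlat_ringRes (K : CochainComplex (ModuleCat.{u} R) ℤ) :
    KFlat (curriedTensor (ModuleCat.{u} R)) ((ringCover R).P.obj K) :=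
  (ringCover R).kFlat_P flatObj_ringCover K

variable {A : Type u} [CommRing A] (φ : R →+* A)

/-- `(A ⊗_R M)|_R` is `A ⊗_R M`. -/
noncomputable def extendRestrictIso :
    ModuleCat.extendScalars φ ⋙ ModuleCat.restrictScalars φ ≅
      (curriedTensor (ModuleCat.{u} R)).flip.flip.obj
        ((ModuleCat.restrictScalars φ).obj (ModuleCat.of A A)) :=
  letI : Algebra R A := φ.toAlgebra
  NatIso.ofComponents (fun M => LinearEquiv.toModuleIso
      (m₁ := ((ModuleCat.extendScalars φ ⋙ ModuleCat.restrictScalars φ).obj M).isModule)
      (m₂ := ((ModuleCat.restrictScalars φ).obj (ModuleCat.of A A) ⊗ M).isModule)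
      { toFun := fun z => z
        invFun := fun z => z
        map_add' := fun _ _ => rfl
        map_smul' := fun r z => by
          induction z using TensorProduct.induction_on with
          | zero => exact (smul_zero _).trans (smul_zero _).symm
          | tmul a m => rfl
          | add a b ha hb =>
            exact ((smul_add _ _ _).trans (congrArg₂ (· + ·) ha hb)).trans (smul_add _ _ _).symm
        left_inv := fun _ => rfl
        right_inv := fun _ => rfl })
    fun {M N} g => rfl

/-- Base change preserves quasi-isomorphisms between K-flat complexes. -/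
lemma quasiIso_extendScalars {P Q : CochainComplex (ModuleCat.{u} R) ℤ} (α : P ⟶ Q) [QuasiIso α]
    (hP : KFlat (curriedTensor (ModuleCat.{u} R)) P) (hQ : KFlat (curriedTensor (ModuleCat.{u} R)) Q) :
    QuasiIso (((ModuleCat.extendScalars φ).mapHomologicalComplex (ComplexShape.up ℤ)).map α) := by
  let T := curriedTensor (ModuleCat.{u} R)
  let N := (ModuleCat.restrictScalars φ).obj (ModuleCat.of A A)
  let S := (HomologicalComplex.single (ModuleCat.{u} R) (ComplexShape.up ℤ) 0).obj N
  haveI : QuasiIso ((T.map₂CochainComplex.flip.obj S).map α) := by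
    haveI := quasiIso_tensor (ringCover R) flatObj_ringCover curriedTensorFlipIso α hP hQ S
    exact (quasiIso_iff_of_arrow_mk_iso _ _
      (((Functor.mapArrowFunctor _ _).mapIso (symmIso curriedTensorFlipIso S)).app (Arrow.mk α))).2
        (by assumption)
  let e : T.map₂CochainComplex.flip.obj S ≅
      (ModuleCat.extendScalars φ ⋙ ModuleCat.restrictScalars φ).mapHomologicalComplex
        (ComplexShape.up ℤ) :=
    singleIso T N ≪≫ NatIso.mapHomologicalComplex
      (curriedTensorFlipIso.app N ≪≫ (extendRestrictIso φ).symm) _
  haveI : QuasiIso (((ModuleCat.extendScalars φ ⋙ ModuleCat.restrictScalars φ).mapHomologicalComplex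
      (ComplexShape.up ℤ)).map α) :=
    (quasiIso_iff_of_arrow_mk_iso _ _ (((Functor.mapArrowFunctor _ _).mapIso e).app
      (Arrow.mk α))).1 (by assumption)
  have h : QuasiIso (((ModuleCat.restrictScalars φ).mapHomologicalComplex (ComplexShape.up ℤ)).map
      (((ModuleCat.extendScalars φ).mapHomologicalComplex (ComplexShape.up ℤ)).map α)) := by
    assumption
  exact (HomologicalComplex.quasiIso_map_iff_of_preservesHomology _ (ModuleCat.restrictScalars φ)).1 h

end Groth.Agent.KFlatLib
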