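import Groth.Agent.KFlatLib.Ring.FibreDepthFlat
import Groth.Agent.W4Lib.Flat

/-!
# Four-term sequences, flatness and depth
-/

set_option autoImplicit false
set_option linter.style.haveILetI false

universe u

open TensorProduct IsLocalRing CategoryTheory

namespace Groth.Agent.KFlatLib

/-- The kernel of a surjection of flat modules is flat. -/
theorem flat_of_flat_quotient {R : Type u} [CommRing R] {X Y Z : Type u} [AddCommGroup X] [Module R X]
    [AddCommGroup Y] [Module R Y] [AddCommGroup Z] [Module R Z] [Module.Flat R Y] [Module.Flat R Z]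
    {f : X →ₗ[R] Y} {g : Y →ₗ[R] Z} (hf : Function.Injective f) (hex : Function.Exact f g)
    (hg : Function.Surjective g) : Module.Flat R X := by
  refine Module.Flat.iff_rTensor_preserves_injective_linearMap.mpr fun N N' _ _ _ _ φ hφ => ?_
  intro a b hab
  refine W4Lib.lTensor_injective_of_flat_quotient hf hex hg N
    (Module.Flat.rTensor_preserves_injective_linearMap (M := Y) φ hφ ?_)
  rw [← LinearMap.comp_apply, ← LinearMap.comp_apply, LinearMap.rTensor_comp_lTensor,
    ← LinearMap.lTensor_comp_rTensor, LinearMap.comp_apply, LinearMap.comp_apply, hab]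

variable {A B : Type u} [CommRing A] [CommRing B] [IsNoetherianRing A] [IsNoetherianRing B] [Algebra A B]

/-- Depth along `V(J)` from fibre depths. -/
theorem le_idealDepth_of_fibLocMod (E : Type u) [AddCommGroup E] [Module B E] [Module A E] [IsScalarTower A B E]
    [Module.Finite B E] [Module.Flat A E] (J : Ideal B) (k : ℕ∞)
    (h : ∀ q : PrimeSpectrum B, J ≤ q.asIdeal →
      k ≤ LocCoh.idealDepth (q.asIdeal.map (algebraMap B (EGA4.FibLocRing A B q.asIdeal))) (EGA4.FibLocMod A B q.asIdeal E)) :
    k ≤ LocCoh.idealDepth J E := by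
  rw [LC.idealDepth_eq_iInf_depth]
  refine le_iInf₂ fun q hq => ?_
  by_cases hs : q ∈ Module.support B E
  · haveI := FlatLoc6.isLocalRing_fibLocRing (A := A) q.asIdeal
    have hk := h q hq
    rw [map_eq_maximalIdeal_fibLocRing q.asIdeal] at hk
    rw [show LocCoh.idealDepth (maximalIdeal (EGA4.FibLocRing A B q.asIdeal)) (EGA4.FibLocMod A B q.asIdeal E) =
      LocCoh.depth (EGA4.FibLocRing A B q.asIdeal) (EGA4.FibLocMod A B q.asIdeal E) from rfl,
      FlatLoc6.fibDepth_eq] at hk
    have hf := (FlatLoc6.formulas_atPrime (A := A) E A (q.asIdeal.comap (algebraMap A B)) q.asIdeal rfl hs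
      (Module.mem_support_iff'.2 ⟨1, fun r hr h0 => hr (by
        rw [smul_eq_mul, mul_one] at h0; rw [h0]; exact (q.asIdeal.comap (algebraMap A B)).zero_mem)⟩)).1
    let e : LocalizedModule q.asIdeal.primeCompl (E ⊗[A] A) ≃ₗ[Localization.AtPrime q.asIdeal]
        LocalizedModule q.asIdeal.primeCompl E :=
      IsLocalizedModule.mapEquiv q.asIdeal.primeCompl (LocalizedModule.mkLinearMap _ _)
        (LocalizedModule.mkLinearMap _ _) (Localization.AtPrime q.asIdeal) (AlgebraTensorModule.rid A B E)
    calc k ≤ _ := hk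
      _ ≤ _ := le_add_self
      _ = LocCoh.depth (Localization.AtPrime q.asIdeal) (LocalizedModule q.asIdeal.primeCompl (E ⊗[A] A)) := hf.symm
      _ = _ := FlatLoc6.depth_congr' (by exact e)
  · haveI := Module.notMem_support_iff.1 hs
    rw [LocCoh.depth, LocCoh.idealDepth, if_pos (Subsingleton.elim _ _)]
    exact le_top

omit [IsNoetherianRing A] [IsNoetherianRing B] in
theorem flat_localized (S : Submonoid B) (E : Type u) [AddCommGroup E] [Module B E] [Module A E] [IsScalarTower A B E]
    [Module.Flat A E] : Module.Flat A (LocalizedModule S E) :=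
  haveI := FlatLoc6.flat_baseChange_left (A := A) (B := B) (C := Localization S) E
  Module.Flat.of_linearEquiv ((LocalizedModule.equivTensorProduct S E).restrictScalars A)

variable (J : Ideal B) {F E0 E1 G : Type u}
  [AddCommGroup F] [Module B F] [Module A F] [IsScalarTower A B F] [Module.Finite B F]
  [AddCommGroup E0] [Module B E0] [Module A E0] [IsScalarTower A B E0] [Module.Finite B E0] [Module.Flat A E0]
  [AddCommGroup E1] [Module B E1] [Module A E1] [IsScalarTower A B E1] [Module.Finite B E1] [Module.Flat A E1]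
  [AddCommGroup G] [Module B G] [Module A G] [IsScalarTower A B G] [Module.Finite B G]
  {f : F →ₗ[B] E0} {u : E0 →ₗ[B] E1} {v : E1 →ₗ[B] G}
  (hf : Function.Injective f) (hfu : Function.Exact f u) (huv : Function.Exact u v) (hv : Function.Surjective v)
  (hGU : ∀ q : PrimeSpectrum B, ¬ J ≤ q.asIdeal → FlatCA.FlatAt A q.asIdeal G)

omit [IsNoetherianRing A] [IsNoetherianRing B] [Module.Finite B F] [Module.Finite B E0] [Module.Finite B E1]
  [Module.Finite B G] in
include hf hfu huv hv hGU in
/-- The image and the kernel are flat where the cokernel is. -/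
theorem flatAt_range_ker : (∀ q : PrimeSpectrum B, ¬ J ≤ q.asIdeal → FlatCA.FlatAt A q.asIdeal (LinearMap.range u)) ∧
    (∀ q : PrimeSpectrum B, ¬ J ≤ q.asIdeal → FlatCA.FlatAt A q.asIdeal F) := by
  have key : ∀ q : PrimeSpectrum B, ¬ J ≤ q.asIdeal → FlatCA.FlatAt A q.asIdeal (LinearMap.range u) ∧
      FlatCA.FlatAt A q.asIdeal F := fun q hq => by
    let S := q.asIdeal.primeCompl
    haveI : Module.Flat A (LocalizedModule S G) := hGU q hq
    haveI : Module.Flat A (LocalizedModule S E1) := flat_localized S E1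
    haveI : Module.Flat A (LocalizedModule S E0) := flat_localized S E0
    have hK : Module.Flat A (LocalizedModule S (LinearMap.range u)) := flat_of_flat_quotient
      (f := (LocalizedModule.map S (LinearMap.range u).subtype).restrictScalars A)
      (g := (LocalizedModule.map S v).restrictScalars A)
      (LocalizedModule.map_injective S _ Subtype.val_injective)
      (LocalizedModule.map_exact S _ v fun z => (huv z).trans ⟨fun ⟨w, hw⟩ => ⟨⟨z, w, hw⟩, rfl⟩,
        fun ⟨w, hw⟩ => hw ▸ w.2⟩)
      (LocalizedModule.map_surjective S v hv)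
    haveI := hK
    refine ⟨hK, flat_of_flat_quotient
      (f := (LocalizedModule.map S f).restrictScalars A)
      (g := (LocalizedModule.map S u.rangeRestrict).restrictScalars A)
      (LocalizedModule.map_injective S f hf)
      (LocalizedModule.map_exact S f _ fun z => ?_)
      (LocalizedModule.map_surjective S _ u.surjective_rangeRestrict)⟩
    exact ⟨fun h => (hfu z).1 (congrArg Subtype.val h), fun h => Subtype.ext ((hfu z).2 h)⟩
  exact ⟨fun q hq => (key q hq).1, fun q hq => (key q hq).2⟩

variable [IsLocalRing A] [IsLocalRing B] [IsLocalHom (algebraMap A B)]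

omit [IsNoetherianRing A] [IsNoetherianRing B] [IsLocalRing B] [IsLocalHom (algebraMap A B)] in
theorem mem_map_mB {X Y : Type u} [AddCommGroup X] [Module B X] [AddCommGroup Y] [Module B Y] (φ : X →ₗ[B] Y) :
    EGA4.mB A B • (⊤ : Submodule B X) ≤ Submodule.comap φ (EGA4.mB A B • (⊤ : Submodule B Y)) := by
  rw [← Submodule.map_le_iff_le_comap, Submodule.map_smul'']
  exact Submodule.smul_mono le_rfl le_top

/-- The map induced on closed fibres. -/
noncomputable def fibMap (A : Type u) [CommRing A] [IsLocalRing A] [Algebra A B] {X Y : Type u} [AddCommGroup X]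
    [Module B X] [AddCommGroup Y] [Module B Y] (φ : X →ₗ[B] Y) : EGA4.FibMod A B X →ₗ[B] EGA4.FibMod A B Y :=
  Submodule.mapQ _ _ φ (mem_map_mB φ)

omit [IsLocalRing B] [IsLocalHom (algebraMap A B)] [IsNoetherianRing B] [IsNoetherianRing A] in
theorem fibMap_exact {X Y Z : Type u} [AddCommGroup X] [Module B X] [AddCommGroup Y] [Module B Y]
    [AddCommGroup Z] [Module B Z] (g : X →ₗ[B] Y) (h : Y →ₗ[B] Z) (hex : Function.Exact g h)
    (hs : Function.Surjective h) :
    Function.Exact (fibMap A g) (fibMap A h) ∧ Function.Surjective (fibMap A h) := by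
  refine ⟨fun y => ⟨fun hy => ?_, ?_⟩, fun z => ?_⟩
  · obtain ⟨y, rfl⟩ := Submodule.Quotient.mk_surjective _ y
    have h1 : h y ∈ (EGA4.mB A B • ⊤ : Submodule B Z) := (Submodule.Quotient.mk_eq_zero _).1 hy
    rw [← LinearMap.range_eq_top.2 hs, LinearMap.range_eq_map, ← Submodule.map_smul''] at h1
    obtain ⟨y', hy', hh⟩ := h1
    obtain ⟨x, hx⟩ := (hex (y - y')).1 (by rw [map_sub, hh, sub_self])
    refine ⟨Submodule.Quotient.mk x, ?_⟩
    show Submodule.Quotient.mk (g x) = Submodule.Quotient.mk y
    rw [hx, Submodule.Quotient.mk_sub, (Submodule.Quotient.mk_eq_zero _).2 hy', sub_zero]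
  · rintro ⟨x, rfl⟩
    obtain ⟨x, rfl⟩ := Submodule.Quotient.mk_surjective _ x
    show Submodule.Quotient.mk (h (g x)) = _
    rw [hex.apply_apply_eq_zero, Submodule.Quotient.mk_zero]
  · obtain ⟨z, rfl⟩ := Submodule.Quotient.mk_surjective _ z
    obtain ⟨y, rfl⟩ := hs z
    exact ⟨Submodule.Quotient.mk y, rfl⟩

omit [IsLocalRing B] [IsLocalHom (algebraMap A B)] [IsNoetherianRing B] [IsNoetherianRing A] in
/-- With a flat cokernel, a submodule stays injective on closed fibres. -/
theorem fibMap_injective_of_flat {X Y Z : Type u} [AddCommGroup X] [Module B X] [Module A X] [IsScalarTower A B X]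
    [AddCommGroup Y] [Module B Y] [Module A Y] [IsScalarTower A B Y]
    [AddCommGroup Z] [Module B Z] [Module A Z] [IsScalarTower A B Z] [Module.Flat A Z]
    (g : X →ₗ[B] Y) (h : Y →ₗ[B] Z) (hg : Function.Injective g) (hex : Function.Exact g h)
    (hs : Function.Surjective h) : Function.Injective (fibMap A g) := by
  obtain ⟨eX⟩ := FlatLoc6.exists_residueEquiv (A := A) (B := B) X
  obtain ⟨eY⟩ := FlatLoc6.exists_residueEquiv (A := A) (B := B) Y
  have hinj : Function.Injective ((g.restrictScalars A).lTensor (ResidueField A)) :=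
    W4Lib.lTensor_injective_of_flat_quotient (f := g.restrictScalars A) (g := h.restrictScalars A) hg hex hs _
  rw [injective_iff_map_eq_zero]
  intro x hx
  obtain ⟨x, rfl⟩ := Submodule.Quotient.mk_surjective _ x
  refine (Submodule.Quotient.mk_eq_zero _).2 ((FlatLoc6.tmul_one_eq_zero_iff (A := A) (B := B) x).1 ?_)
  have h1 : g x ⊗ₜ[A] (1 : ResidueField A) = 0 :=
    (FlatLoc6.tmul_one_eq_zero_iff (A := A) (B := B) (g x)).2 ((Submodule.Quotient.mk_eq_zero _).1 hx)
  have h2 : (g.restrictScalars A).lTensor (ResidueField A) ((1 : ResidueField A) ⊗ₜ[A] x) = 0 := by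
    rw [LinearMap.lTensor_tmul, ← (TensorProduct.comm A Y (ResidueField A)).map_zero, ← h1]
    rfl
  have h3 := hinj (h2.trans (map_zero ((g.restrictScalars A).lTensor (ResidueField A))).symm)
  rw [← (TensorProduct.comm A (ResidueField A) X).map_zero, ← h3]
  rfl

omit [IsLocalRing B] [IsLocalHom (algebraMap A B)] [IsNoetherianRing A] in
/-- The kernel on closed fibres is supported where the cokernel is not flat. -/
theorem support_ker_fibMap {X Y Z : Type u} [AddCommGroup X] [Module B X] [Module A X] [IsScalarTower A B X]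
    [AddCommGroup Y] [Module B Y] [Module A Y] [IsScalarTower A B Y]
    [AddCommGroup Z] [Module B Z] [Module A Z] [IsScalarTower A B Z]
    (g : X →ₗ[B] Y) (h : Y →ₗ[B] Z) (hg : Function.Injective g) (hex : Function.Exact g h)
    (hs : Function.Surjective h) (hZ : ∀ q : PrimeSpectrum B, ¬ J ≤ q.asIdeal → FlatCA.FlatAt A q.asIdeal Z) :
    ∀ q ∈ Module.support B (LinearMap.ker (fibMap A g)), J ≤ q.asIdeal := by
  intro q hq
  by_contra hJ
  let S := q.asIdeal.primeCompl
  haveI : Module.Flat A (LocalizedModule S Z) := hZ q hJ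
  have hi := fibMap_injective_of_flat (A := A) (B := B) (LocalizedModule.map S g |>.restrictScalars B)
    (LocalizedModule.map S h |>.restrictScalars B) (LocalizedModule.map_injective S g hg)
    (LocalizedModule.map_exact S g h hex) (LocalizedModule.map_surjective S h hs)
  obtain ⟨⟨z, hz⟩, hann⟩ := Module.mem_support_iff'.1 hq
  obtain ⟨x, rfl⟩ := Submodule.Quotient.mk_surjective _ z
  have h1 : g x ∈ (EGA4.mB A B • ⊤ : Submodule B Y) := (Submodule.Quotient.mk_eq_zero _).1 hz
  have h2 : fibMap A ((LocalizedModule.map S g).restrictScalars B)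
      (Submodule.Quotient.mk (LocalizedModule.mkLinearMap S X x)) = 0 := by
    refine (Submodule.Quotient.mk_eq_zero _).2 ?_
    show LocalizedModule.map S g (LocalizedModule.mk x 1) ∈ _
    rw [LocalizedModule.map_mk]
    exact mem_map_mB (A := A) (LocalizedModule.mkLinearMap S Y) h1
  have h3 : LocalizedModule.mkLinearMap S X x ∈ (EGA4.mB A B • ⊤ : Submodule B (LocalizedModule S X)) :=
    (Submodule.Quotient.mk_eq_zero _).1 (hi (h2.trans (map_zero _).symm))
  have h4 : ∀ y ∈ (EGA4.mB A B • ⊤ : Submodule B (LocalizedModule S X)),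
      ∃ (s : B) (x' : X), s ∈ S ∧ x' ∈ (EGA4.mB A B • ⊤ : Submodule B X) ∧ s • y = LocalizedModule.mkLinearMap S X x' := by
    intro y hy
    induction hy using Submodule.smul_induction_on' with
    | smul b hb z _ =>
      obtain ⟨⟨x', s⟩, hs'⟩ := IsLocalizedModule.surj S (LocalizedModule.mkLinearMap S X) z
      refine ⟨s, b • x', s.2, Submodule.smul_mem_smul hb trivial, ?_⟩
      rw [map_smul, ← hs', Submonoid.smul_def, smul_comm]
    | add y _ y' _ hy hy' =>
      obtain ⟨s, x1, hs1, hx1, e1⟩ := hy
      obtain ⟨s', x2, hs2, hx2, e2⟩ := hy'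
      refine ⟨s * s', s' • x1 + s • x2, mul_mem hs1 hs2, add_mem (Submodule.smul_mem _ _ hx1) (Submodule.smul_mem _ _ hx2), ?_⟩
      rw [smul_add, map_add, map_smul, map_smul, ← e1, ← e2, mul_comm s s', mul_smul, mul_comm s' s, mul_smul]
  obtain ⟨s, x', hs', hx', e⟩ := h4 _ h3
  rw [← map_smul] at e
  obtain ⟨t, ht⟩ := IsLocalizedModule.exists_of_eq (S := S) e
  refine hann ((t : B) * s) (mul_mem t.2 hs') (Subtype.ext ?_)
  show ((t : B) * s) • Submodule.Quotient.mk x = (0 : EGA4.FibMod A B X)
  rw [← Submodule.Quotient.mk_smul, mul_smul]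
  refine (Submodule.Quotient.mk_eq_zero _).2 ?_
  rw [show (t : B) • s • x = (t : B) • x' from ht]
  exact Submodule.smul_mem _ _ hx'

omit [IsLocalRing B] [IsLocalHom (algebraMap A B)] [IsNoetherianRing A] in
/-- A map injective off `V(J)` on closed fibres is injective when the depth is positive. -/
theorem fibMap_injective_of_depth {X Y Z : Type u} [AddCommGroup X] [Module B X] [Module A X] [IsScalarTower A B X]
    [Module.Finite B X]
    [AddCommGroup Y] [Module B Y] [Module A Y] [IsScalarTower A B Y] [Module.Finite B Y]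
    [AddCommGroup Z] [Module B Z] [Module A Z] [IsScalarTower A B Z]
    (g : X →ₗ[B] Y) (h : Y →ₗ[B] Z) (hg : Function.Injective g) (hex : Function.Exact g h)
    (hs : Function.Surjective h) (hZ : ∀ q : PrimeSpectrum B, ¬ J ≤ q.asIdeal → FlatCA.FlatAt A q.asIdeal Z)
    (hd : 1 ≤ LocCoh.idealDepth J (EGA4.FibMod A B X)) : Function.Injective (fibMap A g) := by
  rw [← LinearMap.ker_eq_bot, ← Submodule.subsingleton_iff_eq_bot]
  exact subsingleton_of_support_le J _ (support_ker_fibMap J g h hg hex hs hZ)
    (le_idealDepth_of_injective J (LinearMap.ker (fibMap A g)).subtype Subtype.val_injective hd)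

include hf hfu huv hv hGU in
/-- With fibre depths, depth two of the closed fibre of the kernel forces a flat cokernel. -/
theorem flat_coker_of_fibMod (h0 : 2 ≤ LocCoh.idealDepth J (EGA4.FibMod A B E0))
    (hF : 2 ≤ LocCoh.idealDepth J (EGA4.FibMod A B F)) : Module.Flat A G ∧ Module.Flat A F := by
  obtain ⟨hKU, hFU⟩ := flatAt_range_ker J hf hfu huv hv hGU
  let K := LinearMap.range u
  have hexF : Function.Exact f u.rangeRestrict := fun z =>
    ⟨fun h => (hfu z).1 (congrArg Subtype.val h), fun h => Subtype.ext ((hfu z).2 h)⟩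
  have hFinj := fibMap_injective_of_depth J f u.rangeRestrict hf hexF u.surjective_rangeRestrict hKU
    (le_trans one_le_two hF)
  obtain ⟨hKex, hKsurj⟩ := fibMap_exact (A := A) f u.rangeRestrict hexF u.surjective_rangeRestrict
  have hK1 : 1 ≤ LocCoh.idealDepth J (EGA4.FibMod A B K) := by
    let S : ShortComplex (ModuleCat.{u} B) := ShortComplex.mk (ModuleCat.ofHom (fibMap A f))
      (ModuleCat.ofHom (fibMap A u.rangeRestrict)) (ModuleCat.hom_ext (LinearMap.ext fun x => hKex.apply_apply_eq_zero x))
    have hS : S.ShortExact :=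
      { exact := (ShortComplex.ShortExact.moduleCat_exact_iff_function_exact S).mpr hKex
        mono_f := (ModuleCat.mono_iff_injective _).mpr hFinj
        epi_g := (ModuleCat.epi_iff_surjective _).mpr hKsurj }
    rw [← Nat.cast_ofNat (R := ℕ∞) (n := 2)] at hF h0
    rw [← Nat.cast_one]
    refine (LC.le_idealDepth_iff_ext J _ 1).2 fun i hi => ?_
    obtain rfl : i = 0 := by omega
    exact LC.ext_subsingleton_X₃ hS _ 0 ((LC.le_idealDepth_iff_ext J _ 2).1 h0 0 two_pos)
      ((LC.le_idealDepth_iff_ext J _ 2).1 hF 1 one_lt_two)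
  haveI : Module.Flat A K := flat_of_one_le_fibMod J K hKU hK1
  have hexK : Function.Exact K.subtype v := fun z => (huv z).trans ⟨fun ⟨w, hw⟩ => ⟨⟨z, w, hw⟩, rfl⟩,
    fun ⟨w, hw⟩ => hw ▸ w.2⟩
  have hKinj := fibMap_injective_of_depth J K.subtype v Subtype.val_injective hexK hv hGU hK1
  refine ⟨LocalCrit.flat_of_le_jacobson (B := B) (maximalIdeal A)
    ((IsLocalRing.map_maximalIdeal_le (algebraMap A B)).trans (IsLocalRing.maximalIdeal_le_jacobson _)) ?_
    (LocalCrit.keepsInjective_of_isMaximal _ G), flat_of_one_le_fibMod J F hFU (le_trans one_le_two hF)⟩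
  rw [injective_iff_map_eq_zero]
  intro z hz
  obtain ⟨w, rfl⟩ := LinearMap.lTensor_surjective (maximalIdeal A) (g := v.restrictScalars A) hv z
  let eA := TensorProduct.lid A E1
  let m := eA (Submodule.subtype (maximalIdeal A) |>.rTensor E1 w)
  have hvm : v m = 0 := by
    have : ∀ y, v (eA ((maximalIdeal A).subtype.rTensor E1 y)) = TensorProduct.lid A G
        ((maximalIdeal A).subtype.rTensor G ((v.restrictScalars A).lTensor _ y)) := fun y => by
      induction y using TensorProduct.induction_on with
      | zero => simp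
      | tmul a x => simp [eA, LinearMap.map_smul_of_tower]
      | add a b ha hb => simp only [map_add, ha, hb]
    show v (eA _) = 0
    rw [this, hz, map_zero]
  obtain ⟨k, hk⟩ := (hexK m).1 hvm
  have hkm : k ∈ (EGA4.mB A B • ⊤ : Submodule B K) := by
    refine (Submodule.Quotient.mk_eq_zero _).1 (hKinj ((?_ : fibMap A K.subtype (Submodule.Quotient.mk k) = 0).trans (map_zero _).symm))
    refine (Submodule.Quotient.mk_eq_zero _).2 ?_
    rw [hk]
    exact FlatLoc6.lid_rTensor_mem_mN (A := A) (B := B) w
  obtain ⟨y, hy⟩ := FlatLoc6.exists_of_mem_mN (A := A) (B := B) hkm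
  have hw : w = (K.subtype.restrictScalars A).lTensor (maximalIdeal A) y := by
    refine Module.Flat.rTensor_preserves_injective_linearMap (M := E1) _ (maximalIdeal A).injective_subtype
      (eA.injective ?_)
    have : ∀ y', eA ((maximalIdeal A).subtype.rTensor E1 ((K.subtype.restrictScalars A).lTensor _ y')) =
        K.subtype (TensorProduct.lid A K ((maximalIdeal A).subtype.rTensor K y')) := fun y' => by
      induction y' using TensorProduct.induction_on with
      | zero => simp
      | tmul a x => simp [eA, LinearMap.map_smul_of_tower]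
      | add a b ha hb => simp only [map_add, ha, hb]
    rw [this, hy]
    exact hk.symm
  rw [hw, ← LinearMap.comp_apply, ← LinearMap.lTensor_comp,
    show (v.restrictScalars A) ∘ₗ (K.subtype.restrictScalars A) = 0 from
      LinearMap.ext fun x => hexK.apply_apply_eq_zero x, LinearMap.lTensor_zero, LinearMap.zero_apply]

omit [IsLocalRing B] [IsLocalHom (algebraMap A B)] [IsNoetherianRing A] [Module.Finite B G] in
include hf hfu huv hv in
/-- With a flat cokernel the kernel has closed fibre of depth two. -/
theorem flat_ker_of_flat [Module.Flat A G] (h0 : 2 ≤ LocCoh.idealDepth J (EGA4.FibMod A B E0))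
    (h1 : 1 ≤ LocCoh.idealDepth J (EGA4.FibMod A B E1)) :
    Module.Flat A F ∧ 2 ≤ LocCoh.idealDepth J (EGA4.FibMod A B F) := by
  let K := LinearMap.range u
  have hexF : Function.Exact f u.rangeRestrict := fun z =>
    ⟨fun h => (hfu z).1 (congrArg Subtype.val h), fun h => Subtype.ext ((hfu z).2 h)⟩
  have hexK : Function.Exact K.subtype v := fun z => (huv z).trans ⟨fun ⟨w, hw⟩ => ⟨⟨z, w, hw⟩, rfl⟩,
    fun ⟨w, hw⟩ => hw ▸ w.2⟩
  haveI : Module.Flat A K := flat_of_flat_quotient (f := K.subtype.restrictScalars A) (g := v.restrictScalars A)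
    Subtype.val_injective hexK hv
  refine ⟨flat_of_flat_quotient (f := f.restrictScalars A) (g := u.rangeRestrict.restrictScalars A) hf hexF
    u.surjective_rangeRestrict, ?_⟩
  have hK := fibMap_injective_of_flat (A := A) K.subtype v Subtype.val_injective hexK hv
  have hFi := fibMap_injective_of_flat (A := A) f u.rangeRestrict hf hexF u.surjective_rangeRestrict
  obtain ⟨hKex, -⟩ := fibMap_exact (A := A) f u.rangeRestrict hexF u.surjective_rangeRestrict
  refine two_le_idealDepth_of_exact J (fibMap A f) ((fibMap A K.subtype).comp (fibMap A u.rangeRestrict)) hFi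
    (fun y => ?_) h0 h1
  show fibMap A K.subtype (fibMap A u.rangeRestrict y) = 0 ↔ _
  rw [map_eq_zero_iff _ hK]
  exact hKex y

end Groth.Agent.KFlatLib
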