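import Groth.Agent.KFlatLib.Ring.ResLBase

/-!
# Derived base change exists
-/

set_option linter.style.haveILetI false

universe u

open CategoryTheory CategoryTheory.Limits

attribute [local instance] HasDerivedCategory.standard

namespace Groth.Agent.KFlatLib

variable {R A : Type u} [CommRing R] [CommRing A] (φ : R →+* A)

/-- The unit of base change on a complex. -/
noncomputable def γ₀ (K : DRing.Cx R) :
    DerivedCategory.Q.obj K ⟶ (DRing.restrictD φ).obj (DerivedCategory.Q.obj ((DTen.extCx φ).obj K)) :=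
  DerivedCategory.Q.map ((DTen.unitCx φ).app K) ≫ (DTen.resFactors φ).inv.app ((DTen.extCx φ).obj K)

lemma γ₀_naturality {K K' : DRing.Cx R} (f : K ⟶ K') :
    DerivedCategory.Q.map f ≫ γ₀ φ K' =
      γ₀ φ K ≫ (DRing.restrictD φ).map (DerivedCategory.Q.map ((DTen.extCx φ).map f)) := by
  have h1 := (DTen.unitCx φ).naturality f
  have h2 := (DTen.resFactors φ).inv.naturality ((DTen.extCx φ).map f)
  dsimp [γ₀] at h1 h2 ⊢
  rw [Category.assoc, ← h2, ← Category.assoc, ← Category.assoc, ← Functor.map_comp, ← Functor.map_comp, h1]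


/-- The universal property of base change of a K-flat complex, without a binder. -/
lemma bijective_γ₀ {K : DRing.Cx R}
    (hK : KFlat (MonoidalCategory.curriedTensor (ModuleCat.{u} R)) K) (N : Dual.D A) :
    Function.Bijective fun g : DerivedCategory.Q.obj ((DTen.extCx φ).obj K) ⟶ N =>
      γ₀ φ K ≫ (DRing.restrictD φ).map g := by
  have hnat : ∀ {M M' : DRing.Cx A} (g : M ⟶ M'),
      (DTen.resFactors φ).inv.app M ≫ (DRing.restrictD φ).map (DerivedCategory.Q.map g) =
        DerivedCategory.Q.map ((DTen.resCx φ).map g) ≫ (DTen.resFactors φ).inv.app M' :=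
    fun g => ((DTen.resFactors φ).inv.naturality g).symm
  constructor
  · intro g₁ g₂ h
    rw [← sub_eq_zero]
    haveI : (DRing.restrictD φ).Additive := by
      dsimp only [DRing.restrictD]
      infer_instance
    have h0 : γ₀ φ K ≫ (DRing.restrictD φ).map (g₁ - g₂) = 0 := by
      rw [(DRing.restrictD φ).map_sub, Preadditive.comp_sub, sub_eq_zero]
      exact h
    obtain ⟨g, hg⟩ : ∃ g, g = g₁ - g₂ := ⟨_, rfl⟩
    rw [← hg] at h0 ⊢
    let eN := DerivedCategory.Q.objObjPreimageIso N
    obtain ⟨N', ψ, s, hs, hfac⟩ := DerivedCategory.left_fac (g ≫ eN.inv)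
    haveI := hs
    have hψ : DerivedCategory.Q.map ((DTen.unitCx φ).app K ≫ (DTen.resCx φ).map ψ) = 0 := by
      have hg' : DerivedCategory.Q.map ψ = g ≫ eN.inv ≫ DerivedCategory.Q.map s := by
        rw [← Category.assoc, hfac, Category.assoc, IsIso.inv_hom_id, Category.comp_id]
      have h1 : γ₀ φ K ≫ (DRing.restrictD φ).map (DerivedCategory.Q.map ψ) = 0 := by
        rw [hg', Functor.map_comp, ← Category.assoc, h0, zero_comp]
      have e : DerivedCategory.Q.map ((DTen.unitCx φ).app K ≫ (DTen.resCx φ).map ψ) ≫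
          (DTen.resFactors φ).inv.app N' = 0 := by
        rw [Functor.map_comp, Category.assoc, ← hnat, ← h1]
        exact (Category.assoc _ _ _).symm
      exact (cancel_mono ((DTen.resFactors φ).inv.app N')).1 (e.trans zero_comp.symm)
    obtain ⟨Z, t, ht, ⟨H⟩⟩ := TriCat.exists_quasiIso_of_Q_map_eq_zero _ hψ
    let π := (ringCover R).ψ.app Z ≫ t
    haveI : QuasiIso ((ringCover R).ψ.app Z) := (ringCover R).quasiIso_ψ Z
    haveI := ht
    haveI := isIso_Q_map_extCx φ π (kFlat_ringRes Z) hK
    have H1 : Homotopy (π ≫ (DTen.unitCx φ).app K ≫ (DTen.resCx φ).map ψ) 0 :=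
      ((Homotopy.ofEq (Category.assoc _ _ _)).trans (H.compLeft _)).trans
        (Homotopy.ofEq comp_zero)
    have H2 : Homotopy ((DTen.extCx φ).map π ≫ ψ) 0 := by
      refine ((Homotopy.ofEq ?_).trans
        (((ModuleCat.extendScalars.{u, u, u} φ).mapHomotopy H1).compRight
          ((counitCxR φ).app N'))).trans (Homotopy.ofEq ?_)
      · change _ = (DTen.extCx φ).map (π ≫ (DTen.unitCx φ).app K ≫ (DTen.resCx φ).map ψ) ≫ _
        have hn := (counitCxR φ).naturality ψ
        dsimp at hn
        rw [Functor.map_comp _ π, Functor.map_comp _ ((DTen.unitCx φ).app K), Category.assoc,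
          Category.assoc, hn,
          ← Category.assoc ((DTen.extCx φ).map ((DTen.unitCx φ).app K)), extCx_map_unit_counit,
          Category.id_comp]
      · change (DTen.extCx φ).map 0 ≫ _ = 0
        rw [Functor.map_zero, zero_comp]
    have h2 : DerivedCategory.Q.map ((DTen.extCx φ).map π) ≫ DerivedCategory.Q.map ψ = 0 := by
      rw [← Functor.map_comp]
      have := congrArg DerivedCategory.Qh.map
        (HomotopyCategory.eq_of_homotopy _ _ H2)
      rw [Functor.map_zero, Functor.map_zero] at this
      exact this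
    have h3 : DerivedCategory.Q.map ψ = 0 :=
      (cancel_epi (DerivedCategory.Q.map ((DTen.extCx φ).map π))).1 (h2.trans comp_zero.symm)
    rw [← cancel_mono eN.inv, hfac, h3, zero_comp, zero_comp]
  · intro h
    let eN := DerivedCategory.Q.objObjPreimageIso N
    let N₀ := DerivedCategory.Q.objPreimage N
    obtain ⟨K', s, hs, g, hfac⟩ := DerivedCategory.right_fac
      (h ≫ (DRing.restrictD φ).map eN.inv ≫ (DTen.resFactors φ).hom.app N₀)
    haveI := hs
    haveI : QuasiIso s := (DerivedCategory.isIso_Q_map_iff_quasiIso _ _).1 hs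
    haveI : QuasiIso ((ringCover R).ψ.app K') := (ringCover R).quasiIso_ψ K'
    let s' := (ringCover R).ψ.app K' ≫ s
    let g' := (ringCover R).ψ.app K' ≫ g
    haveI := isIso_Q_map_extCx φ s' (kFlat_ringRes K') hK
    let gt := (DTen.extCx φ).map g' ≫ (counitCxR φ).app N₀
    refine ⟨inv (DerivedCategory.Q.map ((DTen.extCx φ).map s')) ≫ DerivedCategory.Q.map gt ≫ eN.hom, ?_⟩
    haveI : IsIso (DerivedCategory.Q.map s') :=
      (DerivedCategory.isIso_Q_map_iff_quasiIso _ _).2 inferInstance
    rw [← cancel_epi (DerivedCategory.Q.map s')]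
    have hγ : DerivedCategory.Q.map s' ≫ γ₀ φ K = γ₀ φ _ ≫
        (DRing.restrictD φ).map (DerivedCategory.Q.map ((DTen.extCx φ).map s')) := γ₀_naturality φ s'
    dsimp at hγ ⊢
    rw [← Category.assoc, hγ, Category.assoc, ← Functor.map_comp, IsIso.hom_inv_id_assoc,
      Functor.map_comp]
    have hu : (DTen.unitCx φ).app _ ≫ (DTen.resCx φ).map gt = g' := by
      have hn := (DTen.unitCx φ).naturality g'
      dsimp at hn
      simp only [gt, Functor.map_comp]
      rw [← Category.assoc, ← hn, Category.assoc, unit_resCx_map_counit]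
      exact Category.comp_id _
    change ((DerivedCategory.Q.map ((DTen.unitCx φ).app _) ≫ (DTen.resFactors φ).inv.app _) ≫
      (DRing.restrictD φ).map (DerivedCategory.Q.map gt) ≫ (DRing.restrictD φ).map eN.hom) = _
    rw [Category.assoc, ← Category.assoc ((DTen.resFactors φ).inv.app _), hnat, Category.assoc,
      ← Category.assoc, ← Functor.map_comp, hu]
    have hg : DerivedCategory.Q.map g' = DerivedCategory.Q.map s' ≫ h ≫
        (DRing.restrictD φ).map eN.inv ≫ (DTen.resFactors φ).hom.app N₀ := by
      rw [hfac]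
      simp only [s', g', Functor.map_comp, Category.assoc, IsIso.hom_inv_id_assoc]
    rw [hg]
    simp only [Category.assoc]
    erw [Iso.hom_inv_id_app_assoc]
    rw [← Functor.map_comp, eN.inv_hom_id, CategoryTheory.Functor.map_id, Category.comp_id]

/-- Derived base change exists. -/
lemma hasLBase : DTen.HasLBase φ where
  isRightAdjoint := by
    refine Functor.isRightAdjoint_of_leftAdjointObjIsDefined_eq_top (funext fun E => ?_)
    simp only [Pi.top_apply, Prop.top_eq_true, eq_iff_iff, iff_true]
    let K := flatRep E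
    let eK : DerivedCategory.Q.obj K ≅ E := flatRepIso E
    refine Functor.CorepresentableBy.isCorepresentable
      (X := DerivedCategory.Q.obj ((DTen.extCx φ).obj K)) (F := DRing.restrictD φ ⋙ coyoneda.obj (Opposite.op E)) ?_
    refine
      { homEquiv := fun {N} => (Equiv.ofBijective _ (bijective_γ₀ φ (kFlat_ringRes _) N)).trans eK.homFromEquiv
        homEquiv_comp := fun {N N'} g f => ?_ }
    change eK.inv ≫ γ₀ φ _ ≫ (DRing.restrictD φ).map (f ≫ g) =
      (eK.inv ≫ γ₀ φ _ ≫ (DRing.restrictD φ).map f) ≫ (DRing.restrictD φ).map g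
    rw [Functor.map_comp]
    simp only [Category.assoc]

end Groth.Agent.KFlatLib
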