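import Groth.Agent.KFlatLib.Ring.LTenLinear
import Groth.Agent.KFlatLib.Ring.HasLBase
import Groth.Prelude.Def_Koszul
import Mathlib.Algebra.Homology.DerivedCategory.Linear

/-!
# Objects with torsion cohomology orthogonal to a Koszul complex
-/

set_option linter.style.haveILetI false
set_option backward.isDefEq.respectTransparency false

universe u

open CategoryTheory CategoryTheory.Limits Pretriangulated

attribute [local instance] HasDerivedCategory.standard

namespace Groth.Agent.KFlatLib.KoszulOrth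

variable {A : Type u} [CommRing A]

/-- The Koszul complex in the derived category. -/
noncomputable abbrev kQ (fs : List A) : Dual.D A := DerivedCategory.Q.obj (Koszul.koszul A fs)

/-- The triangle adding one element. -/
lemma exists_triangle (f : A) (l : List A) :
    ∃ (u : kQ l ⟶ kQ (f :: l)) (v : kQ (f :: l) ⟶ (kQ l)⟦(1 : ℤ)⟧),
      Triangle.mk (f • 𝟙 (kQ l)) u v ∈ distTriang (Dual.D A) := by
  let T := DerivedCategory.Q.mapTriangle.obj
    (CochainComplex.mappingCone.triangle (f • 𝟙 (Koszul.koszul A l)))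
  have hT : T ∈ distTriang (Dual.D A) := DerivedCategory.mappingCone_triangle_distinguished _
  have h₁ : T.mor₁ = f • 𝟙 (kQ l) := by
    show DerivedCategory.Q.map (f • 𝟙 (Koszul.koszul A l)) = _
    rw [Functor.map_smul, CategoryTheory.Functor.map_id]
  refine ⟨T.mor₂, T.mor₃, isomorphic_distinguished _ hT _ (Triangle.isoMk _ _ (Iso.refl _) (Iso.refl _) (Iso.refl _)
    ?_ ?_ ?_)⟩
  · exact (Category.comp_id _).trans (h₁.symm.trans (Category.id_comp _).symm)
  · exact (Category.comp_id _).trans (Category.id_comp _).symm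
  · simp [T]

variable {N : Dual.D A}

/-- Maps out of `K` are killed by powers of the elements of `s`. -/
def Tors (s : List A) (K N : Dual.D A) : Prop :=
  ∀ g ∈ s, ∀ (m : ℤ) (φ : K ⟶ N⟦m⟧), ∃ k : ℕ, g ^ k • φ = 0

lemma tors_cons (s : List A) (f : A) (l : List A) (h : Tors s (kQ l) N) : Tors s (kQ (f :: l)) N := by
  intro g hg m φ
  obtain ⟨u, v, hT⟩ := exists_triangle f l
  obtain ⟨k, hk⟩ := h g hg m (u ≫ φ)
  obtain ⟨χ, hχ⟩ := Triangle.yoneda_exact₃ _ hT (g ^ k • φ) ((Linear.comp_smul _ _ _ _ _ _).trans hk)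
  let u₁ := (shiftFunctorCompIsoId (Dual.D A) (1 : ℤ) (-1) (by omega)).app (kQ l)
  let w := (shiftFunctorAdd' (Dual.D A) m (-1) (m - 1) (by omega)).app N
  obtain ⟨j, hj⟩ := h g hg (m - 1) (u₁.inv ≫ (shiftFunctor (Dual.D A) (-1)).map χ ≫ w.inv)
  have h0 : g ^ j • χ = 0 := by
    refine (shiftFunctor (Dual.D A) (-1)).map_injective ?_
    rw [Functor.map_zero, Functor.map_smul, ← cancel_epi u₁.inv, ← cancel_mono w.inv]
    simp only [Category.assoc, Linear.comp_smul, Linear.smul_comp, comp_zero, zero_comp]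
    exact hj
  refine ⟨j + k, ?_⟩
  rw [pow_add, mul_smul, hχ, ← Linear.comp_smul]
  exact (congrArg (_ ≫ ·) h0).trans comp_zero

lemma tors_koszul (s : List A) (h : Tors s (kQ ([] : List A)) N) : ∀ l : List A, Tors s (kQ l) N
  | [] => h
  | f :: l => tors_cons s f l (tors_koszul s h l)

/-- Orthogonality to the Koszul complex propagates down to the unit. -/
lemma orth_tail (s : List A) (h0 : Tors s (kQ ([] : List A)) N) (m : ℤ) :
    ∀ l : List A, (∀ f ∈ l, f ∈ s) → (∀ φ : kQ l ⟶ N⟦m⟧, φ = 0) → ∀ φ : kQ ([] : List A) ⟶ N⟦m⟧, φ = 0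
  | [], _, ho => ho
  | f :: l, hs, ho => by
    refine orth_tail s h0 m l (fun g hg => hs g (List.mem_cons_of_mem _ hg)) fun ψ => ?_
    obtain ⟨u, v, hT⟩ := exists_triangle f l
    have key : ∀ ψ : kQ l ⟶ N⟦m⟧, f • ψ = 0 → ψ = 0 := fun ψ hψ => by
      obtain ⟨χ, hχ⟩ := Triangle.yoneda_exact₂ _ hT ψ
        ((Linear.smul_comp _ _ _ _ _ _).trans ((congrArg (f • ·) (Category.id_comp ψ)).trans hψ))
      rw [hχ]
      exact (congrArg (_ ≫ ·) (ho χ)).trans comp_zero
    obtain ⟨k, hk⟩ := tors_koszul s h0 l f (hs f List.mem_cons_self) m ψ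
    induction k with
    | zero => simpa using hk
    | succ k ih => exact ih (key _ (by rw [smul_smul, ← pow_succ']; exact hk))

/-- A torsion object orthogonal to a shifted Koszul complex has no cohomology in that degree. -/
theorem subsingleton_hd_of_orth (fs : List A)
    (ht : ∀ i : ℤ, ∀ f ∈ fs, ∀ x : Dual.HD A N i, ∃ k : ℕ, f ^ k • x = 0)
    (n : ℤ) (ho : ∀ φ : (kQ fs)⟦-n⟧ ⟶ N, φ = 0) : Subsingleton (Dual.HD A N n) := by
  haveI := hasLTen A
  let e : kQ ([] : List A) ≅ (DTen.unit A)⟦(0 : ℤ)⟧ := ((shiftFunctorZero (Dual.D A) ℤ).app _).symm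
  have L : ∀ m : ℤ, Nonempty ((kQ ([] : List A) ⟶ N⟦m⟧) ≃ₗ[A] Dual.HD A N m) := fun m => by
    obtain ⟨θ⟩ := exists_homUnitLEquiv (A := A) (N⟦m⟧) 0 0 (zero_add 0)
    exact ⟨(Linear.homCongr A e (Iso.refl (N⟦m⟧))).trans (θ.trans
      (((DerivedCategory.homologyFunctor (ModuleCat.{u} A) 0).shiftIso m 0 m (add_zero m)).app N).toLinearEquiv)⟩
  have h0 : Tors fs (kQ ([] : List A)) N := fun g hg m φ => by
    obtain ⟨θ⟩ := L m
    obtain ⟨k, hk⟩ := ht m g hg (θ φ)
    exact ⟨k, θ.injective (by rw [map_smul, map_zero]; exact hk)⟩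
  have ho' : ∀ φ : kQ fs ⟶ N⟦n⟧, φ = 0 := fun φ => by
    let w := (shiftFunctorCompIsoId (Dual.D A) n (-n) (add_neg_cancel n)).app N
    refine (shiftFunctor (Dual.D A) (-n)).map_injective ?_
    rw [Functor.map_zero, ← cancel_mono w.hom, zero_comp]
    exact ho _
  obtain ⟨θ⟩ := L n
  refine subsingleton_of_forall_eq 0 fun x => ?_
  rw [← θ.apply_symm_apply x, orth_tail fs h0 n fs (fun _ h => h) ho' (θ.symm x), map_zero]

/-- Powers of the elements of `l` act as zero on the Koszul complex. -/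
theorem exists_pow_smul_id_eq_zero : ∀ (l : List A), ∀ g ∈ l, ∃ k : ℕ, g ^ k • 𝟙 (kQ l) = 0
  | f :: l, g, hg => by
    obtain ⟨u, v, hT⟩ := exists_triangle f l
    have key : ∀ k : ℕ, g ^ k • u = 0 → g ^ k • v = 0 → g ^ (k + k) • 𝟙 (kQ (f :: l)) = 0 := by
      intro k hu hv
      obtain ⟨χ, hχ⟩ := Triangle.yoneda_exact₃ _ hT (g ^ k • 𝟙 (kQ (f :: l)))
        ((Linear.comp_smul _ _ _ _ _ _).trans ((congrArg (g ^ k • ·) (Category.comp_id u)).trans hu))
      rw [pow_add, mul_smul, hχ, ← Linear.smul_comp]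
      exact (congrArg (· ≫ χ) hv).trans zero_comp
    rcases List.mem_cons.1 hg with rfl | hg
    · refine ⟨1 + 1, key 1 ?_ ?_⟩
      · have h12 : (g • 𝟙 (kQ l)) ≫ u = 0 := comp_distTriang_mor_zero₁₂ _ hT
        rw [Linear.smul_comp, Category.id_comp] at h12
        rw [pow_one, h12]
      · refine (shiftFunctor (Dual.D A) (-1 : ℤ)).map_injective ?_
        have h31 := comp_distTriang_mor_zero₃₁ _ hT
        have : v ≫ (g • 𝟙 (kQ l))⟦(1 : ℤ)⟧' = 0 := h31
        rw [Functor.map_smul, CategoryTheory.Functor.map_id, Linear.comp_smul, Category.comp_id] at this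
        rw [pow_one, this]
    · obtain ⟨k, hk⟩ := exists_pow_smul_id_eq_zero l g hg
      refine ⟨k + k, key k ?_ ?_⟩
      · rw [← Category.id_comp u, ← Linear.smul_comp]
        exact (congrArg (· ≫ u) hk).trans zero_comp
      · rw [← Category.comp_id v, ← Linear.comp_smul, ← CategoryTheory.Functor.map_id, ← Functor.map_smul,
          hk, Functor.map_zero, comp_zero]

/-- The cohomology of the Koszul complex is killed by powers of the elements of the sequence. -/
theorem exists_pow_smul_hd_eq_zero (l : List A) (g : A) (hg : g ∈ l) :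
    ∃ k : ℕ, ∀ (i : ℤ) (x : Dual.HD A (kQ l) i), g ^ k • x = 0 := by
  obtain ⟨k, hk⟩ := exists_pow_smul_id_eq_zero l g hg
  refine ⟨k, fun i x => ?_⟩
  have h := congrArg (DerivedCategory.homologyFunctor (ModuleCat.{u} A) i).map hk
  rw [Functor.map_smul, Functor.map_zero, CategoryTheory.Functor.map_id] at h
  exact ConcreteCategory.congr_hom h x

end Groth.Agent.KFlatLib.KoszulOrth
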