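import Groth.Agent.KFlatLib.Ring.DualizingDepth
import Groth.Agent.LC.ExtDim
import Groth.Agent.Alg6.LocLoc

/-!
# The range of the localized Ext into a dualizing complex
-/

set_option linter.style.haveILetI false
set_option backward.isDefEq.respectTransparency false

universe u

open CategoryTheory CategoryTheory.Limits Pretriangulated MonoidalCategory
open scoped TensorProduct

attribute [local instance] HasDerivedCategory.standard

namespace Groth.Agent.KFlatLib

variable {A : Type u} [CommRing A] [IsNoetherianRing A] {ω : Dual.D A} {n : PrimeSpectrum A → ℤ}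

/-- The degree function is unique. -/
lemma extDegree_unique {n' : PrimeSpectrum A → ℤ} (hn : IsExtDegree ω n) (hn' : IsExtDegree ω n')
    (p : PrimeSpectrum A) : n p = n' p :=
  (hn' p (n p)).1 ((hn p (n p)).2 rfl)

/-- Ext into a dualizing complex of a local ring lives between the top degree minus the dimension and
the top degree minus the depth, both attained. -/
theorem ext_range_local [IsLocalRing A] (hω : Dual.IsDualizing A ω) (hn : IsExtDegree ω n)
    (M : Type u) [AddCommGroup M] [Module A M] [Module.Finite A M] [Nontrivial M] (δ d : ℕ)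
    (hδ : LocCoh.depth A M = δ) (hd : Module.supportDim A M = d) :
    (∀ i : ℤ, Nontrivial (Dual.inD A M ⟶ ω⟦i⟧) →
      n (IsLocalRing.closedPoint A) - d ≤ i ∧ i ≤ n (IsLocalRing.closedPoint A) - δ) ∧
    Nontrivial (Dual.inD A M ⟶ ω⟦n (IsLocalRing.closedPoint A) - d⟧) ∧
    Nontrivial (Dual.inD A M ⟶ ω⟦n (IsLocalRing.closedPoint A) - δ⟧) := by
  obtain ⟨a, b, -, _, _⟩ := exists_bounds_of_isDualizing hω
  obtain ⟨n', hn', hcov, hmono, -⟩ := exists_extDegree hω
  have he : n = n' := funext fun p => extDegree_unique hn hn' p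
  subst he
  obtain ⟨hup, hnt⟩ := ext_of_depth hn a hω.finite_cohomology δ M hδ
  set N := n (IsLocalRing.closedPoint A)
  have hle : ∀ P ∈ Module.support A M, N - d ≤ n P := by
    intro P hP
    obtain ⟨e, he, he'⟩ := ringKrullDim_quotient_eq hcov hmono P
    have h1 : ringKrullDim (A ⧸ P.asIdeal) ≤ Module.supportDim A M := by
      rw [ringKrullDim_quotient]
      exact Order.krullDim_le_of_strictMono (fun Q => ⟨Q.1, Module.mem_support_mono Q.2 hP⟩) fun x y h => h
    rw [he, hd] at h1
    have : e ≤ d := by exact_mod_cast h1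
    omega
  refine ⟨fun i hi => ⟨?_, ?_⟩, ?_, hnt⟩
  · by_contra hcon
    exact not_subsingleton _ (subsingleton_hom_module_of_lt hn M i fun P hP => by
      have := hle P hP
      omega)
  · by_contra hcon
    exact not_subsingleton _ (hup i (by omega))
  · obtain ⟨P, hP, hmin, hPd⟩ := exists_mem_support_dim M d hd
    obtain ⟨e, he, he'⟩ := ringKrullDim_quotient_eq hcov hmono P
    have h1 : d ≤ e := by rw [he] at hPd; exact_mod_cast hPd
    have h2 := hle P hP
    rw [Module.support_eq_zeroLocus] at hP hmin
    obtain ⟨-, f, hf⟩ := (isAssociatedPrime_iff_exists_injective_linearMap _ _).1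
      (Module.associatedPrimes.minimalPrimes_annihilator_subset_associatedPrimes A M
        (show P.asIdeal ∈ (Module.annihilator A M).minimalPrimes from
          ⟨⟨P.isPrime, hP⟩, fun q hq hqP => (congrArg PrimeSpectrum.asIdeal (hmin ⟨q, hq.1⟩ hq.2 hqP)).ge⟩))
    have h3 := nontrivial_localized_of_injective hn a hω.finite_cohomology M P f hf
    rw [show n P = N - d by omega] at h3
    by_contra hcon
    rw [not_nontrivial_iff_subsingleton] at hcon
    exact not_subsingleton (LocalizedModule P.asIdeal.primeCompl (Dual.inD A M ⟶ ω⟦N - d⟧))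
      (LocalizedModule.subsingleton_iff.2 fun φ => ⟨1, one_mem _, Subsingleton.elim _ _⟩)

omit [IsNoetherianRing A] in
/-- Localization of a single module. -/
lemma nonempty_LBase_inD_localized (q : Ideal A) [q.IsPrime]
    [DTen.HasLBase (algebraMap A (Localization.AtPrime q))] (M : Type u) [AddCommGroup M] [Module A M] :
    Nonempty ((DTen.LBase (algebraMap A (Localization.AtPrime q))).obj (Dual.inD A M) ≅
      Dual.inD (Localization.AtPrime q) (LocalizedModule q.primeCompl M)) := by
  haveI : Module.Flat A (Localization.AtPrime q) := IsLocalization.flat _ q.primeCompl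
  obtain ⟨_, ⟨e⟩⟩ := exists_LBase_map_iso (B := Localization.AtPrime q) (Dual.inD A M)
  obtain ⟨c⟩ := exists_extendLEquiv (B := Localization.AtPrime q) (ModuleCat.of A M)
  exact ⟨e ≪≫ ((ModuleCat.extendScalars.{u, u, u} (algebraMap A (Localization.AtPrime q))).mapDerivedCategorySingleFunctor 0).app _ ≪≫
    (DerivedCategory.singleFunctor (ModuleCat.{u} (Localization.AtPrime q)) 0).mapIso
      (c.trans (LocalizedModule.equivTensorProduct q.primeCompl M).symm).toModuleIso⟩

/-- Localized Ext out of a finite module is Ext over the local ring. -/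
lemma exists_localModuleExtEquiv (a : ℤ) [ω.IsGE a] (q : Ideal A) [q.IsPrime]
    [DTen.HasLBase (algebraMap A (Localization.AtPrime q))] (M : Type u) [AddCommGroup M] [Module A M]
    [Module.Finite A M] (i : ℤ) :
    Nonempty ((Dual.inD (Localization.AtPrime q) (LocalizedModule q.primeCompl M) ⟶
          ((DTen.LBase (algebraMap A (Localization.AtPrime q))).obj ω)⟦i⟧) ≃
      LocalizedModule q.primeCompl (Dual.inD A M ⟶ ω⟦i⟧)) := by
  haveI : Module.Flat A (Localization.AtPrime q) := IsLocalization.flat _ q.primeCompl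
  obtain ⟨eI⟩ := nonempty_LBase_inD_localized q M
  obtain ⟨e⟩ := exists_homBaseChangeLEquiv (B := Localization.AtPrime q) (X := Dual.inD A M) (Y := ω)
    ((Groth.Agent.S6942.result A 0 ω M).2.2 inferInstance) a i
  exact ⟨eI.homFromEquiv.symm.trans (e.toEquiv.trans
    (LocalizedModule.equivTensorProduct q.primeCompl (Dual.inD A M ⟶ ω⟦i⟧)).symm.toEquiv)⟩

/-- The range of the localized Ext. -/
theorem localized_ext_range (hω : Dual.IsDualizing A ω) (hn : IsExtDegree ω n) (q : PrimeSpectrum A)
    (M : Type u) [AddCommGroup M] [Module A M] [Module.Finite A M] (δ d : ℕ)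
    (hδ : LocCoh.depth (Localization.AtPrime q.asIdeal) (LocalizedModule q.asIdeal.primeCompl M) = δ)
    (hd : Module.supportDim (Localization.AtPrime q.asIdeal) (LocalizedModule q.asIdeal.primeCompl M) = d) :
    (∀ i : ℤ, q ∈ Module.support A (Dual.inD A M ⟶ ω⟦i⟧) → n q - d ≤ i ∧ i ≤ n q - δ) ∧
    q ∈ Module.support A (Dual.inD A M ⟶ ω⟦n q - d⟧) ∧
    q ∈ Module.support A (Dual.inD A M ⟶ ω⟦n q - δ⟧) := by
  let B := Localization.AtPrime q.asIdeal
  haveI := hasLBase (algebraMap A B)
  haveI : Module.Flat A B := IsLocalization.flat _ q.asIdeal.primeCompl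
  haveI : IsNoetherianRing B := IsLocalization.isNoetherianRing q.asIdeal.primeCompl _ inferInstance
  haveI : Module.Finite B (LocalizedModule q.asIdeal.primeCompl M) :=
    Module.Finite.of_isLocalizedModule q.asIdeal.primeCompl (LocalizedModule.mkLinearMap _ _)
  obtain ⟨a, b, -, _, _⟩ := exists_bounds_of_isDualizing hω
  have hB : Dual.IsDualizing B ((DTen.LBase (algebraMap A B)).obj ω) :=
    isDualizing_LBase hω fun m _ => ⟨m.comap (algebraMap A B), IsLocalization.map_comap q.asIdeal.primeCompl _ m⟩
  obtain ⟨m, hm, -, -, -⟩ := exists_extDegree hB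
  have hc : m (IsLocalRing.closedPoint B) = n q := by
    refine (hn q _).1 ?_
    obtain ⟨e⟩ := exists_localExtLEquiv (ω := ω) a q.asIdeal q.asIdeal (m (IsLocalRing.closedPoint B))
    haveI := (hm (IsLocalRing.closedPoint B) _).2 rfl
    haveI : Nontrivial (Dual.inD B (B ⧸ q.asIdeal.map (algebraMap A B)) ⟶
        ((DTen.LBase (algebraMap A B)).obj ω)⟦m (IsLocalRing.closedPoint B)⟧) := by
      rw [Localization.AtPrime.map_eq_maximalIdeal]
      by_contra hcon
      rw [not_nontrivial_iff_subsingleton] at hcon
      exact not_subsingleton (LocalizedModule (IsLocalRing.closedPoint B).asIdeal.primeCompl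
        (Dual.inD B (B ⧸ (IsLocalRing.closedPoint B).asIdeal) ⟶
          ((DTen.LBase (algebraMap A B)).obj ω)⟦m (IsLocalRing.closedPoint B)⟧))
        (LocalizedModule.subsingleton_iff.2 fun φ => ⟨1, one_mem _, hcon.elim _ _⟩)
    exact e.symm.nontrivial
  haveI : Nontrivial (LocalizedModule q.asIdeal.primeCompl M) :=
    (Module.supportDim_ne_bot_iff_nontrivial B _).1 (by rw [hd]; simp)
  obtain ⟨h1, h2, h3⟩ := ext_range_local hB hm (LocalizedModule q.asIdeal.primeCompl M) δ d hδ hd
  rw [hc] at h1 h2 h3
  have key : ∀ i : ℤ, q ∈ Module.support A (Dual.inD A M ⟶ ω⟦i⟧) ↔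
      Nontrivial (Dual.inD B (LocalizedModule q.asIdeal.primeCompl M) ⟶
        ((DTen.LBase (algebraMap A B)).obj ω)⟦i⟧) := fun i => by
    obtain ⟨e⟩ := exists_localModuleExtEquiv (ω := ω) a q.asIdeal M i
    rw [Module.mem_support_iff]
    exact ⟨fun h => e.nontrivial, fun h => e.symm.nontrivial⟩
  exact ⟨fun i hi => h1 i ((key i).1 hi), (key _).2 h2, (key _).2 h3⟩

/-- Depth and dimension at a prime of the support. -/
theorem exists_depth_dim (q : PrimeSpectrum A) (M : Type u) [AddCommGroup M] [Module A M] [Module.Finite A M]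
    (hq : q ∈ Module.support A M) :
    ∃ δ d : ℕ, LocCoh.depth (Localization.AtPrime q.asIdeal) (LocalizedModule q.asIdeal.primeCompl M) = δ ∧
      Module.supportDim (Localization.AtPrime q.asIdeal) (LocalizedModule q.asIdeal.primeCompl M) = d := by
  haveI : IsNoetherianRing (Localization.AtPrime q.asIdeal) :=
    IsLocalization.isNoetherianRing q.asIdeal.primeCompl _ inferInstance
  haveI : Module.Finite (Localization.AtPrime q.asIdeal) (LocalizedModule q.asIdeal.primeCompl M) :=
    Module.Finite.of_isLocalizedModule q.asIdeal.primeCompl (LocalizedModule.mkLinearMap _ _)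
  haveI : Nontrivial (LocalizedModule q.asIdeal.primeCompl M) := Module.mem_support_iff.1 hq
  obtain ⟨δ, hδ⟩ := exists_depth_eq (A := Localization.AtPrime q.asIdeal) (LocalizedModule q.asIdeal.primeCompl M)
  obtain ⟨d, hd⟩ := LC.exists_supportDim_eq_nat (R := Localization.AtPrime q.asIdeal)
    (M := LocalizedModule q.asIdeal.primeCompl M)
  exact ⟨δ, d, hδ, hd⟩

/-- Depth is at most the dimension. -/
theorem depth_le_dim_of_range (hω : Dual.IsDualizing A ω) (hn : IsExtDegree ω n) (q : PrimeSpectrum A)
    (M : Type u) [AddCommGroup M] [Module A M] [Module.Finite A M] (δ d : ℕ)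
    (hδ : LocCoh.depth (Localization.AtPrime q.asIdeal) (LocalizedModule q.asIdeal.primeCompl M) = δ)
    (hd : Module.supportDim (Localization.AtPrime q.asIdeal) (LocalizedModule q.asIdeal.primeCompl M) = d) :
    δ ≤ d := by
  obtain ⟨h1, h2, -⟩ := localized_ext_range hω hn q M δ d hδ hd
  have := (h1 _ h2).2
  omega

end Groth.Agent.KFlatLib
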