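import Groth.Agent.KFlatLib.Ring.DualizingRange
import Groth.Agent.LC.GorLoc
import Groth.Agent.LC.DualCM
import Groth.Prelude.Def_EGA4b
import Mathlib.RingTheory.Spectrum.Prime.Topology
import Mathlib.RingTheory.Ideal.MinimalPrime.Noetherian

/-!
# Serre conditions read off from a dualizing complex
-/

set_option linter.style.haveILetI false
set_option backward.isDefEq.respectTransparency false

universe u

open CategoryTheory CategoryTheory.Limits Pretriangulated

attribute [local instance] HasDerivedCategory.standard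

namespace Groth.Agent.KFlatLib

variable {A : Type u} [CommRing A] [IsNoetherianRing A] {ω : Dual.D A} {n : PrimeSpectrum A → ℤ}

omit [IsNoetherianRing A] in
/-- Supports are closed upwards. -/
lemma mem_support_of_le {E : Type*} [AddCommGroup E] [Module A E] {P Q : PrimeSpectrum A} (h : P ≤ Q)
    (hP : P ∈ Module.support A E) : Q ∈ Module.support A E := Module.mem_support_mono h hP

omit [IsNoetherianRing A] in
lemma supportDim_localized_eq_bot (M : Type u) [AddCommGroup M] [Module A M] (q : PrimeSpectrum A)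
    (hq : q ∉ Module.support A M) :
    Module.supportDim (Localization.AtPrime q.asIdeal) (LocalizedModule q.asIdeal.primeCompl M) = ⊥ := by
  haveI := Module.notMem_support_iff.1 hq
  exact Module.supportDim_eq_bot_of_subsingleton _ _

/-- Serre's inequality at one point, in numbers. -/
lemma min_le_depth_iff (k : ℕ) (q : PrimeSpectrum A) (M : Type u) [AddCommGroup M] [Module A M] (δ d : ℕ)
    (hδ : LocCoh.depth (Localization.AtPrime q.asIdeal) (LocalizedModule q.asIdeal.primeCompl M) = δ)
    (hd : Module.supportDim (Localization.AtPrime q.asIdeal) (LocalizedModule q.asIdeal.primeCompl M) = d) :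
    (min (k : WithBot ℕ∞) (Module.supportDim (Localization.AtPrime q.asIdeal) (LocalizedModule q.asIdeal.primeCompl M)) ≤
      ((LocCoh.depth (Localization.AtPrime q.asIdeal) (LocalizedModule q.asIdeal.primeCompl M) : ℕ∞) : WithBot ℕ∞))
      ↔ k ≤ δ ∨ d ≤ δ := by
  rw [hδ, hd, min_le_iff]
  exact or_congr Nat.cast_le Nat.cast_le

/-- Between a point and a generalization both in two supports. -/
lemma range_of_le (hω : Dual.IsDualizing A ω) (hn : IsExtDegree ω n) (hmono : StrictMono n)
    (M : Type u) [AddCommGroup M] [Module A M] [Module.Finite A M] (Q q : PrimeSpectrum A) (hQq : Q ≤ q)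
    (δ d δ' d' : ℕ)
    (hδ : LocCoh.depth (Localization.AtPrime q.asIdeal) (LocalizedModule q.asIdeal.primeCompl M) = δ)
    (hd : Module.supportDim (Localization.AtPrime q.asIdeal) (LocalizedModule q.asIdeal.primeCompl M) = d)
    (hδ' : LocCoh.depth (Localization.AtPrime Q.asIdeal) (LocalizedModule Q.asIdeal.primeCompl M) = δ')
    (hd' : Module.supportDim (Localization.AtPrime Q.asIdeal) (LocalizedModule Q.asIdeal.primeCompl M) = d') :
    n q - d ≤ n Q - d' ∧ n Q - δ' ≤ n q - δ ∧ n Q ≤ n q := by
  obtain ⟨h1, -, -⟩ := localized_ext_range hω hn q M δ d hδ hd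
  obtain ⟨-, g2, g3⟩ := localized_ext_range hω hn Q M δ' d' hδ' hd'
  exact ⟨(h1 _ (mem_support_of_le hQq g2)).1, (h1 _ (mem_support_of_le hQq g3)).2, hmono.monotone hQq⟩

/-- Serre's condition through the supports of the Ext modules. -/
theorem hasSk_iff_ext (hω : Dual.IsDualizing A ω) (M : Type u) [AddCommGroup M] [Module A M] [Module.Finite A M]
    (k : ℕ) :
    LocCoh.HasSk k A M ↔
      ∀ (i j : ℤ), j < i → ∀ p : PrimeSpectrum A,
        p ∈ Module.support A (Dual.inD A M ⟶ ω⟦i⟧) → p ∈ Module.support A (Dual.inD A M ⟶ ω⟦j⟧) →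
          (((k : ℤ) + i - j).toNat : WithBot ℕ∞) ≤
            Module.supportDim (Localization.AtPrime p.asIdeal) (LocalizedModule p.asIdeal.primeCompl M) := by
  obtain ⟨n, hn, -, -, -⟩ := exists_extDegree hω
  constructor
  · intro h i j hji p hi hj
    obtain ⟨δ, d, hδ, hd⟩ := exists_depth_dim p M (support_hom_subset M _ hi)
    obtain ⟨h1, -, -⟩ := localized_ext_range hω hn p M δ d hδ hd
    have h2 := h1 i hi
    have h3 := h1 j hj
    have hk := (min_le_depth_iff k p M δ d hδ hd).1 (h p.asIdeal)
    rw [hd]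
    exact Nat.cast_le.2 (by omega)
  · intro h p hp
    let q : PrimeSpectrum A := ⟨p, hp⟩
    by_cases hq : q ∈ Module.support A M
    · obtain ⟨δ, d, hδ, hd⟩ := exists_depth_dim q M hq
      obtain ⟨-, h2, h3⟩ := localized_ext_range hω hn q M δ d hδ hd
      refine (min_le_depth_iff k q M δ d hδ hd).2 ?_
      by_contra hcon
      have h4 := h _ _ (show n q - (d : ℤ) < n q - δ by omega) q h3 h2
      rw [hd] at h4
      have := Nat.cast_le.1 h4
      omega
    · rw [supportDim_localized_eq_bot M q hq]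
      exact le_trans (min_le_right _ _) bot_le

/-- Serre's condition at a point, tested on its generalizations. -/
theorem hasSkAt_iff (M : Type u) [AddCommGroup M] [Module A M] (k : ℕ) (p : PrimeSpectrum A) :
    EGA4.HasSkAt k A M p.asIdeal ↔ ∀ q : PrimeSpectrum A, q ≤ p →
      min (k : WithBot ℕ∞) (Module.supportDim (Localization.AtPrime q.asIdeal) (LocalizedModule q.asIdeal.primeCompl M)) ≤
        ((LocCoh.depth (Localization.AtPrime q.asIdeal) (LocalizedModule q.asIdeal.primeCompl M) : ℕ∞) : WithBot ℕ∞) := by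
  rw [EGA4.HasSkAt, Alg6.hasSk_localization_iff]
  refine ⟨fun h q hq => h q.asIdeal (Set.disjoint_left.2 fun x hx hxq => hx (hq hxq)),
    fun h q hqp hd => h ⟨q, hqp⟩ fun x hx => ?_⟩
  by_contra hxp
  exact Set.disjoint_left.1 hd hxp hx

/-- Bounds for the degrees with a nonzero Ext. -/
theorem exists_ext_bounds (hω : Dual.IsDualizing A ω) (hn : IsExtDegree ω n) (M : Type u) [AddCommGroup M]
    [Module A M] [Module.Finite A M] :
    ∃ a b : ℤ, ∀ (i : ℤ) (p : PrimeSpectrum A), p ∈ Module.support A (Dual.inD A M ⟶ ω⟦i⟧) → a ≤ i ∧ i ≤ b := by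
  obtain ⟨n', hn', -, -, a₀, b₀, hab⟩ := exists_extDegree hω
  obtain ⟨a, b, -, _, _⟩ := exists_bounds_of_isDualizing hω
  refine ⟨a₀, b₀, fun i p hp => ⟨?_, ?_⟩⟩
  · by_contra hcon
    haveI := subsingleton_hom_module_of_lt hn M i fun P _ => by
      rw [extDegree_unique hn hn' P]
      have := (hab P).1
      omega
    rw [Module.support_eq_empty] at hp
    exact hp
  · have h1 := le_extDegree_of_mem_support hn a hω.finite_cohomology M i hp
    rw [extDegree_unique hn hn' p] at h1
    have := (hab p).2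
    omega

/-- The locus of Serre's condition is open. -/
theorem isOpen_hasSkAt (hω : Dual.IsDualizing A ω) (M : Type u) [AddCommGroup M] [Module A M] [Module.Finite A M]
    (k : ℕ) : IsOpen {p : PrimeSpectrum A | EGA4.HasSkAt k A M p.asIdeal} := by
  classical
  obtain ⟨n, hn, -, hmono, -⟩ := exists_extDegree hω
  obtain ⟨a₁, b₁, hab⟩ := exists_ext_bounds hω hn M
  obtain ⟨a, b, -, _, _⟩ := exists_bounds_of_isDualizing hω
  let Bad : PrimeSpectrum A → Prop := fun q =>
    ¬ (min (k : WithBot ℕ∞) (Module.supportDim (Localization.AtPrime q.asIdeal) (LocalizedModule q.asIdeal.primeCompl M)) ≤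
        ((LocCoh.depth (Localization.AtPrime q.asIdeal) (LocalizedModule q.asIdeal.primeCompl M) : ℕ∞) : WithBot ℕ∞))
  let I : ℤ → ℤ → Ideal A := fun i j =>
    Module.annihilator A (Dual.inD A M ⟶ ω⟦i⟧) ⊔ Module.annihilator A (Dual.inD A M ⟶ ω⟦j⟧)
  have hI : ∀ i j (q : PrimeSpectrum A), I i j ≤ q.asIdeal ↔
      q ∈ Module.support A (Dual.inD A M ⟶ ω⟦i⟧) ∧ q ∈ Module.support A (Dual.inD A M ⟶ ω⟦j⟧) := fun i j q => by
    haveI := finite_hom_module ω a hω.finite_cohomology M i
    haveI := finite_hom_module ω a hω.finite_cohomology M j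
    rw [Module.support_eq_zeroLocus, Module.support_eq_zeroLocus, sup_le_iff]
    rfl
  let F : Set (PrimeSpectrum A) := {Q | Bad Q ∧ ∃ i ∈ Finset.Icc a₁ b₁, ∃ j ∈ Finset.Icc a₁ b₁, Q.asIdeal ∈ (I i j).minimalPrimes}
  have hF : F.Finite := by
    refine Set.Finite.subset ((Set.Finite.biUnion (Finset.Icc a₁ b₁).finite_toSet fun i _ =>
      Set.Finite.biUnion (Finset.Icc a₁ b₁).finite_toSet fun j _ =>
        (Ideal.finite_minimalPrimes_of_isNoetherianRing A (I i j))).preimage
          (f := PrimeSpectrum.asIdeal) (fun x _ y _ h => PrimeSpectrum.ext h)) ?_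
    rintro Q ⟨-, i, hi, j, hj, hQ⟩
    exact Set.mem_biUnion hi (Set.mem_biUnion hj hQ)
  have key : {p : PrimeSpectrum A | EGA4.HasSkAt k A M p.asIdeal}ᶜ =
      ⋃ Q ∈ F, PrimeSpectrum.zeroLocus (Q.asIdeal : Set A) := by
    ext p
    simp only [Set.mem_compl_iff, Set.mem_setOf_eq, hasSkAt_iff, Set.mem_iUnion, exists_prop,
      PrimeSpectrum.mem_zeroLocus, SetLike.coe_subset_coe]
    constructor
    · intro h
      simp only [not_forall] at h
      obtain ⟨q, hqp, hbad⟩ := h
      have hq : q ∈ Module.support A M := by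
        by_contra hq
        exact hbad (by rw [supportDim_localized_eq_bot M q hq]; exact le_trans (min_le_right _ _) bot_le)
      obtain ⟨δ, d, hδ, hd⟩ := exists_depth_dim q M hq
      obtain ⟨-, h2, h3⟩ := localized_ext_range hω hn q M δ d hδ hd
      rw [min_le_depth_iff k q M δ d hδ hd] at hbad
      obtain ⟨P, hP, hPq⟩ := Ideal.exists_minimalPrimes_le ((hI (n q - δ) (n q - d) q).2 ⟨h3, h2⟩)
      let Q : PrimeSpectrum A := ⟨P, hP.1.1⟩
      have hQI := (hI (n q - δ) (n q - d) Q).1 hP.1.2
      obtain ⟨δ', d', hδ', hd'⟩ := exists_depth_dim Q M (support_hom_subset M _ hQI.1)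
      obtain ⟨g1, -, -⟩ := localized_ext_range hω hn Q M δ' d' hδ' hd'
      obtain ⟨r1, r2, r3⟩ := range_of_le hω hn hmono M Q q hPq δ d δ' d' hδ hd hδ' hd'
      have g4 := g1 _ hQI.1
      have g5 := g1 _ hQI.2
      refine ⟨Q, ⟨?_, n q - δ, Finset.mem_Icc.2 (hab _ q h3), n q - d, Finset.mem_Icc.2 (hab _ q h2), hP⟩,
        le_trans (show Q.asIdeal ≤ q.asIdeal from hPq) hqp⟩
      show ¬ _
      rw [min_le_depth_iff k Q M δ' d' hδ' hd']
      omega
    · rintro ⟨Q, ⟨hQ, -⟩, hQp⟩ h
      exact hQ (h Q hQp)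
  rw [← isClosed_compl_iff, key]
  exact hF.isClosed_biUnion fun Q _ => PrimeSpectrum.isClosed_zeroLocus _

/-- Cohen–Macaulayness at a point, in numbers. -/
lemma isCohenMacaulayModule_localized_iff (q : PrimeSpectrum A) (M : Type u) [AddCommGroup M] [Module A M] (δ d : ℕ)
    (hδ : LocCoh.depth (Localization.AtPrime q.asIdeal) (LocalizedModule q.asIdeal.primeCompl M) = δ)
    (hd : Module.supportDim (Localization.AtPrime q.asIdeal) (LocalizedModule q.asIdeal.primeCompl M) = d) :
    LocCoh.IsCohenMacaulayModule (Localization.AtPrime q.asIdeal) (LocalizedModule q.asIdeal.primeCompl M) ↔ d = δ := by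
  rw [LocCoh.IsCohenMacaulayModule, hδ, hd]
  exact Nat.cast_inj

/-- The Cohen–Macaulay locus of a module is open and dense in the support. -/
theorem isOpen_cm_locus (hω : Dual.IsDualizing A ω) (M : Type u) [AddCommGroup M] [Module A M] [Module.Finite A M] :
    IsOpen {p : PrimeSpectrum A | Subsingleton (LocalizedModule p.asIdeal.primeCompl M) ∨
      LocCoh.IsCohenMacaulayModule (Localization.AtPrime p.asIdeal) (LocalizedModule p.asIdeal.primeCompl M)} ∧
    Module.support A M ⊆ closure ({p : PrimeSpectrum A | LocCoh.IsCohenMacaulayModule (Localization.AtPrime p.asIdeal)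
      (LocalizedModule p.asIdeal.primeCompl M)} ∩ Module.support A M) := by
  classical
  obtain ⟨n, hn, -, hmono, -⟩ := exists_extDegree hω
  obtain ⟨a₁, b₁, hab⟩ := exists_ext_bounds hω hn M
  obtain ⟨a, b, -, _, _⟩ := exists_bounds_of_isDualizing hω
  refine ⟨?_, fun p hp => ?_⟩
  · have key : {p : PrimeSpectrum A | Subsingleton (LocalizedModule p.asIdeal.primeCompl M) ∨
        LocCoh.IsCohenMacaulayModule (Localization.AtPrime p.asIdeal) (LocalizedModule p.asIdeal.primeCompl M)}ᶜ =
        ⋃ ij ∈ ((Finset.Icc a₁ b₁ ×ˢ Finset.Icc a₁ b₁).filter fun ij : ℤ × ℤ => ij.2 < ij.1),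
          Module.support A (Dual.inD A M ⟶ ω⟦ij.1⟧) ∩ Module.support A (Dual.inD A M ⟶ ω⟦ij.2⟧) := by
      ext p
      simp only [Set.mem_compl_iff, Set.mem_setOf_eq, Set.mem_iUnion, Set.mem_inter_iff, exists_prop,
        Finset.mem_filter, Finset.mem_product, Finset.mem_Icc]
      constructor
      · intro h
        have hp : p ∈ Module.support A M := by
          by_contra hp
          exact h (Or.inl (Module.notMem_support_iff.1 hp))
        obtain ⟨δ, d, hδ, hd⟩ := exists_depth_dim p M hp
        obtain ⟨-, h2, h3⟩ := localized_ext_range hω hn p M δ d hδ hd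
        have hne : d ≠ δ := fun e => h (Or.inr ((isCohenMacaulayModule_localized_iff p M δ d hδ hd).2 e))
        have := depth_le_dim_of_range hω hn p M δ d hδ hd
        exact ⟨(n p - δ, n p - d), ⟨⟨hab _ p h3, hab _ p h2⟩, by show n p - (d : ℤ) < n p - δ; omega⟩, h3, h2⟩
      · rintro ⟨⟨i, j⟩, ⟨-, hji⟩, hi, hj⟩ h
        have hp := support_hom_subset M _ hi
        obtain ⟨δ, d, hδ, hd⟩ := exists_depth_dim p M hp
        obtain ⟨h1, -, -⟩ := localized_ext_range hω hn p M δ d hδ hd
        rcases h with h | h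
        · exact Module.notMem_support_iff.2 h hp
        · have := (isCohenMacaulayModule_localized_iff p M δ d hδ hd).1 h
          have := h1 i hi
          have := h1 j hj
          have : j < i := hji
          omega
    rw [← isClosed_compl_iff, key]
    refine ((Finset.Icc a₁ b₁ ×ˢ Finset.Icc a₁ b₁).filter _).finite_toSet.isClosed_biUnion fun ij _ => ?_
    haveI := finite_hom_module ω a hω.finite_cohomology M ij.1
    haveI := finite_hom_module ω a hω.finite_cohomology M ij.2
    rw [Module.support_eq_zeroLocus, Module.support_eq_zeroLocus]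
    exact (PrimeSpectrum.isClosed_zeroLocus _).inter (PrimeSpectrum.isClosed_zeroLocus _)
  · obtain ⟨P, hP, hPp⟩ := Ideal.exists_minimalPrimes_le (I := Module.annihilator A M) (J := p.asIdeal)
      (by rw [Module.support_eq_zeroLocus] at hp; exact hp)
    let Q : PrimeSpectrum A := ⟨P, hP.1.1⟩
    have hQ : Q ∈ Module.support A M := by rw [Module.support_eq_zeroLocus]; exact hP.1.2
    obtain ⟨δ, d, hδ, hd⟩ := exists_depth_dim Q M hQ
    obtain ⟨h1, h2, h3⟩ := localized_ext_range hω hn Q M δ d hδ hd
    have hd0 : d = 0 := by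
      haveI : Q.asIdeal.IsPrime := Q.isPrime
      have h0 := (LC.supportDim_localized_minimalPrimes M (q := Q.asIdeal) hP).symm.trans hd
      exact_mod_cast h0.symm
    have hcm : d = δ := by
      have := depth_le_dim_of_range hω hn Q M δ d hδ hd
      omega
    refine closure_mono (Set.singleton_subset_iff.2
      (show Q ∈ _ ∩ _ from ⟨(isCohenMacaulayModule_localized_iff Q M δ d hδ hd).2 hcm, hQ⟩)) ?_
    rw [PrimeSpectrum.closure_singleton]
    exact hPp

end Groth.Agent.KFlatLib
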