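import Groth.Agent.KFlatLib.Ring.DualizingFlat

/-!
# Dualizing complexes at a maximal ideal
-/

set_option linter.style.haveILetI false
set_option backward.isDefEq.respectTransparency false

universe u

open CategoryTheory CategoryTheory.Limits Pretriangulated MonoidalCategory

attribute [local instance] HasDerivedCategory.standard

namespace Groth.Agent.KFlatLib

variable {A : Type u} [CommRing A]

/-- Endomorphisms of a shifted-and-dualized object are those of the object, with the shift kept. -/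
lemma exists_dualShiftHomLEquiv [IsNoetherianRing A] [DTen.HasLTen A] [DTen.HasRHom A] {ω : Dual.D A}
    (hω : Dual.IsDualizing A ω) {X : Dual.D A} (hX : ∀ i : ℤ, Module.Finite A (Dual.HD A X i)) (c : ℤ) :
    Nonempty (((((DTen.RHomR A X).obj ω))⟦c⟧ ⟶ (DTen.RHomR A X).obj ω) ≃ₗ[A] (X⟦c⟧ ⟶ X)) := by
  haveI := hasLTen₃ A
  haveI := isSymMonoidal A
  let Y := (DTen.RHomR A X).obj ω
  let U := (DTen.unit A)⟦c⟧
  obtain ⟨e⟩ := nonempty_tensorLeft_shift_unit_iso (A := A) c
  let eY : Y⟦c⟧ ≅ (DTen.LTen₂ A).obj (U, Y) := (e.app Y).symm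
  let eX : X⟦c⟧ ≅ (DTen.LTen₂ A).obj (U, X) := (e.app X).symm
  let W : (DTen.LTen₂ A).obj (Y⟦c⟧, X) ≅ (DTen.LTen₂ A).obj (X⟦c⟧, Y) :=
    (DTen.LTen₂ A).mapIso (Iso.prod eY (Iso.refl X)) ≪≫ DTen.associator U Y X ≪≫
      (DTen.LTen₂ A).mapIso (Iso.prod (Iso.refl U) (DTen.braiding X Y)) ≪≫
      (DTen.associator U X Y).symm ≪≫ (DTen.LTen₂ A).mapIso (Iso.prod eX.symm (Iso.refl Y))
  obtain ⟨b⟩ := nonempty_biduality hω hX
  exact ⟨(rhomLEquiv (Y⟦c⟧) X ω).symm.trans ((Linear.homCongr A W (Iso.refl ω)).trans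
    ((rhomLEquiv (X⟦c⟧) Y ω).trans (Linear.homCongr A (Iso.refl _) b)))⟩

section Point

variable (m : Ideal A)

/-- A vector space inside its endomorphisms. -/
lemma exists_injective_to_end [m.IsMaximal] (V : Type u) [AddCommGroup V] [Module A V] [Nontrivial V]
    (hV : Module.IsTorsionBySet A V m) :
    ∃ g : V →ₗ[A] (V →ₗ[A] V), Function.Injective g := by
  letI := Ideal.Quotient.field m
  letI := hV.module
  haveI : IsScalarTower A (A ⧸ m) V := hV.isScalarTower
  obtain ⟨v, hv⟩ := exists_ne (0 : V)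
  obtain ⟨f, hf⟩ : ∃ i, (Module.Basis.ofVectorSpace (A ⧸ m) V).repr v i ≠ 0 := by
    refine not_forall.1 fun h => hv ((Module.Basis.ofVectorSpace (A ⧸ m) V).repr.injective ?_)
    rw [map_zero]
    exact Finsupp.ext h
  let φ : V →ₗ[A ⧸ m] (A ⧸ m) := (Module.Basis.ofVectorSpace (A ⧸ m) V).coord f
  have hφ : φ v ≠ 0 := fun h => hf (by simpa [φ] using h)
  refine ⟨{ toFun := fun w => ((LinearMap.toSpanSingleton (A ⧸ m) V w).comp φ).restrictScalars A
            map_add' := fun w w' => by ext x; simp [smul_add]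
            map_smul' := fun r w => LinearMap.ext fun x => smul_comm (φ x) r w }, fun w w' h => ?_⟩
  have h2 : φ v • w = φ v • w' := LinearMap.congr_fun h v
  exact smul_right_injective V hφ h2

/-- Nonzero vector spaces have nonzero maps between them. -/
lemma exists_ne_zero_hom_of_isTorsionBySet [m.IsMaximal] (V W : Type u) [AddCommGroup V] [Module A V]
    [Nontrivial V] [AddCommGroup W] [Module A W] [Nontrivial W] (hV : Module.IsTorsionBySet A V m)
    (hW : Module.IsTorsionBySet A W m) : ∃ g : V →ₗ[A] W, g ≠ 0 := by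
  letI := Ideal.Quotient.field m
  letI := hV.module
  letI := hW.module
  haveI : IsScalarTower A (A ⧸ m) V := hV.isScalarTower
  haveI : IsScalarTower A (A ⧸ m) W := hW.isScalarTower
  obtain ⟨w, hw⟩ := exists_ne (0 : W)
  obtain ⟨i⟩ := (Module.Basis.ofVectorSpace (A ⧸ m) V).index_nonempty
  let φ : V →ₗ[A ⧸ m] (A ⧸ m) := (Module.Basis.ofVectorSpace (A ⧸ m) V).coord i
  refine ⟨((LinearMap.toSpanSingleton (A ⧸ m) W w).comp φ).restrictScalars A, fun h => hw ?_⟩
  have h1 : φ (Module.Basis.ofVectorSpace (A ⧸ m) V i) = 1 := by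
    simp only [φ, Module.Basis.coord_apply, Module.Basis.repr_self, Finsupp.single_eq_same]
  calc w = φ (Module.Basis.ofVectorSpace (A ⧸ m) V i) • w := by rw [h1, one_smul]
    _ = 0 := LinearMap.congr_fun h (Module.Basis.ofVectorSpace (A ⧸ m) V i)

/-- A linear equivalence between endomorphisms of a cyclic module and the module. -/
lemma exists_endQuotientLEquiv : Nonempty (((A ⧸ m) →ₗ[A] (A ⧸ m)) ≃ₗ[A] (A ⧸ m)) := by
  refine ⟨LinearEquiv.ofBijective (LinearMap.applyₗ (Submodule.Quotient.mk (1 : A)))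
    ⟨fun f g h => Submodule.linearMap_qext _ (LinearMap.ext_ring h), fun y => ?_⟩⟩
  obtain ⟨a, rfl⟩ := Submodule.Quotient.mk_surjective _ y
  exact ⟨a • LinearMap.id, by
    rw [LinearMap.applyₗ_apply_apply, LinearMap.smul_apply, LinearMap.id_apply, ← Submodule.Quotient.mk_smul,
      smul_eq_mul, mul_one]⟩

variable [IsNoetherianRing A] [DTen.HasLTen A] [DTen.HasRHom A] {ω : Dual.D A}

/-- At a maximal ideal a dualizing complex has a single Ext, of dimension one. -/
theorem exists_unique_ext_point [m.IsMaximal] (hω : Dual.IsDualizing A ω) :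
    ∃ n : ℤ, (∀ i : ℤ, i ≠ n → Subsingleton (Dual.inD A (A ⧸ m) ⟶ ω⟦i⟧)) ∧
      Nonempty ((Dual.inD A (A ⧸ m) ⟶ ω⟦n⟧) ≃ₗ[A] (A ⧸ m)) := by
  classical
  let X := Dual.inD A (A ⧸ m)
  let Y := (DTen.RHomR A X).obj ω
  haveI : X.IsGE 0 := inferInstanceAs
    (DerivedCategory.IsGE ((DerivedCategory.singleFunctor (ModuleCat.{u} A) 0).obj _) 0)
  haveI : X.IsLE 0 := inferInstanceAs
    (DerivedCategory.IsLE ((DerivedCategory.singleFunctor (ModuleCat.{u} A) 0).obj _) 0)
  have hX : ∀ i : ℤ, Module.Finite A (Dual.HD A X i) := by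
    intro i
    by_cases hi : i = 0
    · subst hi
      obtain ⟨e⟩ := exists_hdSingleLEquiv (ModuleCat.of A (A ⧸ m)) 0
      exact Module.Finite.equiv e.symm
    · haveI : Subsingleton (Dual.HD A X i) := ModuleCat.subsingleton_of_isZero (by
        rcases lt_or_gt_of_ne hi with h | h
        · exact DerivedCategory.isZero_of_isGE X 0 i h
        · exact DerivedCategory.isZero_of_isLE X 0 i h)
      exact Module.Finite.of_finite
  have hsmul : ∀ r ∈ m, (r • 𝟙 X : X ⟶ X) = 0 := by
    intro r hr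
    obtain ⟨e⟩ := exists_homologyMapLEquiv 0 X X
    obtain ⟨e'⟩ := exists_hdSingleLEquiv (ModuleCat.of A (A ⧸ m)) 0
    refine e.injective (LinearMap.ext fun z => e'.injective ?_)
    rw [map_smul, LinearMap.smul_apply, map_smul, map_zero, LinearMap.zero_apply, map_zero]
    obtain ⟨t, ht⟩ := Ideal.Quotient.mk_surjective (e' (e (𝟙 X) z))
    rw [← ht]
    exact Ideal.Quotient.eq_zero_iff_mem.2 (m.mul_mem_right t hr)
  have hV : ∀ i : ℤ, Module.IsTorsionBySet A (Dual.HD A Y i) m := by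
    intro i
    obtain ⟨e⟩ := exists_hdRHomShiftLEquiv X ω i
    refine fun z r => e.injective ?_
    rw [map_smul, map_zero]
    calc (r : A) • e z = ((r : A) • 𝟙 X) ≫ e z := by rw [Linear.smul_comp, Category.id_comp]
      _ = 0 := by rw [hsmul _ r.2, zero_comp]
  obtain ⟨a₀, b₀, hab⟩ := hω.finite_injective_dimension
  have hsub : ∀ i : ℤ, Subsingleton (X ⟶ ω⟦i⟧) ↔ Subsingleton (Dual.HD A Y i) := fun i => by
    obtain ⟨e⟩ := exists_hdRHomShiftLEquiv X ω i
    exact e.toEquiv.subsingleton_congr.symm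
  let S := (Finset.Icc a₀ b₀).filter fun i => ¬ Subsingleton (Dual.HD A Y i)
  have hS : ∀ i, i ∉ S → Subsingleton (Dual.HD A Y i) := by
    intro i hi
    by_contra h
    refine h ((hsub i).1 (hab (A ⧸ m) i ?_))
    simp only [S, Finset.mem_filter, Finset.mem_Icc, not_and, not_not] at hi
    by_contra h'
    exact h (hi (by omega))
  obtain ⟨eEnd₀⟩ := exists_dualShiftHomLEquiv hω hX 0
  obtain ⟨eX0⟩ := exists_homologyMapLEquiv 0 X X
  obtain ⟨eκ⟩ := exists_hdSingleLEquiv (ModuleCat.of A (A ⧸ m)) 0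
  obtain ⟨eEndκ⟩ := exists_endQuotientLEquiv m
  let eY : (Y ⟶ Y) ≃ₗ[A] (A ⧸ m) :=
    (Linear.homCongr A ((shiftFunctorZero (Dual.D A) ℤ).app Y).symm (Iso.refl Y)).trans
      (eEnd₀.trans ((Linear.homCongr A ((shiftFunctorZero (Dual.D A) ℤ).app X) (Iso.refl X)).trans
        (eX0.trans ((LinearEquiv.arrowCongr eκ eκ).trans eEndκ))))
  have hne : S.Nonempty := by
    rw [Finset.nonempty_iff_ne_empty]
    intro h0
    have hz : IsZero Y := by
      haveI : Y.IsGE 1 := (DerivedCategory.isGE_iff _ _).2 fun i _ =>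
        @ModuleCat.isZero_of_subsingleton _ _ _ (hS i (by simp [h0]))
      haveI : Y.IsLE 0 := (DerivedCategory.isLE_iff _ _).2 fun i _ =>
        @ModuleCat.isZero_of_subsingleton _ _ _ (hS i (by simp [h0]))
      exact DerivedCategory.TStructure.t.isZero Y 0 1 (by omega)
    haveI : Subsingleton (Y ⟶ Y) := ⟨fun f g => hz.eq_of_src f g⟩
    haveI := eY.symm.injective.subsingleton
    exact not_subsingleton (A ⧸ m) ‹_›
  let a := S.min' hne
  let b := S.max' hne
  haveI hVa : Nontrivial (Dual.HD A Y a) :=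
    not_subsingleton_iff_nontrivial.1 (Finset.mem_filter.1 (S.min'_mem hne)).2
  haveI hVb : Nontrivial (Dual.HD A Y b) :=
    not_subsingleton_iff_nontrivial.1 (Finset.mem_filter.1 (S.max'_mem hne)).2
  haveI : Y.IsGE a := (DerivedCategory.isGE_iff _ _).2 fun i hi =>
    @ModuleCat.isZero_of_subsingleton _ _ _ (hS i fun h => absurd (S.min'_le i h) (by omega))
  haveI : Y.IsLE b := (DerivedCategory.isLE_iff _ _).2 fun i hi =>
    @ModuleCat.isZero_of_subsingleton _ _ _ (hS i fun h => absurd (S.le_max' i h) (by omega))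
  obtain ⟨eEnd⟩ := exists_dualShiftHomLEquiv hω hX (b - a)
  haveI : (Y⟦b - a⟧).IsLE a := DerivedCategory.TStructure.t.isLE_shift Y b (b - a) a (by omega)
  obtain ⟨eh⟩ := exists_homologyMapLEquiv a (Y⟦b - a⟧) Y
  obtain ⟨es⟩ := exists_hdShiftLEquiv Y (b - a) a b (by omega)
  have hab' : a = b := by
    by_contra h
    have hle : a ≤ b := S.min'_le _ (S.max'_mem hne)
    obtain ⟨g, hg⟩ := exists_ne_zero_hom_of_isTorsionBySet m _ _ (hV b) (hV a)
    haveI : Subsingleton (X⟦b - a⟧ ⟶ X) := by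
      haveI : (X⟦b - a⟧).IsLE (-(b - a)) :=
        DerivedCategory.TStructure.t.isLE_shift X 0 (b - a) (-(b - a)) (by omega)
      exact subsingleton_of_forall_eq 0 fun f =>
        DerivedCategory.TStructure.t.zero f (-(b - a)) 0 (by omega)
    haveI := eEnd.injective.subsingleton
    haveI := eh.symm.injective.subsingleton
    refine hg (LinearMap.ext fun z => ?_)
    have := LinearMap.congr_fun (Subsingleton.elim (g.comp es.toLinearMap) 0) (es.symm z)
    simpa using this
  refine ⟨a, fun i hi => (hsub i).2 (hS i fun h => hi ?_), ?_⟩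
  · have := S.min'_le i h
    have := S.le_max' i h
    omega
  · haveI : Y.IsLE a := hab' ▸ ‹Y.IsLE b›
    obtain ⟨g, hg⟩ := exists_injective_to_end m _ (hV a)
    obtain ⟨e₁⟩ := exists_homologyMapLEquiv a Y Y
    obtain ⟨e₂⟩ := exists_hdRHomShiftLEquiv X ω a
    let j : Dual.HD A Y a →ₗ[A] (A ⧸ m) := (e₁.symm.trans eY).toLinearMap.comp g
    have hj : Function.Injective j := (e₁.symm.trans eY).injective.comp hg
    haveI : IsSimpleModule A (A ⧸ m) := isSimpleModule_iff_isCoatom.2 Ideal.IsMaximal.out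
    have hsurj : Function.Surjective j := by
      rcases LinearMap.surjective_or_eq_zero j with h | h
      · exact h
      · obtain ⟨v, hv⟩ := exists_ne (0 : Dual.HD A Y a)
        exact absurd (hj (by rw [h]; simp)) hv
    exact ⟨e₂.symm.trans (LinearEquiv.ofBijective j ⟨hj, hsurj⟩)⟩

end Point

end Groth.Agent.KFlatLib
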