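import Groth.Agent.KFlatLib.Ring.DualizingFlat
import Groth.Agent.KFlatLib.Ring.DualizingPoint
import Groth.Agent.KFlatLib.SingleIso
import Groth.Agent.H9Misc.DRingLTensor
import Groth.Agent.H9Misc.DRingPerfectModule
import Mathlib.RingTheory.PicardGroup
import Mathlib.RingTheory.Flat.CategoryTheory

/-!
# Twisting by an invertible module
-/

set_option linter.style.haveILetI false
set_option backward.isDefEq.respectTransparency false

universe u

open CategoryTheory CategoryTheory.Limits Pretriangulated MonoidalCategory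

open scoped TensorProduct

attribute [local instance] HasDerivedCategory.standard

namespace Groth.Agent.KFlatLib

variable {A : Type u} [CommRing A]

/-- Tensoring with a flat module is exact. -/
lemma preservesFiniteLimits_tensorRight (P : ModuleCat.{u} A) [Module.Flat A P] :
    PreservesFiniteLimits (tensorRight P) := inferInstance

/-- The two twists are inverse. -/
noncomputable def twistInvIso (P Q : ModuleCat.{u} A) (e : P ⊗ Q ≅ 𝟙_ (ModuleCat.{u} A)) :
    tensorRight P ⋙ tensorRight Q ≅ 𝟭 (ModuleCat.{u} A) :=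
  (tensorRightTensor P Q).symm ≪≫ (tensoringRight (ModuleCat.{u} A)).mapIso e ≪≫
    rightUnitorNatIso (ModuleCat.{u} A)

/-- The twist of the derived category. -/
noncomputable abbrev twist (P : ModuleCat.{u} A) [PreservesFiniteLimits (tensorRight P)] :
    Dual.D A ⥤ Dual.D A :=
  (tensorRight P).mapDerivedCategory

/-- Composing inverse twists gives the identity. -/
lemma nonempty_twist_comp (P Q : ModuleCat.{u} A) [PreservesFiniteLimits (tensorRight P)]
    [PreservesFiniteLimits (tensorRight Q)] (e : P ⊗ Q ≅ 𝟙_ (ModuleCat.{u} A)) :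
    Nonempty (twist P ⋙ twist Q ≅ 𝟭 (Dual.D A)) := by
  let F := (tensorRight P).mapHomologicalComplex (ComplexShape.up ℤ)
  let G := (tensorRight Q).mapHomologicalComplex (ComplexShape.up ℤ)
  let c : F ⋙ G ≅ 𝟭 (DRing.Cx A) :=
    NatIso.mapHomologicalComplex (twistInvIso P Q e) (ComplexShape.up ℤ) ≪≫
      Functor.mapHomologicalComplexIdIso (ModuleCat.{u} A) (ComplexShape.up ℤ)
  let z : DerivedCategory.Q ⋙ (twist P ⋙ twist Q) ≅ DerivedCategory.Q :=
    (Functor.associator _ _ _).symm ≪≫
      Functor.isoWhiskerRight (tensorRight P).mapDerivedCategoryFactors (twist Q) ≪≫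
      Functor.associator _ _ _ ≪≫ Functor.isoWhiskerLeft F (tensorRight Q).mapDerivedCategoryFactors ≪≫
      (Functor.associator _ _ _).symm ≪≫ Functor.isoWhiskerRight c DerivedCategory.Q ≪≫ Functor.leftUnitor _
  letI : Localization.Lifting DerivedCategory.Q (HomologicalComplex.quasiIso (ModuleCat.{u} A) (ComplexShape.up ℤ))
      DerivedCategory.Q (twist P ⋙ twist Q) := ⟨z⟩
  letI : Localization.Lifting DerivedCategory.Q (HomologicalComplex.quasiIso (ModuleCat.{u} A) (ComplexShape.up ℤ))
      DerivedCategory.Q (𝟭 (Dual.D A)) := ⟨Functor.rightUnitor _⟩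
  exact ⟨Localization.liftNatIso DerivedCategory.Q (HomologicalComplex.quasiIso (ModuleCat.{u} A) (ComplexShape.up ℤ))
    DerivedCategory.Q DerivedCategory.Q _ _ (Iso.refl _)⟩

/-- An invertible module and its dual. -/
lemma exists_inverse_module (P : Type u) [AddCommGroup P] [Module A P] [Module.Invertible A P] :
    ∃ Q : ModuleCat.{u} A, Module.Invertible A Q ∧
      Nonempty (ModuleCat.of A P ⊗ Q ≅ 𝟙_ (ModuleCat.{u} A)) :=
  ⟨ModuleCat.of A (Module.Dual A P), inferInstanceAs (Module.Invertible A (Module.Dual A P)),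
    ⟨((TensorProduct.comm A P (Module.Dual A P)).trans (Module.Invertible.linearEquiv A P)).toModuleIso⟩⟩

/-- The tensor product by a module, computed termwise. -/
lemma nonempty_LTensor_twist (P : ModuleCat.{u} A) [PreservesFiniteLimits (tensorRight P)]
    [DRing.HasLTensor A P] (X : Dual.D A) : Nonempty ((DRing.LTensor A P).obj X ≅ (twist P).obj X) := by
  obtain ⟨K, hK, -, ⟨e⟩⟩ := H9Misc.DRingLTensor.exists_rep X
  obtain ⟨a⟩ := H9Misc.DRingLTensor.nonempty_ltensor_iso P hK
  exact ⟨(DRing.LTensor A P).mapIso e.symm ≪≫ a ≪≫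
    ((tensorRight P).mapDerivedCategoryFactors.app K).symm ≪≫ (twist P).mapIso e⟩

/-- The tensor product by a module, as a derived tensor product. -/
lemma nonempty_twist_LTen [DTen.HasLTen A] (P : ModuleCat.{u} A) [PreservesFiniteLimits (tensorRight P)]
    (X : Dual.D A) : Nonempty ((twist P).obj X ≅ (DTen.LTen₂ A).obj (X, Dual.inD A P)) := by
  let S := (HomologicalComplex.single (ModuleCat.{u} A) (ComplexShape.up ℤ) 0).obj P
  let K := flatRep X
  haveI : IsIso ((DTen.ε A).app (K, S)) := isIso_ε (A := A) (kFlat_ringRes _) S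
  let eS : DerivedCategory.Q.obj S ≅ Dual.inD A P :=
    ((DerivedCategory.singleFunctorIsoCompQ (ModuleCat.{u} A) 0).app P).symm
  exact ⟨(twist P).mapIso (flatRepIso X).symm ≪≫ (tensorRight P).mapDerivedCategoryFactors.app K ≪≫
    DerivedCategory.Q.mapIso ((singleIso (curriedTensor (ModuleCat.{u} A)) P).app K).symm ≪≫
    (asIso ((DTen.ε A).app (K, S))).symm ≪≫ (DTen.LTen₂ A).mapIso (Iso.prod (flatRepIso X) eS)⟩

/-- A twist by an invertible module preserves dualizing complexes. -/
theorem isDualizing_twist (P : Type u) [AddCommGroup P] [Module A P] [Module.Invertible A P]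
    [PreservesFiniteLimits (tensorRight (ModuleCat.of A P))] {ω : Dual.D A} (hω : Dual.IsDualizing A ω) :
    Dual.IsDualizing A ((twist (ModuleCat.of A P)).obj ω) := by
  obtain ⟨Q, hQ, ⟨e⟩⟩ := exists_inverse_module (A := A) P
  haveI := hQ
  haveI := preservesFiniteLimits_tensorRight Q
  obtain ⟨c₁⟩ := nonempty_twist_comp (ModuleCat.of A P) Q e
  obtain ⟨c₂⟩ := nonempty_twist_comp Q (ModuleCat.of A P) ((β_ Q (ModuleCat.of A P)) ≪≫ e)
  let E : Dual.D A ≌ Dual.D A := CategoryTheory.Equivalence.mk (twist (ModuleCat.of A P)) (twist Q) c₁.symm c₂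
  let F := twist (ModuleCat.of A P)
  let hF : F.FullyFaithful := E.fullyFaithfulFunctor
  obtain ⟨a, b, hab⟩ := hω.finite_injective_dimension
  refine ⟨hω.isNoetherianRing, ⟨a, b, fun M _ _ i hi => ?_⟩, fun i => ?_, ?_, fun i hi => ?_⟩
  · let N := (tensorRight Q).obj (ModuleCat.of A M)
    let e₁ : Dual.inD A M ≅ F.obj (Dual.inD A N) :=
      (DerivedCategory.singleFunctor (ModuleCat.{u} A) 0).mapIso
          ((twistInvIso Q (ModuleCat.of A P) ((β_ Q (ModuleCat.of A P)) ≪≫ e)).app (ModuleCat.of A M)).symm ≪≫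
        (((tensorRight (ModuleCat.of A P)).mapDerivedCategorySingleFunctor 0).app N).symm
    haveI := hab N i hi
    exact ((hF.homEquiv.trans (Iso.homCongr e₁.symm ((F.commShiftIso i).app ω))).symm).subsingleton
  · haveI := hω.finite_cohomology i
    haveI : Module.Finite A ((DerivedCategory.homologyFunctor (ModuleCat.{u} A) i).obj ω) := hω.finite_cohomology i
    haveI : Module.Finite A ↑((DerivedCategory.homologyFunctor (ModuleCat.{u} A) i ⋙ tensorRight (ModuleCat.of A P)).obj ω) :=
      inferInstanceAs (Module.Finite A (((DerivedCategory.homologyFunctor (ModuleCat.{u} A) i).obj ω : Type u) ⊗[A] P))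
    exact Module.Finite.equiv (((mapDCHomologyIso (tensorRight (ModuleCat.of A P)) i).app ω).toLinearEquiv).symm
  · have hmap : (fun x : A => x • 𝟙 (F.obj ω)) = (fun f : ω ⟶ ω => F.map f) ∘ fun x : A => x • 𝟙 ω := by
      funext x
      simp only [Function.comp_apply, Functor.map_smul, CategoryTheory.Functor.map_id]
    rw [hmap]
    exact hF.homEquiv.bijective.comp hω.toEnd_bijective
  · haveI := hω.ext_self_subsingleton i hi
    exact ((hF.homEquiv.trans (Iso.homCongr (Iso.refl _) ((F.commShiftIso i).app ω))).symm).subsingleton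

/-- A shift of a dualizing complex is dualizing. -/
theorem isDualizing_shift {ω : Dual.D A} (hω : Dual.IsDualizing A ω) (n : ℤ) :
    Dual.IsDualizing A (ω⟦n⟧) := by
  obtain ⟨a, b, hab⟩ := hω.finite_injective_dimension
  refine ⟨hω.isNoetherianRing, ⟨a - n, b - n, fun M _ _ i hi => ?_⟩, fun i => ?_, ?_, fun i hi => ?_⟩
  · haveI := hab M (n + i) (by omega)
    exact (Iso.homCongr (Iso.refl (Dual.inD A M))
      ((shiftFunctorAdd' (Dual.D A) n i (n + i) rfl).app ω)).symm.subsingleton
  · haveI : Module.Finite A (((DerivedCategory.homologyFunctor (ModuleCat.{u} A) 0).shift (n + i)).obj ω) :=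
      hω.finite_cohomology (n + i)
    exact Module.Finite.equiv ((((DerivedCategory.homologyFunctor (ModuleCat.{u} A) 0).shiftIso n i (n + i)
      rfl).app ω).symm.toLinearEquiv)
  · have hmap : (fun x : A => x • 𝟙 (ω⟦n⟧)) = (fun f : ω ⟶ ω => f⟦n⟧') ∘ fun x : A => x • 𝟙 ω := by
      funext x
      simp only [Function.comp_apply, Functor.map_smul, CategoryTheory.Functor.map_id]
    rw [hmap]
    exact (Functor.FullyFaithful.ofFullyFaithful (shiftFunctor (Dual.D A) n)).homEquiv.bijective.comp
      hω.toEnd_bijective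
  · haveI := hω.ext_self_subsingleton i hi
    exact (((Functor.FullyFaithful.ofFullyFaithful (shiftFunctor (Dual.D A) n)).homEquiv).trans
      (Iso.homCongr (Iso.refl _) (shiftComm ω i n))).symm.subsingleton

/-- A finite projective module is perfect. -/
lemma isPerfect_inD_of_projective (P : ModuleCat.{u} A) [Module.Finite A P] [Projective P] :
    DRing.IsPerfect A (Dual.inD A P) := by
  refine (H9Misc.DRingPerfect.isPerfect_inD_iff P).2 ⟨ProjectiveResolution.self P, 0, fun i hi => ?_, fun i => ?_⟩
  · exact HomologicalComplex.isZero_single_obj_X _ _ _ _ (by omega)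
  · rcases Nat.eq_zero_or_pos i with rfl | hi
    · exact Module.Finite.equiv
        (HomologicalComplex.singleObjXSelf (ComplexShape.down ℕ) 0 P).toLinearEquiv.symm
    · haveI : Subsingleton ((ProjectiveResolution.self P).complex.X i) :=
        ModuleCat.subsingleton_of_isZero (HomologicalComplex.isZero_single_obj_X _ _ _ _ (by omega))
      exact Module.Finite.of_finite

/-- Maps from a dualizing complex to its twist are the twisting module. -/
lemma exists_homTwistLEquiv (P : Type u) [AddCommGroup P] [Module A P] [Module.Invertible A P]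
    [PreservesFiniteLimits (tensorRight (ModuleCat.of A P))] {ω : Dual.D A} (hω : Dual.IsDualizing A ω) :
    Nonempty ((ω ⟶ (twist (ModuleCat.of A P)).obj ω) ≃ₗ[A] P) := by
  haveI := hasLTen A
  haveI := hasRHom (A := A)
  haveI := hasLTen₃ A
  haveI := isSymMonoidal A
  let K := Dual.inD A P
  haveI : Module.Finite A (ModuleCat.of A P) := inferInstanceAs (Module.Finite A P)
  haveI : Projective (ModuleCat.of A P) :=
    (IsProjective.iff_projective (R := A) P).1 inferInstance
  haveI := isIso_evalTen_of_isPerfect_left K ω ω (isPerfect_inD_of_projective (ModuleCat.of A P))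
  obtain ⟨eω⟩ := nonempty_RHom_self_iso hω
  obtain ⟨t⟩ := nonempty_twist_LTen (ModuleCat.of A P) ω
  obtain ⟨e₁⟩ := exists_hdRHomShiftLEquiv ω ((DTen.LTen₂ A).obj (K, ω)) 0
  obtain ⟨e₂⟩ := exists_hdSingleLEquiv (ModuleCat.of A P) 0
  let R : (DTen.RHomR A ω).obj ((DTen.LTen₂ A).obj (K, ω)) ≅ K :=
    (asIso (DTen.evalTen K ω ω)).symm ≪≫ (DTen.LTen₂ A).mapIso (Iso.prod (Iso.refl K) eω) ≪≫
      DTen.rightUnitor K
  let t' : (twist (ModuleCat.of A P)).obj ω ≅ (DTen.LTen₂ A).obj (K, ω) :=
    t ≪≫ (DTen.braiding ω K).symm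
  exact ⟨((Linear.homCongr A (Iso.refl ω) t').trans
    (Linear.homCongr A (Iso.refl ω) ((shiftFunctorZero (Dual.D A) ℤ).app _).symm)).trans
    (e₁.symm.trans (((DerivedCategory.homologyFunctor (ModuleCat.{u} A) 0).mapIso R).toLinearEquiv.trans e₂))⟩

/-- The invertible twist and the shift are determined by the twisted dualizing complex. -/
theorem twist_shift_unique [Nontrivial A] (P P' : Type u) [AddCommGroup P] [Module A P]
    [Module.Invertible A P] [AddCommGroup P'] [Module A P'] [Module.Invertible A P']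
    [PreservesFiniteLimits (tensorRight (ModuleCat.of A P))] [PreservesFiniteLimits (tensorRight (ModuleCat.of A P'))]
    {ω : Dual.D A} (hω : Dual.IsDualizing A ω) (n n' : ℤ)
    (h : ((twist (ModuleCat.of A P)).obj ω)⟦n⟧ ≅ ((twist (ModuleCat.of A P')).obj ω)⟦n'⟧) :
    n = n' ∧ Nonempty (P ≃ₗ[A] P') := by
  let H := fun i => (DerivedCategory.homologyFunctor (ModuleCat.{u} A) i).obj ω
  have key : ∀ (P : Type u) [AddCommGroup P] [Module A P] [Module.Invertible A P]
      [PreservesFiniteLimits (tensorRight (ModuleCat.of A P))] (i : ℤ),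
      Subsingleton ((DerivedCategory.homologyFunctor (ModuleCat.{u} A) i).obj ((twist (ModuleCat.of A P)).obj ω)) ↔
        Subsingleton (H i) := by
    intro P _ _ _ _ i
    obtain ⟨Q, -, ⟨e⟩⟩ := exists_inverse_module (A := A) P
    let c := (mapDCHomologyIso (tensorRight (ModuleCat.of A P)) i).app ω
    refine ⟨fun hs => ?_, fun hs => ?_⟩
    · haveI : Subsingleton ((H i : Type u) ⊗[A] P) := @Function.Injective.subsingleton _ _ _ c.symm.toLinearEquiv.injective hs
      haveI : Subsingleton ((tensorRight Q).obj ((tensorRight (ModuleCat.of A P)).obj (H i))) :=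
        inferInstanceAs (Subsingleton (((H i : Type u) ⊗[A] P) ⊗[A] (Q : Type u)))
      exact @Function.Injective.subsingleton _ _ _ ((twistInvIso (ModuleCat.of A P) Q e).app (H i)).symm.toLinearEquiv.injective
        (inferInstanceAs (Subsingleton ((tensorRight Q).obj ((tensorRight (ModuleCat.of A P)).obj (H i)))))
    · haveI : Subsingleton ((tensorRight (ModuleCat.of A P)).obj (H i)) :=
        inferInstanceAs (Subsingleton ((H i : Type u) ⊗[A] P))
      exact @Function.Injective.subsingleton _ _ _ c.toLinearEquiv.injective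
        (inferInstanceAs (Subsingleton ((tensorRight (ModuleCat.of A P)).obj (H i))))
  have hshift : ∀ i : ℤ, Subsingleton (H (n + i)) ↔ Subsingleton (H (n' + i)) := by
    intro i
    let W := (twist (ModuleCat.of A P)).obj ω
    let W' := (twist (ModuleCat.of A P')).obj ω
    obtain ⟨a⟩ := exists_hdShiftLEquiv W n i (n + i) rfl
    obtain ⟨b⟩ := exists_hdShiftLEquiv W' n' i (n' + i) rfl
    have hh : Dual.HD A W (n + i) ≃ₗ[A] Dual.HD A W' (n' + i) :=
      a.symm.trans (((DerivedCategory.homologyFunctor (ModuleCat.{u} A) i).mapIso h).toLinearEquiv.trans b)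
    exact (key P (n + i)).symm.trans (hh.toEquiv.subsingleton_congr.trans (key P' (n' + i)))
  have hn : n = n' := by
    obtain ⟨a, b, -, hGE, hLE⟩ := exists_bounds_of_isDualizing hω
    haveI := hLE
    haveI := hGE
    have hne : ¬ IsZero ω := fun hz => zero_ne_one (α := A) (hω.toEnd_bijective.1 (hz.eq_of_src _ _))
    obtain ⟨p, hp, hnt⟩ := exists_top ω b hne
    haveI := hp
    have hhigh : ∀ j, p < j → Subsingleton (H j) := fun j hj =>
      ModuleCat.subsingleton_of_isZero (DerivedCategory.isZero_of_isLE ω p j hj)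
    have hp' : ¬ Subsingleton (H p) := not_subsingleton_iff_nontrivial.2 hnt
    rcases lt_trichotomy n n' with h1 | h1 | h1
    · refine absurd ((hshift (p - n)).2 (hhigh _ (by omega))) ?_
      rwa [show n + (p - n) = p by omega]
    · exact h1
    · refine absurd ((hshift (p - n')).1 (hhigh _ (by omega))) ?_
      rwa [show n' + (p - n') = p by omega]
  subst hn
  let f : (twist (ModuleCat.of A P)).obj ω ≅ (twist (ModuleCat.of A P')).obj ω :=
    (shiftFunctor (Dual.D A) n).preimageIso h
  obtain ⟨e⟩ := exists_homTwistLEquiv P hω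
  obtain ⟨e'⟩ := exists_homTwistLEquiv P' hω
  exact ⟨rfl, ⟨e.symm.trans ((Linear.homCongr A (Iso.refl ω) f).trans e')⟩⟩

end Groth.Agent.KFlatLib
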