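import Groth.Agent.KFlatLib.Ring.Resolution
import Groth.Agent.KFlatLib.Scheme.Coproducts
import Groth.Agent.TriCat.SeqColimit
import Mathlib.Algebra.Homology.GrothendieckAbelian
import Mathlib.Algebra.Category.ModuleCat.AB
import Mathlib.Algebra.Homology.DerivedCategory.ShortExact
import Mathlib.LinearAlgebra.Finsupp.Defs

/-!
# Induction in the derived category of modules from free modules of rank one
-/

set_option linter.style.haveILetI false
set_option backward.isDefEq.respectTransparency false

universe u

open CategoryTheory CategoryTheory.Limits Pretriangulated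

attribute [local instance] HasDerivedCategory.standard

namespace Groth.Agent.KFlatLib

variable {R : Type u} [CommRing R]

/-- A free module is a coproduct of copies of the ring. -/
lemma nonempty_free_iso_sigma (S : Type u) :
    Nonempty ((ModuleCat.free R).obj S ≅ ∐ fun _ : S => ModuleCat.of R R) := by
  let c : Cofan fun _ : S => ModuleCat.of R R :=
    Cofan.mk ((ModuleCat.free R).obj S) fun s => ModuleCat.ofHom (Finsupp.lsingle s)
  refine ⟨(IsColimit.coconePointUniqueUpToIso (s := c) ?_ (coproductIsCoproduct _))⟩
  refine Cofan.IsColimit.mk c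
    (fun t => ModuleCat.ofHom (Finsupp.lsum R fun s => (t.inj s).hom)) (fun t s => ?_)
    (fun t m hm => ?_)
  · refine ModuleCat.hom_ext (LinearMap.ext_ring ?_)
    exact Finsupp.lsum_single R (fun s => (t.inj s).hom) s 1
  · refine ModuleCat.hom_ext (Finsupp.lhom_ext fun s r => ?_)
    have := congrArg (fun g => (ModuleCat.Hom.hom g) r) (hm s)
    exact this.trans (Finsupp.lsum_single R (fun s => (t.inj s).hom) s r).symm

/-- An object property of the derived category of modules, closed under triangles and coproducts and
containing the shifts of the ring, contains everything. -/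
theorem derived_induction (P : ObjectProperty (DerivedCategory (ModuleCat.{u} R)))
    [P.IsClosedUnderIsomorphisms]
    (htri : ∀ T ∈ distTriang (DerivedCategory (ModuleCat.{u} R)), P T.obj₁ → P T.obj₂ → P T.obj₃)
    (hcop : ∀ (J : Type u) (K : J → CochainComplex (ModuleCat.{u} R) ℤ),
      (∀ j, P (DerivedCategory.Q.obj (K j))) → P (DerivedCategory.Q.obj (∐ K)))
    (hgen : ∀ n : ℤ, P (DerivedCategory.Q.obj
      ((HomologicalComplex.single (ModuleCat.{u} R) (ComplexShape.up ℤ) n).obj (ModuleCat.of R R))))
    (M : DerivedCategory (ModuleCat.{u} R)) : P M := by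
  have hcop₀ : ∀ (J : Type) (K : J → CochainComplex (ModuleCat.{u} R) ℤ),
      (∀ j, P (DerivedCategory.Q.obj (K j))) → P (DerivedCategory.Q.obj (∐ K)) := fun J K h =>
    P.prop_of_iso (DerivedCategory.Q.mapIso
      (Sigma.whiskerEquiv (f := fun j : ULift.{u} J => K j.down) (g := K) Equiv.ulift
        (fun _ => Iso.refl _))) (hcop _ _ fun j => h j.down)
  have hcone : ∀ {A B : CochainComplex (ModuleCat.{u} R) ℤ} (φ : A ⟶ B),
      P (DerivedCategory.Q.obj A) → P (DerivedCategory.Q.obj B) →
        P (DerivedCategory.Q.obj (CochainComplex.mappingCone φ)) := fun φ h₁ h₂ =>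
    htri _ (DerivedCategory.mappingCone_triangle_distinguished φ) h₁ h₂
  have hfree : ∀ (M : ModuleCat.{u} R) (n : ℤ), P (DerivedCategory.Q.obj
      ((HomologicalComplex.single (ModuleCat.{u} R) (ComplexShape.up ℤ) n).obj
        ((ringCover R).G.obj M))) := fun M n => by
    obtain ⟨e⟩ := nonempty_free_iso_sigma (R := R) (M : Type u)
    let F := HomologicalComplex.single (ModuleCat.{u} R) (ComplexShape.up ℤ) n
    haveI : PreservesColimit (Discrete.functor fun _ : (M : Type u) => ModuleCat.of R R) F :=
      ⟨fun {c} hc => ⟨HomologicalComplex.isColimitOfEval _ _ fun i => by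
        by_cases h : i = n
        · subst h
          exact IsColimit.mapCoconeEquiv
            (HomologicalComplex.singleCompEvalIsoSelf (ModuleCat.{u} R) (ComplexShape.up ℤ) i).symm
            (isColimitOfPreserves (𝟭 _) hc)
        · exact
            { desc := fun _ => 0
              fac := fun t j => (HomologicalComplex.isZero_single_obj_X (ComplexShape.up ℤ) n _ i h).eq_of_src _ _
              uniq := fun t m _ => (HomologicalComplex.isZero_single_obj_X (ComplexShape.up ℤ) n _ i h).eq_of_src _ _ }⟩⟩
    exact P.prop_of_iso (DerivedCategory.Q.mapIso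
      ((PreservesCoproduct.iso F _).symm ≪≫ F.mapIso e.symm)) (hcop _ _ fun _ => hgen n)
  have hzero : ∀ (A : ℤ → ModuleCat.{u} R),
      P (DerivedCategory.Q.obj (zeroCx fun j => (ringCover R).G.obj (A j))) := fun A =>
    P.prop_of_iso (DerivedCategory.Q.mapIso
      ((coproductIsCoproduct _).coconePointUniqueUpToIso (isColimitZeroCxCofan _)))
      (hcop₀ _ _ fun j => hfree (A j) j)
  let K := DerivedCategory.Q.objPreimage M
  let c := ringCover R
  have hstage : ∀ k, P (DerivedCategory.Q.obj ((c.stage k).Q.obj K)) := by
    intro k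
    induction k with
    | zero => exact hcone (𝟙 _) (hzero _) (hzero _)
    | succ k ih => exact hcone _ (hzero _) ih
  let F := c.seq ⋙ (evaluation _ _).obj K
  let T := ShortComplex.mk _ _ (TriCat.telescope_comp_desc F)
  have hT : T.ShortExact := TriCat.telescope_shortExact F
  have hF : P (DerivedCategory.Q.obj (colimit F)) :=
    htri _ (DerivedCategory.triangleOfSES_distinguished hT) (hcop₀ _ _ hstage) (hcop₀ _ _ hstage)
  haveI := c.quasiIso_ψ K
  exact P.prop_of_iso (DerivedCategory.Q.mapIso
      ((colimit.isColimit F).coconePointUniqueUpToIso (c.isColimitCoconeAt K)) ≪≫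
    asIso (DerivedCategory.Q.map (c.ψ.app K)) ≪≫ DerivedCategory.Q.objObjPreimageIso M) hF

end Groth.Agent.KFlatLib
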