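import Groth.Agent.KFlatLib.Ring.DualizingLocalExt
import Groth.Agent.LC.DepthExt

/-!
# Depth read off from Ext into a dualizing complex
-/

set_option linter.style.haveILetI false
set_option backward.isDefEq.respectTransparency false

universe u

open CategoryTheory CategoryTheory.Limits Pretriangulated MonoidalCategory
open scoped Pointwise

attribute [local instance] HasDerivedCategory.standard

namespace Groth.Agent.KFlatLib

variable {A : Type u} [CommRing A] [IsNoetherianRing A] [IsLocalRing A] {ω : Dual.D A}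

omit [IsLocalRing A] in
/-- Finiteness of Ext out of a finite module. -/
lemma finite_hom_module (Y : Dual.D A) (a : ℤ) [Y.IsGE a]
    (hY : ∀ i : ℤ, Module.Finite A (Dual.HD A Y i)) (M : Type u) [AddCommGroup M] [Module A M]
    [Module.Finite A M] (i : ℤ) : Module.Finite A (Dual.inD A M ⟶ Y⟦i⟧) := by
  haveI : DerivedCategory.IsGE (Y⟦i⟧) (a - i) :=
    DerivedCategory.TStructure.t.isGE_shift Y a i (a - i) (by omega)
  refine finite_hom_of_pc ((Groth.Agent.S6942.result A 0 (Dual.inD A M) M).2.2 inferInstance) (a - i) fun j => ?_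
  haveI : Module.Finite A (((DerivedCategory.homologyFunctor (ModuleCat.{u} A) 0).shift (j + i)).obj Y) :=
    hY (j + i)
  exact Module.Finite.equiv ((((DerivedCategory.homologyFunctor (ModuleCat.{u} A) 0).shiftIso i j (j + i)
    (by omega)).app Y).symm.toLinearEquiv)

omit [IsNoetherianRing A] in
/-- A nonzero finite module is not `m` times itself. -/
lemma maximalIdeal_smul_top_ne_top (M : Type u) [AddCommGroup M] [Module A M] [Module.Finite A M] [Nontrivial M] :
    IsLocalRing.maximalIdeal A • (⊤ : Submodule A M) ≠ ⊤ := fun h =>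
  top_ne_bot (α := Submodule A M) (Submodule.eq_bot_of_le_smul_of_le_jacobson_bot (IsLocalRing.maximalIdeal A) ⊤
    Module.Finite.fg_top h.ge (IsLocalRing.jacobson_eq_maximalIdeal ⊥ bot_ne_top).ge)

variable {n : PrimeSpectrum A → ℤ}

/-- The depth is the distance from the top degree to the first nonzero Ext. -/
theorem ext_of_depth (hn : IsExtDegree ω n) (a : ℤ) [ω.IsGE a]
    (hfin : ∀ j : ℤ, Module.Finite A (Dual.HD A ω j)) :
    ∀ (k : ℕ) (M : Type u) [AddCommGroup M] [Module A M] [Module.Finite A M] [Nontrivial M],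
      LocCoh.depth A M = k →
      (∀ i : ℤ, n (IsLocalRing.closedPoint A) - k < i → Subsingleton (Dual.inD A M ⟶ ω⟦i⟧)) ∧
        Nontrivial (Dual.inD A M ⟶ ω⟦n (IsLocalRing.closedPoint A) - k⟧) := by
  have hloc : ∀ (E : Type (u + 1)) [AddCommGroup E] [Module A E],
      Subsingleton (LocalizedModule (IsLocalRing.closedPoint A).asIdeal.primeCompl E) → Subsingleton E := by
    intro E _ _ h
    refine subsingleton_of_forall_eq 0 fun x => ?_
    obtain ⟨s, hs, hsx⟩ := LocalizedModule.subsingleton_iff.1 h x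
    exact (IsLocalRing.notMem_maximalIdeal.1 hs).smul_eq_zero.1 hsx
  have hup : ∀ (M : Type u) [AddCommGroup M] [Module A M] [Module.Finite A M] (i : ℤ),
      n (IsLocalRing.closedPoint A) < i → Subsingleton (Dual.inD A M ⟶ ω⟦i⟧) := fun M _ _ _ i hi =>
    hloc _ (subsingleton_localized_module_of_gt hn a hfin _ M i hi)
  intro k
  induction k with
  | zero =>
    intro M _ _ _ _ hk
    refine ⟨fun i hi => hup M i (by omega), ?_⟩
    have hIM := maximalIdeal_smul_top_ne_top (A := A) M
    obtain ⟨p, hp, hle⟩ : ∃ p ∈ associatedPrimes A M, IsLocalRing.maximalIdeal A ≤ p := by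
      have hsub : (IsLocalRing.maximalIdeal A : Set A) ⊆ ⋃ p ∈ associatedPrimes A M, (p : Set A) := by
        rw [biUnion_associatedPrimes_eq_compl_regular]
        intro x hx hreg
        have := Groth.Agent.LC.idealDepth_quotSMulTop_add_one (IsLocalRing.maximalIdeal A) (M := M) hx hreg
        rw [show LocCoh.idealDepth (IsLocalRing.maximalIdeal A) M = 0 from hk] at this
        exact absurd this (by simp)
      have hf := associatedPrimes.finite A M
      obtain ⟨p, hp, hle⟩ := (Ideal.subset_union_prime_finite hf (IsLocalRing.maximalIdeal A) (IsLocalRing.maximalIdeal A)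
        (fun q hq _ _ => IsAssociatedPrime.isPrime hq)).1 hsub
      exact ⟨p, hp, hle⟩
    obtain ⟨hpp, f, hf⟩ := (isAssociatedPrime_iff_exists_injective_linearMap _ _).1 hp
    obtain rfl := ((IsLocalRing.maximalIdeal.isMaximal A).eq_of_le hpp.ne_top hle)
    have h1 := nontrivial_localized_of_injective hn a hfin M (IsLocalRing.closedPoint A) f hf
    rw [Nat.cast_zero, sub_zero]
    by_contra hcon
    rw [not_nontrivial_iff_subsingleton] at hcon
    exact not_subsingleton (LocalizedModule (IsLocalRing.closedPoint A).asIdeal.primeCompl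
      (Dual.inD A M ⟶ ω⟦n (IsLocalRing.closedPoint A)⟧))
      (LocalizedModule.subsingleton_iff.2 fun φ => ⟨1, one_mem _, Subsingleton.elim _ _⟩)
  | succ k ih =>
    intro M _ _ _ _ hk
    have hIM := maximalIdeal_smul_top_ne_top (A := A) M
    obtain ⟨rs, hreg, hmem, hlen⟩ := Groth.Agent.LC.exists_idealDepth_eq_length (IsLocalRing.maximalIdeal A) hIM
    rcases rs with _ | ⟨x, rs⟩
    · rw [show LocCoh.idealDepth (IsLocalRing.maximalIdeal A) M = ((k + 1 : ℕ) : ℕ∞) from hk] at hlen
      simp at hlen
    rw [RingTheory.Sequence.isWeaklyRegular_cons_iff] at hreg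
    have hxm : x ∈ IsLocalRing.maximalIdeal A := hmem x List.mem_cons_self
    let f : M →ₗ[A] M := x • LinearMap.id
    let g : M →ₗ[A] QuotSMulTop x M := Submodule.mkQ (x • ⊤ : Submodule A M)
    have hf : Function.Injective f := hreg.1
    have hfg : Function.Exact f g := by
      intro z
      constructor
      · intro hz
        obtain ⟨w, -, hw⟩ := (Submodule.mem_smul_pointwise_iff_exists _ _ _).1 ((Submodule.Quotient.mk_eq_zero _).1 hz)
        exact ⟨w, hw⟩
      · rintro ⟨w, rfl⟩
        exact (Submodule.Quotient.mk_eq_zero _).2 (Submodule.smul_mem_pointwise_smul w x ⊤ trivial)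
    have hg : Function.Surjective g := Submodule.mkQ_surjective _
    haveI : Nontrivial (QuotSMulTop x M) := by
      refine Submodule.Quotient.nontrivial_iff.2 fun h => hIM (top_le_iff.1 fun z _ => ?_)
      obtain ⟨w, -, rfl⟩ := (Submodule.mem_smul_pointwise_iff_exists z x ⊤).1 (h.ge trivial)
      exact Submodule.smul_mem_smul hxm trivial
    have hdep : LocCoh.depth A (QuotSMulTop x M) = k := by
      have := Groth.Agent.LC.idealDepth_quotSMulTop_add_one (IsLocalRing.maximalIdeal A) (M := M) hxm hreg.1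
      rw [show LocCoh.idealDepth (IsLocalRing.maximalIdeal A) M = ((k + 1 : ℕ) : ℕ∞) from hk, Nat.cast_add,
        Nat.cast_one] at this
      exact (ENat.addLECancellable_of_ne_top ENat.one_ne_top).inj_left.1 this
    obtain ⟨hvan, hnt⟩ := ih (QuotSMulTop x M) hdep
    let N := n (IsLocalRing.closedPoint A)
    have hzero : ∀ i : ℤ, N - (k + 1 : ℕ) < i → Subsingleton (Dual.inD A M ⟶ ω⟦i⟧) := by
      intro i hi
      let E := Dual.inD A M ⟶ ω⟦i⟧
      haveI := finite_hom_module ω a hfin M i
      haveI := hvan (i + 1) (by omega)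
      obtain ⟨δ, hδ⟩ := exists_extend_inD hf hg hfg ω i
      have htop : (⊤ : Submodule A E) = ⊥ := by
        refine Submodule.eq_bot_of_le_smul_of_le_jacobson_bot (IsLocalRing.maximalIdeal A) ⊤ Module.Finite.fg_top
          (fun φ _ => ?_) (IsLocalRing.jacobson_eq_maximalIdeal ⊥ bot_ne_top).ge
        obtain ⟨ψ, rfl⟩ := hδ φ (Subsingleton.elim _ _)
        have hmap : inDMap f ≫ ψ = x • ψ := by
          change (DerivedCategory.singleFunctor (ModuleCat.{u} A) 0).map (x • 𝟙 (ModuleCat.of A M)) ≫ ψ = _
          rw [Functor.map_smul, CategoryTheory.Functor.map_id, Linear.smul_comp]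
          exact congrArg (x • ·) (Category.id_comp ψ)
        rw [hmap]
        exact Submodule.smul_mem_smul hxm trivial
      exact subsingleton_of_forall_eq 0 fun φ => (Submodule.mem_bot A).1 (htop ▸ (trivial : φ ∈ (⊤ : Submodule A E)))
    refine ⟨hzero, ?_⟩
    by_contra hcon
    rw [not_nontrivial_iff_subsingleton] at hcon
    have hsub := subsingleton_hom_inD_right hf hg hfg ω (N - (k + 1 : ℕ)) hcon
      (hzero _ (by omega))
    rw [show N - ((k + 1 : ℕ) : ℤ) + 1 = N - (k : ℤ) by push_cast; omega] at hsub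
    exact not_subsingleton _ hsub

omit [IsLocalRing A] in
/-- The depth of a nonzero finite module is finite. -/
lemma exists_depth_eq [IsLocalRing A] (M : Type u) [AddCommGroup M] [Module A M] [Module.Finite A M] [Nontrivial M] :
    ∃ k : ℕ, LocCoh.depth A M = k := by
  obtain ⟨rs, -, -, hlen⟩ := Groth.Agent.LC.exists_idealDepth_eq_length (IsLocalRing.maximalIdeal A)
    (maximalIdeal_smul_top_ne_top (A := A) M)
  exact ⟨rs.length, hlen⟩

/-- Depth is characterised by Ext into a normalized dualizing complex. -/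
theorem depth_eq_iff_ext (hω : Dual.IsDualizing A ω) (hN : Dual.IsNormalized A ω) (M : Type u) [AddCommGroup M]
    [Module A M] [Module.Finite A M] [Nontrivial M] (k : ℕ) :
    LocCoh.depth A M = k ↔ (∀ δ : ℕ, δ < k → Subsingleton (Dual.inD A M ⟶ ω⟦-(δ : ℤ)⟧)) ∧
      Nontrivial (Dual.inD A M ⟶ ω⟦-(k : ℤ)⟧) := by
  obtain ⟨n, hn, h0, -, -, -⟩ := exists_normalized_degree hω hN
  obtain ⟨a, b, -, _, _⟩ := exists_bounds_of_isDualizing hω
  obtain ⟨k₀, hk₀⟩ := exists_depth_eq (A := A) M
  obtain ⟨hvan, hnt⟩ := ext_of_depth hn a hω.finite_cohomology k₀ M hk₀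
  rw [h0, zero_sub] at hnt
  simp only [h0, zero_sub] at hvan
  refine ⟨fun h => ?_, fun ⟨hlow, htop⟩ => ?_⟩
  · obtain rfl : k = k₀ := by
      rw [hk₀] at h
      exact_mod_cast h.symm
    exact ⟨fun δ hδ => hvan _ (by omega), hnt⟩
  · rw [hk₀]
    rcases lt_trichotomy k₀ k with h | h | h
    · haveI := hlow k₀ h
      exact absurd ‹Subsingleton _› (not_subsingleton _)
    · rw [h]
    · haveI := hvan (-(k : ℤ)) (by omega)
      exact absurd ‹Subsingleton _› (not_subsingleton _)

end Groth.Agent.KFlatLib
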