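import Groth.Agent.KFlatLib.Ring.DualizingFlat
import Mathlib.RingTheory.TensorProduct.Finite
import Mathlib.LinearAlgebra.TensorProduct.Tower

/-!
# Descent of dualizing complexes along flat covers
-/

set_option linter.style.haveILetI false
set_option backward.isDefEq.respectTransparency false

universe u

open CategoryTheory CategoryTheory.Limits Pretriangulated MonoidalCategory

open scoped TensorProduct

attribute [local instance] HasDerivedCategory.standard

namespace Groth.Agent.KFlatLib

/-- An algebra which is free of rank one as a module is the base ring. -/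
lemma bijective_algebraMap_of_linearEquiv {B R : Type*} [CommRing B] [Ring R] [Algebra B R]
    (e : R ≃ₗ[B] B) : Function.Bijective (algebraMap B R) := by
  let g := e.symm 1
  have hg : ∀ x : R, x = e x • g := fun x => by
    rw [← map_smul, smul_eq_mul, mul_one, e.symm_apply_apply]
  have h1 : g = (e 1 * e (g * g)) • g := by
    calc g = 1 * g := (one_mul g).symm
      _ = (e 1 • g) * g := congrArg (· * g) (hg 1)
      _ = e 1 • (g * g) := smul_mul_assoc _ _ _
      _ = _ := by rw [mul_smul, ← hg (g * g)]
  have hc : e 1 * e (g * g) = 1 := by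
    have := congrArg e h1
    rw [map_smul, show e g = 1 from e.apply_symm_apply 1, smul_eq_mul, mul_one] at this
    exact this.symm
  refine ⟨fun a b h => ?_, fun x => ⟨e x * e (g * g), e.injective ?_⟩⟩
  · have h' : a * e 1 = b * e 1 := by
      have := congrArg e h
      simpa only [Algebra.algebraMap_eq_smul_one, map_smul, smul_eq_mul] using this
    calc a = a * e 1 * e (g * g) := by rw [mul_assoc, hc, mul_one]
      _ = b * e 1 * e (g * g) := by rw [h']
      _ = b := by rw [mul_assoc, hc, mul_one]
  · rw [Algebra.algebraMap_eq_smul_one, map_smul, smul_eq_mul, mul_assoc, mul_comm (e (g * g)), hc,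
      mul_one]

section Family

variable {A : Type u} [CommRing A] {ι : Type*} {B : ι → Type u} [∀ i, CommRing (B i)]
  [∀ i, Algebra A (B i)] [∀ i, Module.Flat A (B i)]

/-- A flat family hitting every maximal ideal detects the zero module. -/
lemma subsingleton_of_family (hB : ∀ m : Ideal A, m.IsMaximal → ∃ i, m.map (algebraMap A (B i)) ≠ ⊤)
    (M : Type*) [AddCommGroup M] [Module A M] (h : ∀ i, Subsingleton (B i ⊗[A] M)) :
    Subsingleton M := by
  refine subsingleton_of_forall_eq 0 fun x => by_contra fun hx => ?_
  have hne : Ideal.torsionOf A M x ≠ ⊤ := fun h' => hx (by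
    have : (1 : A) ∈ Ideal.torsionOf A M x := h' ▸ trivial
    simpa using this)
  obtain ⟨m, hm, hle⟩ := Ideal.exists_le_maximal _ hne
  obtain ⟨i, hi⟩ := hB m hm
  let f : (A ⧸ Ideal.torsionOf A M x) →ₗ[A] M :=
    (A ∙ x).subtype.comp (Ideal.quotTorsionOfEquivSpanSingleton A M x).toLinearMap
  have hf : Function.Injective f :=
    (Submodule.injective_subtype _).comp (LinearEquiv.injective _)
  haveI := h i
  haveI : Subsingleton (B i ⊗[A] (A ⧸ Ideal.torsionOf A M x)) :=
    (Module.Flat.lTensor_preserves_injective_linearMap (M := B i) f hf).subsingleton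
  haveI : Subsingleton (B i ⧸ (Ideal.torsionOf A M x).map (algebraMap A (B i))) :=
    (Algebra.TensorProduct.quotIdealMapEquivTensorQuot (A := A) (B i) (Ideal.torsionOf A M x)).toEquiv.subsingleton
  exact hi (top_le_iff.1 ((Ideal.Quotient.subsingleton_iff.1 ‹_›).ge.trans (Ideal.map_mono hle)))

/-- Finiteness descends along a finite flat cover. -/
lemma finite_of_family [Finite ι]
    (hB : ∀ m : Ideal A, m.IsMaximal → ∃ i, m.map (algebraMap A (B i)) ≠ ⊤)
    (M : Type*) [AddCommGroup M] [Module A M] (h : ∀ i, Module.Finite (B i) (B i ⊗[A] M)) :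
    Module.Finite A M := by
  classical
  have key : ∀ i, ∃ N : Submodule A M, N.FG ∧ Subsingleton (B i ⊗[A] (M ⧸ N)) := by
    intro i
    obtain ⟨s, hs⟩ := (h i).fg_top
    have hx : ∀ t : B i ⊗[A] M, ∃ N : Submodule A M, N.FG ∧ t ∈ LinearMap.range (N.subtype.baseChange (B i)) := by
      intro t
      induction t using TensorProduct.induction_on with
      | zero => exact ⟨⊥, Submodule.fg_bot, zero_mem _⟩
      | tmul b m =>
        exact ⟨A ∙ m, Submodule.fg_span_singleton m,
          ⟨b ⊗ₜ ⟨m, Submodule.mem_span_singleton_self m⟩, by simp⟩⟩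
      | add t t' ht ht' =>
        obtain ⟨N, hN, ⟨w, hw⟩⟩ := ht
        obtain ⟨N', hN', ⟨w', hw'⟩⟩ := ht'
        refine ⟨N ⊔ N', hN.sup hN', ⟨(Submodule.inclusion le_sup_left).baseChange (B i) w +
          (Submodule.inclusion le_sup_right).baseChange (B i) w', ?_⟩⟩
        rw [map_add, ← LinearMap.comp_apply, ← LinearMap.comp_apply, ← LinearMap.baseChange_comp,
          ← LinearMap.baseChange_comp, Submodule.subtype_comp_inclusion, Submodule.subtype_comp_inclusion,
          hw, hw']
    choose N hN hmem using hx
    refine ⟨s.sup N, Submodule.fg_finset_sup _ _ fun t _ => hN t, subsingleton_of_forall_eq 0 fun y => ?_⟩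
    obtain ⟨t, rfl⟩ := LinearMap.lTensor_surjective (B i) (Submodule.mkQ_surjective (s.sup N)) y
    have hle : (⊤ : Submodule (B i) (B i ⊗[A] M)) ≤ LinearMap.range ((s.sup N).subtype.baseChange (B i)) := by
      rw [← hs, Submodule.span_le]
      intro t ht
      obtain ⟨w, hw⟩ := hmem t
      exact ⟨(Submodule.inclusion (Finset.le_sup ht)).baseChange (B i) w, by
        rw [← LinearMap.comp_apply, ← LinearMap.baseChange_comp, Submodule.subtype_comp_inclusion, hw]⟩
    obtain ⟨w, hw⟩ := hle (trivial : t ∈ ⊤)
    exact ((lTensor_exact (B i) (LinearMap.exact_subtype_mkQ _) (Submodule.mkQ_surjective _)) t).2 ⟨w, hw⟩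
  choose N hN hsub using key
  cases nonempty_fintype ι
  have htop : Finset.univ.sup N = ⊤ := by
    refine Submodule.Quotient.subsingleton_iff.1 (subsingleton_of_family hB _ fun i => ?_)
    haveI := hsub i
    exact (LinearMap.lTensor_surjective (B i)
      (Submodule.factor_surjective (Finset.le_sup (Finset.mem_univ i) (f := N)))).subsingleton
  exact ⟨htop ▸ Submodule.fg_finset_sup _ _ fun i _ => hN i⟩

variable [∀ i, DTen.HasLBase (algebraMap A (B i))]

/-- Being dualizing is detected on a flat cover, given finiteness over the base. -/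
theorem isDualizing_of_family [IsNoetherianRing A]
    (hB : ∀ m : Ideal A, m.IsMaximal → ∃ i, m.map (algebraMap A (B i)) ≠ ⊤)
    {K : Dual.D A} (a b : ℤ) [K.IsGE a] [K.IsLE b]
    (hfin : ∀ j : ℤ, Module.Finite A (Dual.HD A K j))
    (hinj : ∃ a b : ℤ, ∀ (M : Type u) [AddCommGroup M] [Module A M] (i : ℤ),
      (i < a ∨ b < i) → Subsingleton (Dual.inD A M ⟶ K⟦i⟧))
    (hloc : ∀ i, Dual.IsDualizing (B i) ((DTen.LBase (algebraMap A (B i))).obj K)) :
    Dual.IsDualizing A K := by
  haveI := hasLTen A
  haveI := hasRHom (A := A)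
  have hpc := pc'_of_finite_hd K b hfin
  refine ⟨inferInstance, hinj, hfin, ?_, fun j hj => ?_⟩
  · let c : A →ₗ[A] End K := Algebra.linearMap A (End K)
    have hbij : ∀ i, Function.Bijective (c.lTensor (B i)) := by
      intro i
      obtain ⟨e⟩ := exists_homBaseChangeLEquiv (B := B i) (Y := K) hpc a 0
      let z : (K ⟶ K⟦(0 : ℤ)⟧) ≃ₗ[A] End K :=
        Linear.homCongr A (Iso.refl K) ((shiftFunctorZero (Dual.D A) ℤ).app K)
      let L := (DTen.LBase (algebraMap A (B i))).obj K
      let d : B i →ₗ[B i] (L ⟶ L) :=
        { toFun := fun x => x • 𝟙 L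
          map_add' := fun x y => add_smul x y _
          map_smul' := fun x y => mul_smul x y _ }
      have hmap := bijective_algebraMap_of_linearEquiv (B := B i) (R := B i ⊗[A] End K)
        ((TensorProduct.AlgebraTensorModule.congr (LinearEquiv.refl (B i) (B i)) z).symm.trans
          (e.symm.trans ((Linear.homCongr (B i) (Iso.refl L) ((shiftFunctorZero (Dual.D (B i)) ℤ).app L)).trans
            (LinearEquiv.ofBijective d (hloc i).toEnd_bijective).symm)))
      have : (c.lTensor (B i) : B i ⊗[A] A → B i ⊗[A] End K) =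
          algebraMap (B i) (B i ⊗[A] End K) ∘ TensorProduct.rid A (B i) := by
        funext t
        obtain ⟨x, rfl⟩ := (TensorProduct.rid A (B i)).symm.surjective t
        simp only [Function.comp_apply, LinearEquiv.apply_symm_apply, TensorProduct.rid_symm_apply,
          LinearMap.lTensor_tmul, Algebra.TensorProduct.algebraMap_apply]
        simp [c]
      rw [this]
      exact hmap.comp (LinearEquiv.bijective _)
    have hcb : Function.Bijective c := by
      constructor
      · rw [← LinearMap.ker_eq_bot, ← Submodule.subsingleton_iff_eq_bot]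
        refine subsingleton_of_family hB _ fun i => ?_
        have hinj' := Module.Flat.lTensor_preserves_injective_linearMap (M := B i)
          (LinearMap.ker c).subtype (Submodule.injective_subtype _)
        refine subsingleton_of_forall_eq 0 fun t => hinj' ((hbij i).1 ?_)
        rw [map_zero, map_zero, ← LinearMap.comp_apply, ← LinearMap.lTensor_comp,
          LinearMap.comp_ker_subtype, LinearMap.lTensor_zero, LinearMap.zero_apply]
      · rw [← LinearMap.range_eq_top, ← Submodule.Quotient.subsingleton_iff]
        refine subsingleton_of_family hB _ fun i => subsingleton_of_forall_eq 0 fun y => ?_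
        obtain ⟨t, rfl⟩ := LinearMap.lTensor_surjective (B i)
          (Submodule.mkQ_surjective (LinearMap.range c)) y
        obtain ⟨w, rfl⟩ := (hbij i).2 t
        rw [← LinearMap.comp_apply, ← LinearMap.lTensor_comp, LinearMap.range_mkQ_comp,
          LinearMap.lTensor_zero, LinearMap.zero_apply]
    have : (fun x : A => x • 𝟙 K) = c := by
      funext x
      exact (Algebra.algebraMap_eq_smul_one (A := End K) x).symm
    rw [this]
    exact hcb
  · refine subsingleton_of_family hB _ fun i => ?_
    obtain ⟨e⟩ := exists_homBaseChangeLEquiv (B := B i) (Y := K) hpc a j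
    haveI := (hloc i).ext_self_subsingleton j hj
    exact e.symm.injective.subsingleton

/-- Being dualizing descends along a finite flat cover. -/
theorem isDualizing_of_finite_family [IsNoetherianRing A] [Finite ι]
    (hB : ∀ m : Ideal A, m.IsMaximal → ∃ i, m.map (algebraMap A (B i)) ≠ ⊤)
    {K : Dual.D A} (hloc : ∀ i, Dual.IsDualizing (B i) ((DTen.LBase (algebraMap A (B i))).obj K)) :
    Dual.IsDualizing A K := by
  classical
  cases nonempty_fintype ι
  choose a b hab hGE hLE using fun i => exists_bounds_of_isDualizing (hloc i)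
  obtain ⟨α, hα⟩ : ∃ α : ℤ, ∀ i, α ≤ a i :=
    (Finset.univ.image a).bddBelow.imp fun α h i => h (by simp)
  obtain ⟨β, hβ⟩ : ∃ β : ℤ, ∀ i, b i ≤ β :=
    (Finset.univ.image b).bddAbove.imp fun β h i => h (by simp)
  have hz : ∀ j : ℤ, (j < α ∨ β < j) → Subsingleton (Dual.HD A K j) := by
    intro j hj
    refine subsingleton_of_family hB _ fun i => ?_
    obtain ⟨e⟩ := exists_hdLBaseLEquiv (B := B i) K j
    have := hα i; have := hβ i
    haveI := hGE i; haveI := hLE i
    haveI : Subsingleton (Dual.HD (B i) ((DTen.LBase (algebraMap A (B i))).obj K) j) := by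
      refine ModuleCat.subsingleton_of_isZero ?_
      rcases hj with hj | hj
      · exact DerivedCategory.isZero_of_isGE _ (a i) j (by omega)
      · exact DerivedCategory.isZero_of_isLE _ (b i) j (by omega)
    exact e.symm.injective.subsingleton
  haveI : K.IsGE α := (DerivedCategory.isGE_iff _ _).2 fun j hj =>
    @ModuleCat.isZero_of_subsingleton _ _ _ (hz j (Or.inl hj))
  haveI : K.IsLE β := (DerivedCategory.isLE_iff _ _).2 fun j hj =>
    @ModuleCat.isZero_of_subsingleton _ _ _ (hz j (Or.inr hj))
  have hfin : ∀ j : ℤ, Module.Finite A (Dual.HD A K j) := fun j =>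
    finite_of_family hB _ fun i => by
      obtain ⟨e⟩ := exists_hdLBaseLEquiv (B := B i) K j
      haveI := (hloc i).finite_cohomology j
      exact Module.Finite.equiv e
  refine isDualizing_of_family hB α β hfin ⟨α, β, ?_⟩ hloc
  intro M _ _ j hj
  obtain ⟨E, hz', hE, ⟨e⟩⟩ := hasInjAmplitudeIn_of_maximal K α β hfin fun m hm j hj =>
    subsingleton_of_family hB _ fun i => by
      obtain ⟨eI⟩ := nonempty_LBase_inD_quotient (B := B i) m
      obtain ⟨e⟩ := exists_homBaseChangeLEquiv (B := B i) (X := Dual.inD A (A ⧸ m)) (Y := K)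
        ((Groth.Agent.S6942.result A 0 K (A ⧸ m)).2.2 inferInstance) α j
      obtain ⟨E, hz', hE, ⟨e'⟩⟩ := hab i
      have := hβ i
      haveI := H9Misc.DRingInjAmp.ext_subsingleton hz' hE e'
        (ModuleCat.of (B i) (B i ⧸ m.map (algebraMap A (B i)))) j (Or.inr (by omega))
      haveI : Subsingleton ((DTen.LBase (algebraMap A (B i))).obj (Dual.inD A (A ⧸ m)) ⟶
          ((DTen.LBase (algebraMap A (B i))).obj K)⟦j⟧) := eI.homFromEquiv.subsingleton
      exact e.symm.injective.subsingleton
  exact H9Misc.DRingInjAmp.ext_subsingleton hz' hE e (ModuleCat.of A M) j hj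

end Family

end Groth.Agent.KFlatLib
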