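import Groth.Agent.KFlatLib.Ring.DualizingPoint
import Groth.Agent.KFlatLib.Ring.DualizingDescent
import Mathlib.RingTheory.Ideal.KrullsHeightTheorem
import Mathlib.RingTheory.Localization.BaseChange
import Mathlib.RingTheory.Spectrum.Prime.Basic

/-!
# The dimension function of a dualizing complex
-/

set_option linter.style.haveILetI false
set_option backward.isDefEq.respectTransparency false

universe u

open CategoryTheory CategoryTheory.Limits Pretriangulated MonoidalCategory

open scoped TensorProduct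

attribute [local instance] HasDerivedCategory.standard

namespace Groth.Agent.KFlatLib

section Devissage

variable {A : Type u} [CommRing A]

/-- Vanishing at the two ends of a colon sequence gives vanishing in the middle. -/
lemma subsingleton_hom_of_colon (Y : Dual.D A) (I : Ideal A) (x : A) (i : ℤ)
    (h₁ : Subsingleton (Dual.inD A (A ⧸ (Submodule.comap (LinearMap.mulLeft A x) I : Ideal A)) ⟶ Y⟦i⟧))
    (h₂ : Subsingleton (Dual.inD A (A ⧸ (I ⊔ Ideal.span {x})) ⟶ Y⟦i⟧)) :
    Subsingleton (Dual.inD A (A ⧸ I) ⟶ Y⟦i⟧) := by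
  obtain ⟨φ, ψ, w, hS, -⟩ := exists_colon_ses I x
  refine subsingleton_of_forall_eq 0 fun f => ?_
  obtain ⟨g, hg⟩ := Triangle.yoneda_exact₂ _ hS.singleTriangle_distinguished f
    (Subsingleton.elim (α := Dual.inD A (A ⧸ (Submodule.comap (LinearMap.mulLeft A x) I : Ideal A)) ⟶ Y⟦i⟧) _ _)
  rw [hg, Subsingleton.elim (α := Dual.inD A (A ⧸ (I ⊔ Ideal.span {x})) ⟶ Y⟦i⟧) g 0]
  exact comp_zero

/-- Vanishing one degree up at the hyperplane section gives divisibility. -/
lemma exists_smul_eq_of_colon (Y : Dual.D A) (I : Ideal A) (hp : I.IsPrime) (x : A) (hx : x ∉ I) (i : ℤ)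
    (h : Subsingleton (Dual.inD A (A ⧸ (I ⊔ Ideal.span {x})) ⟶ Y⟦i + 1⟧))
    (f : Dual.inD A (A ⧸ I) ⟶ Y⟦i⟧) : ∃ g : Dual.inD A (A ⧸ I) ⟶ Y⟦i⟧, f = x • g := by
  have hJ : (Submodule.comap (LinearMap.mulLeft A x) I : Ideal A) = I := by
    ext c
    exact ⟨fun hc => (hp.mem_or_mem hc).resolve_left hx, fun hc => I.mul_mem_left x hc⟩
  obtain ⟨φ, ψ, w, hS, hφ⟩ := exists_colon_ses I x
  let eJ : ModuleCat.of A (A ⧸ (Submodule.comap (LinearMap.mulLeft A x) I : Ideal A)) ≅ ModuleCat.of A (A ⧸ I) :=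
    (Submodule.quotEquivOfEq _ _ hJ).toModuleIso
  have hφ' : φ = x • eJ.hom := ModuleCat.hom_ext (LinearMap.ext fun z => by
    obtain ⟨c, rfl⟩ := Submodule.Quotient.mk_surjective _ z
    exact hφ c)
  let S := DerivedCategory.singleFunctor (ModuleCat.{u} A) 0
  obtain ⟨g, hg⟩ := Triangle.yoneda_exact₂ _ (inv_rot_of_distTriang _ hS.singleTriangle_distinguished)
    (S.map eJ.hom ≫ f) (by
      let F := shiftEquiv' (Dual.D A) (-1 : ℤ) 1 (by omega)
      refine (F.toAdjunction.homEquiv _ _).injective ?_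
      let e := ((shiftFunctorAdd' (Dual.D A) i 1 (i + 1) rfl).app Y).symm
      exact (cancel_mono e.hom).1 (Subsingleton.elim (α := Dual.inD A (A ⧸ (I ⊔ Ideal.span {x})) ⟶ Y⟦i + 1⟧) _ _))
  refine ⟨g, (cancel_epi (S.map eJ.hom)).1 (hg.trans ?_)⟩
  rw [Linear.comp_smul, ← Linear.smul_comp]
  refine congrArg (· ≫ g) ?_
  change S.map φ = _
  rw [hφ', Functor.map_smul]

/-- Vanishing at a maximal ideal gives vanishing at everything containing a power of it. -/
theorem subsingleton_hom_of_pow_le [IsNoetherianRing A] (Y : Dual.D A) (m : Ideal A) [m.IsMaximal] (i : ℤ)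
    (h : Subsingleton (Dual.inD A (A ⧸ m) ⟶ Y⟦i⟧)) (J : Ideal A) :
    ∀ k : ℕ, m ^ k ≤ J → Subsingleton (Dual.inD A (A ⧸ J) ⟶ Y⟦i⟧) := by
  induction J using WellFoundedGT.induction with
  | _ J ih =>
    intro k hk
    by_cases hJ : J = ⊤
    · subst hJ
      haveI : Subsingleton (A ⧸ (⊤ : Ideal A)) := Submodule.Quotient.subsingleton_iff.2 rfl
      exact subsingleton_of_forall_eq 0 fun f => ((DerivedCategory.singleFunctor (ModuleCat.{u} A) 0).map_isZero
        (ModuleCat.isZero_of_subsingleton _)).eq_of_src f 0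
    -- the last power of `m` outside `J`
    classical
    have hex : ∃ k : ℕ, m ^ k ≤ J := ⟨k, hk⟩
    obtain ⟨l, hl⟩ : ∃ l, Nat.find hex = l + 1 := by
      refine Nat.exists_eq_succ_of_ne_zero fun h0 => hJ ?_
      have := Nat.find_spec hex
      rw [h0, pow_zero, Ideal.one_eq_top, top_le_iff] at this
      exact this
    obtain ⟨x, hxm, hxJ⟩ := Set.not_subset.1 (Nat.find_min hex (by omega : l < Nat.find hex))
    have hcolon : (Submodule.comap (LinearMap.mulLeft A x) J : Ideal A) = m := by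
      refine (Ideal.IsMaximal.eq_of_le ‹m.IsMaximal› (fun e => hxJ ?_) fun c hc => ?_).symm
      · have : (1 : A) ∈ (Submodule.comap (LinearMap.mulLeft A x) J : Ideal A) := e ▸ trivial
        simpa using this
      · have := Nat.find_spec hex
        rw [hl, pow_succ] at this
        exact this (Ideal.mul_mem_mul hxm hc)
    refine subsingleton_hom_of_colon Y J x i ?_ ?_
    · rw [hcolon]
      exact h
    · exact ih _ (lt_of_le_of_ne le_sup_left fun e =>
        hxJ (e ▸ Submodule.mem_sup_right (Ideal.mem_span_singleton_self x))) k (hk.trans le_sup_left)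

/-- Finiteness of Ext out of a cyclic module. -/
lemma finite_hom_quotient [IsNoetherianRing A] (Y : Dual.D A) (a : ℤ) [Y.IsGE a]
    (hY : ∀ i : ℤ, Module.Finite A (Dual.HD A Y i)) (I : Ideal A) (i : ℤ) :
    Module.Finite A (Dual.inD A (A ⧸ I) ⟶ Y⟦i⟧) := by
  haveI : DerivedCategory.IsGE (Y⟦i⟧) (a - i) :=
    DerivedCategory.TStructure.t.isGE_shift Y a i (a - i) (by omega)
  refine finite_hom_of_pc ((Groth.Agent.S6942.result A 0 (Dual.inD A (A ⧸ I)) (A ⧸ I)).2.2 inferInstance)
    (a - i) fun j => ?_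
  haveI : Module.Finite A (((DerivedCategory.homologyFunctor (ModuleCat.{u} A) 0).shift (j + i)).obj Y) :=
    hY (j + i)
  exact Module.Finite.equiv ((((DerivedCategory.homologyFunctor (ModuleCat.{u} A) 0).shiftIso i j (j + i)
    (by omega)).app Y).symm.toLinearEquiv)

/-- One step below the closed point the Ext sits one degree lower. -/
theorem subsingleton_hom_of_coheight_one [IsLocalRing A] [IsNoetherianRing A] (Y : Dual.D A) (a : ℤ) [Y.IsGE a]
    (hY : ∀ i : ℤ, Module.Finite A (Dual.HD A Y i)) (n : ℤ)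
    (h : ∀ i : ℤ, i ≠ n → Subsingleton (Dual.inD A (A ⧸ IsLocalRing.maximalIdeal A) ⟶ Y⟦i⟧))
    (p : Ideal A) [hp : p.IsPrime] (hne : p ≠ IsLocalRing.maximalIdeal A)
    (hcov : ∀ q : Ideal A, q.IsPrime → p < q → q = IsLocalRing.maximalIdeal A) (i : ℤ) (hi : i ≠ n - 1) :
    Subsingleton (Dual.inD A (A ⧸ p) ⟶ Y⟦i⟧) := by
  let m := IsLocalRing.maximalIdeal A
  obtain ⟨x, hxm, hxp⟩ := SetLike.exists_of_lt
    (lt_of_le_of_ne (IsLocalRing.le_maximalIdeal hp.ne_top) hne)
  have hrad : m ≤ (p ⊔ Ideal.span {x}).radical := by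
    rw [Ideal.radical_eq_sInf]
    refine le_sInf fun q hq => ?_
    have : p < q := lt_of_le_of_ne (le_sup_left.trans hq.1) fun e =>
      hxp (e.symm ▸ hq.1 (Submodule.mem_sup_right (Ideal.mem_span_singleton_self x)))
    rw [hcov q hq.2 this]
  obtain ⟨k, hk⟩ := Ideal.exists_pow_le_of_le_radical_of_fg hrad (IsNoetherian.noetherian m)
  haveI := finite_hom_quotient Y a hY p i
  have hsub := subsingleton_hom_of_pow_le Y m (i + 1) (h (i + 1) (by omega)) _ k hk
  let E := Dual.inD A (A ⧸ p) ⟶ Y⟦i⟧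
  have htop : (⊤ : Submodule A E) = ⊥ := by
    refine Submodule.eq_bot_of_le_smul_of_le_jacobson_bot m ⊤ Module.Finite.fg_top (fun f _ => ?_)
      (IsLocalRing.jacobson_eq_maximalIdeal ⊥ bot_ne_top).ge
    obtain ⟨g, rfl⟩ := exists_smul_eq_of_colon Y p hp x hxp i hsub f
    exact Submodule.smul_mem_smul hxm Submodule.mem_top
  exact subsingleton_of_forall_eq 0 fun f => (Submodule.mem_bot A).1 (htop ▸ (trivial : f ∈ (⊤ : Submodule A E)))

end Devissage

section Localized

variable {A : Type u} [CommRing A] [IsNoetherianRing A] {ω : Dual.D A}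

/-- Ext at a prime is Ext at the closed point of the local ring. -/
lemma exists_localExtLEquiv (a : ℤ) [ω.IsGE a] (q : Ideal A) [q.IsPrime]
    [DTen.HasLBase (algebraMap A (Localization.AtPrime q))] (I : Ideal A) (i : ℤ) :
    Nonempty ((Dual.inD (Localization.AtPrime q)
        (Localization.AtPrime q ⧸ I.map (algebraMap A (Localization.AtPrime q))) ⟶
          ((DTen.LBase (algebraMap A (Localization.AtPrime q))).obj ω)⟦i⟧) ≃
      LocalizedModule q.primeCompl (Dual.inD A (A ⧸ I) ⟶ ω⟦i⟧)) := by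
  haveI : Module.Flat A (Localization.AtPrime q) := IsLocalization.flat _ q.primeCompl
  obtain ⟨eI⟩ := nonempty_LBase_inD_quotient (B := Localization.AtPrime q) I
  obtain ⟨e⟩ := exists_homBaseChangeLEquiv (B := Localization.AtPrime q) (X := Dual.inD A (A ⧸ I)) (Y := ω)
    ((Groth.Agent.S6942.result A 0 ω (A ⧸ I)).2.2 inferInstance) a i
  exact ⟨eI.homFromEquiv.symm.trans (e.toEquiv.trans
    (LocalizedModule.equivTensorProduct q.primeCompl (Dual.inD A (A ⧸ I) ⟶ ω⟦i⟧)).symm.toEquiv)⟩

/-- Where the localization is dualizing exactly one localized Ext survives. -/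
theorem exists_unique_ext_of_local (a : ℤ) [ω.IsGE a] (q : Ideal A) [q.IsPrime]
    [DTen.HasLBase (algebraMap A (Localization.AtPrime q))]
    (hB : Dual.IsDualizing (Localization.AtPrime q)
      ((DTen.LBase (algebraMap A (Localization.AtPrime q))).obj ω)) :
    ∃ n : ℤ, ∀ i : ℤ, Nontrivial (LocalizedModule q.primeCompl (Dual.inD A (A ⧸ q) ⟶ ω⟦i⟧)) ↔ i = n := by
  let B := Localization.AtPrime q
  haveI : Module.Flat A B := IsLocalization.flat _ q.primeCompl
  haveI := hasLTen B
  haveI := hasRHom (A := B)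
  haveI : (q.map (algebraMap A B)).IsMaximal := by
    rw [Localization.AtPrime.map_eq_maximalIdeal]
    infer_instance
  obtain ⟨n, hn, ⟨en⟩⟩ := exists_unique_ext_point (q.map (algebraMap A B)) hB
  refine ⟨n, fun i => ⟨fun h => ?_, fun h => ?_⟩⟩
  · obtain ⟨e⟩ := exists_localExtLEquiv (ω := ω) a q q i
    by_contra hne
    haveI := hn i hne
    haveI : Subsingleton (LocalizedModule q.primeCompl (Dual.inD A (A ⧸ q) ⟶ ω⟦i⟧)) := e.symm.subsingleton
    exact not_subsingleton _ this
  · subst h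
    obtain ⟨e⟩ := exists_localExtLEquiv (ω := ω) a q q i
    haveI : Nontrivial (B ⧸ q.map (algebraMap A B)) := Ideal.Quotient.nontrivial_iff.2 (Ideal.IsMaximal.ne_top ‹_›)
    exact (e.symm.trans en.toEquiv).nontrivial

/-- At each prime exactly one localized Ext survives. -/
theorem exists_unique_ext_prime (hω : Dual.IsDualizing A ω) (q : Ideal A) [q.IsPrime] :
    ∃ n : ℤ, ∀ i : ℤ, Nontrivial (LocalizedModule q.primeCompl (Dual.inD A (A ⧸ q) ⟶ ω⟦i⟧)) ↔ i = n := by
  haveI := hasLBase (algebraMap A (Localization.AtPrime q))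
  haveI : Module.Flat A (Localization.AtPrime q) := IsLocalization.flat _ q.primeCompl
  obtain ⟨a, b, -, _, _⟩ := exists_bounds_of_isDualizing hω
  exact exists_unique_ext_of_local a q (isDualizing_LBase hω fun n _ =>
    ⟨n.comap (algebraMap A (Localization.AtPrime q)), IsLocalization.map_comap q.primeCompl _ n⟩)

/-- Across an immediate specialisation the degree goes up by one. -/
theorem ext_degree_of_covBy (a : ℤ) [ω.IsGE a] (hfin : ∀ j : ℤ, Module.Finite A (Dual.HD A ω j)) (p q : Ideal A) [p.IsPrime] [q.IsPrime] (hpq : p < q)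
    (hcov : ∀ r : Ideal A, r.IsPrime → p < r → r ≤ q → r = q) {i n : ℤ}
    (hi : Nontrivial (LocalizedModule p.primeCompl (Dual.inD A (A ⧸ p) ⟶ ω⟦i⟧)))
    (hn : ∀ j : ℤ, j ≠ n → Subsingleton (LocalizedModule q.primeCompl (Dual.inD A (A ⧸ q) ⟶ ω⟦j⟧))) :
    i = n - 1 := by
  let B := Localization.AtPrime q
  haveI := hasLBase (algebraMap A B)
  haveI : Module.Flat A B := IsLocalization.flat _ q.primeCompl
  by_contra hne
  have hd : Disjoint (q.primeCompl : Set A) (p : Set A) :=
    Set.disjoint_left.2 fun x hx hxp => hx (hpq.le hxp)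
  haveI : (p.map (algebraMap A B)).IsPrime :=
    IsLocalization.isPrime_of_isPrime_disjoint q.primeCompl B p ‹_› hd
  have hcomap : (p.map (algebraMap A B)).comap (algebraMap A B) = p :=
    IsLocalization.comap_map_of_isPrime_disjoint q.primeCompl B ‹_› hd
  haveI := isGE_LBase_flat (B := B) ω a
  have hmap : q.map (algebraMap A B) = IsLocalRing.maximalIdeal B := Localization.AtPrime.map_eq_maximalIdeal
  have key := subsingleton_hom_of_coheight_one ((DTen.LBase (algebraMap A B)).obj ω) a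
    (fun j => finite_hd_LBase (B := B) ω j (hfin j)) n (fun j hj => by
      obtain ⟨e⟩ := exists_localExtLEquiv (ω := ω) a q q j
      haveI := hn j hj
      rw [← hmap]
      exact e.subsingleton)
    (p.map (algebraMap A B)) (fun e => hpq.ne (by
      rw [← hcomap, e]
      exact IsLocalization.AtPrime.comap_maximalIdeal B q))
    (fun r hr hlt => by
      have h1 : p < r.comap (algebraMap A B) := by
        refine lt_of_le_of_ne (hcomap ▸ Ideal.comap_mono hlt.le) fun e => hlt.ne ?_
        rw [e, IsLocalization.map_comap q.primeCompl B r]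
      have h2 : r.comap (algebraMap A B) ≤ q :=
        (Ideal.comap_mono (IsLocalRing.le_maximalIdeal hr.ne_top)).trans_eq
          (IsLocalization.AtPrime.comap_maximalIdeal B q)
      exact (IsLocalization.map_comap q.primeCompl B r).symm.trans
        ((congrArg (Ideal.map (algebraMap A B)) (hcov _ inferInstance h1 h2)).trans hmap))
    i hne
  obtain ⟨e⟩ := exists_localExtLEquiv (ω := ω) a q p i
  haveI := key
  have hq : Subsingleton (LocalizedModule q.primeCompl (Dual.inD A (A ⧸ p) ⟶ ω⟦i⟧)) := e.symm.subsingleton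
  haveI : Subsingleton (LocalizedModule p.primeCompl (Dual.inD A (A ⧸ p) ⟶ ω⟦i⟧)) := by
    rw [LocalizedModule.subsingleton_iff] at hq ⊢
    exact fun f => (hq f).imp fun r hr => ⟨fun hrp => hr.1 (hpq.le hrp), hr.2⟩
  exact not_subsingleton _ this

/-- The degrees are strictly monotone, and bounded. -/
theorem exists_extDegree (hω : Dual.IsDualizing A ω) :
    ∃ n : PrimeSpectrum A → ℤ,
      (∀ (p : PrimeSpectrum A) (i : ℤ),
        Nontrivial (LocalizedModule p.asIdeal.primeCompl (Dual.inD A (A ⧸ p.asIdeal) ⟶ ω⟦i⟧)) ↔ i = n p) ∧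
      (∀ p q : PrimeSpectrum A, p ⋖ q → n q = n p + 1) ∧ StrictMono n ∧
      ∃ a b : ℤ, ∀ p, a ≤ n p ∧ n p ≤ b := by
  choose n hn using fun p : PrimeSpectrum A => exists_unique_ext_prime hω p.asIdeal
  obtain ⟨a, b, -, _, _⟩ := exists_bounds_of_isDualizing hω
  have hcov : ∀ p q : PrimeSpectrum A, p < q → (∀ r, p < r → r ≤ q → r = q) → n q = n p + 1 := by
    intro p q hpq h
    have := ext_degree_of_covBy a hω.finite_cohomology p.asIdeal q.asIdeal (n := n q) hpq
      (fun r hr h1 h2 => congrArg PrimeSpectrum.asIdeal (h ⟨r, hr⟩ h1 h2)) ((hn p (n p)).2 rfl)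
      (fun j hj => not_nontrivial_iff_subsingleton.1 fun h' => hj ((hn q j).1 h'))
    omega
  refine ⟨n, hn, fun p q h => hcov p q h.1 fun r h1 h2 => h2.eq_or_lt.resolve_right (h.2 h1), ?_, ?_⟩
  · suffices key : ∀ (k : ℕ∞) (q : PrimeSpectrum A), q.asIdeal.height = k → ∀ p, p < q → n p < n q from
      fun p q h => key _ q rfl p h
    intro k
    induction k using WellFoundedLT.induction with
    | _ k ih =>
      intro q hk p hpq
      obtain ⟨r, ⟨hr, hpr, hrq⟩, hmax⟩ := set_has_maximal_iff_noetherian.2 (‹IsNoetherianRing A› : IsNoetherian A A)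
        {r : Ideal A | r.IsPrime ∧ p.asIdeal ≤ r ∧ r < q.asIdeal} ⟨p.asIdeal, p.isPrime, le_rfl, hpq⟩
      let r' : PrimeSpectrum A := ⟨r, hr⟩
      have h1 := hcov r' q hrq fun s h1 h2 => h2.eq_or_lt.resolve_right fun h3 =>
        hmax s.asIdeal ⟨s.isPrime, hpr.trans h1.le, h3⟩ h1
      rcases (show p ≤ r' from hpr).eq_or_lt with h | h
      · rw [h]; omega
      · have := ih (Ideal.height r) (hk ▸ Ideal.height_strict_mono_of_isPrime (I := r) hrq) r' rfl p h
        omega
  · obtain ⟨a, b, hab⟩ := hω.finite_injective_dimension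
    refine ⟨a, b, fun p => ?_⟩
    by_contra hcon
    haveI := hab (A ⧸ p.asIdeal) (n p) (by omega)
    haveI : Subsingleton (LocalizedModule p.asIdeal.primeCompl (Dual.inD A (A ⧸ p.asIdeal) ⟶ ω⟦n p⟧)) :=
      LocalizedModule.subsingleton_iff.2 fun f => ⟨1, one_mem _, Subsingleton.elim _ _⟩
    haveI := (hn p (n p)).2 rfl
    exact not_subsingleton _ ‹Subsingleton (LocalizedModule _ _)›

/-- A ring with a dualizing complex has finite dimension. -/
theorem ringKrullDim_lt_top_of_isDualizing (hω : Dual.IsDualizing A ω) : ringKrullDim A < ⊤ := by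
  obtain ⟨n, -, -, hmono, a, b, hab⟩ := exists_extDegree hω
  refine lt_of_le_of_lt (b := ((((b - a).toNat : ℕ) : ℕ∞) : WithBot ℕ∞)) (iSup_le fun l => ?_)
    (WithBot.coe_lt_coe.2 (WithTop.coe_lt_top _))
  have h1 : ∀ k : ℕ, ∀ hk : k < l.length + 1, n l.head + k ≤ n (l ⟨k, hk⟩) := by
    intro k
    induction k with
    | zero => intro hk; simp [RelSeries.head]
    | succ k ih =>
      intro hk
      have h2 := ih (by omega)
      have h3 := hmono (l.step ⟨k, by omega⟩)
      simp only [Fin.castSucc_mk, Fin.succ_mk] at h3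
      push_cast
      omega
  have h2 := h1 l.length (by omega)
  have h3 := (hab l.head).1
  have h4 := (hab (l ⟨l.length, by omega⟩)).2
  exact_mod_cast (show l.length ≤ (b - a).toNat by omega)

/-- At a minimal prime a dualizing complex has one cohomology module. -/
theorem exists_unique_hd_minimalPrime (hω : Dual.IsDualizing A ω) (p : Ideal A) [p.IsPrime]
    (hp : p ∈ minimalPrimes A) :
    ∃! i : ℤ, Nontrivial (LocalizedModule p.primeCompl (Dual.HD A ω i)) := by
  let B := Localization.AtPrime p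
  haveI := hasLBase (algebraMap A B)
  haveI : Module.Flat A B := IsLocalization.flat _ p.primeCompl
  haveI := hasLTen B
  haveI := hasRHom (A := B)
  have hB : Dual.IsDualizing B ((DTen.LBase (algebraMap A B)).obj ω) :=
    isDualizing_LBase hω fun n _ => ⟨n.comap (algebraMap A B), IsLocalization.map_comap p.primeCompl B n⟩
  obtain ⟨n, hn, -⟩ := exists_unique_ext_point (IsLocalRing.maximalIdeal B) hB
  let W := (DTen.LBase (algebraMap A B)).obj ω
  obtain ⟨k, hk⟩ := Ideal.exists_pow_le_of_le_radical_of_fg (I := IsLocalRing.maximalIdeal B) (J := ⊥) (by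
    rw [Ideal.radical_eq_sInf]
    refine le_sInf fun q hq => le_of_eq ?_
    haveI := hq.2
    have h1 : q.comap (algebraMap A B) ≤ p :=
      (Ideal.comap_mono (IsLocalRing.le_maximalIdeal hq.2.ne_top)).trans_eq
        (IsLocalization.AtPrime.comap_maximalIdeal B p)
    have h2 : q.comap (algebraMap A B) = p := le_antisymm h1 (hp.2 ⟨inferInstance, bot_le⟩ h1)
    exact ((IsLocalization.map_comap p.primeCompl B q).symm.trans
      ((congrArg (Ideal.map (algebraMap A B)) h2).trans Localization.AtPrime.map_eq_maximalIdeal)).symm)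
    (IsNoetherian.noetherian _)
  have hz : ∀ i : ℤ, i ≠ n → Subsingleton (Dual.HD B W i) := by
    intro i hi
    haveI := subsingleton_hom_of_pow_le W (IsLocalRing.maximalIdeal B) i (hn i hi) ⊥ k hk
    obtain ⟨e⟩ := exists_shiftHomLEquiv (DTen.unit B) W i
    obtain ⟨u⟩ := exists_homUnitLEquiv W (-i) i (by omega)
    let eU : Dual.inD B (B ⧸ (⊥ : Ideal B)) ≅ DTen.unit B :=
      (DerivedCategory.singleFunctor (ModuleCat.{u} B) 0).mapIso
        (Submodule.quotEquivOfEqBot (⊥ : Ideal B) rfl).toModuleIso ≪≫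
      (DerivedCategory.singleFunctorIsoCompQ (ModuleCat.{u} B) 0).app (ModuleCat.of B B)
    haveI : Subsingleton (DTen.unit B ⟶ W⟦i⟧) := eU.homFromEquiv.symm.subsingleton
    exact (e.trans u).symm.injective.subsingleton
  have hloc : ∀ i : ℤ, Subsingleton (LocalizedModule p.primeCompl (Dual.HD A ω i)) ↔ Subsingleton (Dual.HD B W i) := by
    intro i
    obtain ⟨e⟩ := exists_hdLBaseLEquiv (B := B) ω i
    exact ((LocalizedModule.equivTensorProduct p.primeCompl (Dual.HD A ω i)).toEquiv.trans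
      e.symm.toEquiv).subsingleton_congr
  refine ⟨n, not_subsingleton_iff_nontrivial.1 fun h => ?_, fun i hi => ?_⟩
  · obtain ⟨a, b, -, _, _⟩ := exists_bounds_of_isDualizing hB
    have hall : ∀ i, IsZero ((DerivedCategory.homologyFunctor (ModuleCat.{u} B) i).obj W) := fun i => by
      by_cases hi : i = n
      · subst hi
        exact @ModuleCat.isZero_of_subsingleton _ _ _ ((hloc _).1 h)
      · exact @ModuleCat.isZero_of_subsingleton _ _ _ (hz i hi)
    haveI : W.IsGE (b + 1) := (DerivedCategory.isGE_iff _ _).2 fun i _ => hall i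
    have hW : IsZero W := DerivedCategory.TStructure.t.isZero W b (b + 1) (by omega)
    have h01 := hB.toEnd_bijective.1 (a₁ := 0) (a₂ := 1) (hW.eq_of_src _ _)
    exact zero_ne_one h01
  · by_contra hne
    exact not_subsingleton _ ((hloc i).2 (hz i hne))

/-- Dualizing at every prime, with finite dimension, bounds the injective dimension. -/
theorem exists_injAmplitude_of_local (hdim : ringKrullDim A < ⊤) (a : ℤ) [ω.IsGE a]
    (hfin : ∀ j : ℤ, Module.Finite A (Dual.HD A ω j))
    (h : ∀ p : PrimeSpectrum A, ∀ [DTen.HasLBase (algebraMap A (Localization.AtPrime p.asIdeal))],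
      Dual.IsDualizing (Localization.AtPrime p.asIdeal)
        ((DTen.LBase (algebraMap A (Localization.AtPrime p.asIdeal))).obj ω)) :
    ∃ b : ℤ, DRing.HasInjAmplitudeIn A a b ω := by
  classical
  haveI : ∀ p : PrimeSpectrum A, DTen.HasLBase (algebraMap A (Localization.AtPrime p.asIdeal)) :=
    fun p => hasLBase _
  choose n hn using fun p : PrimeSpectrum A => exists_unique_ext_of_local (ω := ω) a p.asIdeal (h p)
  obtain ⟨b₀, hb₀⟩ : ∃ b₀ : ℤ, ∀ p : PrimeSpectrum A, p.asIdeal ∈ minimalPrimes A → n p ≤ b₀ := by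
    have hS : {p : PrimeSpectrum A | p.asIdeal ∈ minimalPrimes A}.Finite :=
      Set.Finite.preimage (fun x _ y _ e => PrimeSpectrum.ext e) (minimalPrimes.finite_of_isNoetherianRing A)
    exact (hS.image n).bddAbove.imp fun b hb p hp => hb (Set.mem_image_of_mem n hp)
  have key : ∀ (k : ℕ) (q : PrimeSpectrum A), Ideal.height q.asIdeal = k → n q ≤ b₀ + k := by
    intro k
    induction k using Nat.strong_induction_on with
    | _ k ih =>
      intro q hk
      by_cases hq : q.asIdeal ∈ minimalPrimes A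
      · have := hb₀ q hq
        omega
      obtain ⟨p, hp, hpq⟩ := Ideal.exists_minimalPrimes_le (J := q.asIdeal) (I := (⊥ : Ideal A)) bot_le
      have hlt : p < q.asIdeal := lt_of_le_of_ne hpq fun e => hq (e ▸ hp)
      obtain ⟨r, ⟨hr, hpr, hrq⟩, hmax⟩ := set_has_maximal_iff_noetherian.2 (‹IsNoetherianRing A› : IsNoetherian A A)
        {r : Ideal A | r.IsPrime ∧ p ≤ r ∧ r < q.asIdeal} ⟨p, hp.1.1, le_rfl, hlt⟩
      have h2 := Ideal.height_strict_mono_of_isPrime (I := r) hrq
      obtain ⟨l, hl⟩ := ENat.ne_top_iff_exists.1 (Ideal.height_ne_top (I := r) hr.ne_top)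
      have hlk : l < k := by
        rw [hk, ← hl] at h2
        exact_mod_cast h2
      have h3 := ext_degree_of_covBy a hfin r q.asIdeal (n := n q) hrq
        (fun s hs h1 h2 => h2.eq_or_lt.resolve_right fun h3 => hmax s ⟨hs, hpr.trans h1.le, h3⟩ h1)
        ((hn ⟨r, hr⟩ (n ⟨r, hr⟩)).2 rfl)
        (fun j hj => not_nontrivial_iff_subsingleton.1 fun h' => hj ((hn q j).1 h'))
      have h4 := ih l hlk ⟨r, hr⟩ hl.symm
      omega
  obtain ⟨d, hd⟩ : ∃ d : ℕ, ∀ q : PrimeSpectrum A, Ideal.height q.asIdeal ≤ d := by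
    cases hk : ringKrullDim A with
    | bot => exact ⟨0, fun q => by
        have := hk ▸ Ideal.height_le_ringKrullDim_of_ne_top q.2.ne_top
        simp at this⟩
    | coe e =>
      obtain ⟨d, rfl⟩ := ENat.ne_top_iff_exists.1
        (show e ≠ ⊤ from fun h0 => hdim.ne (by rw [hk, h0]; rfl))
      exact ⟨d, fun q => WithBot.coe_le_coe.1 (hk ▸ Ideal.height_le_ringKrullDim_of_ne_top q.2.ne_top)⟩
  refine ⟨b₀ + d, hasInjAmplitudeIn_of_maximal ω a (b₀ + d) hfin fun m hm j hj => ?_⟩
  let q : PrimeSpectrum A := ⟨m, hm.isPrime⟩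
  obtain ⟨k, hk⟩ := ENat.ne_top_iff_exists.1 (Ideal.height_ne_top (I := m) hm.ne_top)
  have hkd : k ≤ d := by
    have := hd q
    rw [← hk] at this
    exact_mod_cast this
  have h1 := key k q hk.symm
  have hsub : Subsingleton (LocalizedModule m.primeCompl (Dual.inD A (A ⧸ m) ⟶ ω⟦j⟧)) :=
    not_nontrivial_iff_subsingleton.1 fun h' => by
      have := (hn q j).1 h'
      omega
  rw [LocalizedModule.subsingleton_iff] at hsub
  refine subsingleton_of_forall_eq 0 fun f => ?_
  obtain ⟨s, hs, hsf⟩ := hsub f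
  obtain ⟨r, hr, t, ht, hrt⟩ := Submodule.mem_sup.1 ((Ideal.eq_top_iff_one _).1
    (hm.1.2 (m ⊔ Ideal.span {s}) (lt_of_le_of_ne le_sup_left fun e =>
      hs (e ▸ Submodule.mem_sup_right (Ideal.mem_span_singleton_self s)))))
  obtain ⟨c, rfl⟩ := Ideal.mem_span_singleton.1 ht
  rw [← one_smul A f, ← hrt, add_smul, mul_comm, mul_smul, hsf, smul_zero, add_zero]
  exact smul_hom_inD_eq_zero (fun z => by
    obtain ⟨c, rfl⟩ := Submodule.Quotient.mk_surjective _ z
    rw [← Submodule.Quotient.mk_smul]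
    exact (Submodule.Quotient.mk_eq_zero _).2 (m.mul_mem_right c hr)) f

/-- Being dualizing is local, given finite injective dimension. -/
theorem isDualizing_of_atPrime {a b : ℤ} (hamp : DRing.HasInjAmplitudeIn A a b ω)
    (hfin : ∀ j : ℤ, Module.Finite A (Dual.HD A ω j))
    (h : ∀ p : PrimeSpectrum A, ∀ [DTen.HasLBase (algebraMap A (Localization.AtPrime p.asIdeal))],
      Dual.IsDualizing (Localization.AtPrime p.asIdeal)
        ((DTen.LBase (algebraMap A (Localization.AtPrime p.asIdeal))).obj ω)) :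
    Dual.IsDualizing A ω := by
  haveI := isGE_of_injAmplitude hamp
  haveI : ω.IsLE b := by
    obtain ⟨E, hz, -, ⟨e⟩⟩ := hamp
    haveI : CochainComplex.IsStrictlyLE E b :=
      (CochainComplex.isStrictlyLE_iff _ _).2 fun i hi => hz i (Or.inr hi)
    haveI : (DRing.toD E).IsLE b := (DerivedCategory.isLE_Q_obj_iff _ _).2 inferInstance
    exact DerivedCategory.TStructure.t.isLE_of_iso e b
  haveI : ∀ m : {m : Ideal A // m.IsMaximal}, m.1.IsPrime := fun m => m.2.isPrime
  haveI : ∀ m : {m : Ideal A // m.IsMaximal}, Module.Flat A (Localization.AtPrime m.1) :=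
    fun m => IsLocalization.flat _ m.1.primeCompl
  haveI : ∀ m : {m : Ideal A // m.IsMaximal}, DTen.HasLBase (algebraMap A (Localization.AtPrime m.1)) :=
    fun m => hasLBase _
  refine isDualizing_of_family (B := fun m : {m : Ideal A // m.IsMaximal} => Localization.AtPrime m.1)
    (fun m hm => ⟨⟨m, hm⟩, ?_⟩) a b hfin ⟨a, b, fun M _ _ i hi => ?_⟩ fun m => h ⟨m.1, m.2.isPrime⟩
  · exact (IsLocalization.map_algebraMap_ne_top_iff_disjoint m.primeCompl _ m).2
      (Set.disjoint_left.2 fun x hx hx' => hx hx')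
  · obtain ⟨E, hz, hE, ⟨e⟩⟩ := hamp
    exact H9Misc.DRingInjAmp.ext_subsingleton hz hE e (ModuleCat.of A M) i hi

end Localized

end Groth.Agent.KFlatLib
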