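import Groth.Agent.KFlatLib.Ring.DualizingFibre
import Groth.Agent.KFlatLib.Ring.DualizingDescent
import Groth.Agent.LC.GorRing
import Groth.Agent.LC.GorLCI
import Groth.Agent.GeomReg.Basic
import Groth.Agent.CplFib6.QuotReg
import Groth.Prelude.Def_Found

/-!
# Existence and permanence of dualizing complexes
-/

set_option linter.style.haveILetI false
set_option backward.isDefEq.respectTransparency false

universe u

open CategoryTheory Pretriangulated

open scoped TensorProduct

attribute [local instance] HasDerivedCategory.standard

namespace Groth.Agent.KFlatLib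

/-- A finite type algebra over a finite-dimensional Noetherian ring is finite-dimensional. -/
theorem ringKrullDim_lt_top_of_finiteType {A B : Type u} [CommRing A] [CommRing B] [Algebra A B]
    [IsNoetherianRing A] [Algebra.FiniteType A B] (hA : ringKrullDim A < ⊤) : ringKrullDim B < ⊤ := by
  obtain ⟨n, f, hf⟩ := Algebra.FiniteType.iff_quotient_mvPolynomial''.mp (inferInstance : Algebra.FiniteType A B)
  refine lt_of_le_of_lt (ringKrullDim_le_of_surjective f.toRingHom hf) ?_
  rw [MvPolynomial.ringKrullDim_of_isNoetherianRing]
  generalize ringKrullDim A = d at hA ⊢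
  induction d with
  | bot => simp
  | coe d =>
    induction d with
    | top => exact absurd hA (lt_irrefl _)
    | coe d =>
      norm_cast
      exact WithBot.coe_lt_coe.2 (WithTop.coe_lt_top _)

/-- A flat map with Gorenstein fibres preserves dualizing complexes, in finite dimension. -/
theorem isDualizing_LBaseChange_of_gorenstein_fibers {A B : Type u} [CommRing A] [CommRing B] [Algebra A B]
    [IsNoetherianRing B] [Module.Flat A B] [DRing.HasLBaseChange (algebraMap A B)] {ω : Dual.D A}
    (hω : Dual.IsDualizing A ω) (hdim : ringKrullDim B < ⊤)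
    (h : ∀ (p : Ideal A) [p.IsPrime], LocCoh.IsGorensteinRing (p.Fiber B)) :
    Dual.IsDualizing B ((DRing.LBaseChange (algebraMap A B)).obj ω) := by
  haveI := hω.isNoetherianRing
  haveI := hasLBase (algebraMap A B)
  obtain ⟨e⟩ := nonempty_LBaseChange_iso (algebraMap A B)
  exact isDualizing_of_iso (e.app ω).symm
    (isDualizing_LBase_of_gorenstein_fibres hω hdim fun q => LC.fibLoc_of_fiber q.asIdeal h)

/-- Faithfully flat finite type maps with Gorenstein fibres ascend and descend dualizing complexes. -/
theorem isDualizing_iff_of_gorenstein_fibers {A B : Type u} [CommRing A] [CommRing B] [Algebra A B]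
    [IsNoetherianRing A] [IsNoetherianRing B] [Module.FaithfullyFlat A B] [Algebra.FiniteType A B]
    [DRing.HasLBaseChange (algebraMap A B)]
    (h : ∀ (p : Ideal A) [p.IsPrime], LocCoh.IsGorensteinRing (p.Fiber B)) (K : Dual.D A) :
    Dual.IsDualizing A K ↔ Dual.IsDualizing B ((DRing.LBaseChange (algebraMap A B)).obj K) := by
  refine ⟨fun hK => isDualizing_LBaseChange_of_gorenstein_fibers hK
    (ringKrullDim_lt_top_of_finiteType (ringKrullDim_lt_top_of_isDualizing hK)) h, fun hB => ?_⟩
  haveI := hasLBase (algebraMap A B)
  obtain ⟨e⟩ := nonempty_LBaseChange_iso (algebraMap A B)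
  refine isDualizing_of_finite_family (ι := PUnit.{1}) (B := fun _ => B) (fun m hm => ⟨⟨⟩, ?_⟩)
    fun _ => isDualizing_of_iso (e.app K) hB
  intro htop
  have h1 := Ideal.comap_map_eq_self_of_faithfullyFlat (B := B) m
  rw [htop, Ideal.comap_top] at h1
  exact hm.ne_top h1.symm

/-- A polynomial ring over a ring with a dualizing complex has one. -/
theorem exists_isDualizing_mvPolynomial {A : Type u} [CommRing A] {ω : Dual.D A}
    (hω : Dual.IsDualizing A ω) (n : ℕ) :
    ∃ ω' : Dual.D (MvPolynomial (Fin n) A), Dual.IsDualizing (MvPolynomial (Fin n) A) ω' := by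
  haveI := hω.isNoetherianRing
  haveI := hasLBase (algebraMap A (MvPolynomial (Fin n) A))
  refine ⟨_, isDualizing_LBase_of_gorenstein_fibres hω ?_ fun q => LC.fibLoc_of_fiber q.asIdeal fun p _ => ?_⟩
  · exact ringKrullDim_lt_top_of_finiteType (ringKrullDim_lt_top_of_isDualizing hω)
  · haveI := LC.gorensteinRing_of_isRegularRing p.ResidueField
    haveI := LC.gorensteinRing_mvPolynomial_fin p.ResidueField n
    exact LC.gorensteinRing_of_ringEquiv
      (MvPolynomial.algebraTensorAlgEquiv (σ := Fin n) A p.ResidueField).toRingEquiv.symm inferInstance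

/-- A quotient of a ring with a dualizing complex has one. -/
theorem exists_isDualizing_of_surjective {A B : Type u} [CommRing A] [CommRing B] (f : A →+* B)
    (hf : Function.Surjective f) {ω : Dual.D A} (hω : Dual.IsDualizing A ω) :
    ∃ ω' : Dual.D B, Dual.IsDualizing B ω' := by
  haveI := hω.isNoetherianRing
  letI := f.toAlgebra
  haveI : Module.Finite A B := Module.Finite.of_surjective (Algebra.linearMap A B) hf
  haveI : IsNoetherianRing B := isNoetherianRing_of_surjective A B f hf
  obtain ⟨R, ⟨adj⟩⟩ := exists_shriek (algebraMap A B)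
  exact ⟨_, isDualizing_shriek R adj hω⟩

/-- An algebra essentially of finite type over a ring with a dualizing complex has one. -/
theorem exists_isDualizing_of_essFiniteType {A : Type u} [CommRing A] {ω : Dual.D A}
    (hω : Dual.IsDualizing A ω) (B : Type u) [CommRing B] [Algebra A B] [Algebra.EssFiniteType A B] :
    ∃ ω' : Dual.D B, Dual.IsDualizing B ω' := by
  haveI := hω.isNoetherianRing
  let S := Algebra.EssFiniteType.subalgebra A B
  let M := Algebra.EssFiniteType.submonoid A B
  haveI : IsLocalization M B := Algebra.EssFiniteType.isLocalization A B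
  haveI : Algebra.FiniteType A S := inferInstance
  obtain ⟨n, f, hf⟩ := Algebra.FiniteType.iff_quotient_mvPolynomial''.mp (inferInstance : Algebra.FiniteType A S)
  obtain ⟨ω₁, h₁⟩ := exists_isDualizing_mvPolynomial hω n
  obtain ⟨ω₂, h₂⟩ := exists_isDualizing_of_surjective f.toRingHom hf h₁
  haveI : IsNoetherianRing S := h₂.isNoetherianRing
  haveI := hasLBase (algebraMap S B)
  haveI : IsNoetherianRing B := IsLocalization.isNoetherianRing M B inferInstance
  haveI : Module.Flat S B := IsLocalization.flat B M
  exact ⟨_, isDualizing_LBase h₂ fun m _ => ⟨m.comap (algebraMap S B), IsLocalization.map_under M B m⟩⟩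

/-- A ring with a dualizing complex is catenary. -/
theorem isCatenary_of_isDualizing {A : Type u} [CommRing A] {ω : Dual.D A} (hω : Dual.IsDualizing A ω) :
    CAlg.IsCatenary A := by
  haveI := hω.isNoetherianRing
  obtain ⟨n, -, hcov, hmono, a, b, hb⟩ := exists_extDegree hω
  constructor
  · intro p q _
    refine ⟨(b - a).toNat, fun s _ _ => ?_⟩
    have key : ∀ i : ℕ, (hi : i ≤ s.length) → a + i ≤ n (s ⟨i, by omega⟩) := by
      intro i
      induction i with
      | zero => intro _; simpa using (hb _).1
      | succ i ih =>
        intro hi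
        have h1 := ih (by omega)
        have h2 : n (s ⟨i, by omega⟩) < n (s ⟨i + 1, by omega⟩) := hmono (s.step ⟨i, by omega⟩)
        push_cast
        omega
    have h1 := key s.length le_rfl
    have h2 := (hb (s ⟨s.length, by omega⟩)).2
    omega
  · intro s t hh hl hs ht
    have key : ∀ r : LTSeries (PrimeSpectrum A),
        (∀ i : Fin r.length, r (Fin.castSucc i) ⋖ r (Fin.succ i)) →
          n r.last = n r.head + r.length := by
      intro r hr
      have : ∀ i : ℕ, (hi : i ≤ r.length) → n (r ⟨i, by omega⟩) = n r.head + i := by
        intro i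
        induction i with
        | zero => intro _; simp [RelSeries.head]
        | succ i ih =>
          intro hi
          have h1 := ih (by omega)
          have h2 := hcov _ _ (hr ⟨i, by omega⟩)
          simp only [Fin.castSucc_mk, Fin.succ_mk] at h2
          push_cast
          omega
      exact this r.length le_rfl
    have h1 := key s hs
    have h2 := key t ht
    rw [hh, hl] at h1
    omega

/-- A ring with a dualizing complex is universally catenary. -/
theorem isUniversallyCatenary_of_isDualizing {A : Type u} [CommRing A] {ω : Dual.D A}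
    (hω : Dual.IsDualizing A ω) : CAlg.IsUniversallyCatenary A :=
  ⟨hω.isNoetherianRing, fun S _ _ hS => by
    haveI := hS
    haveI : Algebra.EssFiniteType A S := inferInstance
    obtain ⟨ω', h'⟩ := exists_isDualizing_of_essFiniteType hω S
    exact isCatenary_of_isDualizing h'⟩

/-- A complete Noetherian local ring has a dualizing complex. -/
theorem exists_isDualizing_of_complete (A : Type u) [CommRing A] [IsLocalRing A] [IsNoetherianRing A]
    [IsAdicComplete (IsLocalRing.maximalIdeal A) A] : ∃ ω : Dual.D A, Dual.IsDualizing A ω := by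
  obtain ⟨S, _, _, f, hf⟩ := CplFib6.exists_regular_cover A
  haveI : LocCoh.IsGorensteinLocalRing S := LC.gorenstein_of_isRegularLocalRing
  exact exists_isDualizing_of_surjective f hf ((LC.gorenstein_iff_isDualizing S).1 inferInstance)

end Groth.Agent.KFlatLib
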