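import Groth.Agent.KFlatLib.Ring.DualizingSerre

/-!
# Serre conditions of equidimensional modules
-/

set_option linter.style.haveILetI false
set_option backward.isDefEq.respectTransparency false

universe u

open CategoryTheory CategoryTheory.Limits Pretriangulated

attribute [local instance] HasDerivedCategory.standard

namespace Groth.Agent.KFlatLib

variable {A : Type u} [CommRing A] [IsNoetherianRing A] {ω : Dual.D A} {n : PrimeSpectrum A → ℤ}

/-- The dimension of a quotient by a prime when the degree vanishes at all closed points. -/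
theorem ringKrullDim_quotient_eq_global (hcov : ∀ p q : PrimeSpectrum A, p ⋖ q → n q = n p + 1)
    (hmono : StrictMono n) (hm : ∀ m : PrimeSpectrum A, m.asIdeal.IsMaximal → n m = 0) (P : PrimeSpectrum A) :
    ∃ e : ℕ, ringKrullDim (A ⧸ P.asIdeal) = (e : WithBot ℕ∞) ∧ (e : ℤ) = -n P := by
  have hle : ∀ Q : PrimeSpectrum A, n Q ≤ 0 := fun Q => by
    obtain ⟨m, hmax, hQm⟩ := Ideal.exists_le_maximal _ Q.isPrime.ne_top
    have := hmono.monotone (show Q ≤ (⟨m, hmax.isPrime⟩ : PrimeSpectrum A) from hQm)
    rw [hm ⟨m, hmax.isPrime⟩ hmax] at this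
    exact this
  obtain ⟨m, hmax, hPm⟩ := Ideal.exists_le_maximal _ P.isPrime.ne_top
  obtain ⟨l, hl1, hl2, hl3⟩ := exists_chain_of_le hcov _ ⟨m, hmax.isPrime⟩ rfl P hPm
  rw [hm ⟨m, hmax.isPrime⟩ hmax] at hl3
  refine ⟨l.length, le_antisymm ?_ ?_, by omega⟩
  · rw [ringKrullDim_quotient]
    refine iSup_le fun s => ?_
    have h1 : ∀ k : ℕ, ∀ hk : k < s.length + 1, n P + k ≤ n (s ⟨k, hk⟩).1 := by
      intro k
      induction k with
      | zero =>
        intro hk
        simpa using hmono.monotone (show P ≤ (s ⟨0, hk⟩).1 from (s ⟨0, hk⟩).2)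
      | succ k ih =>
        intro hk
        have h2 := ih (by omega)
        have h3 := hmono (s.step ⟨k, by omega⟩)
        simp only [Fin.castSucc_mk, Fin.succ_mk] at h3
        push_cast
        omega
    have h2 := h1 s.length (by omega)
    have h3 := hle (s ⟨s.length, by omega⟩).1
    exact_mod_cast (show s.length ≤ l.length by omega)
  · rw [ringKrullDim_quotient]
    let s : LTSeries (PrimeSpectrum.zeroLocus (R := A) (P.asIdeal : Set A)) :=
      { length := l.length
        toFun := fun k => ⟨l k, show P.asIdeal ≤ (l k).asIdeal from hl1.trans (l.monotone (Fin.zero_le k))⟩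
        step := fun k => l.step k }
    exact le_iSup (fun t : LTSeries _ => ((t.length : ℕ∞) : WithBot ℕ∞)) s

/-- The dimension of a module through the quotients by the primes of its support. -/
theorem supportDim_le_iff (E : Type*) [AddCommGroup E] [Module A E] (m : ℕ) :
    Module.supportDim A E ≤ (m : WithBot ℕ∞) ↔
      ∀ p ∈ Module.support A E, ringKrullDim (A ⧸ p.asIdeal) ≤ (m : WithBot ℕ∞) := by
  refine ⟨fun h p hp => le_trans ?_ h, fun h => iSup_le fun s => ?_⟩
  · rw [ringKrullDim_quotient]
    exact Order.krullDim_le_of_strictMono (fun Q => ⟨Q.1, Module.mem_support_mono Q.2 hp⟩) fun x y hxy => hxy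
  · refine le_trans ?_ (h s.head.1 s.head.2)
    rw [ringKrullDim_quotient]
    let t : LTSeries (PrimeSpectrum.zeroLocus (R := A) ((s.head.1).asIdeal : Set A)) :=
      { length := s.length
        toFun := fun k => ⟨(s k).1, show (s.head.1).asIdeal ≤ (s k).1.asIdeal from s.monotone (Fin.zero_le k)⟩
        step := fun k => s.step k }
    exact le_iSup (fun z : LTSeries _ => ((z.length : ℕ∞) : WithBot ℕ∞)) t

/-- Serre's condition for a module all whose components have the same degree. -/
theorem hasSk_iff_of_degree (hω : Dual.IsDualizing A ω) (hn : IsExtDegree ω n) (hmono : StrictMono n)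
    (hdim : ∀ P : PrimeSpectrum A, ∃ e : ℕ, ringKrullDim (A ⧸ P.asIdeal) = (e : WithBot ℕ∞) ∧ (e : ℤ) = -n P)
    (M : Type u) [AddCommGroup M] [Module A M] [Module.Finite A M] (D : ℕ)
    (hmin : ∀ P : PrimeSpectrum A, P.asIdeal ∈ (Module.annihilator A M).minimalPrimes → n P = -(D : ℤ)) (k : ℕ) :
    LocCoh.HasSk k A M ↔
      ∀ j : ℤ, j ≠ -(D : ℤ) →
        (-j - (k : ℤ) < 0 → Subsingleton (Dual.inD A M ⟶ ω⟦j⟧)) ∧
        (0 ≤ -j - (k : ℤ) → Module.supportDim A (Dual.inD A M ⟶ ω⟦j⟧) ≤ ((-j - (k : ℤ)).toNat : WithBot ℕ∞)) := by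
  have hlow : ∀ P ∈ Module.support A M, -(D : ℤ) ≤ n P := fun P hP => by
    obtain ⟨Q, hQ, hQP⟩ := Ideal.exists_minimalPrimes_le (I := Module.annihilator A M) (J := P.asIdeal)
      (by rw [Module.support_eq_zeroLocus] at hP; exact hP)
    have h1 := hmono.monotone (show (⟨Q, hQ.1.1⟩ : PrimeSpectrum A) ≤ P from hQP)
    rw [hmin ⟨Q, hQ.1.1⟩ hQ] at h1
    exact h1
  have hbot : ∀ (p : PrimeSpectrum A) (δ d : ℕ),
      LocCoh.depth (Localization.AtPrime p.asIdeal) (LocalizedModule p.asIdeal.primeCompl M) = δ →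
      Module.supportDim (Localization.AtPrime p.asIdeal) (LocalizedModule p.asIdeal.primeCompl M) = d →
      n p - d = -(D : ℤ) := by
    intro p δ d hδ hd
    obtain ⟨h1, h2, -⟩ := localized_ext_range hω hn p M δ d hδ hd
    have hp : p ∈ Module.support A M := support_hom_subset M _ h2
    refine le_antisymm ?_ ?_
    · obtain ⟨P, hP, hPp⟩ := Ideal.exists_minimalPrimes_le (I := Module.annihilator A M) (J := p.asIdeal)
        (by rw [Module.support_eq_zeroLocus] at hp; exact hp)
      let Q : PrimeSpectrum A := ⟨P, hP.1.1⟩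
      have hQ : Q ∈ Module.support A M := by rw [Module.support_eq_zeroLocus]; exact hP.1.2
      obtain ⟨δ', d', hδ', hd'⟩ := exists_depth_dim Q M hQ
      obtain ⟨r1, -, -⟩ := range_of_le hω hn hmono M Q p hPp δ d δ' d' hδ hd hδ' hd'
      haveI : Q.asIdeal.IsPrime := Q.isPrime
      have h0 := (LC.supportDim_localized_minimalPrimes M (q := Q.asIdeal) hP).symm.trans hd'
      have hd0 : d' = 0 := by exact_mod_cast h0.symm
      have := hmin Q hP
      omega
    · by_contra hcon
      haveI := Module.mem_support_iff.1 h2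
      exact not_subsingleton (LocalizedModule p.asIdeal.primeCompl (Dual.inD A M ⟶ ω⟦n p - (d : ℤ)⟧))
        (LocalizedModule.subsingleton_iff.2 fun φ => ⟨1, one_mem _,
          (subsingleton_hom_module_of_lt hn M (n p - d) fun P hP => by have := hlow P hP; omega).elim _ _⟩)
  constructor
  · intro h j hj
    have hall : ∀ p ∈ Module.support A (Dual.inD A M ⟶ ω⟦j⟧), (k : ℤ) ≤ n p - j := by
      intro p hp
      obtain ⟨δ, d, hδ, hd⟩ := exists_depth_dim p M (support_hom_subset M _ hp)
      obtain ⟨h1, -, -⟩ := localized_ext_range hω hn p M δ d hδ hd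
      have hb := hbot p δ d hδ hd
      have hr := h1 j hp
      have hk := (min_le_depth_iff k p M δ d hδ hd).1 (h p.asIdeal)
      omega
    refine ⟨fun hneg => ?_, fun hpos => ?_⟩
    · rw [← Module.support_eq_empty_iff (R := A), Set.eq_empty_iff_forall_notMem]
      intro p hp
      obtain ⟨e, -, he⟩ := hdim p
      have := hall p hp
      omega
    · rw [supportDim_le_iff]
      intro p hp
      obtain ⟨e, he, he'⟩ := hdim p
      have := hall p hp
      rw [he]
      exact Nat.cast_le.2 (by omega)
  · intro h p hp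
    let q : PrimeSpectrum A := ⟨p, hp⟩
    by_cases hq : q ∈ Module.support A M
    · obtain ⟨δ, d, hδ, hd⟩ := exists_depth_dim q M hq
      obtain ⟨-, -, h3⟩ := localized_ext_range hω hn q M δ d hδ hd
      have hb := hbot q δ d hδ hd
      refine (min_le_depth_iff k q M δ d hδ hd).2 ?_
      by_contra hcon
      obtain ⟨hneg, hpos⟩ := h (n q - δ) (by omega)
      obtain ⟨e, he, he'⟩ := hdim q
      rcases lt_or_ge (-(n q - (δ : ℤ)) - (k : ℤ)) 0 with hs | hs
      · haveI := hneg hs
        rw [Module.support_eq_empty] at h3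
        exact h3
      · have h4 := (supportDim_le_iff _ _).1 (hpos hs) q h3
        rw [he] at h4
        have := Nat.cast_le.1 h4
        omega
    · rw [supportDim_localized_eq_bot M q hq]
      exact le_trans (min_le_right _ _) bot_le

end Groth.Agent.KFlatLib
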