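import Groth.Agent.KFlatLib.Ring.BaseChangeDepth
import Mathlib.LinearAlgebra.FreeModule.StrongRankCondition

/-!
# Modules free up to a denominator, and their base changes
-/

set_option autoImplicit false
set_option linter.style.haveILetI false

universe u

open TensorProduct

namespace Groth.Agent.KFlatLib

variable {R : Type u} [CommRing R] [IsNoetherianRing R]

/-- A module with free localization is free up to an element of the submonoid. -/
theorem exists_free_up_to (M : Type u) [AddCommGroup M] [Module R M] [Module.Finite R M] (S : Submonoid R)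
    [Module.Free (Localization S) (LocalizedModule S M)] :
    ∃ (r : ℕ) (c : R) (α : M →ₗ[R] (Fin r → R)) (β : (Fin r → R) →ₗ[R] M),
      c ∈ S ∧ (∀ x, β (α x) = c • x) ∧ ∀ z, α (β z) = c • z := by
  classical
  let A := Localization S
  let mk := LocalizedModule.mkLinearMap S M
  haveI : Module.Finite A (LocalizedModule S M) := Module.Finite.of_isLocalizedModule S mk
  let b0 := Module.Free.chooseBasis A (LocalizedModule S M)
  obtain ⟨r, ⟨b⟩⟩ : ∃ r, Nonempty (Module.Basis (Fin r) A (LocalizedModule S M)) :=
    ⟨_, ⟨b0.reindex (Fintype.equivFin _)⟩⟩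
  choose ms hms using fun i => IsLocalizedModule.surj S mk (b i)
  let β : (Fin r → R) →ₗ[R] M := Fintype.linearCombination R (fun i => (ms i).1)
  have hβ : ∀ x, β x = ∑ i, x i • (ms i).1 := fun x => Fintype.linearCombination_apply R _ x
  have hmk : ∀ x, mk (β x) = ∑ i, (algebraMap R A (x i * ((ms i).2 : R))) • b i := fun x => by
    rw [hβ, map_sum]
    refine Finset.sum_congr rfl fun i _ => ?_
    rw [map_smul, ← hms i, algebraMap_smul, Submonoid.smul_def, mul_smul]
  have hk : ∀ x, β x = 0 → ∃ s ∈ S, s • x = 0 := by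
    intro x hx
    have h0 := hmk x
    rw [hx, map_zero] at h0
    have hi := fun i => (IsLocalization.map_eq_zero_iff S A _).1
      (Fintype.linearIndependent_iff.1 b.linearIndependent _ h0.symm i)
    choose t ht using hi
    refine ⟨∏ i, (t i : R) * ((ms i).2 : R), prod_mem fun i _ => mul_mem (t i).2 (ms i).2.2, funext fun i => ?_⟩
    rw [Pi.smul_apply, smul_eq_mul, Pi.zero_apply, ← Finset.prod_erase_mul _ _ (Finset.mem_univ i), mul_assoc,
      mul_assoc, mul_comm ((ms i).2 : R) (x i), ht i, mul_zero]
  have hc : ∀ y, ∃ s ∈ S, s • y ∈ LinearMap.range β := by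
    intro y
    let a : Fin r → A := fun i => b.repr (mk y) i * (IsLocalization.map_units A (ms i).2).unit⁻¹
    obtain ⟨d, hd⟩ := IsLocalization.exist_integer_multiples_of_finite S a
    choose x hx using fun i => RingHom.mem_rangeS.1 (hd i)
    have h1 : mk ((d : R) • y) = mk (β x) := by
      rw [hmk, map_smul]
      conv_lhs => rw [← b.sum_repr (mk y), Finset.smul_sum]
      refine Finset.sum_congr rfl fun i _ => ?_
      rw [map_mul, hx i, ← smul_assoc]
      congr 1
      simp only [a, Algebra.smul_def]
      rw [mul_assoc, mul_assoc, IsUnit.val_inv_mul, mul_one]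
    obtain ⟨t, ht⟩ := (IsLocalizedModule.eq_iff_exists S mk).1 h1
    refine ⟨(t : R) * d, mul_mem t.2 d.2, (t : R) • x, ?_⟩
    rw [map_smul, mul_smul]
    exact ht.symm
  obtain ⟨c, g, hcS, hg1, hg2⟩ := exists_inverse_up_to β S hk hc
  exact ⟨r, c, g, β, hcS, hg2, hg1⟩

/-- The dual of a finite module has depth at least two when the ring has. -/
theorem two_le_idealDepth_dual (I : Ideal R) (h : 2 ≤ LocCoh.idealDepth I R) (M : Type u) [AddCommGroup M]
    [Module R M] [Module.Finite R M] : 2 ≤ LocCoh.idealDepth I (Module.Dual R M) := by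
  obtain ⟨b, π, hπ⟩ := Module.Finite.exists_fin' R M
  obtain ⟨a, τ, hτ⟩ := Module.Finite.exists_fin' R (LinearMap.ker π)
  let w := (LinearMap.ker π).subtype ∘ₗ τ
  have hex : Function.Exact π.dualMap w.dualMap := fun φ => by
    constructor
    · intro hφ
      have hle : LinearMap.ker π ≤ LinearMap.ker φ := fun x hx => by
        obtain ⟨z, hz⟩ := hτ ⟨x, hx⟩
        rw [LinearMap.mem_ker, show x = w z from (congrArg Subtype.val hz).symm]
        exact LinearMap.congr_fun hφ z
      refine ⟨(LinearMap.ker π).liftQ φ hle ∘ₗ (π.quotKerEquivOfSurjective hπ).symm.toLinearMap, ?_⟩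
      refine LinearMap.ext fun x => ?_
      show (LinearMap.ker π).liftQ φ hle ((π.quotKerEquivOfSurjective hπ).symm (π x)) = φ x
      rw [show (π.quotKerEquivOfSurjective hπ).symm (π x) = Submodule.Quotient.mk x from
        (π.quotKerEquivOfSurjective hπ).symm_apply_eq.2 rfl]
      rfl
    · rintro ⟨ψ, rfl⟩
      refine LinearMap.ext fun z => ?_
      show ψ (π (w z)) = 0
      rw [show π (w z) = 0 from (τ z).2, map_zero]
  have hfin : ∀ n, (2 : ℕ∞) ≤ LocCoh.idealDepth I (Module.Dual R (Fin n → R)) := fun n => by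
    rw [← LC.idealDepth_congr I (Pi.basisFun R (Fin n)).toDualEquiv]
    exact le_idealDepth_pi I 2 h n
  exact two_le_idealDepth_of_exact I π.dualMap w.dualMap (LinearMap.dualMap_injective_of_surjective hπ) hex
    (hfin b) (le_trans one_le_two (hfin a))

omit [IsNoetherianRing R] in
/-- Bijectivity up to a scalar for the dual of the dual of a base change. -/
theorem baseChange_dual_dual_up_to {R' : Type u} [CommRing R'] [Algebra R R'] {X Y : Type u} [AddCommGroup X]
    [Module R X] [AddCommGroup Y] [Module R Y] (f : X →ₗ[R] Y) (g : Y →ₗ[R] X) (c : R)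
    (h : ∀ x, g (f x) = c • x) (z : Module.Dual R' (Module.Dual R' (R' ⊗[R] X))) :
    (g.baseChange R').dualMap.dualMap ((f.baseChange R').dualMap.dualMap z) = algebraMap R R' c • z := by
  refine LinearMap.ext fun φ => ?_
  show z (((φ ∘ₗ g.baseChange R') ∘ₗ f.baseChange R')) = _
  rw [LinearMap.comp_assoc, ← LinearMap.baseChange_comp, show g ∘ₗ f = c • LinearMap.id from LinearMap.ext h,
    LinearMap.baseChange_smul, LinearMap.baseChange_id]
  rw [LinearMap.smul_apply, ← map_smul z]
  congr 1
  refine LinearMap.ext fun w => ?_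
  show φ (c • w) = algebraMap R R' c • φ w
  rw [← algebraMap_smul R' c w, map_smul]

omit [IsNoetherianRing R] in
/-- Evaluation is bijective up to a scalar for modules free up to that scalar. -/
theorem eval_up_to {M : Type u} [AddCommGroup M] [Module R M] {N : Type u} [AddCommGroup N] [Module R N]
    [Module.IsReflexive R N] (α : M →ₗ[R] N) (β : N →ₗ[R] M) (c : R) (h : ∀ x, β (α x) = c • x) :
    (∀ x, Module.Dual.eval R M x = 0 → c • x = 0) ∧ ∀ y, c • y ∈ LinearMap.range (Module.Dual.eval R M) := by
  refine ⟨fun x hx => ?_, fun y => ?_⟩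
  · rw [← h x, show α x = 0 from (Module.bijective_dual_eval R N).1
      (by rw [map_zero]; exact LinearMap.ext fun φ => LinearMap.congr_fun hx (φ ∘ₗ α)), map_zero]
  · obtain ⟨z, hz⟩ := (Module.bijective_dual_eval R N).2 (α.dualMap.dualMap y)
    refine ⟨β z, LinearMap.ext fun φ => ?_⟩
    show φ (β z) = c • y φ
    rw [show φ (β z) = Module.Dual.eval R N z (φ ∘ₗ β) from rfl, hz]
    show y ((φ ∘ₗ β) ∘ₗ α) = _
    rw [← map_smul y]
    congr 1
    exact LinearMap.ext fun x => by simp [h]

/-- Evaluation on a base change is bijective up to elements outside a prime where the module is free. -/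
theorem eval_baseChange_up_to {R' : Type u} [CommRing R'] [Algebra R R'] (M : Type u) [AddCommGroup M] [Module R M]
    [Module.Finite R M] (p' : Ideal R') (p : Ideal R) [p.IsPrime] (hp : p = p'.comap (algebraMap R R'))
    [Module.Free (Localization.AtPrime p) (LocalizedModule p.primeCompl M)] :
    ∃ s ∉ p', (∀ x, Module.Dual.eval R' (R' ⊗[R] M) x = 0 → s • x = 0) ∧
      ∀ y, s • y ∈ LinearMap.range (Module.Dual.eval R' (R' ⊗[R] M)) := by
  obtain ⟨r, c, α, β, hc, h1, -⟩ := exists_free_up_to M p.primeCompl
  have hfree : Module.Free R' (R' ⊗[R] (Fin r → R)) := inferInstance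
  have hfin : Module.Finite R' (R' ⊗[R] (Fin r → R)) := inferInstance
  refine ⟨algebraMap R R' c, fun hs => hc (hp ▸ hs), eval_up_to (α.baseChange R') (β.baseChange R') _ fun x => ?_⟩
  rw [← LinearMap.comp_apply, ← LinearMap.baseChange_comp, show β ∘ₗ α = c • LinearMap.id from LinearMap.ext h1,
    LinearMap.baseChange_smul, LinearMap.baseChange_id, algebraMap_smul]
  rfl

end Groth.Agent.KFlatLib
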