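import Groth.Agent.KFlatLib.Ring.KerDepth
import Groth.Agent.Alg6.LocLoc
import Groth.Agent.LC.GorLoc
import Mathlib.RingTheory.Localization.Module
import Mathlib.LinearAlgebra.Dual.Lemmas

/-!
# Reflexivity from depth two
-/

set_option autoImplicit false
set_option linter.style.haveILetI false

universe u

open CategoryTheory IsLocalRing

namespace Groth.Agent.KFlatLib

variable {R : Type u} [CommRing R] [IsNoetherianRing R] (I : Ideal R)

/-- A module supported in `V(I)` of positive depth vanishes. -/
theorem subsingleton_of_support_le (N : Type u) [AddCommGroup N] [Module R N] [Module.Finite R N]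
    (hs : ∀ p ∈ Module.support R N, I ≤ p.asIdeal) (h : 1 ≤ LocCoh.idealDepth I N) : Subsingleton N := by
  by_contra hne
  rw [not_subsingleton_iff_nontrivial] at hne
  obtain ⟨P, hP⟩ := associatedPrimes.nonempty R N
  obtain ⟨hPp, z, hz⟩ := Groth.Agent.Alg6.mem_ass_iff.1 hP
  have hsupp : (⟨P, hPp⟩ : PrimeSpectrum R) ∈ Module.support R N :=
    Module.mem_support_iff_exists_annihilator.2 ⟨z, fun a ha =>
      (hz a).2 ((Submodule.mem_annihilator_span_singleton z a).1 ha)⟩
  have h1 := h.trans (LC.idealDepth_le_depth_localized I N P (hs _ hsupp))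
  rw [Alg6.one_le_depth_atPrime_iff] at h1
  exact h1 hP

/-- A map that is an isomorphism off `V(I)` is bijective when the depths are large. -/
theorem bijective_of_bijective_off {X Y : Type u} [AddCommGroup X] [Module R X] [Module.Finite R X]
    [AddCommGroup Y] [Module R Y] [Module.Finite R Y] (f : X →ₗ[R] Y)
    (hker : ∀ p : PrimeSpectrum R, ¬ I ≤ p.asIdeal → ∀ x, f x = 0 → ∃ s ∉ p.asIdeal, s • x = 0)
    (hcoker : ∀ p : PrimeSpectrum R, ¬ I ≤ p.asIdeal → ∀ y, ∃ s ∉ p.asIdeal, s • y ∈ LinearMap.range f)
    (hX : 2 ≤ LocCoh.idealDepth I X) (hY : 1 ≤ LocCoh.idealDepth I Y) : Function.Bijective f := by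
  have hinj : Function.Injective f := by
    rw [← LinearMap.ker_eq_bot, ← Submodule.subsingleton_iff_eq_bot]
    refine subsingleton_of_support_le I (LinearMap.ker f) (fun p hp => ?_)
      (le_idealDepth_of_injective I (LinearMap.ker f).subtype Subtype.val_injective (le_trans one_le_two hX))
    by_contra hI
    obtain ⟨⟨x, hx⟩, hann⟩ := Module.mem_support_iff'.1 hp
    obtain ⟨s, hs, hsx⟩ := hker p hI x hx
    exact hann s hs (Subtype.ext hsx)
  refine ⟨hinj, ?_⟩
  rw [← LinearMap.range_eq_top, ← Submodule.Quotient.subsingleton_iff]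
  refine subsingleton_of_support_le I (Y ⧸ LinearMap.range f) (fun p hp => ?_) ?_
  · by_contra hI
    obtain ⟨y, hy⟩ := Module.mem_support_iff'.1 hp
    obtain ⟨y, rfl⟩ := Submodule.Quotient.mk_surjective _ y
    obtain ⟨s, hs, hsy⟩ := hcoker p hI y
    exact hy s hs (by rw [← Submodule.Quotient.mk_smul]; exact (Submodule.Quotient.mk_eq_zero _).2 hsy)
  · let S : ShortComplex (ModuleCat.{u} R) := ShortComplex.mk (ModuleCat.ofHom f)
      (ModuleCat.ofHom (LinearMap.range f).mkQ)
      (ModuleCat.hom_ext (LinearMap.ext fun x => (Submodule.Quotient.mk_eq_zero _).2 ⟨x, rfl⟩))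
    have hS : S.ShortExact :=
      { exact := (ShortComplex.ShortExact.moduleCat_exact_iff_function_exact S).mpr (LinearMap.exact_map_mkQ_range f)
        mono_f := (ModuleCat.mono_iff_injective _).mpr hinj
        epi_g := (ModuleCat.epi_iff_surjective _).mpr (Submodule.mkQ_surjective _) }
    rw [← Nat.cast_ofNat (R := ℕ∞) (n := 2)] at hX
    rw [← Nat.cast_one] at hY ⊢
    refine (LC.le_idealDepth_iff_ext I _ 1).2 fun i hi => ?_
    obtain rfl : i = 0 := by omega
    exact LC.ext_subsingleton_X₃ hS _ 0 ((LC.le_idealDepth_iff_ext I Y 1).1 hY 0 one_pos)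
      ((LC.le_idealDepth_iff_ext I X 2).1 hX 1 one_lt_two)

/-- Where a localization is reflexive, evaluation is an isomorphism up to elements outside. -/
theorem eval_of_isReflexive_localized (G : Type u) [AddCommGroup G] [Module R G] [Module.Finite R G]
    (S : Submonoid R) [Module.IsReflexive (Localization S) (LocalizedModule S G)] :
    (∀ x, Module.Dual.eval R G x = 0 → ∃ s ∈ S, s • x = 0) ∧
    ∀ y, ∃ s ∈ S, s • y ∈ LinearMap.range (Module.Dual.eval R G) := by
  classical
  let A := Localization S
  let mk := LocalizedModule.mkLinearMap S G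
  let h : Module.Dual R G →ₗ[R] Module.Dual A (LocalizedModule S G) :=
    IsLocalizedModule.mapExtendScalars S mk (Algebra.linearMap R A) A
  haveI : Module.FinitePresentation R G := Module.finitePresentation_of_finite R G
  have happ : ∀ φ x, h φ (mk x) = algebraMap R A (φ x) := fun φ x =>
    IsLocalizedModule.map_apply S mk (Algebra.linearMap R A) φ x
  refine ⟨fun x hx => ?_, fun y => ?_⟩
  · have h0 : mk x = 0 := by
      refine (Module.bijective_dual_eval A (LocalizedModule S G)).1 ?_
      rw [map_zero]
      refine LinearMap.ext fun ψ => ?_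
      obtain ⟨⟨φ, t⟩, hφ⟩ := IsLocalizedModule.surj S h ψ
      have h1 : algebraMap R A t * ψ (mk x) = 0 := by
        have h2 := LinearMap.congr_fun hφ (mk x)
        rw [happ, show φ x = 0 from LinearMap.congr_fun hx φ, map_zero, Submonoid.smul_def] at h2
        rw [← smul_eq_mul, algebraMap_smul]
        exact h2
      exact (IsLocalization.map_units A t).mul_right_eq_zero.1 h1
    obtain ⟨t, ht⟩ := (IsLocalizedModule.eq_zero_iff S mk).1 h0
    exact ⟨t, t.2, ht⟩
  · let y' : Module.Dual A (Module.Dual A (LocalizedModule S G)) :=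
      IsLocalizedModule.mapExtendScalars S h (Algebra.linearMap R A) A y
    obtain ⟨z, hz⟩ := (Module.bijective_dual_eval A (LocalizedModule S G)).2 y'
    obtain ⟨⟨x, s⟩, hxs⟩ := IsLocalizedModule.surj S mk z
    have heq : (Algebra.linearMap R A).comp (Module.Dual.eval R G x) =
        (Algebra.linearMap R A).comp ((s : R) • y) := by
      refine LinearMap.ext fun φ => ?_
      have h1 : y' (h φ) = algebraMap R A (y φ) := IsLocalizedModule.map_apply S h (Algebra.linearMap R A) y φ
      show algebraMap R A (φ x) = algebraMap R A ((s : R) • y φ)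
      rw [smul_eq_mul, map_mul, ← h1, ← happ, ← hxs, ← hz, Module.Dual.eval_apply, Submonoid.smul_def,
        ← algebraMap_smul A (s : R) z, map_smul, smul_eq_mul]
    obtain ⟨t, ht⟩ := Module.Finite.exists_smul_of_comp_eq_of_isLocalizedModule S (Algebra.linearMap R A) _ _ heq
    refine ⟨(t : R) * s, mul_mem t.2 s.2, (t : R) • x, ?_⟩
    rw [map_smul, mul_smul]
    exact ht

/-- A module reflexive off `V(I)` of depth at least two is reflexive. -/
theorem isReflexive_of_off (hA : 1 ≤ LocCoh.idealDepth I R) (G : Type u) [AddCommGroup G] [Module R G]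
    [Module.Finite R G]
    (hU : ∀ p : PrimeSpectrum R, ¬ I ≤ p.asIdeal →
      Module.IsReflexive (Localization.AtPrime p.asIdeal) (LocalizedModule p.asIdeal.primeCompl G))
    (hG : 2 ≤ LocCoh.idealDepth I G) : Module.IsReflexive R G := by
  obtain ⟨n, g, hg⟩ := Module.Finite.exists_fin' R (Module.Dual R G)
  let e : Module.Dual R (Module.Dual R G) →ₗ[R] (Fin n → R) :=
    (Pi.basisFun R (Fin n)).toDualEquiv.symm.toLinearMap ∘ₗ g.dualMap
  have he : Function.Injective e :=
    (Pi.basisFun R (Fin n)).toDualEquiv.symm.injective.comp (LinearMap.dualMap_injective_of_surjective hg)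
  refine ⟨bijective_of_bijective_off I (Module.Dual.eval R G) (fun p hp x hx => ?_) (fun p hp y => ?_) hG ?_⟩
  · haveI := hU p hp
    exact (eval_of_isReflexive_localized G p.asIdeal.primeCompl).1 x hx
  · haveI := hU p hp
    exact (eval_of_isReflexive_localized G p.asIdeal.primeCompl).2 y
  · rw [← Nat.cast_one] at hA
    exact le_idealDepth_of_injective I e he (by rw [← Nat.cast_one]; exact le_idealDepth_pi I 1 hA n)

end Groth.Agent.KFlatLib
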