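import Groth.Agent.KFlatLib.Ring.DualizingBottom
import Groth.Agent.KFlatLib.Ring.DualizingEquidim
import Groth.Agent.KFlatLib.Ring.FreeUpTo
import Groth.Agent.KFlatLib.Ring.ReflexiveDepth
import Groth.Agent.LC.DepthLoc

/-!
# Dualizing complexes concentrated in one degree outside a small closed set
-/

set_option linter.style.haveILetI false
set_option backward.isDefEq.respectTransparency false

universe u

open CategoryTheory CategoryTheory.Limits Pretriangulated IsLocalRing

attribute [local instance] HasDerivedCategory.standard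

namespace Groth.Agent.KFlatLib

variable {A : Type u} [CommRing A]

/-- The dimension of a localized module is at most the height of the prime. -/
lemma supportDim_localized_le_height (p : PrimeSpectrum A) (M : Type u) [AddCommGroup M] [Module A M] :
    Module.supportDim (Localization.AtPrime p.asIdeal) (LocalizedModule p.asIdeal.primeCompl M) ≤
      ((p.asIdeal.height : ℕ∞) : WithBot ℕ∞) :=
  (Module.supportDim_le_ringKrullDim _ _).trans_eq
    (IsLocalization.AtPrime.ringKrullDim_eq_height p.asIdeal (Localization.AtPrime p.asIdeal))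

/-- A strictly monotone integer function bounded below bounds the height. -/
lemma height_le_of_strictMono {n : PrimeSpectrum A → ℤ} (hmono : StrictMono n) (c : ℤ) (hc : ∀ Q, c ≤ n Q)
    (P : PrimeSpectrum A) : P.asIdeal.height ≤ ((n P - c).toNat : ℕ∞) := by
  refine WithBot.coe_le_coe.1 ?_
  rw [← IsLocalization.AtPrime.ringKrullDim_eq_height P.asIdeal (Localization.AtPrime P.asIdeal)]
  refine iSup_le fun s => ?_
  let g : PrimeSpectrum (Localization.AtPrime P.asIdeal) → PrimeSpectrum A :=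
    PrimeSpectrum.comap (algebraMap A (Localization.AtPrime P.asIdeal))
  have hg : StrictMono g := by
    intro x y hxy
    refine lt_of_le_of_ne (Ideal.comap_mono hxy.le) fun e => hxy.ne ?_
    exact PrimeSpectrum.localization_comap_injective (Localization.AtPrime P.asIdeal) P.asIdeal.primeCompl e
  have h1 : ∀ k : ℕ, ∀ hk : k < s.length + 1, c + k ≤ n (g (s ⟨k, hk⟩)) := by
    intro k
    induction k with
    | zero =>
      intro hk
      simpa using hc _
    | succ k ih =>
      intro hk
      have h2 := ih (by omega)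
      have h3 := hmono (hg (s.step ⟨k, by omega⟩))
      simp only [Fin.castSucc_mk, Fin.succ_mk] at h3
      push_cast
      omega
  have h2 := h1 s.length (by omega)
  have h3 : g (s ⟨s.length, by omega⟩) ≤ P :=
    (Ideal.comap_mono (IsLocalRing.le_maximalIdeal (s ⟨s.length, by omega⟩).isPrime.ne_top)).trans
      (IsLocalization.AtPrime.comap_maximalIdeal (Localization.AtPrime P.asIdeal) P.asIdeal).le
  have h4 := hmono.monotone h3
  exact_mod_cast (show s.length ≤ (n P - c).toNat by omega)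

variable [IsNoetherianRing A]

/-- Serre's condition gives ideal depth. -/
lemma le_idealDepth_of_hasSk (k : ℕ) (hS : LocCoh.HasSk k A A) (j : ℕ) (hj : j ≤ k) (J : Ideal A)
    (hJ : (j : ℕ∞) ≤ J.height) : (j : ℕ∞) ≤ LocCoh.idealDepth J A := by
  rw [LC.idealDepth_eq_iInf_depth]
  refine le_iInf₂ fun p hp => (min_le_coe_iff _ _ _).1 (hS p.asIdeal) j hj ?_
  rw [Module.supportDim_eq_of_equiv (LC.selfLoc p.asIdeal.primeCompl), Module.supportDim_self_eq_ringKrullDim,
    IsLocalization.AtPrime.ringKrullDim_eq_height p.asIdeal (Localization.AtPrime p.asIdeal)]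
  exact WithBot.coe_le_coe.2 (hJ.trans (Ideal.height_mono hp))

/-- Depth of a dual module. -/
lemma le_idealDepth_dual (J : Ideal A) (j : ℕ) (hj : j ≤ 2) (h : (j : ℕ∞) ≤ LocCoh.idealDepth J A)
    (M : Type u) [AddCommGroup M] [Module A M] [Module.Finite A M] :
    (j : ℕ∞) ≤ LocCoh.idealDepth J (Module.Dual A M) := by
  match j, hj with
  | 0, _ => simp
  | 1, _ =>
    obtain ⟨b, π, hπ⟩ := Module.Finite.exists_fin' A M
    have h1 : ((1 : ℕ) : ℕ∞) ≤ LocCoh.idealDepth J (Module.Dual A (Fin b → A)) := by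
      rw [← LC.idealDepth_congr J (Pi.basisFun A (Fin b)).toDualEquiv]
      exact le_idealDepth_pi J 1 h b
    exact le_idealDepth_of_injective J π.dualMap (LinearMap.dualMap_injective_of_surjective hπ) h1
  | 2, _ => exact two_le_idealDepth_dual J h M

/-- Duals are `(S₂)` over an `(S₂)` ring. -/
theorem hasSk_two_dual (hS : LocCoh.HasSk 2 A A) (M : Type u) [AddCommGroup M] [Module A M] [Module.Finite A M] :
    LocCoh.HasSk 2 A (Module.Dual A M) := fun p hp => by
  haveI := hp
  refine (min_le_coe_iff _ _ _).2 fun j hj hjd => ?_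
  have hh : (j : ℕ∞) ≤ p.height :=
    WithBot.coe_le_coe.1 (hjd.trans (supportDim_localized_le_height ⟨p, hp⟩ (Module.Dual A M)))
  exact (le_idealDepth_dual p j hj (le_idealDepth_of_hasSk 2 hS j hj p hh) M).trans
    (LC.idealDepth_le_depth_localized p (Module.Dual A M) p le_rfl)

variable {ω : Dual.D A} {n : PrimeSpectrum A → ℤ}

/-- Depth of the bottom cohomology through the degree. -/
theorem le_idealDepth_bottom (hω : Dual.IsDualizing A ω) (hn : IsExtDegree ω n) (c : ℤ) [ω.IsGE c]
    (J : Ideal A) (k : ℕ) (hk : k ≤ 2) (h : ∀ Q : PrimeSpectrum A, J ≤ Q.asIdeal → c + (k : ℤ) ≤ n Q) :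
    (k : ℕ∞) ≤ LocCoh.idealDepth J (Dual.HD A ω c) := by
  haveI := hω.finite_cohomology c
  refine (LC.le_idealDepth_iff_ext J (Dual.HD A ω c) k).2 fun i hi => ?_
  refine subsingleton_ext_bottom ω c (A ⧸ J) i (by omega) (subsingleton_hom_quotient_of_lt hn J _ fun P hP => ?_)
  have := h P hP
  omega

/-- The bottom cohomology satisfies `(S₂)` when its degrees are the heights. -/
theorem hasSk_two_bottom (hω : Dual.IsDualizing A ω) (hn : IsExtDegree ω n) (hmono : StrictMono n) (c : ℤ)
    [ω.IsGE c] (hc : ∀ Q, c ≤ n Q) : LocCoh.HasSk 2 A (Dual.HD A ω c) := fun p hp => by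
  haveI := hp
  haveI := hω.finite_cohomology c
  let P : PrimeSpectrum A := ⟨p, hp⟩
  refine (min_le_coe_iff _ _ _).2 fun j hj hjd => ?_
  have hh : (j : ℕ∞) ≤ P.asIdeal.height :=
    WithBot.coe_le_coe.1 (hjd.trans (supportDim_localized_le_height P _))
  have h1 := Nat.cast_le.1 (hh.trans (height_le_of_strictMono hmono c hc P))
  refine (le_idealDepth_bottom hω hn c p j hj fun Q hQ => ?_).trans
    (LC.idealDepth_le_depth_localized p _ p le_rfl)
  have := hmono.monotone (show P ≤ Q from hQ)
  have := hc P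
  omega

/-- The degree function of a complex concentrated in degree zero at the minimal primes. -/
theorem exists_degree_of_off [IsLocalRing A] (hω : Dual.IsDualizing A ω) (d : ℕ) (hd : ringKrullDim A = d)
    (J : Ideal A) (hJ : 1 ≤ J.height)
    (hoff : ∀ p : PrimeSpectrum A, ¬ J ≤ p.asIdeal → ∀ i : ℤ, i ≠ 0 → p ∉ Module.support A (Dual.HD A ω i)) :
    ∃ n : PrimeSpectrum A → ℤ, IsExtDegree ω n ∧ StrictMono n ∧ (∀ Q, 0 ≤ n Q) ∧
      (∀ Q, (Q.asIdeal.height : ℕ∞) ≤ ((n Q).toNat : ℕ∞)) ∧ ω.IsGE 0 ∧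
      Dual.IsNormalized A (ω⟦(d : ℤ)⟧) ∧ (∀ p ∈ minimalPrimes A, ringKrullDim (A ⧸ p) = (d : WithBot ℕ∞)) := by
  classical
  obtain ⟨n, hn, hcov, hmono, -⟩ := exists_extDegree hω
  obtain ⟨a, b, -, _, _⟩ := exists_bounds_of_isDualizing hω
  have hminJ : ∀ P : PrimeSpectrum A, P.asIdeal ∈ minimalPrimes A → ¬ J ≤ P.asIdeal := by
    intro P hP hJP
    have h1 : P.asIdeal.height = 0 := Ideal.height_eq_zero_iff.2 hP
    have := hJ.trans (Ideal.height_mono hJP)
    rw [h1] at this
    exact absurd this (by simp)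
  have hmin : ∀ P : PrimeSpectrum A, P.asIdeal ∈ minimalPrimes A → n P = 0 := by
    intro P hP
    obtain ⟨δ, D, hδ, hD⟩ := exists_depth_dim P A
      (by rw [Module.support_eq_zeroLocus, Module.annihilator_eq_bot.2 inferInstance]; simp)
    obtain ⟨-, h2, -⟩ := localized_ext_range hω hn P A δ D hδ hD
    obtain ⟨e'⟩ := exists_homRingLEquiv ω (n P - D)
    have h3 : P ∈ Module.support A (Dual.HD A ω (n P - D)) := by rw [← e'.support_eq]; exact h2
    have hD0 : D = 0 := by
      have h4 := supportDim_localized_le_height P A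
      rw [hD] at h4
      have h5 : (D : ℕ∞) ≤ P.asIdeal.height := WithBot.coe_le_coe.1 h4
      rw [Ideal.height_eq_zero_iff.2 hP] at h5
      exact_mod_cast le_antisymm h5 bot_le
    by_contra hne
    exact hoff P (hminJ P hP) (n P - D) (by omega) h3
  have hnn : ∀ Q, 0 ≤ n Q := fun Q => by
    obtain ⟨P, hP, hPQ⟩ := Ideal.exists_minimalPrimes_le (show (⊥ : Ideal A) ≤ Q.asIdeal from bot_le)
    have := hmono.monotone (show (⟨P, hP.1.1⟩ : PrimeSpectrum A) ≤ Q from hPQ)
    rw [hmin ⟨P, hP.1.1⟩ hP] at this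
    exact this
  have hdimP : ∀ p ∈ minimalPrimes A, ∃ e : ℕ, ringKrullDim (A ⧸ p) = (e : WithBot ℕ∞) ∧
      (e : ℤ) = n (closedPoint A) := fun p hp => by
    obtain ⟨e, he, he'⟩ := ringKrullDim_quotient_eq hcov hmono ⟨p, hp.1.1⟩
    rw [hmin ⟨p, hp.1.1⟩ hp, sub_zero] at he'
    exact ⟨e, he, he'⟩
  have hnd : n (closedPoint A) = d := by
    have hAd : Module.supportDim A A = d := by rw [Module.supportDim_self_eq_ringKrullDim, hd]
    obtain ⟨Q, -, hQmin, hQd⟩ := exists_mem_support_dim A d hAd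
    have hQ : Q.asIdeal ∈ minimalPrimes A := ⟨⟨Q.isPrime, bot_le⟩, fun r hr hrQ =>
      (congrArg PrimeSpectrum.asIdeal (hQmin ⟨r, hr.1⟩
        (by rw [Module.support_eq_zeroLocus, Module.annihilator_eq_bot.2 inferInstance]; simp) hrQ)).ge⟩
    obtain ⟨e, he, he'⟩ := hdimP _ hQ
    have h1 : ringKrullDim (A ⧸ Q.asIdeal) ≤ ringKrullDim A :=
      ringKrullDim_le_of_surjective (Ideal.Quotient.mk Q.asIdeal) Ideal.Quotient.mk_surjective
    rw [he, hd] at h1
    rw [he] at hQd
    have : e ≤ d := by exact_mod_cast h1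
    have : d ≤ e := by exact_mod_cast hQd
    omega
  refine ⟨n, hn, hmono, hnn, fun Q => ?_, ?_, ?_, fun p hp => ?_⟩
  · simpa using height_le_of_strictMono hmono 0 hnn Q
  · refine (DerivedCategory.isGE_iff ω 0).2 fun i hi => ?_
    obtain ⟨e⟩ := exists_homRingLEquiv ω i
    haveI := subsingleton_hom_module_of_lt hn A i fun P _ => lt_of_lt_of_le hi (hnn P)
    exact @ModuleCat.isZero_of_subsingleton _ _ _ e.symm.injective.subsingleton
  · haveI := hasLTen A
    haveI := hasRHom (A := A)
    obtain ⟨c, hc, -⟩ := exists_unique_ext_point (maximalIdeal A) hω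
    have hcd : c = (d : ℤ) := by
      by_contra hne
      haveI := hc (d : ℤ) (Ne.symm hne)
      haveI := (hn (closedPoint A) (d : ℤ)).2 hnd.symm
      exact not_subsingleton _ (LocalizedModule.subsingleton_iff.2 fun f =>
        ⟨1, one_mem _, Subsingleton.elim (α := Dual.inD A (A ⧸ maximalIdeal A) ⟶ ω⟦(d : ℤ)⟧) _ _⟩ :
        Subsingleton (LocalizedModule (closedPoint A).asIdeal.primeCompl
          (Dual.inD A (A ⧸ (closedPoint A).asIdeal) ⟶ ω⟦(d : ℤ)⟧)))
    intro i hi
    haveI : Subsingleton (Dual.inD A (ResidueField A) ⟶ ω⟦(d : ℤ) + i⟧) := hc _ (by omega)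
    exact (Iso.homToEquiv ((shiftFunctorAdd (Dual.D A) (d : ℤ) i).app ω)).symm.subsingleton
  · obtain ⟨e, he, he'⟩ := hdimP p hp
    rw [he]
    have : e = d := by omega
    rw [this]

end Groth.Agent.KFlatLib
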