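import Groth.Agent.KFlatLib.Ring.DualizingExt

/-!
# Ext into a normalized dualizing complex over a local ring
-/

set_option linter.style.haveILetI false
set_option backward.isDefEq.respectTransparency false

universe u

open CategoryTheory CategoryTheory.Limits Pretriangulated MonoidalCategory

attribute [local instance] HasDerivedCategory.standard

namespace Groth.Agent.KFlatLib

variable {A : Type u} [CommRing A]

/-- Cohomology is Ext out of the ring. -/
lemma exists_homRingLEquiv (Y : Dual.D A) (i : ℤ) :
    Nonempty ((Dual.inD A A ⟶ Y⟦i⟧) ≃ₗ[A] Dual.HD A Y i) := by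
  obtain ⟨e⟩ := exists_shiftHomLEquiv (DTen.unit A) Y i
  obtain ⟨u⟩ := exists_homUnitLEquiv Y (-i) i (by omega)
  exact ⟨(Linear.homCongr A ((DerivedCategory.singleFunctorIsoCompQ (ModuleCat.{u} A) 0).app (ModuleCat.of A A))
    (Iso.refl _)).trans (e.trans u)⟩

variable [IsNoetherianRing A] [IsLocalRing A] {ω : Dual.D A}

/-- The degree function of a normalized dualizing complex is minus the dimension. -/
theorem exists_normalized_degree (hω : Dual.IsDualizing A ω) (hN : Dual.IsNormalized A ω) :
    ∃ n : PrimeSpectrum A → ℤ, IsExtDegree ω n ∧ n (IsLocalRing.closedPoint A) = 0 ∧ StrictMono n ∧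
      (∀ P, n P ≤ 0) ∧
      ∀ P : PrimeSpectrum A, ∃ e : ℕ, ringKrullDim (A ⧸ P.asIdeal) = (e : WithBot ℕ∞) ∧ (e : ℤ) = -n P := by
  obtain ⟨n, hn, hcov, hmono, -⟩ := exists_extDegree hω
  have h0 := extDegree_closedPoint hN hn
  refine ⟨n, hn, h0, hmono, fun P => ?_, fun P => ?_⟩
  · have := hmono.monotone (show P ≤ IsLocalRing.closedPoint A from IsLocalRing.le_maximalIdeal P.isPrime.ne_top)
    omega
  · obtain ⟨e, he, he'⟩ := ringKrullDim_quotient_eq hcov hmono P
    exact ⟨e, he, by omega⟩

/-- Ext into a normalized dualizing complex vanishes in positive degrees. -/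
theorem subsingleton_hom_module_of_pos (hω : Dual.IsDualizing A ω) (hN : Dual.IsNormalized A ω)
    (M : Type u) [AddCommGroup M] [Module A M] [Module.Finite A M] (i : ℤ) (hi : 0 < i) :
    Subsingleton (Dual.inD A M ⟶ ω⟦i⟧) := by
  obtain ⟨n, hn, h0, -, hle, -⟩ := exists_normalized_degree hω hN
  obtain ⟨a, b, -, _, _⟩ := exists_bounds_of_isDualizing hω
  rw [← Module.support_eq_empty_iff (R := A), Set.eq_empty_iff_forall_notMem]
  intro q hq
  have := le_extDegree_of_mem_support hn a hω.finite_cohomology M i hq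
  have := hle q
  omega

/-- The amplitude and the support of Ext into a normalized dualizing complex. -/
theorem ext_amplitude_and_support (hω : Dual.IsDualizing A ω) (hN : Dual.IsNormalized A ω)
    (M : Type u) [AddCommGroup M] [Module A M] [Module.Finite A M] (d : ℕ)
    (hd : Module.supportDim A M = d) (i : ℤ) :
    (Nontrivial (Dual.inD A M ⟶ ω⟦i⟧) → (-(d : ℤ) ≤ i ∧ i ≤ 0)) ∧
      Module.supportDim A (Dual.inD A M ⟶ ω⟦i⟧) ≤ ((-i).toNat : WithBot ℕ∞) := by
  obtain ⟨n, hn, h0, hmono, hle, hdim⟩ := exists_normalized_degree hω hN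
  obtain ⟨a, b, -, _, _⟩ := exists_bounds_of_isDualizing hω
  refine ⟨fun hnt => ⟨?_, ?_⟩, iSup_le fun s => ?_⟩
  · by_contra hcon
    refine not_subsingleton _ (subsingleton_hom_module_of_lt hn M i fun P hP => ?_)
    obtain ⟨e, he, he'⟩ := hdim P
    have hed : e ≤ d := by
      have h1 : ringKrullDim (A ⧸ P.asIdeal) ≤ Module.supportDim A M := by
        rw [ringKrullDim_quotient]
        exact Order.krullDim_le_of_strictMono (fun Q => ⟨Q.1, Module.mem_support_mono Q.2 hP⟩)
          fun x y h => h
      rw [he, hd] at h1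
      exact_mod_cast h1
    omega
  · by_contra hcon
    exact not_subsingleton _ (subsingleton_hom_module_of_pos hω hN M i (by omega))
  · have h1 : ∀ k : ℕ, ∀ hk : k < s.length + 1, i + k ≤ n (s ⟨k, hk⟩).1 := by
      intro k
      induction k with
      | zero =>
        intro hk
        simpa using le_extDegree_of_mem_support hn a hω.finite_cohomology M i (s ⟨0, hk⟩).2
      | succ k ih =>
        intro hk
        have h2 := ih (by omega)
        have h3 := hmono (s.step ⟨k, by omega⟩)
        simp only [Fin.castSucc_mk, Fin.succ_mk] at h3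
        push_cast
        omega
    have h2 := h1 s.length (by omega)
    have h3 := hle (s ⟨s.length, by omega⟩).1
    exact_mod_cast (show s.length ≤ (-i).toNat by omega)

/-- The extreme Ext does not vanish. -/
theorem nontrivial_ext_neg_supportDim (hω : Dual.IsDualizing A ω) (hN : Dual.IsNormalized A ω)
    (M : Type u) [AddCommGroup M] [Module A M] [Module.Finite A M] (d : ℕ)
    (hd : Module.supportDim A M = d) : Nontrivial (Dual.inD A M ⟶ ω⟦-(d : ℤ)⟧) := by
  obtain ⟨n, hn, -, -, -, hdim⟩ := exists_normalized_degree hω hN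
  obtain ⟨a, b, -, _, _⟩ := exists_bounds_of_isDualizing hω
  obtain ⟨P, hP, hmin, hPd⟩ := exists_mem_support_dim M d hd
  obtain ⟨e, he, he'⟩ := hdim P
  have hed : e = d := by
    refine le_antisymm ?_ (by rw [he] at hPd; exact_mod_cast hPd)
    have h1 : ringKrullDim (A ⧸ P.asIdeal) ≤ Module.supportDim A M := by
      rw [ringKrullDim_quotient]
      exact Order.krullDim_le_of_strictMono (fun Q => ⟨Q.1, Module.mem_support_mono Q.2 hP⟩)
        fun x y h => h
    rw [he, hd] at h1
    exact_mod_cast h1
  rw [Module.support_eq_zeroLocus] at hP hmin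
  obtain ⟨-, f, hf⟩ := (isAssociatedPrime_iff_exists_injective_linearMap _ _).1
    (Module.associatedPrimes.minimalPrimes_annihilator_subset_associatedPrimes A M
      (show P.asIdeal ∈ (Module.annihilator A M).minimalPrimes from
        ⟨⟨P.isPrime, hP⟩, fun q hq hqP => (congrArg PrimeSpectrum.asIdeal (hmin ⟨q, hq.1⟩ hq.2 hqP)).ge⟩))
  have h1 := nontrivial_localized_of_injective hn a hω.finite_cohomology M P f hf
  rw [show n P = -(d : ℤ) by omega] at h1
  by_contra hcon
  rw [not_nontrivial_iff_subsingleton] at hcon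
  exact not_subsingleton (LocalizedModule P.asIdeal.primeCompl (Dual.inD A M ⟶ ω⟦-(d : ℤ)⟧))
    (LocalizedModule.subsingleton_iff.2 fun φ => ⟨1, one_mem _, Subsingleton.elim _ _⟩)

/-- At a minimal prime the surviving cohomology sits in minus the dimension. -/
theorem nontrivial_localized_hd_iff (hω : Dual.IsDualizing A ω) (hN : Dual.IsNormalized A ω)
    (p : Ideal A) [p.IsPrime] (hp : p ∈ minimalPrimes A) (e : ℕ) (he : ringKrullDim (A ⧸ p) = e) (i : ℤ) :
    Nontrivial (LocalizedModule p.primeCompl (Dual.HD A ω i)) ↔ i = -(e : ℤ) := by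
  obtain ⟨n, hn, -, -, -, hdim⟩ := exists_normalized_degree hω hN
  obtain ⟨a, b, -, _, _⟩ := exists_bounds_of_isDualizing hω
  let P : PrimeSpectrum A := ⟨p, inferInstance⟩
  obtain ⟨e', he1, he2⟩ := hdim P
  have hee : e' = e := by
    rw [he] at he1
    exact_mod_cast he1.symm
  obtain ⟨-, f, hf⟩ := (isAssociatedPrime_iff_exists_injective_linearMap _ _).1
    (Module.associatedPrimes.minimalPrimes_annihilator_subset_associatedPrimes A A (show p ∈ (Module.annihilator A A).minimalPrimes by
      rw [Module.annihilator_eq_bot.2 inferInstance]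
      exact hp))
  have h1 := nontrivial_localized_of_injective hn a hω.finite_cohomology A P f hf
  obtain ⟨i₀, hi₀, huniq⟩ := exists_unique_hd_minimalPrime hω p hp
  obtain ⟨eU⟩ := exists_homRingLEquiv ω (n P)
  have h2 : Nontrivial (LocalizedModule p.primeCompl (Dual.HD A ω (n P))) := by
    by_contra hcon
    rw [not_nontrivial_iff_subsingleton] at hcon
    refine not_subsingleton (LocalizedModule P.asIdeal.primeCompl (Dual.inD A A ⟶ ω⟦n P⟧))
      (LocalizedModule.subsingleton_iff.2 fun φ => ?_)
    obtain ⟨s, hs, hsφ⟩ := LocalizedModule.subsingleton_iff.1 hcon (eU φ)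
    exact ⟨s, hs, eU.injective (by rw [map_smul, map_zero]; exact hsφ)⟩
  constructor
  · intro h
    rw [huniq i h, ← huniq _ h2]
    omega
  · intro h
    rw [h, show -(e : ℤ) = n P by omega]
    exact h2

end Groth.Agent.KFlatLib
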