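import Groth.Agent.KFlatLib.Ring.DualizingShriek
import Groth.Agent.KFlatLib.Ring.InvertibleTwist
import Groth.Agent.KFlatLib.Ring.DualizingLocalExt
import Groth.Agent.H9Misc.ExactLeftAdj
import Groth.Agent.H9Misc.DRingRelPC
import Groth.Agent.LC.GorDualizing
import Mathlib.RingTheory.Flat.Localization

/-!
# Dualizing complexes along flat maps with Gorenstein fibres
-/

set_option linter.style.haveILetI false
set_option backward.isDefEq.respectTransparency false

universe u

open CategoryTheory CategoryTheory.Limits Pretriangulated MonoidalCategory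

open scoped TensorProduct

attribute [local instance] HasDerivedCategory.standard

namespace Groth.Agent.KFlatLib

/-- Restriction of scalars on derived categories has a right adjoint. -/
theorem exists_shriek {A B : Type u} [CommRing A] [CommRing B] (φ : A →+* B) :
    ∃ R : Dual.D A ⥤ Dual.D B, Nonempty (DRing.restrictD φ ⊣ R) := by
  let adj := ModuleCat.restrictCoextendScalarsAdj.{u} φ
  haveI : (ModuleCat.restrictScalars.{u} φ).IsLeftAdjoint := adj.isLeftAdjoint
  haveI : (ModuleCat.coextendScalars.{u, u, u} φ).Additive := adj.right_adjoint_additive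
  obtain ⟨R, a, -⟩ := H9Misc.ExactLeftAdj.exists_rightAdjoint adj
  exact ⟨R, ⟨a⟩⟩

/-- Derived base change along a composite. -/
lemma nonempty_LBase_comp {A B C : Type u} [CommRing A] [CommRing B] [CommRing C] (φ : A →+* B) (ψ : B →+* C)
    (χ : A →+* C) (h : ψ.comp φ = χ) [DTen.HasLBase φ] [DTen.HasLBase ψ] [DTen.HasLBase χ] :
    Nonempty (DTen.LBase φ ⋙ DTen.LBase ψ ≅ DTen.LBase χ) := by
  subst h
  exact ⟨Adjunction.leftAdjointUniq
    (((DTen.baseAdj φ).comp (DTen.baseAdj ψ)).ofNatIsoRight (H9Misc.DRingRelPC.restrictDCompIso φ ψ).symm)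
    (DTen.baseAdj (ψ.comp φ))⟩

section Local

variable {A B : Type u} [CommRing A] [CommRing B] [Algebra A B] [IsLocalRing A] [IsLocalRing B]
  [IsNoetherianRing B] [Module.Flat A B] [DTen.HasLBase (algebraMap A B)]

/-- A flat local map with Gorenstein closed fibre preserves dualizing complexes. -/
theorem isDualizing_LBase_of_gorenstein_fibre {ω : Dual.D A} (hω : Dual.IsDualizing A ω)
    (hle : (IsLocalRing.maximalIdeal A).map (algebraMap A B) ≤ IsLocalRing.maximalIdeal B)
    (hF : LocCoh.IsGorensteinLocalRing (B ⧸ (IsLocalRing.maximalIdeal A).map (algebraMap A B))) :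
    Dual.IsDualizing B ((DTen.LBase (algebraMap A B)).obj ω) := by
  haveI := hω.isNoetherianRing
  haveI := hasLTen A
  haveI := hasRHom (A := A)
  haveI := hasLTen B
  haveI := hasRHom (A := B)
  let W := (DTen.LBase (algebraMap A B)).obj ω
  let J := (IsLocalRing.maximalIdeal A).map (algebraMap A B)
  let F := B ⧸ J
  haveI : LocCoh.IsGorensteinLocalRing F := hF
  haveI : IsNoetherianRing F := inferInstance
  haveI : IsLocalRing F := inferInstance
  haveI := hasLTen F
  haveI := hasRHom (A := F)
  obtain ⟨n, hvan, ⟨hd⟩⟩ := exists_unique_ext_point (IsLocalRing.maximalIdeal A) hω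
  obtain ⟨a, b, -, _, _⟩ := exists_bounds_of_isDualizing hω
  haveI := isGE_LBase_flat (B := B) ω a
  obtain ⟨eJ⟩ := nonempty_LBase_inD_quotient (B := B) (IsLocalRing.maximalIdeal A)
  have hpc := (Groth.Agent.S6942.result A 0 ω (A ⧸ IsLocalRing.maximalIdeal A)).2.2 inferInstance
  -- Ext out of the closed fibre
  have hEvan : ∀ i : ℤ, i ≠ n → Subsingleton (Dual.inD B F ⟶ W⟦i⟧) := fun i hi => by
    obtain ⟨e⟩ := exists_homBaseChangeLEquiv (B := B) (X := Dual.inD A (A ⧸ IsLocalRing.maximalIdeal A))
      (Y := ω) hpc a i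
    haveI := hvan i hi
    haveI := e.injective.subsingleton
    exact eJ.homFromEquiv.symm.subsingleton
  obtain ⟨eF⟩ : Nonempty ((Dual.inD B F ⟶ W⟦n⟧) ≃ₗ[B] F) := by
    obtain ⟨e⟩ := exists_homBaseChangeLEquiv (B := B) (X := Dual.inD A (A ⧸ IsLocalRing.maximalIdeal A))
      (Y := ω) hpc a n
    exact ⟨(Linear.homCongr B eJ.symm (Iso.refl _)).trans (e.trans
      ((TensorProduct.AlgebraTensorModule.congr (LinearEquiv.refl B B) hd).trans
        (Algebra.TensorProduct.quotIdealMapEquivTensorQuot B (IsLocalRing.maximalIdeal A)).symm.toLinearEquiv))⟩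
  -- the fibre's share
  obtain ⟨R, ⟨adj⟩⟩ := exists_shriek (algebraMap B F)
  let RW := R.obj W
  have hsurj : Function.Surjective (algebraMap B F) := Ideal.Quotient.mk_surjective
  let eFres : (DRing.restrictD (algebraMap B F)).obj (Dual.inD F F) ≅ Dual.inD B F :=
    H9Misc.DRingRestrict.restrictInDIso (algebraMap B F) (ModuleCat.of F F) ≪≫
      (DerivedCategory.singleFunctor (ModuleCat.{u} B) 0).mapIso
        (LinearEquiv.ofBijective
          ({ toFun := fun x => x
             map_add' := fun _ _ => rfl
             map_smul' := fun r (x : F) => (Algebra.smul_def r x).symm } :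
            ((ModuleCat.restrictScalars (algebraMap B F)).obj (ModuleCat.of F F) : Type u) →ₗ[B] F)
          Function.bijective_id).toModuleIso
  have key : ∀ i : ℤ, ∃ e : Dual.HD F RW i ≃ (Dual.inD B F ⟶ W⟦i⟧),
      (∀ x y, e (x + y) = e x + e y) ∧ ∀ r x, e (algebraMap B F r • x) = r • e x := by
    intro i
    obtain ⟨e₁⟩ := exists_homRingLEquiv RW i
    obtain ⟨e₂, hadd, hsmul⟩ := exists_shriekHomEquiv (algebraMap B F) R adj (Dual.inD F F) W i
    let c := Linear.homCongr B eFres (Iso.refl (W⟦i⟧))
    exact ⟨e₁.symm.toEquiv.trans (e₂.trans c.toEquiv),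
      fun x y => (congrArg (fun z => c (e₂ z)) (map_add e₁.symm x y)).trans
        ((congrArg c (hadd _ _)).trans (map_add c _ _)),
      fun r x => (congrArg (fun z => c (e₂ z)) (map_smul e₁.symm (algebraMap B F r) x)).trans
        ((congrArg c (hsmul r _)).trans (map_smul c r _))⟩
  have hz : ∀ i : ℤ, i ≠ n → IsZero ((DerivedCategory.homologyFunctor (ModuleCat.{u} F) i).obj RW) :=
    fun i hi => by
      obtain ⟨e, -, -⟩ := key i
      haveI := hEvan i hi
      exact @ModuleCat.isZero_of_subsingleton _ _ _ e.subsingleton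
  obtain ⟨en⟩ : Nonempty (Dual.HD F RW n ≃ₗ[F] F) := by
    obtain ⟨e, hadd, hsmul⟩ := key n
    exact ⟨{ (e.trans eF.toEquiv) with
      map_add' := fun x y => by simp [hadd]
      map_smul' := fun r x => by
        obtain ⟨s, rfl⟩ := hsurj r
        change eF (e (algebraMap B F s • x)) = algebraMap B F s • eF (e x)
        rw [hsmul, map_smul]
        exact Algebra.smul_def s (eF (e x)) }⟩
  haveI : RW.IsGE n := (DerivedCategory.isGE_iff _ _).2 fun i hi => hz i (by omega)
  haveI : RW.IsLE n := (DerivedCategory.isLE_iff _ _).2 fun i hi => hz i (by omega)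
  obtain ⟨e₁⟩ := H9Misc.nonempty_iso_single_homology n RW
  let eRW : (Dual.inD F F)⟦-n⟧ ≅ RW :=
    ((DerivedCategory.singleFunctors (ModuleCat.{u} F)).shiftIso (-n) n 0 (by omega)).app (ModuleCat.of F F) ≪≫
      (DerivedCategory.singleFunctor (ModuleCat.{u} F) n).mapIso en.symm.toModuleIso ≪≫ e₁.symm
  have hRW : Dual.IsDualizing F RW :=
    isDualizing_of_iso eRW (isDualizing_shift ((Groth.Agent.LC.gorenstein_iff_isDualizing F).1 hF) (-n))
  obtain ⟨c, hcvan, ⟨hcd⟩⟩ := exists_unique_ext_point (IsLocalRing.maximalIdeal F) hRW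
  -- the residue field
  let g : (B ⧸ IsLocalRing.maximalIdeal B) →ₗ[B]
      (ModuleCat.restrictScalars (algebraMap B F)).obj (ModuleCat.of F (F ⧸ IsLocalRing.maximalIdeal F)) :=
    Submodule.liftQ (IsLocalRing.maximalIdeal B)
      { toFun := fun x => Ideal.Quotient.mk (IsLocalRing.maximalIdeal F) (algebraMap B F x)
        map_add' := fun x y => by rw [map_add, map_add]
        map_smul' := fun x y => by rw [smul_eq_mul, map_mul, map_mul]; try rfl }
      (fun x hx => Ideal.Quotient.eq_zero_iff_mem.2 (by
        intro hu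
        obtain ⟨y, hy⟩ := hu.exists_right_inv
        obtain ⟨z, rfl⟩ := hsurj y
        rw [← map_mul, ← map_one (algebraMap B F)] at hy
        have h1 : x * z - 1 ∈ J := Ideal.Quotient.eq.1 hy
        have h2 := (IsLocalRing.maximalIdeal B).sub_mem
          ((IsLocalRing.maximalIdeal B).mul_mem_right z hx) (hle h1)
        rw [sub_sub_cancel] at h2
        exact (IsLocalRing.maximalIdeal.isMaximal B).ne_top ((Ideal.eq_top_iff_one _).2 h2)))
  have hg : Function.Bijective g := by
    constructor
    · rw [← LinearMap.ker_eq_bot, LinearMap.ker_eq_bot']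
      intro x
      obtain ⟨x, rfl⟩ := Submodule.Quotient.mk_surjective _ x
      intro h
      refine (Submodule.Quotient.mk_eq_zero _).2 fun hu => ?_
      exact (IsLocalRing.mem_maximalIdeal _).1
        ((Ideal.Quotient.eq_zero_iff_mem (I := IsLocalRing.maximalIdeal F)).1 h) (hu.map (algebraMap B F))
    · intro y
      obtain ⟨y, rfl⟩ := Ideal.Quotient.mk_surjective (I := IsLocalRing.maximalIdeal F) y
      obtain ⟨x, rfl⟩ := hsurj y
      exact ⟨Submodule.Quotient.mk x, rfl⟩
  let eκ : (DRing.restrictD (algebraMap B F)).obj (Dual.inD F (F ⧸ IsLocalRing.maximalIdeal F)) ≅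
      Dual.inD B (B ⧸ IsLocalRing.maximalIdeal B) :=
    H9Misc.DRingRestrict.restrictInDIso (algebraMap B F) (ModuleCat.of F (F ⧸ IsLocalRing.maximalIdeal F)) ≪≫
      (DerivedCategory.singleFunctor (ModuleCat.{u} B) 0).mapIso (LinearEquiv.ofBijective g hg).toModuleIso.symm
  refine isDualizing_of_residueField W (fun j => finite_hd_LBase (B := B) ω j (hω.finite_cohomology j)) a c
    (fun i hi => ?_) ?_
  · obtain ⟨e, -, -⟩ := exists_shriekHomEquiv (algebraMap B F) R adj
      (Dual.inD F (F ⧸ IsLocalRing.maximalIdeal F)) W i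
    haveI := hcvan i hi
    exact (e.trans (Linear.homCongr B eκ (Iso.refl _)).toEquiv).symm.subsingleton
  · obtain ⟨e, hadd, hsmul⟩ := exists_shriekHomEquiv (algebraMap B F) R adj
      (Dual.inD F (F ⧸ IsLocalRing.maximalIdeal F)) W c
    let z := Linear.homCongr B eκ (Iso.refl (W⟦c⟧))
    let h : (Dual.inD B (B ⧸ IsLocalRing.maximalIdeal B) ⟶ W⟦c⟧) ≃ₗ[B]
        (ModuleCat.restrictScalars (algebraMap B F)).obj (ModuleCat.of F (F ⧸ IsLocalRing.maximalIdeal F)) :=
      z.symm.trans (LinearEquiv.symm
        { toFun := fun x => e (hcd.symm x)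
          invFun := fun y => hcd (e.symm y)
          left_inv := fun x => (congrArg hcd (e.symm_apply_apply _)).trans (hcd.apply_symm_apply x)
          right_inv := fun y => (congrArg e (hcd.symm_apply_apply _)).trans (e.apply_symm_apply y)
          map_add' := fun x y => by rw [← hadd]; exact congrArg e (map_add hcd.symm x y)
          map_smul' := fun r x =>
            (congrArg e (map_smul hcd.symm (algebraMap B F r) x)).trans (hsmul r _) })
    exact ⟨h.trans (LinearEquiv.ofBijective g hg).symm⟩

end Local

section Global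

variable {A B : Type u} [CommRing A] [CommRing B] [Algebra A B] [IsNoetherianRing B] [Module.Flat A B]
  [DTen.HasLBase (algebraMap A B)]

/-- A flat map with Gorenstein fibres preserves dualizing complexes, in finite dimension. -/
theorem isDualizing_LBase_of_gorenstein_fibres {ω : Dual.D A} (hω : Dual.IsDualizing A ω)
    (hdim : ringKrullDim B < ⊤)
    (hG : ∀ q : PrimeSpectrum B, LocCoh.IsGorensteinLocalRing (Localization.AtPrime q.asIdeal ⧸
      (q.asIdeal.comap (algebraMap A B)).map (algebraMap A (Localization.AtPrime q.asIdeal)))) :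
    Dual.IsDualizing B ((DTen.LBase (algebraMap A B)).obj ω) := by
  haveI := hω.isNoetherianRing
  obtain ⟨a, b, -, _, _⟩ := exists_bounds_of_isDualizing hω
  haveI := isGE_LBase_flat (B := B) ω a
  have hfin := fun j => finite_hd_LBase (B := B) ω j (hω.finite_cohomology j)
  have hloc : ∀ q : PrimeSpectrum B, ∀ [DTen.HasLBase (algebraMap B (Localization.AtPrime q.asIdeal))],
      Dual.IsDualizing (Localization.AtPrime q.asIdeal)
        ((DTen.LBase (algebraMap B (Localization.AtPrime q.asIdeal))).obj
          ((DTen.LBase (algebraMap A B)).obj ω)) := by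
    intro q inst
    let p := q.asIdeal.comap (algebraMap A B)
    let A' := Localization.AtPrime p
    let B' := Localization.AtPrime q.asIdeal
    let ψ : A' →+* B' := Localization.localRingHom p q.asIdeal (algebraMap A B) rfl
    letI : Algebra A' B' := ψ.toAlgebra
    have hcomp : (algebraMap A' B').comp (algebraMap A A') = algebraMap A B' := by
      refine RingHom.ext fun x => ?_
      change Localization.localRingHom p q.asIdeal (algebraMap A B) rfl (algebraMap A A' x) = _
      rw [Localization.localRingHom_to_map]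
      exact (IsScalarTower.algebraMap_apply A B B' x).symm
    haveI : IsScalarTower A A' B' := IsScalarTower.of_algebraMap_eq fun x => (RingHom.congr_fun hcomp x).symm
    haveI : Module.Flat B B' := IsLocalization.flat _ q.asIdeal.primeCompl
    haveI : Module.Flat A B' := Module.Flat.trans A B B'
    haveI : Module.Flat A' B' := (Module.flat_iff_of_isLocalization A' p.primeCompl B').2 inferInstance
    haveI : Module.Flat A A' := IsLocalization.flat _ p.primeCompl
    haveI := hasLBase (algebraMap A A')
    haveI := hasLBase (algebraMap A' B')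
    haveI := hasLBase (algebraMap A B')
    have hA' : Dual.IsDualizing A' ((DTen.LBase (algebraMap A A')).obj ω) :=
      isDualizing_LBase hω fun m _ => ⟨m.comap (algebraMap A A'), IsLocalization.map_comap p.primeCompl A' m⟩
    have hmap : (IsLocalRing.maximalIdeal A').map (algebraMap A' B') = p.map (algebraMap A B') := by
      rw [← Localization.AtPrime.map_eq_maximalIdeal (I := p), Ideal.map_map, hcomp]
    have hB' := isDualizing_LBase_of_gorenstein_fibre (B := B') hA'
      (((IsLocalRing.local_hom_TFAE (algebraMap A' B')).out 0 2).1 (Localization.isLocalHom_localRingHom _ _ _ rfl))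
      (by rw [hmap]; exact hG q)
    obtain ⟨c₁⟩ := nonempty_LBase_comp (algebraMap A A') (algebraMap A' B') (algebraMap A B') hcomp
    obtain ⟨c₂⟩ := nonempty_LBase_comp (algebraMap A B) (algebraMap B B') (algebraMap A B')
      (IsScalarTower.algebraMap_eq A B B').symm
    exact isDualizing_of_iso ((c₁ ≪≫ c₂.symm).app ω) hB'
  obtain ⟨c, hc⟩ := exists_injAmplitude_of_local hdim a hfin hloc
  exact isDualizing_of_atPrime hc hfin hloc

end Global

end Groth.Agent.KFlatLib
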