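import Groth.Agent.KFlatLib.Ring.BaseCmp
import Groth.Agent.KFlatLib.BaseChange
import Groth.Agent.KFlatLib.Derived

/-!
# The derived tensor products of a ring are computed by complexes K-flat in the first variable
-/

set_option linter.style.haveILetI false

universe u v v' w w'

open CategoryTheory CategoryTheory.Limits MonoidalCategory

attribute [local instance] HasDerivedCategory.standard

namespace Groth.Agent.KFlatLib

instance hasTwoOutOfThreeProperty_prod {C : Type w} [Category.{v} C] {C' : Type w'}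
    [Category.{v'} C'] (W : MorphismProperty C) (W' : MorphismProperty C')
    [W.HasTwoOutOfThreeProperty] [W'.HasTwoOutOfThreeProperty] :
    (W.prod W').HasTwoOutOfThreeProperty where
  comp_mem f g hf hg := ⟨W.comp_mem _ _ hf.1 hg.1, W'.comp_mem _ _ hf.2 hg.2⟩
  of_postcomp f g hg hfg := ⟨W.of_postcomp _ _ hg.1 hfg.1, W'.of_postcomp _ _ hg.2 hfg.2⟩
  of_precomp f g hf hfg := ⟨W.of_precomp _ _ hf.1 hfg.1, W'.of_precomp _ _ hf.2 hfg.2⟩

variable {R A : Type u} [CommRing R] [CommRing A]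

lemma quasiIso_whiskerRight {P Q : DRing.Cx A} (a : P ⟶ Q) [QuasiIso a]
    (hP : KFlat (curriedTensor (ModuleCat.{u} A)) P) (hQ : KFlat (curriedTensor (ModuleCat.{u} A)) Q)
    (N : DRing.Cx A) :
    QuasiIso (((curriedTensor (ModuleCat.{u} A)).map₂CochainComplex.map a).app N) := by
  haveI := quasiIso_tensor (ringCover A) flatObj_ringCover curriedTensorFlipIso a hP hQ N
  exact (quasiIso_iff_of_arrow_mk_iso _ _
    (((Functor.mapArrowFunctor _ _).mapIso (symmIso curriedTensorFlipIso N)).app (Arrow.mk a))).2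
      (by assumption)

/-- `(a, b) ↦ a ⊗ b` is a quasi-isomorphism. -/
lemma isIso_tensor₂_map {K K' N N' : DRing.Cx A} (a : K ⟶ K') (b : N ⟶ N') [QuasiIso a]
    [QuasiIso b] (hK : KFlat (curriedTensor (ModuleCat.{u} A)) K)
    (hK' : KFlat (curriedTensor (ModuleCat.{u} A)) K') :
    IsIso ((DTen.tensor₂ A).map (Prod.mkHom a b)) := by
  haveI := quasiIso_whiskerRight a hK hK' N
  haveI := quasiIso_tensorHom_id b hK'
  exact (DerivedCategory.isIso_Q_map_iff_quasiIso _ _).2 (inferInstanceAs (QuasiIso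
    (((curriedTensor (ModuleCat.{u} A)).map₂CochainComplex.map a).app N ≫
      ((curriedTensor (ModuleCat.{u} A)).map₂CochainComplex.obj K').map b)))

variable (φ : R →+* A)

/-- Resolve the first variable. -/
noncomputable def mixRes : Resolution (DTen.qisMix R A) (DTen.mix₂ φ) where
  Good X := KFlat (curriedTensor (ModuleCat.{u} R)) X.1
  P := (ringCover R).P.prod (𝟭 (DRing.Cx A))
  ψ := NatTrans.prod (ringCover R).ψ (𝟙 (𝟭 (DRing.Cx A)))
  good X := kFlat_ringRes X.1
  weq X := ⟨(ringCover R).quasiIso_ψ X.1, show QuasiIso (𝟙 X.2) from inferInstance⟩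
  inverts X Y f hX hY hf := by
    haveI : QuasiIso f.1 := hf.1
    haveI : QuasiIso f.2 := hf.2
    haveI : QuasiIso ((DTen.extCx φ).map f.1) := quasiIso_extendScalars φ f.1 hX hY
    exact isIso_tensor₂_map ((DTen.extCx φ).map f.1) f.2 (kFlat_extendScalars φ hX)
      (kFlat_extendScalars φ hY)

/-- Resolve the first variable. -/
noncomputable def tenRes (A : Type u) [CommRing A] : Resolution (DTen.qis₂ A) (DTen.tensor₂ A) where
  Good X := KFlat (curriedTensor (ModuleCat.{u} A)) X.1
  P := (ringCover A).P.prod (𝟭 (DRing.Cx A))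
  ψ := NatTrans.prod (ringCover A).ψ (𝟙 (𝟭 (DRing.Cx A)))
  good X := kFlat_ringRes X.1
  weq X := ⟨(ringCover A).quasiIso_ψ X.1, show QuasiIso (𝟙 X.2) from inferInstance⟩
  inverts X Y f hX hY hf := by
    haveI : QuasiIso f.1 := hf.1
    haveI : QuasiIso f.2 := hf.2
    exact isIso_tensor₂_map f.1 f.2 hX hY

lemma isIso_ε [DTen.HasLTen A] {K : DRing.Cx A}
    (hK : KFlat (curriedTensor (ModuleCat.{u} A)) K) (L : DRing.Cx A) :
    IsIso ((DTen.ε A).app (K, L)) :=
  (tenRes A).isIso_totalLeftDerivedCounit (DTen.QQ A) (X := (K, L)) hK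

lemma isIso_εMix [DTen.HasLTenMix φ] {K : DRing.Cx R}
    (hK : KFlat (curriedTensor (ModuleCat.{u} R)) K) (N : DRing.Cx A) :
    IsIso ((DTen.εMix φ).app (K, N)) :=
  (mixRes φ).isIso_totalLeftDerivedCounit (DTen.QMix R A) (X := (K, N)) hK

lemma isIso_split_app [DTen.HasLTen A] [DTen.HasLBase φ] [DTen.HasLTenMix φ]
    (E : Dual.D R) (N : Dual.D A) : IsIso ((DTen.split φ).app (E, N)) := by
  let K := (ringCover R).P.obj (DerivedCategory.Q.objPreimage E)
  haveI hq : QuasiIso ((ringCover R).ψ.app (DerivedCategory.Q.objPreimage E)) :=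
    (ringCover R).quasiIso_ψ _
  let eE : DerivedCategory.Q.obj K ≅ E :=
    @asIso _ _ _ _ (DerivedCategory.Q.map ((ringCover R).ψ.app (DerivedCategory.Q.objPreimage E)))
      ((DerivedCategory.isIso_Q_map_iff_quasiIso _ _).2 hq) ≪≫
    DerivedCategory.Q.objObjPreimageIso E
  let L := DerivedCategory.Q.objPreimage N
  have hK : KFlat (curriedTensor (ModuleCat.{u} R)) K := kFlat_ringRes _
  haveI := isIso_baseCmp φ hK
  haveI : IsIso ((DTen.ε A).app ((DTen.extCx φ).obj K, L)) :=
    isIso_ε (A := A) (kFlat_extendScalars φ hK) L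
  haveI : IsIso ((DTen.εMix φ).app (K, L)) := isIso_εMix φ hK L
  haveI : IsIso (Prod.mkHom ((DTen.baseCmp φ).app K) (𝟙 (DerivedCategory.Q.obj L))) :=
    (isIso_prod_iff _ _).2 ⟨inferInstance, inferInstanceAs (IsIso (𝟙 (DerivedCategory.Q.obj L)))⟩
  have h := DTen.split_fac φ (K, L)
  haveI : IsIso ((DTen.split φ).app ((DTen.QMix R A).obj (K, L))) := by
    haveI : IsIso ((DTen.split φ).app ((DTen.QMix R A).obj (K, L)) ≫ (DTen.εMix φ).app (K, L)) := by
      rw [h]
      dsimp only [DTen.splitβ]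
      exact IsIso.comp_isIso' inferInstance inferInstance
    exact IsIso.of_isIso_comp_right _ ((DTen.εMix φ).app (K, L))
  exact (NatTrans.isIso_app_iff_of_iso (DTen.split φ)
    (Iso.prod eE (DerivedCategory.Q.objObjPreimageIso N))).1 (by assumption)

end Groth.Agent.KFlatLib
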