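import Groth.Agent.KFlatLib.Ring.LTen3
import Groth.Agent.KFlatLib.Ring.LTen
import Groth.Prelude.Def_DTen5

/-!
# The binders for restriction of tensor products hold
-/

set_option linter.style.haveILetI false
set_option backward.isDefEq.respectTransparency false

universe u

open CategoryTheory CategoryTheory.Limits MonoidalCategory

attribute [local instance] HasDerivedCategory.standard

namespace Groth.Agent.KFlatLib

variable {R A : Type u} [CommRing R] [CommRing A] (φ : R →+* A)

/-- Resolve the first variable. -/
noncomputable def resTenRes : Resolution (DTen.qis₂ A) (DTen.resTen₂ φ) where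
  Good X := KFlat (curriedTensor (ModuleCat.{u} A)) X.1
  P := (tenRes A).P
  ψ := (tenRes A).ψ
  good := (tenRes A).good
  weq := (tenRes A).weq
  inverts X Y f hX hY hf := by
    haveI : QuasiIso ((DTen.tensorT A).map f) :=
      (DerivedCategory.isIso_Q_map_iff_quasiIso _ _).1 ((tenRes A).inverts f hX hY hf)
    haveI : QuasiIso ((DTen.resCx φ).map ((DTen.tensorT A).map f)) :=
      inferInstanceAs (QuasiIso (((ModuleCat.restrictScalars φ).mapHomologicalComplex (ComplexShape.up ℤ)).map
        ((DTen.tensorT A).map f)))
    exact (DerivedCategory.isIso_Q_map_iff_quasiIso _ _).2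
      (show QuasiIso ((DTen.resCx φ).map ((DTen.tensorT A).map f)) from inferInstance)

lemma hasResTen : DTen.HasResTen φ := (resTenRes φ).hasLeftDerivedFunctor (DTen.QQ A)

lemma resLegIso [DTen.HasLTen A] [DTen.HasResTen φ] : DTen.ResLegIso φ where
  isIso := by
    haveI : ∀ X, IsIso ((DTen.resLegB φ).app X) := fun X => by
      let K : DRing.Cx A := flatRep X.1
      let L : DRing.Cx A := DerivedCategory.Q.objPreimage X.2
      haveI : IsIso ((DTen.εRes φ).app (K, L)) :=
        (resTenRes φ).isIso_totalLeftDerivedCounit (DTen.QQ A) (X := (K, L)) (kFlat_ringRes _)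
      haveI hε : IsIso ((DTen.ε A).app (K, L)) := isIso_ε (A := A) (kFlat_ringRes _) L
      haveI : IsIso ((DTen.resβB φ).app (K, L)) := by
        dsimp [DTen.resβB]
        infer_instance
      haveI : IsIso ((DTen.resLegB φ).app ((DTen.QQ A).obj (K, L)) ≫ (DTen.εRes φ).app (K, L)) := by
        rw [DTen.resLegB_fac]
        infer_instance
      have h₀ := IsIso.of_isIso_comp_right ((DTen.resLegB φ).app ((DTen.QQ A).obj (K, L)))
        ((DTen.εRes φ).app (K, L))
      exact (NatTrans.isIso_app_iff_of_iso (DTen.resLegB φ)
        (Iso.prod (flatRepIso X.1) (DerivedCategory.Q.objObjPreimageIso X.2))).1 h₀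
    exact NatIso.isIso_of_isIso_app _

end Groth.Agent.KFlatLib
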