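import Groth.Agent.KFlatLib.Ring.Dualizing
import Groth.Agent.KFlatLib.Ring.HasLBase
import Groth.Agent.KFlatLib.Ring.ResTenBinders
import Groth.Agent.H9Misc.DRingAdjoint
import Mathlib.RingTheory.TensorProduct.Quotient

/-!
# Dualizing complexes and flat ring maps
-/

set_option linter.style.haveILetI false
set_option backward.isDefEq.respectTransparency false

universe u

open CategoryTheory CategoryTheory.Limits Pretriangulated MonoidalCategory

open scoped TensorProduct

attribute [local instance] HasDerivedCategory.standard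

namespace Groth.Agent.KFlatLib

/-- Derived base change in its two forms. -/
lemma nonempty_LBaseChange_iso {A B : Type u} [CommRing A] [CommRing B] (φ : A →+* B)
    [DRing.HasLBaseChange φ] [DTen.HasLBase φ] :
    Nonempty (DRing.LBaseChange φ ≅ DTen.LBase φ) := by
  obtain ⟨adj⟩ := H9Misc.DRingAdjoint.nonempty_adj φ
  exact ⟨Adjunction.leftAdjointUniq adj (DTen.baseAdj φ)⟩

section Linear

variable {A : Type u} [CommRing A]

/-- Shifting the target is shifting the source back. -/
lemma exists_shiftHomLEquiv (X Y : Dual.D A) (i : ℤ) :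
    Nonempty ((X ⟶ Y⟦i⟧) ≃ₗ[A] (X⟦-i⟧ ⟶ Y)) := by
  let e : (Y⟦i⟧)⟦-i⟧ ≅ Y := (shiftFunctorCompIsoId (Dual.D A) i (-i) (by omega)).app Y
  let F : (X ⟶ Y⟦i⟧) →ₗ[A] (X⟦-i⟧ ⟶ (Y⟦i⟧)⟦-i⟧) := Functor.mapLinearMap A (shiftFunctor (Dual.D A) (-i))
  have hF : Function.Bijective F :=
    ⟨fun f g h => (shiftFunctor (Dual.D A) (-i)).map_injective h,
      fun g => (shiftFunctor (Dual.D A) (-i)).map_surjective g⟩
  exact ⟨(LinearEquiv.ofBijective F hF).trans (Linear.homCongr A (Iso.refl _) e)⟩

/-- Cohomology of derived hom in every degree. -/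
lemma exists_hdRHomShiftLEquiv [DTen.HasLTen A] [DTen.HasRHom A] (X Y : Dual.D A) (i : ℤ) :
    Nonempty (Dual.HD A ((DTen.RHomR A X).obj Y) i ≃ₗ[A] (X ⟶ Y⟦i⟧)) := by
  obtain ⟨e₁⟩ := exists_hdRHomLEquiv X Y i
  obtain ⟨e₂⟩ := exists_shiftHomLEquiv X Y i
  exact ⟨e₁.trans e₂.symm⟩

/-- An endomorphism algebra which is free of rank one is the ring. -/
lemma toEnd_bijective_of_linearEquiv (X : Dual.D A) (e : (X ⟶ X) ≃ₗ[A] A) :
    Function.Bijective fun a : A => a • (𝟙 X : X ⟶ X) := by
  let g := e.symm 1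
  have hg : ∀ f : X ⟶ X, f = e f • g := fun f => by
    rw [← map_smul, smul_eq_mul, mul_one, e.symm_apply_apply]
  have h1 : g = (e (𝟙 X) * e (g ≫ g)) • g := by
    calc g = 𝟙 X ≫ g := (Category.id_comp g).symm
      _ = (e (𝟙 X) • g) ≫ g := congrArg (· ≫ g) (hg (𝟙 X))
      _ = e (𝟙 X) • (g ≫ g) := Linear.smul_comp _ _ _ _ _ _
      _ = _ := by rw [mul_smul, ← hg (g ≫ g)]
  have hc : e (𝟙 X) * e (g ≫ g) = 1 := by
    have := congrArg e h1
    rw [map_smul, show e g = 1 from e.apply_symm_apply 1, smul_eq_mul, mul_one] at this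
    exact this.symm
  refine ⟨fun a b h => ?_, fun f => ⟨e f * e (g ≫ g), e.injective ?_⟩⟩
  · have h' : a * e (𝟙 X) = b * e (𝟙 X) := by
      have := congrArg e h
      simpa only [map_smul, smul_eq_mul] using this
    calc a = a * e (𝟙 X) * e (g ≫ g) := by rw [mul_assoc, hc, mul_one]
      _ = b * e (𝟙 X) * e (g ≫ g) := by rw [h']
      _ = b := by rw [mul_assoc, hc, mul_one]
  · rw [map_smul, smul_eq_mul, mul_assoc, mul_comm (e (g ≫ g)), hc, mul_one]

end Linear

section Ext

variable {A : Type u} [CommRing A]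

/-- Scalars killing a module kill maps out of it. -/
lemma smul_hom_inD_eq_zero {M : Type u} [AddCommGroup M] [Module A M] {r : A}
    (hr : ∀ x : M, r • x = 0) {Y : Dual.D A} (f : Dual.inD A M ⟶ Y) : r • f = 0 := by
  have h0 : r • 𝟙 (ModuleCat.of A M) = 0 := ModuleCat.hom_ext (LinearMap.ext fun x => hr x)
  have h1 : r • 𝟙 (Dual.inD A M) = 0 := by
    have := congrArg (DerivedCategory.singleFunctor (ModuleCat.{u} A) 0).map h0
    rwa [Functor.map_smul, CategoryTheory.Functor.map_id, Functor.map_zero] at this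
  calc r • f = (r • 𝟙 (Dual.inD A M)) ≫ f := by rw [Linear.smul_comp, Category.id_comp]
    _ = 0 := by rw [h1, zero_comp]

/-- The sequence `0 → A/(I : x) → A/I → A/(I + x) → 0`. -/
lemma exists_colon_ses (I : Ideal A) (x : A) :
    ∃ (f : ModuleCat.of A (A ⧸ ((Submodule.comap (LinearMap.mulLeft A x) I : Ideal A))) ⟶ ModuleCat.of A (A ⧸ I))
      (g : ModuleCat.of A (A ⧸ I) ⟶ ModuleCat.of A (A ⧸ (I ⊔ Ideal.span {x}))) (w : f ≫ g = 0),
      (ShortComplex.mk f g w).ShortExact ∧ (∀ a, f.hom (Submodule.Quotient.mk a) = Submodule.Quotient.mk (x * a)) := by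
  let J : Submodule A A := (Submodule.comap (LinearMap.mulLeft A x) I : Ideal A)
  let f := ModuleCat.ofHom (Submodule.mapQ J I (LinearMap.mulLeft A x) le_rfl)
  let g := ModuleCat.ofHom (Submodule.factor (p := I) (p' := I ⊔ Ideal.span {x}) le_sup_left)
  have hf : ∀ a, f.hom (Submodule.Quotient.mk a) = Submodule.Quotient.mk (x * a) := fun a => rfl
  have w : f ≫ g = 0 := by
    refine ModuleCat.hom_ext (LinearMap.ext fun z => ?_)
    obtain ⟨a, rfl⟩ := Submodule.Quotient.mk_surjective _ z
    exact (Submodule.Quotient.mk_eq_zero _).2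
      (Submodule.mem_sup_right (Ideal.mem_span_singleton.2 (dvd_mul_right x a)))
  refine ⟨f, g, w, { exact := ?_, mono_f := ?_, epi_g := ?_ }, hf⟩
  · refine (ShortComplex.moduleCat_exact_iff _).2 fun z hz => ?_
    obtain ⟨a, rfl⟩ := Submodule.Quotient.mk_surjective _ z
    obtain ⟨i, hi, j, hj, hij⟩ := Submodule.mem_sup.1 ((Submodule.Quotient.mk_eq_zero _).1 hz)
    obtain ⟨c, rfl⟩ := Ideal.mem_span_singleton.1 hj
    refine ⟨Submodule.Quotient.mk c, ?_⟩
    change Submodule.Quotient.mk (x * c) = _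
    rw [Submodule.Quotient.eq, show a = i + x * c from hij.symm]
    simpa using hi
  · refine (ModuleCat.mono_iff_injective _).2 ((injective_iff_map_eq_zero _).2 fun z hz => ?_)
    obtain ⟨a, rfl⟩ := Submodule.Quotient.mk_surjective _ z
    exact (Submodule.Quotient.mk_eq_zero _).2 ((Submodule.Quotient.mk_eq_zero I).1 hz)
  · exact (ModuleCat.epi_iff_surjective _).2 (Submodule.factor_surjective le_sup_left)

/-- Vanishing at the maximal ideals propagates to all cyclic modules. -/
theorem subsingleton_hom_quotient_of_maximal [IsNoetherianRing A] (Y : Dual.D A) (a b : ℤ) [Y.IsGE a]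
    (hY : ∀ i : ℤ, Module.Finite A (Dual.HD A Y i))
    (h : ∀ m : Ideal A, m.IsMaximal → ∀ i : ℤ, b < i → Subsingleton (Dual.inD A (A ⧸ m) ⟶ Y⟦i⟧))
    (I : Ideal A) : ∀ i : ℤ, b < i → Subsingleton (Dual.inD A (A ⧸ I) ⟶ Y⟦i⟧) := by
  induction I using WellFoundedGT.induction with
  | _ I ih =>
    intro i hi
    by_cases hI : I = ⊤
    · subst hI
      haveI : Subsingleton (A ⧸ (⊤ : Ideal A)) := Submodule.Quotient.subsingleton_iff.2 rfl
      exact subsingleton_of_forall_eq 0 fun f => ((DerivedCategory.singleFunctor (ModuleCat.{u} A) 0).map_isZero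
        (ModuleCat.isZero_of_subsingleton _)).eq_of_src f 0
    by_cases hp : I.IsPrime
    · by_cases hm : I.IsMaximal
      · exact h I hm i hi
      let E := Dual.inD A (A ⧸ I) ⟶ Y⟦i⟧
      have hsmul : ∀ r ∈ I, ∀ f : E, r • f = 0 := fun r hr f =>
        smul_hom_inD_eq_zero (fun z => by
          obtain ⟨c, rfl⟩ := Submodule.Quotient.mk_surjective _ z
          rw [← Submodule.Quotient.mk_smul]
          exact (Submodule.Quotient.mk_eq_zero _).2 (I.mul_mem_right c hr)) f
      haveI : DerivedCategory.IsGE (Y⟦i⟧) (a - i) :=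
        DerivedCategory.TStructure.t.isGE_shift Y a i (a - i) (by omega)
      haveI hfin : Module.Finite A E := by
        refine finite_hom_of_pc ((Groth.Agent.S6942.result A 0 (Dual.inD A (A ⧸ I)) (A ⧸ I)).2.2 inferInstance)
          (a - i) fun j => ?_
        haveI : Module.Finite A (((DerivedCategory.homologyFunctor (ModuleCat.{u} A) 0).shift (j + i)).obj Y) :=
          hY (j + i)
        exact Module.Finite.equiv ((((DerivedCategory.homologyFunctor (ModuleCat.{u} A) 0).shiftIso i j (j + i)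
          (by omega)).app Y).symm.toLinearEquiv)
      have hsurj : ∀ x ∉ I, ∀ f : E, ∃ g : E, f = x • g := fun x hx f => by
        have hJ : (Submodule.comap (LinearMap.mulLeft A x) I : Ideal A) = I := by
          ext c
          exact ⟨fun hc => (hp.mem_or_mem hc).resolve_left hx, fun hc => I.mul_mem_left x hc⟩
        obtain ⟨φ, ψ, w, hS, hφ⟩ := exists_colon_ses I x
        let eJ : ModuleCat.of A (A ⧸ (Submodule.comap (LinearMap.mulLeft A x) I : Ideal A)) ≅ ModuleCat.of A (A ⧸ I) :=
          (Submodule.quotEquivOfEq _ _ hJ).toModuleIso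
        have hφ' : φ = x • eJ.hom := ModuleCat.hom_ext (LinearMap.ext fun z => by
          obtain ⟨c, rfl⟩ := Submodule.Quotient.mk_surjective _ z
          exact hφ c)
        let S := DerivedCategory.singleFunctor (ModuleCat.{u} A) 0
        obtain ⟨g, hg⟩ := Triangle.yoneda_exact₂ _ (inv_rot_of_distTriang _ hS.singleTriangle_distinguished)
          (S.map eJ.hom ≫ f) (by
            haveI := ih (I ⊔ Ideal.span {x}) (lt_of_le_of_ne le_sup_left fun e =>
              hx (e ▸ Submodule.mem_sup_right (Ideal.mem_span_singleton_self x))) (i + 1) (by omega)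
            let F := shiftEquiv' (Dual.D A) (-1 : ℤ) 1 (by omega)
            refine (F.toAdjunction.homEquiv _ _).injective ?_
            let e := ((shiftFunctorAdd' (Dual.D A) i 1 (i + 1) rfl).app Y).symm
            exact (cancel_mono e.hom).1 (Subsingleton.elim (α := Dual.inD A (A ⧸ (I ⊔ Ideal.span {x})) ⟶ Y⟦i + 1⟧) _ _))
        refine ⟨g, (cancel_epi (S.map eJ.hom)).1 (hg.trans ?_)⟩
        rw [Linear.comp_smul, ← Linear.smul_comp]
        refine congrArg (· ≫ g) ?_
        change S.map φ = _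
        rw [hφ', Functor.map_smul]
      have key : ∀ m : Ideal A, m.IsMaximal → (⊤ : Submodule A E) ≤ m • (⊤ : Submodule A E) := by
        intro m hmm f _
        by_cases hIm : I ≤ m
        · obtain ⟨x, hxm, hxI⟩ := SetLike.exists_of_lt (lt_of_le_of_ne hIm fun e => hm (e ▸ hmm))
          obtain ⟨g, rfl⟩ := hsurj x hxI f
          exact Submodule.smul_mem_smul hxm Submodule.mem_top
        · obtain ⟨r, hr, s, hs, hrs⟩ := Submodule.mem_sup.1
            ((Ideal.eq_top_iff_one _).1 (hmm.1.2 _ (lt_of_le_of_ne le_sup_right fun e => hIm (e.symm ▸ le_sup_left : I ≤ m))))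
          rw [← one_smul A f, ← hrs, add_smul, hsmul r hr f, zero_add]
          exact Submodule.smul_mem_smul hs Submodule.mem_top
      refine subsingleton_of_forall_eq 0 fun f => ?_
      let Ann : Ideal A := Module.annihilator A E
      have hAnn : Ann = ⊤ := by
        by_contra hne
        obtain ⟨m, hmm, hle⟩ := Ideal.exists_le_maximal Ann hne
        obtain ⟨r, hr1, hr0⟩ := Submodule.exists_sub_one_mem_and_smul_eq_zero_of_fg_of_le_smul m
          (⊤ : Submodule A E) Module.Finite.fg_top (key m hmm)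
        have hrm : r ∈ m := hle (Module.mem_annihilator.2 fun z => hr0 z trivial)
        have := m.sub_mem hrm hr1
        rw [sub_sub_cancel] at this
        exact hmm.ne_top ((Ideal.eq_top_iff_one _).2 this)
      have := Module.mem_annihilator.1 (show (1 : A) ∈ Ann by rw [hAnn]; exact Submodule.mem_top) f
      rwa [one_smul] at this
    · obtain ⟨x, hx, y, hy, hxy⟩ := (Ideal.not_isPrime_iff.1 hp).resolve_left hI
      obtain ⟨φ, ψ, w, hS, -⟩ := exists_colon_ses I x
      haveI := ih ((Submodule.comap (LinearMap.mulLeft A x) I : Ideal A)) (lt_of_le_of_ne (fun c hc => I.mul_mem_left x hc)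
        fun e => hy (e.symm ▸ (show y ∈ (Submodule.comap (LinearMap.mulLeft A x) I : Ideal A) from hxy))) i hi
      haveI := ih (I ⊔ Ideal.span {x}) (lt_of_le_of_ne le_sup_left fun e =>
        hx (e ▸ Submodule.mem_sup_right (Ideal.mem_span_singleton_self x))) i hi
      refine subsingleton_of_forall_eq 0 fun f => ?_
      obtain ⟨g, hg⟩ := Triangle.yoneda_exact₂ _ hS.singleTriangle_distinguished f
        (Subsingleton.elim (α := Dual.inD A (A ⧸ (Submodule.comap (LinearMap.mulLeft A x) I : Ideal A)) ⟶ Y⟦i⟧) _ _)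
      rw [hg, Subsingleton.elim (α := Dual.inD A (A ⧸ (I ⊔ Ideal.span {x})) ⟶ Y⟦i⟧) g 0]
      exact comp_zero

/-- Finite injective dimension from the maximal ideals. -/
theorem hasInjAmplitudeIn_of_maximal [IsNoetherianRing A] (Y : Dual.D A) (a b : ℤ) [Y.IsGE a]
    (hY : ∀ i : ℤ, Module.Finite A (Dual.HD A Y i))
    (h : ∀ m : Ideal A, m.IsMaximal → ∀ i : ℤ, b < i → Subsingleton (Dual.inD A (A ⧸ m) ⟶ Y⟦i⟧)) :
    DRing.HasInjAmplitudeIn A a b Y := by
  refine H9Misc.DRingInjAmp.hasInjAmplitudeIn_of_quotient Y fun I i hi => ?_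
  rcases hi with hi | hi
  · haveI : DerivedCategory.IsGE (Y⟦i⟧) (a - i) :=
      DerivedCategory.TStructure.t.isGE_shift Y a i (a - i) (by omega)
    exact subsingleton_of_forall_eq 0 fun f => DerivedCategory.TStructure.t.zero f 0 (a - i) (by omega)
  · exact subsingleton_hom_quotient_of_maximal Y a b hY h I i hi

end Ext

/-- Being dualizing is invariant under isomorphism. -/
lemma isDualizing_of_iso {A : Type u} [CommRing A] {ω ω' : Dual.D A} (e : ω ≅ ω')
    (h : Dual.IsDualizing A ω) : Dual.IsDualizing A ω' := by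
  refine ⟨h.isNoetherianRing, ?_, fun i => ?_, ?_, fun i hi => ?_⟩
  · obtain ⟨a, b, hab⟩ := h.finite_injective_dimension
    exact ⟨a, b, fun M _ _ i hi => @Equiv.subsingleton _ _
      (Iso.homCongr (Iso.refl _) ((shiftFunctor (Dual.D A) i).mapIso e.symm)) (hab M i hi)⟩
  · haveI := h.finite_cohomology i
    exact Module.Finite.equiv ((DerivedCategory.homologyFunctor (ModuleCat.{u} A) i).mapIso e).toLinearEquiv
  · have : (fun a : A => a • 𝟙 ω') = Iso.homCongr e e ∘ fun a : A => a • 𝟙 ω := by
      funext a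
      simp [Iso.homCongr]
    rw [this]
    exact (Iso.homCongr e e).bijective.comp h.toEnd_bijective
  · exact @Equiv.subsingleton _ _
      (Iso.homCongr e.symm ((shiftFunctor (Dual.D A) i).mapIso e.symm)) (h.ext_self_subsingleton i hi)

section Flat

variable {A B : Type u} [CommRing A] [CommRing B] [Algebra A B]

/-- Extension of scalars is the tensor product. -/
lemma exists_extendLEquiv (M : ModuleCat.{u} A) :
    Nonempty ((ModuleCat.extendScalars.{u, u, u} (algebraMap A B)).obj M ≃ₗ[B] B ⊗[A] M) := by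
  rename_i i1 i2 i3
  have he : (algebraMap A B).toAlgebra = i3 := Algebra.algebra_ext _ _ fun _ => rfl
  generalize algebraMap A B = φ at he
  subst he
  letI := φ.toAlgebra
  exact ⟨LinearEquiv.refl B _⟩

variable [Module.Flat A B]

/-- The ring map is flat. -/
lemma flat_algebraMap' : (algebraMap A B).Flat := RingHom.flat_algebraMap_iff.2 inferInstance

variable [DTen.HasLBase (algebraMap A B)]

/-- Flat derived base change is computed termwise. -/
lemma exists_LBase_map_iso (X : Dual.D A) :
    ∃ (_ : PreservesFiniteLimits (ModuleCat.extendScalars.{u, u, u} (algebraMap A B))),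
      Nonempty ((DTen.LBase (algebraMap A B)).obj X ≅
        (ModuleCat.extendScalars.{u, u, u} (algebraMap A B)).mapDerivedCategory.obj X) := by
  haveI := ModuleCat.preservesFiniteLimits_extendScalars_of_flat (flat_algebraMap' (A := A) (B := B))
  haveI := isIso_baseCmp (algebraMap A B) (K := flatRep X) (kFlat_ringRes _)
  exact ⟨inferInstance, ⟨(DTen.LBase (algebraMap A B)).mapIso (flatRepIso X).symm ≪≫
    asIso ((DTen.baseCmp (algebraMap A B)).app (flatRep X)) ≪≫
    ((ModuleCat.extendScalars.{u, u, u} (algebraMap A B)).mapDerivedCategoryFactors.app (flatRep X)).symm ≪≫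
    (ModuleCat.extendScalars.{u, u, u} (algebraMap A B)).mapDerivedCategory.mapIso (flatRepIso X)⟩⟩

/-- Cohomology commutes with flat base change. -/
lemma exists_hdLBaseLEquiv (X : Dual.D A) (i : ℤ) :
    Nonempty (Dual.HD B ((DTen.LBase (algebraMap A B)).obj X) i ≃ₗ[B] B ⊗[A] Dual.HD A X i) := by
  obtain ⟨_, ⟨e⟩⟩ := exists_LBase_map_iso (B := B) X
  obtain ⟨c⟩ := exists_extendLEquiv (B := B) ((DerivedCategory.homologyFunctor (ModuleCat.{u} A) i).obj X)
  exact ⟨((DerivedCategory.homologyFunctor (ModuleCat.{u} B) i).mapIso e ≪≫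
    (mapDCHomologyIso (ModuleCat.extendScalars.{u, u, u} (algebraMap A B)) i).app X).toLinearEquiv.trans c⟩

/-- Flat base change of a cyclic module. -/
lemma nonempty_LBase_inD_quotient (I : Ideal A) :
    Nonempty ((DTen.LBase (algebraMap A B)).obj (Dual.inD A (A ⧸ I)) ≅
      Dual.inD B (B ⧸ I.map (algebraMap A B))) := by
  obtain ⟨_, ⟨e⟩⟩ := exists_LBase_map_iso (B := B) (Dual.inD A (A ⧸ I))
  obtain ⟨c⟩ := exists_extendLEquiv (B := B) (ModuleCat.of A (A ⧸ I))
  exact ⟨e ≪≫ ((ModuleCat.extendScalars.{u, u, u} (algebraMap A B)).mapDerivedCategorySingleFunctor 0).app _ ≪≫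
    (DerivedCategory.singleFunctor (ModuleCat.{u} B) 0).mapIso
      (c.trans (Algebra.TensorProduct.quotIdealMapEquivTensorQuot B I).symm.toLinearEquiv).toModuleIso⟩

/-- Flat base change preserves lower bounds. -/
lemma isGE_LBase_flat (X : Dual.D A) (n : ℤ) [X.IsGE n] :
    ((DTen.LBase (algebraMap A B)).obj X).IsGE n := by
  refine (DerivedCategory.isGE_iff _ _).2 fun i hi => ?_
  obtain ⟨e⟩ := exists_hdLBaseLEquiv (B := B) X i
  haveI : Subsingleton (Dual.HD A X i) :=
    ModuleCat.subsingleton_of_isZero (DerivedCategory.isZero_of_isGE X n i hi)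
  exact @ModuleCat.isZero_of_subsingleton _ _ _ e.injective.subsingleton

/-- Finite cohomology is preserved by flat base change. -/
lemma finite_hd_LBase (X : Dual.D A) (i : ℤ) (h : Module.Finite A (Dual.HD A X i)) :
    Module.Finite B (Dual.HD B ((DTen.LBase (algebraMap A B)).obj X) i) := by
  obtain ⟨e⟩ := exists_hdLBaseLEquiv (B := B) X i
  haveI := h
  exact Module.Finite.equiv e.symm

/-- Maps commute with flat base change, out of a pseudo-coherent object into a bounded below one. -/
theorem exists_homBaseChangeLEquiv {X Y : Dual.D A} (hX : DRing.IsPseudoCoherent' A X) (n : ℤ)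
    [Y.IsGE n] (i : ℤ) :
    Nonempty (((DTen.LBase (algebraMap A B)).obj X ⟶ ((DTen.LBase (algebraMap A B)).obj Y)⟦i⟧) ≃ₗ[B]
      B ⊗[A] (X ⟶ Y⟦i⟧)) := by
  haveI := hasLTen A
  haveI := hasRHom (A := A)
  haveI := hasLTen B
  haveI := hasRHom (A := B)
  haveI := hasResTen (algebraMap A B)
  haveI := resLegIso (algebraMap A B)
  haveI := hasLTen₃ A
  haveI := hasLTen₃ B
  haveI := isSymMonoidal A
  haveI := isSymMonoidal B
  haveI := isIso_rhomBC (algebraMap A B) X ((DTen.LBase (algebraMap A B)).obj Y)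
  obtain ⟨eR⟩ := nonempty_resUnit_iso A B
  obtain ⟨E, h1, h2, ⟨j⟩⟩ := H9Misc.DRingTor.inD_of_flat (A := A) (ModuleCat.of A B)
  haveI := isIso_bcRHom_of_pseudoCoherent (φ := algebraMap A B) ⟨E, h1, h2, ⟨j ≪≫ eR⟩⟩ X Y hX n inferInstance
  obtain ⟨e₁⟩ := exists_hdRHomShiftLEquiv ((DTen.LBase (algebraMap A B)).obj X)
    ((DTen.LBase (algebraMap A B)).obj Y) i
  obtain ⟨e₂⟩ := exists_hdLBaseLEquiv (B := B) ((DTen.RHomR A X).obj Y) i
  obtain ⟨e₃⟩ := exists_hdRHomShiftLEquiv X Y i
  exact ⟨e₁.symm.trans (((DerivedCategory.homologyFunctor (ModuleCat.{u} B) i).mapIso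
    (asIso (DTen.bcRHom (algebraMap A B) X Y))).symm.toLinearEquiv.trans
      (e₂.trans (TensorProduct.AlgebraTensorModule.congr (LinearEquiv.refl B B) e₃)))⟩

/-- A dualizing complex of finite injective dimension is bounded above. -/
lemma exists_bounds_of_isDualizing {ω : Dual.D A} (hω : Dual.IsDualizing A ω) :
    ∃ a b : ℤ, DRing.HasInjAmplitudeIn A a b ω ∧ ω.IsGE a ∧ ω.IsLE b := by
  obtain ⟨a, b, hab⟩ := finiteInjDim_of_isDualizing hω
  refine ⟨a, b, hab, isGE_of_injAmplitude hab, ?_⟩
  obtain ⟨E, hz, -, ⟨e⟩⟩ := hab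
  haveI : CochainComplex.IsStrictlyLE E b :=
    (CochainComplex.isStrictlyLE_iff _ _).2 fun i hi => hz i (Or.inr hi)
  haveI : (DRing.toD E).IsLE b := (DerivedCategory.isLE_Q_obj_iff _ _).2 inferInstance
  exact DerivedCategory.TStructure.t.isLE_of_iso e b

/-- Dualizing complexes stay dualizing along flat maps with closed fibres finite over the base in
the strong sense that every maximal ideal is extended. -/
theorem isDualizing_LBase [IsNoetherianRing B] {ω : Dual.D A} (hω : Dual.IsDualizing A ω)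
    (hmax : ∀ n : Ideal B, n.IsMaximal → ∃ I : Ideal A, I.map (algebraMap A B) = n) :
    Dual.IsDualizing B ((DTen.LBase (algebraMap A B)).obj ω) := by
  haveI := hω.isNoetherianRing
  haveI := hasLTen A
  haveI := hasRHom (A := A)
  haveI := hasLTen B
  haveI := hasRHom (A := B)
  obtain ⟨a, b, hab, _, _⟩ := exists_bounds_of_isDualizing hω
  haveI := isGE_LBase_flat (B := B) ω a
  have hfin := fun i => finite_hd_LBase (B := B) ω i (hω.finite_cohomology i)
  have hpcω := pc'_of_finite_hd ω b hω.finite_cohomology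
  refine ⟨inferInstance, ?_, hfin, ?_, fun i hi => ?_⟩
  · refine ⟨a, b, ?_⟩
    intro M _ _ i hi
    suffices key : DRing.HasInjAmplitudeIn B a b ((DTen.LBase (algebraMap A B)).obj ω) by
      obtain ⟨E, hz, hE, ⟨e⟩⟩ := key
      exact H9Misc.DRingInjAmp.ext_subsingleton hz hE e (ModuleCat.of B M) i hi
    refine hasInjAmplitudeIn_of_maximal _ a b hfin fun n hn j hj => ?_
    obtain ⟨I, rfl⟩ := hmax n hn
    obtain ⟨eI⟩ := nonempty_LBase_inD_quotient (B := B) I
    obtain ⟨e⟩ := exists_homBaseChangeLEquiv (B := B)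
      (X := Dual.inD A (A ⧸ I)) (Y := ω) ((Groth.Agent.S6942.result A 0 ω (A ⧸ I)).2.2 inferInstance) a j
    obtain ⟨E, hz, hE, ⟨e'⟩⟩ := hab
    haveI := H9Misc.DRingInjAmp.ext_subsingleton hz hE e' (ModuleCat.of A (A ⧸ I)) j (Or.inr hj)
    haveI : Subsingleton ((DTen.LBase (algebraMap A B)).obj (Dual.inD A (A ⧸ I)) ⟶
        ((DTen.LBase (algebraMap A B)).obj ω)⟦j⟧) := e.injective.subsingleton
    exact eI.homFromEquiv.symm.subsingleton
  · obtain ⟨e⟩ := exists_homBaseChangeLEquiv (B := B) (Y := ω) hpcω a 0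
    let c : A →ₗ[A] (ω ⟶ ω) :=
      { toFun := fun x => x • 𝟙 ω
        map_add' := fun x y => add_smul x y _
        map_smul' := fun x y => mul_smul x y _ }
    let z : (ω ⟶ ω⟦(0 : ℤ)⟧) ≃ₗ[A] A :=
      (Linear.homCongr A (Iso.refl ω) ((shiftFunctorZero (Dual.D A) ℤ).app ω)).trans
        (LinearEquiv.ofBijective c hω.toEnd_bijective).symm
    exact toEnd_bijective_of_linearEquiv _
      ((Linear.homCongr B (Iso.refl _) ((shiftFunctorZero (Dual.D B) ℤ).app _)).symm.trans
        (e.trans ((TensorProduct.AlgebraTensorModule.congr (LinearEquiv.refl B B) z).trans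
          (TensorProduct.AlgebraTensorModule.rid A B B))))
  · obtain ⟨e⟩ := exists_homBaseChangeLEquiv (B := B) (Y := ω) hpcω a i
    haveI := hω.ext_self_subsingleton i hi
    exact e.injective.subsingleton

/-- Flat base change preserves dualizing complexes, for Tor-style derived base change. -/
theorem isDualizing_LBaseChange [IsNoetherianRing B] [DRing.HasLBaseChange (algebraMap A B)]
    {ω : Dual.D A} (hω : Dual.IsDualizing A ω)
    (hmax : ∀ n : Ideal B, n.IsMaximal → ∃ I : Ideal A, I.map (algebraMap A B) = n) :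
    Dual.IsDualizing B ((DRing.LBaseChange (algebraMap A B)).obj ω) := by
  obtain ⟨e⟩ := nonempty_LBaseChange_iso (algebraMap A B)
  exact isDualizing_of_iso (e.app ω).symm (isDualizing_LBase hω hmax)

/-- Base change along a flat local map with field closed fibre preserves normalization. -/
theorem isNormalized_LBaseChange [IsLocalRing A] [IsLocalRing B] [DRing.HasLBaseChange (algebraMap A B)]
    (hm : (IsLocalRing.maximalIdeal A).map (algebraMap A B) = IsLocalRing.maximalIdeal B)
    {ω : Dual.D A} (hω : Dual.IsDualizing A ω) (hn : Dual.IsNormalized A ω) :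
    Dual.IsNormalized B ((DRing.LBaseChange (algebraMap A B)).obj ω) := by
  haveI := hω.isNoetherianRing
  obtain ⟨e⟩ := nonempty_LBaseChange_iso (algebraMap A B)
  obtain ⟨a, b, -, _, _⟩ := exists_bounds_of_isDualizing hω
  intro i hi
  obtain ⟨eI⟩ := nonempty_LBase_inD_quotient (B := B) (IsLocalRing.maximalIdeal A)
  obtain ⟨eh⟩ := exists_homBaseChangeLEquiv (B := B) (X := Dual.inD A (A ⧸ IsLocalRing.maximalIdeal A))
    (Y := ω) ((Groth.Agent.S6942.result A 0 ω (A ⧸ IsLocalRing.maximalIdeal A)).2.2 inferInstance) a i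
  haveI : Subsingleton (Dual.inD A (A ⧸ IsLocalRing.maximalIdeal A) ⟶ ω⟦i⟧) := hn i hi
  haveI := eh.injective.subsingleton
  rw [hm] at eI
  exact ((Iso.homCongr eI ((shiftFunctor (Dual.D B) i).mapIso (e.app ω).symm))).symm.subsingleton

end Flat

/-- If `A → B ⧸ I B` is surjective and `I B` lies in the radical, maximal ideals of `B` are extended. -/
lemma exists_map_eq_of_surjective {A B : Type*} [CommRing A] [CommRing B] [Algebra A B] (I : Ideal A)
    (hs : Function.Surjective ((Ideal.Quotient.mk (I.map (algebraMap A B))).comp (algebraMap A B)))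
    (hJ : I.map (algebraMap A B) ≤ (⊥ : Ideal B).jacobson) (n : Ideal B) (hn : n.IsMaximal) :
    ∃ J : Ideal A, J.map (algebraMap A B) = n := by
  have hIn : I.map (algebraMap A B) ≤ n := hJ.trans (sInf_le ⟨bot_le, hn⟩)
  refine ⟨n.comap (algebraMap A B), le_antisymm Ideal.map_comap_le fun x hx => ?_⟩
  obtain ⟨a, ha⟩ := hs (Ideal.Quotient.mk _ x)
  have ha' : algebraMap A B a - x ∈ I.map (algebraMap A B) := Ideal.Quotient.eq.1 ha
  have han : a ∈ n.comap (algebraMap A B) := by
    have : algebraMap A B a - x + x ∈ n := n.add_mem (hIn ha') hx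
    simpa using this
  have : algebraMap A B a - (algebraMap A B a - x) ∈ (n.comap (algebraMap A B)).map (algebraMap A B) :=
    Ideal.sub_mem _ (Ideal.mem_map_of_mem _ han) (Ideal.map_mono (Ideal.map_le_iff_le_comap.1 hIn) ha')
  simpa using this

end Groth.Agent.KFlatLib
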