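import Groth.Prelude.Def_DTen
import Groth.Agent.KFlatLib.BrutalTrunc
import Mathlib.CategoryTheory.Triangulated.Pretriangulated
import Mathlib.Algebra.Category.ModuleCat.Biproducts
import Mathlib.Algebra.Homology.DerivedCategory.ShortExact
import Mathlib.RingTheory.Finiteness.Cardinality

/-!
# Induction on perfect objects of the derived category of a ring
-/

set_option linter.style.haveILetI false

universe u

open CategoryTheory CategoryTheory.Limits Pretriangulated ZeroObject

attribute [local instance] HasDerivedCategory.standard

namespace Groth.Agent.KFlatLib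

variable {A : Type u} [CommRing A] (P : Dual.D A → Prop)

/-- A property stable under isomorphisms, extensions and retracts which holds for all shifts of the
unit holds for all perfect objects. -/
theorem perfect_induction (hiso : ∀ {K K' : Dual.D A}, (K ≅ K') → P K → P K')
    (htri : ∀ T : Triangle (Dual.D A), T ∈ distTriang _ → P T.obj₁ → P T.obj₃ → P T.obj₂)
    (hretract : ∀ {K K' : Dual.D A} (i : K ⟶ K') (r : K' ⟶ K), i ≫ r = 𝟙 K → P K' → P K)
    (hbase : ∀ n : ℤ, P ((DTen.unit A)⟦n⟧)) {K : Dual.D A} (hK : DRing.IsPerfect A K) : P K := by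
  let S := fun n : ℤ => DerivedCategory.singleFunctor (ModuleCat.{u} A) n
  haveI : ∀ n, PreservesBinaryBiproducts (S n) := fun n =>
    preservesBinaryBiproducts_of_preservesBiproducts _
  have hzero : ∀ {K : Dual.D A}, IsZero K → P K := fun {K} h =>
    hretract (0 : K ⟶ _) 0 (h.eq_of_src _ _) (hbase 0)
  have hone : ∀ n, P ((S n).obj (ModuleCat.of A A)) := fun n =>
    hiso (((DerivedCategory.singleFunctors (ModuleCat.{u} A)).shiftIso (-n) n 0 (by omega)).app
      (ModuleCat.of A A)) (hbase (-n))
  have hfree : ∀ (k : ℕ) (n : ℤ), P ((S n).obj (ModuleCat.of A (Fin k → A))) := by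
    intro k
    induction k with
    | zero => exact fun n => hzero ((S n).map_isZero (ModuleCat.isZero_of_subsingleton _))
    | succ k ih =>
      intro n
      refine hiso ((S n).mapIso ((Fin.consLinearEquiv A (fun _ : Fin (k + 1) => A)).toModuleIso) )
        ?_
      refine hiso ((S n).mapIso (ModuleCat.biprodIsoProd (ModuleCat.of A A)
        (ModuleCat.of A (Fin k → A)))) ?_
      refine hiso ((S n).mapBiprod _ _).symm ?_
      exact htri _ (Pretriangulated.binaryBiproductTriangle_distinguished _ _) (hone n) (ih n)
  have hproj : ∀ (M : ModuleCat.{u} A), Module.Finite A M → Module.Projective A M →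
      ∀ n, P ((S n).obj M) := by
    intro M _ _ n
    obtain ⟨k, g, hg⟩ := Module.Finite.exists_fin' A M
    obtain ⟨s, hs⟩ := Module.projective_lifting_property g LinearMap.id hg
    refine hretract ((S n).map (ModuleCat.ofHom s)) ((S n).map (ModuleCat.ofHom g)) ?_ (hfree k n)
    rw [← Functor.map_comp, ← ModuleCat.ofHom_comp, hs]
    exact (S n).map_id M
  have hcx : ∀ (m : ℕ) (E : DRing.Cx A) (a b : ℤ), DRing.VanishesOutside E a b → b < a + m →
      DRing.TermwiseFiniteProjective E → P (DerivedCategory.Q.obj E) := by
    intro m
    induction m with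
    | zero =>
      intro E a b hv hab _
      exact hzero (DerivedCategory.Q.map_isZero
        ((IsZero.iff_id_eq_zero _).2 (HomologicalComplex.hom_ext _ _ fun i =>
          (hv i (by omega)).eq_of_src _ _)))
    | succ m ih =>
      intro E a b hv hab hp
      have hS := sigmaSES_shortExact E b
      refine htri _ (DerivedCategory.triangleOfSES_distinguished hS) ?_ ?_
      · let E₁ : CochainComplex (ModuleCat.{u} A) ℤ := E.stupidTrunc (ComplexShape.embeddingUpIntGE b)
        haveI : CochainComplex.IsStrictlyGE E₁ b := inferInstance
        haveI : CochainComplex.IsStrictlyLE E₁ b := by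
          rw [CochainComplex.isStrictlyLE_iff]
          intro i hi
          haveI := isIso_sigmaGEι_f E b i (by omega)
          exact (hv i (by omega)).of_iso (asIso ((sigmaGEι E b).f i))
        obtain ⟨M, ⟨e⟩⟩ := CochainComplex.exists_iso_single E₁ b
        haveI := isIso_sigmaGEι_f E b b le_rfl
        let eM : E.X b ≅ M := (asIso ((sigmaGEι E b).f b)).symm ≪≫
          (HomologicalComplex.eval _ _ b).mapIso e ≪≫ HomologicalComplex.singleObjXSelf (ComplexShape.up ℤ) b M
        haveI := (hp b).1
        haveI := (hp b).2
        exact hiso (((SingleFunctors.evaluation _ _ b).mapIso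
            (DerivedCategory.singleFunctorsPostcompQIso (ModuleCat.{u} A))).app M ≪≫
          DerivedCategory.Q.mapIso e.symm)
          (hproj M (Module.Finite.equiv eM.toLinearEquiv)
            (Module.Projective.of_equiv eM.toLinearEquiv) b)
      · haveI := isStrictlyLE_sigmaSES_X₃ E b
        refine ih (sigmaSES E b).X₃ a (b - 1) (fun i hi => ?_) (by omega) (fun i => ?_)
        · rcases lt_or_ge i b with h | h
          · exact (hv i (by omega)).of_iso (nonempty_sigmaSES_X₃_iso E b i h).some.symm
          · exact CochainComplex.isZero_of_isStrictlyLE _ (b - 1) i (by omega)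
        · rcases lt_or_ge i b with h | h
          · obtain ⟨e⟩ := nonempty_sigmaSES_X₃_iso E b i h
            haveI := (hp i).1
            haveI := (hp i).2
            exact ⟨Module.Finite.equiv e.toLinearEquiv, Module.Projective.of_equiv e.toLinearEquiv⟩
          · haveI := ModuleCat.subsingleton_of_isZero
              (CochainComplex.isZero_of_isStrictlyLE (sigmaSES E b).X₃ (b - 1) i (by omega))
            exact ⟨inferInstance, Module.Projective.of_free⟩
  obtain ⟨E, a, b, hv, hp, ⟨e⟩⟩ := hK
  exact hiso e (hcx ((b - a).toNat + 1) E a b hv (by omega) hp)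

end Groth.Agent.KFlatLib
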