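import Groth.Agent.KFlatLib.Ring.TenExact
import Groth.Agent.KFlatLib.Ring.PerfectInduction

/-!
# `K ⊗^L RHom(M, L) ⟶ RHom(M, K ⊗^L L)` for perfect `K`
-/

set_option linter.style.haveILetI false

universe u

open CategoryTheory CategoryTheory.Limits Pretriangulated

attribute [local instance] HasDerivedCategory.standard

namespace Groth.Agent.KFlatLib

variable {A : Type u} [CommRing A] [DTen.HasLTen A]

lemma isIso_of_retract {C : Type*} [Category C] {D : Type*} [Category D] {F G : C ⥤ D} (η : F ⟶ G)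
    {K K' : C} (i : K ⟶ K') (r : K' ⟶ K) (h : i ≫ r = 𝟙 K) [IsIso (η.app K')] :
    IsIso (η.app K) := by
  refine ⟨⟨G.map i ≫ inv (η.app K') ≫ F.map r, ?_, ?_⟩⟩
  · rw [← η.naturality_assoc, IsIso.hom_inv_id_assoc, ← F.map_comp, h, F.map_id]
  · rw [Category.assoc, Category.assoc, η.naturality, IsIso.inv_hom_id_assoc, ← G.map_comp, h,
      G.map_id]

/-- A natural transformation between exact functors which is an isomorphism on the shifts of the
unit is one on perfect objects. -/
theorem isIso_app_of_isPerfect {F G : Dual.D A ⥤ Dual.D A} [F.PreservesZeroMorphisms]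
    [G.PreservesZeroMorphisms] (hF : HomExact F) (hG : HomExact G) (η : F ⟶ G)
    (hbase : ∀ n : ℤ, IsIso (η.app ((DTen.unit A)⟦n⟧))) {K : Dual.D A} (hK : DRing.IsPerfect A K) :
    IsIso (η.app K) := by
  have key : ∀ n : ℤ, IsIso (η.app (K⟦n⟧)) := by
    refine perfect_induction (fun K => ∀ n : ℤ, IsIso (η.app (K⟦n⟧))) ?_ ?_ ?_ ?_ hK
    · exact fun e h n => (NatTrans.isIso_app_iff_of_iso η ((shiftFunctor _ n).mapIso e)).1 (h n)
    · intro T hT h₁ h₃ n
      exact isIso₂_of_homExact hF hG η _ (Triangle.shift_distinguished T hT n)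
        ((NatTrans.isIso_app_iff_of_iso η ((shiftFunctorAdd' (Dual.D A) n (-1) (n - 1)
          (by omega)).app T.obj₃)).1 (h₃ (n - 1))) (h₁ n) (h₃ n)
        ((NatTrans.isIso_app_iff_of_iso η ((shiftFunctorAdd' (Dual.D A) n 1 (n + 1)
          rfl).app T.obj₁)).1 (h₁ (n + 1)))
    · intro K K' i r h hK n
      haveI := hK n
      exact isIso_of_retract η (i⟦n⟧') (r⟦n⟧') (by rw [← Functor.map_comp, h, CategoryTheory.Functor.map_id])
    · exact fun m n => (NatTrans.isIso_app_iff_of_iso η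
        ((shiftFunctorAdd (Dual.D A) m n).app (DTen.unit A))).1 (hbase (m + n))
  exact (NatTrans.isIso_app_iff_of_iso η ((shiftFunctorZero (Dual.D A) ℤ).app K)).1 (key 0)

variable [DTen.HasLTen₃ A] [DTen.IsSymMonoidal A]

lemma associator_naturality {a a' b b' c c' : Dual.D A} (f : a ⟶ a') (g : b ⟶ b') (h : c ⟶ c') :
    (DTen.LTen₂ A).map (Prod.mkHom ((DTen.LTen₂ A).map (Prod.mkHom f g)) h) ≫
        (DTen.associator a' b' c').hom =
      (DTen.associator a b c).hom ≫
        (DTen.LTen₂ A).map (Prod.mkHom f ((DTen.LTen₂ A).map (Prod.mkHom g h))) := by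
  have e1 := (DTen.assocL A).naturality (Prod.mkHom f (Prod.mkHom g h))
  have e2 := (DTen.assocR A).naturality (Prod.mkHom f (Prod.mkHom g h))
  rw [← cancel_mono ((DTen.assocR A).app (a', (b', c'))), Category.assoc, Category.assoc,
    DTen.associator_hom_assocR]
  dsimp at e1 e2 ⊢
  erw [e1, e2, DTen.associator_hom_assocR_assoc]
  rfl

omit [DTen.HasLTen₃ A] [DTen.IsSymMonoidal A] in
lemma ten_map_comp {a a' a'' b b' b'' : Dual.D A} (f : a ⟶ a') (f' : a' ⟶ a'') (g : b ⟶ b')
    (g' : b' ⟶ b'') :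
    (DTen.LTen₂ A).map (Prod.mkHom f g) ≫ (DTen.LTen₂ A).map (Prod.mkHom f' g') =
      (DTen.LTen₂ A).map (Prod.mkHom (f ≫ f') (g ≫ g')) :=
  ((DTen.LTen₂ A).map_comp _ _).symm

variable [DTen.HasRHom A]

/-- Where `K ⊗^L -` is an equivalence the evaluation map is invertible. -/
lemma isIso_evalTen_of_isEquivalence (K L M : Dual.D A) [((DTen.LTen A).obj K).IsEquivalence] :
    IsIso (DTen.evalTen K L M) := by
  let J := (DTen.LTen A).obj K
  refine isIso_of_yoneda_map_bijective _ fun Z => ?_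
  let e : J.obj (J.objPreimage Z) ≅ Z := J.objObjPreimageIso Z
  let Z' := J.objPreimage Z
  -- the same map, for a source of the form `K ⊗ Z'`
  suffices h : Function.Bijective
      (fun z : J.obj Z' ⟶ (DTen.LTen₂ A).obj (K, (DTen.RHomR A M).obj L) => z ≫ DTen.evalTen K L M) by
    refine ⟨fun z z' hz => (cancel_epi e.hom).1 (h.1 ?_), fun y => ?_⟩
    · simp only [Category.assoc] at hz ⊢
      exact congrArg (e.hom ≫ ·) hz
    · obtain ⟨z, hz⟩ := h.2 (e.hom ≫ y)
      refine ⟨e.inv ≫ z, ?_⟩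
      change (e.inv ≫ z) ≫ _ = y
      simp only [Category.assoc] at hz ⊢
      exact (congrArg (e.inv ≫ ·) hz).trans (Iso.inv_hom_id_assoc e y)
  let b : (J.obj Z' ⟶ (DTen.LTen₂ A).obj (K, (DTen.RHomR A M).obj L)) ≃
      (J.obj Z' ⟶ (DTen.RHomR A M).obj ((DTen.LTen₂ A).obj (K, L))) :=
    ((Functor.FullyFaithful.ofFullyFaithful J).homEquiv).symm.trans
      ((DTen.rhomHomEquiv Z' M L).symm.trans
        (((Functor.FullyFaithful.ofFullyFaithful J).homEquiv).trans
          ((Iso.homCongr (DTen.associator K Z' M).symm (Iso.refl _)).trans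
            (DTen.rhomHomEquiv (J.obj Z') M ((DTen.LTen₂ A).obj (K, L))))))
  convert b.bijective using 1
  funext z
  obtain ⟨φ, rfl⟩ := J.map_surjective z
  refine ((DTen.rhomAdj A M).homEquiv_naturality_left _ _).symm.trans ?_
  change DTen.rhomHomEquiv (J.obj Z') M _ _ = b (J.map φ)
  have hb : b (J.map φ) = DTen.rhomHomEquiv (J.obj Z') M ((DTen.LTen₂ A).obj (K, L))
      ((DTen.associator K Z' M).hom ≫ J.map ((DTen.rhomHomEquiv Z' M L).symm φ)) := by
    simp [b, Iso.homCongr, Functor.FullyFaithful.homEquiv, Functor.FullyFaithful.preimage]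
  rw [hb]
  refine congrArg (DTen.rhomHomEquiv (J.obj Z') M _) ?_
  change (DTen.LTen₂ A).map (Prod.mkHom ((DTen.LTen₂ A).map (Prod.mkHom (𝟙 K) φ)) (𝟙 M)) ≫
      (DTen.associator K ((DTen.RHomR A M).obj L) M).hom ≫
        (DTen.LTen₂ A).map (Prod.mkHom (𝟙 K) (DTen.ev M L)) = _
  rw [← Category.assoc, associator_naturality, Category.assoc]
  refine congrArg (_ ≫ ·) ((ten_map_comp _ _ _ _).trans ?_)
  rw [Category.comp_id, Adjunction.homEquiv_counit]
  rfl

/-- The evaluation map is natural in `K`. -/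
noncomputable def evalTenNat (L M : Dual.D A) :
    DTen.tensorRightD A ((DTen.RHomR A M).obj L) ⟶ DTen.tensorRightD A L ⋙ DTen.RHomR A M where
  app K := DTen.evalTen K L M
  naturality K K' k := by
    refine ((DTen.rhomAdj A M).homEquiv_naturality_left _ _).symm.trans
      (Eq.trans ?_ ((DTen.rhomAdj A M).homEquiv_naturality_right _ _))
    refine congrArg (DTen.rhomHomEquiv _ M _) ?_
    change (DTen.LTen₂ A).map (Prod.mkHom ((DTen.LTen₂ A).map (Prod.mkHom k (𝟙 _))) (𝟙 M)) ≫
        (DTen.associator K' ((DTen.RHomR A M).obj L) M).hom ≫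
          (DTen.LTen₂ A).map (Prod.mkHom (𝟙 K') (DTen.ev M L)) =
      ((DTen.associator K ((DTen.RHomR A M).obj L) M).hom ≫
          (DTen.LTen₂ A).map (Prod.mkHom (𝟙 K) (DTen.ev M L))) ≫
        (DTen.LTen₂ A).map (Prod.mkHom k (𝟙 L))
    rw [← Category.assoc, associator_naturality, Category.assoc, Category.assoc]
    refine congrArg (_ ≫ ·) ((ten_map_comp _ _ _ _).trans (Eq.trans ?_ (ten_map_comp _ _ _ _).symm))
    congr 1
    refine Prod.ext ((Category.comp_id k).trans (Category.id_comp k).symm) ?_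
    change (DTen.LTen₂ A).map (𝟙 (_, M)) ≫ DTen.ev M L = DTen.ev M L ≫ 𝟙 L
    rw [CategoryTheory.Functor.map_id, Category.id_comp, Category.comp_id]

/-- `K ⊗^L RHom(M, L) ⟶ RHom(M, K ⊗^L L)` is invertible for perfect `K`. -/
theorem isIso_evalTen_of_isPerfect_left (K L M : Dual.D A) (hK : DRing.IsPerfect A K) :
    IsIso (DTen.evalTen K L M) := by
  haveI : (DTen.RHomR A M).PreservesZeroMorphisms :=
    Functor.preservesZeroMorphisms_of_isRightAdjoint _
  exact isIso_app_of_isPerfect (homExact_tensorRightD _)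
    ((homExact_tensorRightD L).comp_rightAdjoint (DTen.rhomAdj A M)) (evalTenNat L M) (fun n => by
      haveI := isEquivalence_tensorLeft_shift_unit (A := A) n
      exact isIso_evalTen_of_isEquivalence _ L M) hK

end Groth.Agent.KFlatLib
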