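import Groth.Agent.KFlatLib.Ring.TenExact

/-!
# The structure binders of the derived tensor product hold
-/

set_option linter.style.haveILetI false
set_option backward.isDefEq.respectTransparency false

universe u

open CategoryTheory CategoryTheory.Limits MonoidalCategory

attribute [local instance] HasDerivedCategory.standard

namespace Groth.Agent.KFlatLib

variable (A : Type u) [CommRing A] [DTen.HasLTen A]

omit [DTen.HasLTen A] in
lemma hasLTen₃ : DTen.HasLTen₃ A := (tenRes₃ A).hasLeftDerivedFunctor (DTen.QQQ A)

lemma isSymMonoidal [DTen.HasLTen₃ A] : DTen.IsSymMonoidal A where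
  isIso_symm := by
    haveI : ∀ X, IsIso ((DTen.symm A).app X) := fun X => isIso_symm_app X.1 X.2
    exact NatIso.isIso_of_isIso_app _
  isIso_unitL := by
    haveI : ∀ E, IsIso ((DTen.unitL A).app E) := fun E => by
      haveI : IsIso ((DTen.unitL A).app (DerivedCategory.Q.obj (DerivedCategory.Q.objPreimage E))) := by
        rw [DTen.unitL_app]
        haveI := isIso_ε (A := A) (kFlat_unit (A := A)) (DerivedCategory.Q.objPreimage E)
        infer_instance
      exact (NatTrans.isIso_app_iff_of_iso (DTen.unitL A) (DerivedCategory.Q.objObjPreimageIso E)).1 this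
    exact NatIso.isIso_of_isIso_app _
  isIso_unitR := by
    haveI : ∀ E, IsIso ((DTen.unitR A).app E) := fun E => by
      haveI : IsIso ((DTen.unitR A).app (DerivedCategory.Q.obj (DerivedCategory.Q.objPreimage E))) := by
        rw [DTen.unitR_app]
        haveI := isIso_ε_right (A := A) (kFlat_unit (A := A)) (DerivedCategory.Q.objPreimage E)
        infer_instance
      exact (NatTrans.isIso_app_iff_of_iso (DTen.unitR A) (DerivedCategory.Q.objObjPreimageIso E)).1 this
    exact NatIso.isIso_of_isIso_app _
  isIso_assocL := by
    haveI : ∀ X, IsIso ((DTen.assocL A).app X) := fun X => (isIso_assoc_app X.1 X.2.1 X.2.2).1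
    exact NatIso.isIso_of_isIso_app _
  isIso_assocR := by
    haveI : ∀ X, IsIso ((DTen.assocR A).app X) := fun X => (isIso_assoc_app X.1 X.2.1 X.2.2).2
    exact NatIso.isIso_of_isIso_app _

end Groth.Agent.KFlatLib
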