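import Groth.Agent.KFlatLib.Ring.InnerHom
import Groth.Agent.KFlatLib.Ring.SymMonoidal

/-!
# The derived tensor product and derived hom of a ring exist
-/

set_option linter.style.haveILetI false
set_option backward.isDefEq.respectTransparency false

universe u

open CategoryTheory CategoryTheory.Limits Pretriangulated MonoidalCategory

attribute [local instance] HasDerivedCategory.standard

namespace Groth.Agent.KFlatLib

variable (A : Type u) [CommRing A]

lemma hasLTen : DTen.HasLTen A := (tenRes A).hasLeftDerivedFunctor (DTen.QQ A)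

variable {A}

/-- Evaluation out of the inner hom into a K-injective complex is universal. -/
lemma bijective_innerEv [DTen.HasLTen A] {P : DRing.Cx A}
    (hP : KFlat (curriedTensor (ModuleCat.{u} A)) P) (I : DRing.Cx A) [I.IsKInjective]
    [∀ n, Injective (I.X n)] (Z : Dual.D A) :
    Function.Bijective fun z : Z ⟶ DerivedCategory.Q.obj ((innerHom P).obj I) =>
      (DTen.tensorRightD A (DerivedCategory.Q.obj P)).map z ≫
        (DTen.ε A).app ((innerHom P).obj I, P) ≫ DerivedCategory.Q.map ((innerAdj P).counit.app I) := by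
  haveI := isKInjective_innerHom hP I
  let X := flatRep Z
  let e := flatRepIso Z
  let F := DTen.tensorRightD A (DerivedCategory.Q.obj P)
  let ev : F.obj (DerivedCategory.Q.obj ((innerHom P).obj I)) ⟶ DerivedCategory.Q.obj I :=
    (DTen.ε A).app ((innerHom P).obj I, P) ≫ DerivedCategory.Q.map ((innerAdj P).counit.app I)
  have key : ∀ g : X ⟶ (innerHom P).obj I, F.map (DerivedCategory.Q.map g) ≫ ev =
      (DTen.ε A).app (X, P) ≫ DerivedCategory.Q.map (((innerAdj P).homEquiv X I).symm g) := by
    intro g
    refine Eq.trans ?_ (congrArg (fun z => (DTen.ε A).app (X, P) ≫ DerivedCategory.Q.map z)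
      ((innerAdj P).homEquiv_counit X I g).symm)
    refine Eq.trans ?_ (congrArg ((DTen.ε A).app (X, P) ≫ ·) (DerivedCategory.Q.map_comp _ _).symm)
    exact ((Category.assoc _ _ _).symm.trans (congrArg (· ≫ _) (ε_naturality_left g P))).trans
      (Category.assoc _ _ _)
  haveI hε : IsIso ((DTen.ε A).app (X, P)) := isIso_ε_right hP X
  suffices h : Function.Bijective
      (fun a : DerivedCategory.Q.obj X ⟶ DerivedCategory.Q.obj ((innerHom P).obj I) =>
        F.map a ≫ ev) by
    refine ⟨fun z z' hz => (cancel_epi e.hom).1 (h.1 ?_), fun y => ?_⟩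
    · simp only [Functor.map_comp, Category.assoc]
      exact congrArg (F.map e.hom ≫ ·) hz
    · obtain ⟨z, hz⟩ := h.2 (F.map e.hom ≫ y)
      refine ⟨e.inv ≫ z, ?_⟩
      change F.map (e.inv ≫ z) ≫ ev = y
      rw [Functor.map_comp, Category.assoc]
      refine (congrArg (F.map e.inv ≫ ·) hz).trans ?_
      exact (Category.assoc _ _ _).symm.trans ((congrArg (· ≫ y)
        ((F.map_comp _ _).symm.trans ((congrArg F.map e.inv_hom_id).trans (F.map_id _)))).trans
          (Category.id_comp y))
  refine ⟨fun a a' h => ?_, fun y => ?_⟩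
  · obtain ⟨g, rfl⟩ := exists_Q_map a
    obtain ⟨g', rfl⟩ := exists_Q_map a'
    simp only [key] at h
    obtain ⟨H⟩ := homotopy_of_Q_map_eq _ _ ((cancel_epi _).1 h)
    have H' : Homotopy (((innerAdj P).homEquiv X I).symm (g - g')) 0 := by
      refine (Homotopy.ofEq ?_).trans H.equivSubZero
      haveI : (tenCx P).Additive := inferInstance
      simp only [Adjunction.homEquiv_counit, Functor.map_sub, Preadditive.sub_comp]
    obtain ⟨K⟩ := nonempty_homotopy_of_homEquiv _ H'
    exact DerivedCategory.Q_map_eq_of_homotopy _ (Homotopy.equivSubZero.symm K)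
  · obtain ⟨b, hb⟩ := exists_Q_map (inv ((DTen.ε A).app (X, P)) ≫ y)
    refine ⟨DerivedCategory.Q.map ((innerAdj P).homEquiv X I b), ?_⟩
    change F.map (DerivedCategory.Q.map ((innerAdj P).homEquiv X I b)) ≫ ev = y
    rw [key, Equiv.symm_apply_apply, hb]
    exact IsIso.hom_inv_id_assoc _ _

/-- Derived tensor with an object has a right adjoint. -/
lemma hasRHom [DTen.HasLTen A] : DTen.HasRHom A where
  isLeftAdjoint L := by
    let P := flatRep L
    let eP : DerivedCategory.Q.obj P ≅ L := flatRepIso L
    let F := DTen.tensorRightD A (DerivedCategory.Q.obj P)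
    haveI : F.IsLeftAdjoint := by
      refine (Functor.isLeftAdjoint_iff_rightAdjointObjIsDefined_eq_top F).2 (funext fun Y => ?_)
      simp only [Pi.top_apply, Prop.top_eq_true, eq_iff_iff, iff_true]
      obtain ⟨I, s, hI, hs, -, hinj⟩ :=
        TriCat.exists_kInjective_resolution'.{u} (DerivedCategory.Q.objPreimage Y)
      haveI := hI
      haveI := hinj
      haveI : QuasiIso s := hs
      let eI : DerivedCategory.Q.obj I ≅ Y :=
        (asIso (DerivedCategory.Q.map s)).symm ≪≫ DerivedCategory.Q.objObjPreimageIso Y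
      refine Functor.RepresentableBy.isRepresentable
        (Y := DerivedCategory.Q.obj ((innerHom P).obj I)) (F := F.op ⋙ yoneda.obj Y) ?_
      refine
        { homEquiv := fun {Z} => (Equiv.ofBijective _ (bijective_innerEv (kFlat_ringRes _) I Z)).trans
            (Iso.homToEquiv eI (Z := F.obj Z))
          homEquiv_comp := fun {Z Z'} f g => ?_ }
      change (F.map (f ≫ g) ≫ _) ≫ eI.hom = F.map f ≫ (F.map g ≫ _) ≫ eI.hom
      rw [Functor.map_comp]
      simp only [Category.assoc]
    exact Functor.isLeftAdjoint_of_iso (F := F)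
      (NatIso.ofComponents (fun X => (DTen.LTen₂ A).mapIso (Iso.prod (Iso.refl X) eP)) fun {X X'} f => by
        change (DTen.LTen₂ A).map (Prod.mkHom f (𝟙 _)) ≫ (DTen.LTen₂ A).map (Prod.mkHom (𝟙 _) eP.hom) =
          (DTen.LTen₂ A).map (Prod.mkHom (𝟙 _) eP.hom) ≫ (DTen.LTen₂ A).map (Prod.mkHom f (𝟙 _))
        exact (ten_swap f eP.hom).symm)

end Groth.Agent.KFlatLib
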