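import Groth.Agent.KFlatLib.Ring.EvalPseudoCoherent
import Groth.Agent.KFlatLib.Ring.HasRHom
import Groth.Agent.H9Misc.DRingInjAmp
import Groth.Agent.H9Misc.DRingInjDim
import Groth.Agent.H9Misc.DRingNakayama
import Groth.Agent.S6942

/-!
# Finiteness of derived homs over a Noetherian ring
-/

set_option linter.style.haveILetI false
set_option backward.isDefEq.respectTransparency false

universe u

open CategoryTheory CategoryTheory.Limits Pretriangulated Opposite MonoidalCategory

open Pretriangulated.Opposite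

attribute [local instance] HasDerivedCategory.standard

namespace Groth.Agent.KFlatLib

variable {A : Type u} [CommRing A]

/-- The middle module of an exact sequence with finite ends is finite. -/
lemma finite_of_exact [IsNoetherianRing A] {M N P : Type*} [AddCommGroup M] [AddCommGroup N]
    [AddCommGroup P] [Module A M] [Module A N] [Module A P] (f : M →ₗ[A] N) (g : N →ₗ[A] P)
    (h : ∀ y, g y = 0 → ∃ x, f x = y) (hM : Module.Finite A M) (hP : Module.Finite A P) :
    Module.Finite A N := by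
  haveI : Module.Finite A (LinearMap.range g) := inferInstance
  refine ⟨Submodule.fg_of_fg_map_of_fg_inf_ker g ?_ ?_⟩
  · rw [Submodule.map_top]
    exact Module.Finite.iff_fg.1 inferInstance
  · rw [top_inf_eq]
    haveI : Module.Finite A (LinearMap.ker g) := by
      exact Module.Finite.of_injective
        (Submodule.inclusion (show LinearMap.ker g ≤ LinearMap.range f from fun y hy => h y hy))
        (Submodule.inclusion_injective _)
    exact Module.Finite.iff_fg.1 inferInstance

/-- Perfect objects approximate pseudo-coherent objects. -/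
lemma exists_perfect_approx {X : Dual.D A} (hX : DRing.IsPseudoCoherent' A X) (m : ℤ) :
    ∃ T : Triangle (Dual.D A), T ∈ distTriang _ ∧ DRing.IsPerfect A T.obj₁ ∧ T.obj₂ = X ∧
      T.obj₃.IsLE m := by
  obtain ⟨E, a', b', α, hvan, hfree, hiso, hepi⟩ := (H9Misc.DRingPC.pc'_iff X).1 hX m
  have hP : DRing.IsPerfect A (DRing.toD E) := ⟨E, a', b', hvan, fun i => ⟨(hfree i).1, by
    haveI := (hfree i).2
    infer_instance⟩, ⟨Iso.refl _⟩⟩
  obtain ⟨C, g, δ, hT⟩ := distinguished_cocone_triangle α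
  refine ⟨_, hT, hP, rfl, (DerivedCategory.isLE_iff _ _).2 fun i hi => ?_⟩
  haveI := hiso i hi
  haveI := hiso (i + 1) (by omega)
  have h1 := (DerivedCategory.HomologySequence.epi_homologyMap_mor₁_iff _ hT i).1
    (inferInstanceAs (Epi ((DerivedCategory.homologyFunctor _ i).map α)))
  haveI h2 : Epi ((DerivedCategory.homologyFunctor _ i).map (Triangle.mk α g δ).mor₂) :=
    (DerivedCategory.HomologySequence.epi_homologyMap_mor₂_iff _ hT i (i + 1) rfl).2
      ((DerivedCategory.HomologySequence.mono_homologyMap_mor₁_iff _ hT i (i + 1) rfl).1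
        (inferInstanceAs (Mono ((DerivedCategory.homologyFunctor _ (i + 1)).map α))))
  exact IsZero.of_epi_eq_zero _ h1

/-- Truncations of an object with finite cohomology. -/
lemma exists_trunc [IsNoetherianRing A] {K : Dual.D A} (hK : ∀ i : ℤ, Module.Finite A (Dual.HD A K i))
    (N : ℤ) : ∃ T : Triangle (Dual.D A), T ∈ distTriang _ ∧ DRing.IsPseudoCoherent' A T.obj₁ ∧
      T.obj₁.IsLE N ∧ T.obj₂ = K ∧ T.obj₃.IsGE (N + 1) ∧
      (∀ i : ℤ, Module.Finite A (Dual.HD A T.obj₃ i)) := by
  obtain ⟨X, Y, hX, hY, f, g, δ, hT⟩ := DerivedCategory.TStructure.t.exists_triangle K N (N + 1) rfl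
  haveI : X.IsLE N := ⟨hX⟩
  haveI : Y.IsGE (N + 1) := ⟨hY⟩
  have hsub : ∀ i, N < i → Subsingleton (Dual.HD A X i) := fun i hi =>
    ModuleCat.subsingleton_of_isZero (DerivedCategory.isZero_of_isLE X N i hi)
  have hfX : ∀ i : ℤ, Module.Finite A (Dual.HD A X i) := fun i => by
    by_cases hi : i ≤ N
    · haveI := hK i
      haveI : Mono ((DerivedCategory.homologyFunctor (ModuleCat.{u} A) i).map f) :=
        (DerivedCategory.HomologySequence.mono_homologyMap_mor₁_iff _ hT (i - 1) i (by omega)).2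
          ((DerivedCategory.isZero_of_isGE Y (N + 1) (i - 1) (by omega)).eq_of_src _ _)
      exact Module.Finite.of_injective ((DerivedCategory.homologyFunctor (ModuleCat.{u} A) i).map f).hom
        ((ModuleCat.mono_iff_injective _).1 inferInstance)
    · haveI := hsub i (by omega)
      exact Module.Finite.of_finite
  have hpc : DRing.IsPseudoCoherent' A X := (H9Misc.DRingPC.pc'_iff X).2 fun m =>
    (Groth.Agent.S6942.result A m X A).1.2 ⟨⟨N, hsub⟩, fun i _ => hfX i⟩
  refine ⟨_, hT, hpc, ⟨hX⟩, rfl, ⟨hY⟩, fun i => ?_⟩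
  have hex := (ShortComplex.moduleCat_exact_iff _).1 (DerivedCategory.HomologySequence.exact₃ _ hT i (i + 1) rfl)
  exact finite_of_exact ((DerivedCategory.homologyFunctor (ModuleCat.{u} A) i).map g).hom
    (DerivedCategory.HomologySequence.δ (Triangle.mk f g δ) i (i + 1) rfl).hom hex (hK i) (hfX (i + 1))

/-- Dévissage of contravariant finiteness properties. -/
theorem fin_of_pc (P : Dual.D A → Prop) (hiso : ∀ {K K' : Dual.D A}, (K ≅ K') → P K → P K')
    (hmid : ∀ T : Triangle (Dual.D A), T ∈ distTriang _ → P T.obj₁ → P T.obj₃ → P T.obj₂)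
    (hretract : ∀ {K K' : Dual.D A} (i : K ⟶ K') (r : K' ⟶ K), i ≫ r = 𝟙 K → P K' → P K)
    (hbase : ∀ n : ℤ, P ((DTen.unit A)⟦n⟧)) (m₀ : ℤ) (hlow : ∀ C : Dual.D A, C.IsLE m₀ → P C)
    {X : Dual.D A} (hX : DRing.IsPseudoCoherent' A X) : P X := by
  obtain ⟨T, hT, h₁, h₂, h₃⟩ := exists_perfect_approx hX m₀
  exact h₂ ▸ hmid T hT (perfect_induction P hiso hmid hretract hbase h₁) (hlow _ h₃)

/-- Dévissage for objects with finite cohomology. -/
theorem fin_of_finite_hd [IsNoetherianRing A] (P : Dual.D A → Prop)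
    (hiso : ∀ {K K' : Dual.D A}, (K ≅ K') → P K → P K')
    (hmid : ∀ T : Triangle (Dual.D A), T ∈ distTriang _ → P T.obj₁ → P T.obj₃ → P T.obj₂)
    (hretract : ∀ {K K' : Dual.D A} (i : K ⟶ K') (r : K' ⟶ K), i ≫ r = 𝟙 K → P K' → P K)
    (hbase : ∀ n : ℤ, P ((DTen.unit A)⟦n⟧)) (m₀ : ℤ) (hlow : ∀ C : Dual.D A, C.IsLE m₀ → P C)
    (N₀ : ℤ) (hhigh : ∀ C : Dual.D A, C.IsGE N₀ → P C)
    {K : Dual.D A} (hK : ∀ i : ℤ, Module.Finite A (Dual.HD A K i)) : P K := by
  obtain ⟨T, hT, h₁, -, h₂, h₃, -⟩ := exists_trunc hK (N₀ - 1)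
  exact h₂ ▸ hmid T hT (fin_of_pc P hiso hmid hretract hbase m₀ hlow h₁)
    (hhigh _ (by rwa [sub_add_cancel] at h₃))

/-- Maps out of a shift of the unit are detected on cohomology. -/
lemma eq_zero_of_homologyMap_eq_zero {Y : Dual.D A} (n : ℤ)
    (φ : DerivedCategory.Q.obj (H9Misc.BrownGroth.gen A n) ⟶ Y)
    (h : (DerivedCategory.homologyFunctor (ModuleCat.{u} A) n).map φ = 0) : φ = 0 := by
  let K := DerivedCategory.Q.objPreimage Y
  let e : DerivedCategory.Q.obj K ≅ Y := DerivedCategory.Q.objObjPreimageIso Y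
  obtain ⟨g, hg⟩ := exists_unit_map n K (φ ≫ e.inv)
  suffices hg0 : DerivedCategory.Q.map g = 0 by
    rw [← cancel_mono e.inv, zero_comp, ← hg, hg0]
  let G := H9Misc.BrownGroth.gen A n
  let sx : G.X n ≅ ModuleCat.of A A :=
    HomologicalComplex.singleObjXSelf (ComplexShape.up ℤ) n (ModuleCat.of A A)
  have hH : HomologicalComplex.homologyMap g n = 0 := by
    have h' := (DerivedCategory.homologyFunctorFactors (ModuleCat.{u} A) n).hom.naturality g
    rw [Functor.comp_map, hg, Functor.map_comp, h, zero_comp, zero_comp] at h'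
    exact (cancel_epi ((DerivedCategory.homologyFunctorFactors (ModuleCat.{u} A) n).hom.app G)).1
      (h'.symm.trans comp_zero.symm)
  let z : ModuleCat.of A A ⟶ K.cycles n :=
    G.liftCycles sx.inv (n + 1) (by simp)
      ((HomologicalComplex.isZero_single_obj_X (ComplexShape.up ℤ) n _ (n + 1) (by omega)).eq_of_tgt _ _) ≫
      HomologicalComplex.cyclesMap g n
  have hz : z ≫ K.homologyπ n = 0 := by
    simp only [z, Category.assoc, ← HomologicalComplex.homologyπ_naturality, hH, comp_zero]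
  have hzi : z ≫ K.iCycles n = sx.inv ≫ g.f n := by simp [z]
  have hex : (ShortComplex.mk (K.toCycles (n - 1) n) (K.homologyπ n)
      (K.toCycles_comp_homologyπ (n - 1) n)).Exact :=
    ShortComplex.exact_of_g_is_cokernel _ (K.homologyIsCokernel (n - 1) n (by simp))
  haveI : Projective (ModuleCat.of A A) := inferInstance
  let w : ModuleCat.of A A ⟶ K.X (n - 1) := hex.liftFromProjective z hz
  have hw : w ≫ K.toCycles (n - 1) n = z := hex.liftFromProjective_comp z hz
  let k : ∀ i j, G.X i ⟶ K.X j := fun i j =>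
    if hi : i = n ∧ j = n - 1 then
      eqToHom (congrArg G.X hi.1) ≫ sx.hom ≫ w ≫ eqToHom (congrArg K.X hi.2.symm)
    else 0
  have hg' : g = Homotopy.nullHomotopicMap k := by
    refine HomologicalComplex.from_single_hom_ext ?_
    rw [Homotopy.nullHomotopicMap_f (show (ComplexShape.up ℤ).Rel (n - 1) n by simp)
      (show (ComplexShape.up ℤ).Rel n (n + 1) by simp)]
    have hd : G.d n (n + 1) = 0 :=
      (HomologicalComplex.isZero_single_obj_X (ComplexShape.up ℤ) n _ (n + 1) (by omega)).eq_of_tgt _ _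
    rw [hd, zero_comp, zero_add]
    have hk : k n (n - 1) = sx.hom ≫ w := by simp [k]
    rw [hk, ← K.toCycles_i (n - 1) n, Category.assoc, reassoc_of% hw, hzi, Iso.hom_inv_id_assoc]
  rw [hg', DerivedCategory.Q_map_eq_of_homotopy _ (Homotopy.nullHomotopy k fun i j hij => dif_neg fun hi => by
    rcases hi with ⟨rfl, rfl⟩
    exact hij (by simp)), Functor.map_zero]

/-- Maps out of a shift of the unit into an object with finite cohomology form a finite module. -/
lemma finite_hom_unit [IsNoetherianRing A] (Y : Dual.D A) (j : ℤ)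
    (hY : Module.Finite A (Dual.HD A Y (-j))) : Module.Finite A ((DTen.unit A)⟦j⟧ ⟶ Y) := by
  obtain ⟨eU⟩ := nonempty_unit_shift_iso (A := A) j
  let n := -j
  let G := DerivedCategory.Q.obj (H9Misc.BrownGroth.gen A n)
  let H := DerivedCategory.homologyFunctor (ModuleCat.{u} A) n
  haveI : Module.Finite A (H.obj Y) := hY
  haveI : Module.Finite A (H.obj G) :=
    haveI : Module.Finite A (ModuleCat.of A A) := inferInstanceAs (Module.Finite A A)
    Module.Finite.equiv ((DerivedCategory.homologyFunctorFactors _ n).app (H9Misc.BrownGroth.gen A n) ≪≫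
      HomologicalComplex.singleObjHomologySelfIso (ComplexShape.up ℤ) n (ModuleCat.of A A)).symm.toLinearEquiv
  let Φ : ((DTen.unit A)⟦j⟧ ⟶ Y) →ₗ[A] (H.obj G →ₗ[A] H.obj Y) :=
    { toFun := fun φ => (H.map (eU.inv ≫ φ)).hom
      map_add' := fun φ ψ => by simp [G, n, H]
      map_smul' := fun r φ => by simp [G, n, H] }
  refine Module.Finite.of_injective Φ fun φ ψ h => sub_eq_zero.1 ?_
  rw [← cancel_epi eU.inv, comp_zero]
  refine eq_zero_of_homologyMap_eq_zero n _ ?_
  rw [Preadditive.comp_sub, Functor.map_sub, sub_eq_zero]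
  exact ModuleCat.hom_ext h

/-- Hom modules form exact sequences. -/
lemma finite_hom_mid [IsNoetherianRing A] {T : Triangle (Dual.D A)} (hT : T ∈ distTriang _)
    (Z : Dual.D A) (h₁ : Module.Finite A (T.obj₁ ⟶ Z)) (h₃ : Module.Finite A (T.obj₃ ⟶ Z)) :
    Module.Finite A (T.obj₂ ⟶ Z) :=
  finite_of_exact (Linear.leftComp A Z T.mor₂) (Linear.leftComp A Z T.mor₁) (fun y hy => by
    obtain ⟨x, hx⟩ := Triangle.yoneda_exact₂ T hT y hy
    exact ⟨x, hx.symm⟩) h₃ h₁

/-- Maps into a bounded below object with finite cohomology out of a pseudo-coherent one form a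
finite module. -/
theorem finite_hom_of_pc [IsNoetherianRing A] {X Y : Dual.D A} (hX : DRing.IsPseudoCoherent' A X)
    (n : ℤ) [Y.IsGE n] (hY : ∀ i : ℤ, Module.Finite A (Dual.HD A Y i)) : Module.Finite A (X ⟶ Y) := by
  refine fin_of_pc (fun K => Module.Finite A (K ⟶ Y)) ?_ (fun T hT => finite_hom_mid hT Y) ?_
    (fun j => finite_hom_unit Y j (hY _)) (n - 1) ?_ hX
  · intro K K' e h
    exact Module.Finite.of_surjective (Linear.leftComp A Y e.inv) fun y => ⟨e.hom ≫ y, by simp⟩
  · intro K K' i r hir h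
    exact Module.Finite.of_surjective (Linear.leftComp A Y i) fun y =>
      ⟨r ≫ y, by simp [reassoc_of% hir]⟩
  · intro C hC
    haveI : Subsingleton (C ⟶ Y) := ⟨fun f g =>
      (DerivedCategory.TStructure.t.zero f (n - 1) n (by omega)).trans
        (DerivedCategory.TStructure.t.zero g (n - 1) n (by omega)).symm⟩
    exact Module.Finite.of_finite

/-- Objects of injective amplitude `[a, b]` are bounded below by `a`. -/
lemma isGE_of_injAmplitude {L : Dual.D A} {a b : ℤ} (h : DRing.HasInjAmplitudeIn A a b L) :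
    L.IsGE a := by
  obtain ⟨E, hz, -, ⟨e⟩⟩ := h
  haveI : CochainComplex.IsStrictlyGE E a :=
    (CochainComplex.isStrictlyGE_iff _ _).2 fun i hi => hz i (Or.inl hi)
  haveI : (DRing.toD E).IsGE a := (DerivedCategory.isGE_Q_obj_iff _ _).2 inferInstance
  exact DerivedCategory.TStructure.t.isGE_of_iso e a

/-- Maps from an object with finite cohomology into one of finite injective dimension with finite
cohomology form a finite module. -/
theorem finite_hom_of_finite_hd [IsNoetherianRing A] {K L : Dual.D A}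
    (hK : ∀ i : ℤ, Module.Finite A (Dual.HD A K i)) (hL : ∀ i : ℤ, Module.Finite A (Dual.HD A L i))
    (hLi : DRing.HasFiniteInjDim A L) (i : ℤ) : Module.Finite A (K ⟶ L⟦i⟧) := by
  obtain ⟨a, b, hab⟩ := H9Misc.DRingInjDim.shift hLi i
  haveI := isGE_of_injAmplitude hab
  have hL' : ∀ j : ℤ, Module.Finite A (Dual.HD A (L⟦i⟧) j) := fun j => by
    haveI : Module.Finite A (((DerivedCategory.homologyFunctor (ModuleCat.{u} A) 0).shift (j + i)).obj L) := hL (j + i)
    exact Module.Finite.equiv
      ((((DerivedCategory.homologyFunctor (ModuleCat.{u} A) 0).shiftIso i j (j + i) (by omega)).app L).symm.toLinearEquiv)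
  refine fin_of_finite_hd (fun M => Module.Finite A (M ⟶ L⟦i⟧)) ?_ (fun T hT => finite_hom_mid hT _) ?_
    (fun j => finite_hom_unit _ j (hL' _)) (a - 1) ?_ (b + 1) ?_ hK
  · intro M M' e h
    exact Module.Finite.of_surjective (Linear.leftComp A _ e.inv) fun y => ⟨e.hom ≫ y, by simp⟩
  · intro M M' p r hir h
    exact Module.Finite.of_surjective (Linear.leftComp A _ p) fun y =>
      ⟨r ≫ y, by simp [reassoc_of% hir]⟩
  · intro C hC
    haveI : Subsingleton (C ⟶ L⟦i⟧) := ⟨fun f g =>
      (DerivedCategory.TStructure.t.zero f (a - 1) a (by omega)).trans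
        (DerivedCategory.TStructure.t.zero g (a - 1) a (by omega)).symm⟩
    exact Module.Finite.of_finite
  · intro C hC
    haveI : Subsingleton (C ⟶ L⟦i⟧) := ⟨fun f g =>
      (eq_zero_of_injAmplitude (b + 1) a b (by omega) hab f).trans
        (eq_zero_of_injAmplitude (b + 1) a b (by omega) hab g).symm⟩
    exact Module.Finite.of_finite

section RHom

variable [DTen.HasLTen A] [DTen.HasRHom A]

/-- `RHom` out of a shift of the unit is a shift. -/
lemma nonempty_RHomR_unit_iso (j : ℤ) :
    Nonempty (DTen.RHomR A ((DTen.unit A)⟦j⟧) ≅ shiftFunctor (Dual.D A) (-j)) := by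
  haveI := hasLTen₃ A
  haveI := isSymMonoidal A
  obtain ⟨e⟩ := nonempty_tensorLeft_shift_unit_iso (A := A) j
  let e' : shiftFunctor (Dual.D A) j ≅ DTen.tensorRightD A ((DTen.unit A)⟦j⟧) :=
    e.symm ≪≫ tenFlipIso _
  exact ⟨Adjunction.rightAdjointUniq ((DTen.rhomAdj A _).ofNatIsoLeft e'.symm)
    (shiftEquiv (Dual.D A) j).toAdjunction⟩

/-- The cohomology of `RHom(-, Y)` is exact in the middle. -/
lemma finite_hd_RHom_mid [IsNoetherianRing A] (Y : Dual.D A) (i : ℤ) {T : Triangle (Dual.D A)}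
    (hT : T ∈ distTriang _) (h₁ : Module.Finite A (Dual.HD A ((DTen.RHomR A T.obj₁).obj Y) i))
    (h₃ : Module.Finite A (Dual.HD A ((DTen.RHomR A T.obj₃).obj Y) i)) :
    Module.Finite A (Dual.HD A ((DTen.RHomR A T.obj₂).obj Y) i) := by
  obtain ⟨c, hc⟩ := exists_triangle_RHomMap T hT Y
  exact finite_of_exact
    ((DerivedCategory.homologyFunctor (ModuleCat.{u} A) i).map (DTen.RHomMap T.mor₂ Y)).hom
    ((DerivedCategory.homologyFunctor (ModuleCat.{u} A) i).map (DTen.RHomMap T.mor₁ Y)).hom
    ((ShortComplex.moduleCat_exact_iff _).1 (DerivedCategory.HomologySequence.exact₂ _ hc i)) h₃ h₁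

/-- Finiteness of the cohomology of derived hom, general dévissage. -/
lemma finite_hd_RHom_aux [IsNoetherianRing A] (Y : Dual.D A)
    (hY : ∀ i : ℤ, Module.Finite A (Dual.HD A Y i)) (i : ℤ) :
    (∀ {K K' : Dual.D A}, (K ≅ K') → Module.Finite A (Dual.HD A ((DTen.RHomR A K).obj Y) i) →
      Module.Finite A (Dual.HD A ((DTen.RHomR A K').obj Y) i)) ∧
    (∀ {K K' : Dual.D A} (p : K ⟶ K') (r : K' ⟶ K), p ≫ r = 𝟙 K →
      Module.Finite A (Dual.HD A ((DTen.RHomR A K').obj Y) i) →
      Module.Finite A (Dual.HD A ((DTen.RHomR A K).obj Y) i)) ∧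
    (∀ n : ℤ, Module.Finite A (Dual.HD A ((DTen.RHomR A ((DTen.unit A)⟦n⟧)).obj Y) i)) := by
  let F := (DTen.RHom A).flip.obj Y ⋙ DerivedCategory.homologyFunctor (ModuleCat.{u} A) i
  refine ⟨fun {K K'} e h => ?_, fun {K K'} p r hpr h => ?_, fun n => ?_⟩
  · haveI : Module.Finite A (F.obj (op K)) := h
    exact Module.Finite.equiv (F.mapIso e.op).toLinearEquiv.symm
  · haveI : Module.Finite A (F.obj (op K')) := h
    refine Module.Finite.of_surjective (F.map p.op).hom fun y => ⟨(F.map r.op).hom y, ?_⟩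
    change ((F.map r.op) ≫ (F.map p.op)).hom y = y
    rw [← Functor.map_comp, ← op_comp, hpr, op_id, CategoryTheory.Functor.map_id]
    rfl
  · obtain ⟨e⟩ := nonempty_RHomR_unit_iso (A := A) n
    haveI : Module.Finite A (((DerivedCategory.homologyFunctor (ModuleCat.{u} A) 0).shift (i - n)).obj Y) := hY (i - n)
    exact Module.Finite.equiv ((DerivedCategory.homologyFunctor (ModuleCat.{u} A) i).mapIso (e.app Y) ≪≫
      ((DerivedCategory.homologyFunctor (ModuleCat.{u} A) 0).shiftIso (-n) i (i - n) (by omega)).app Y).symm.toLinearEquiv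

/-- `RHom` from a pseudo-coherent object into a bounded below one with finite cohomology has finite
cohomology. -/
theorem finite_hd_RHom_of_pc [IsNoetherianRing A] {X Y : Dual.D A}
    (hX : DRing.IsPseudoCoherent' A X) (n : ℤ) [Y.IsGE n]
    (hY : ∀ i : ℤ, Module.Finite A (Dual.HD A Y i)) (i : ℤ) :
    Module.Finite A (Dual.HD A ((DTen.RHomR A X).obj Y) i) := by
  obtain ⟨h₁, h₂, h₃⟩ := finite_hd_RHom_aux Y hY i
  refine fin_of_pc (fun K => Module.Finite A (Dual.HD A ((DTen.RHomR A K).obj Y) i)) h₁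
    (fun T hT => finite_hd_RHom_mid Y i hT) h₂ h₃ (n - i - 1) (fun C hC => ?_) hX
  haveI := isGE_RHomR C Y (n - i - 1) n
  haveI : Subsingleton (Dual.HD A ((DTen.RHomR A C).obj Y) i) :=
    ModuleCat.subsingleton_of_isZero (DerivedCategory.isZero_of_isGE _ (n - (n - i - 1)) i (by omega))
  exact Module.Finite.of_finite

/-- `RHom` from an object with finite cohomology into one of finite injective dimension with finite
cohomology has finite cohomology. -/
theorem finite_hd_RHom_of_finite_hd [IsNoetherianRing A] {K L : Dual.D A}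
    (hK : ∀ i : ℤ, Module.Finite A (Dual.HD A K i)) (hL : ∀ i : ℤ, Module.Finite A (Dual.HD A L i))
    (hLi : DRing.HasFiniteInjDim A L) (i : ℤ) :
    Module.Finite A (Dual.HD A ((DTen.RHomR A K).obj L) i) := by
  obtain ⟨a, b, hab⟩ := hLi
  haveI := isGE_of_injAmplitude hab
  obtain ⟨h₁, h₂, h₃⟩ := finite_hd_RHom_aux L hL i
  refine fin_of_finite_hd (fun M => Module.Finite A (Dual.HD A ((DTen.RHomR A M).obj L) i)) h₁
    (fun T hT => finite_hd_RHom_mid L i hT) h₂ h₃ (a - i - 1) (fun C hC => ?_) (b - i + 1) (fun C hC => ?_) hK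
  · haveI := isGE_RHomR C L (a - i - 1) a
    haveI : Subsingleton (Dual.HD A ((DTen.RHomR A C).obj L) i) :=
      ModuleCat.subsingleton_of_isZero (DerivedCategory.isZero_of_isGE _ (a - (a - i - 1)) i (by omega))
    exact Module.Finite.of_finite
  · haveI := isLE_RHomR C L (b - i + 1) a b hab
    haveI : Subsingleton (Dual.HD A ((DTen.RHomR A C).obj L) i) :=
      ModuleCat.subsingleton_of_isZero (DerivedCategory.isZero_of_isLE _ (b - (b - i + 1)) i (by omega))
    exact Module.Finite.of_finite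

end RHom

end Groth.Agent.KFlatLib
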