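import Groth.Agent.KFlatLib.Ring.LocalInvertible
import Groth.Agent.KFlatLib.Ring.EvalTen
import Groth.Agent.KFlatLib.Ring.RHomFinite

/-!
# Derived Nakayama over a local ring
-/

set_option linter.style.haveILetI false
set_option backward.isDefEq.respectTransparency false

universe u

open CategoryTheory CategoryTheory.Limits Pretriangulated MonoidalCategory

attribute [local instance] HasDerivedCategory.standard

namespace Groth.Agent.KFlatLib

variable {A : Type u} [CommRing A] [DTen.HasLTen A] [DTen.HasRHom A]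

/-- Tensoring a shifted map is an isomorphism if tensoring the map is. -/
lemma isIso_ten_map_shift {X Y : Dual.D A} (u : X ⟶ Y) (K : Dual.D A) (n : ℤ)
    [IsIso ((DTen.tensorRightD A K).map u)] :
    IsIso ((DTen.tensorRightD A K).map (u⟦n⟧')) := by
  haveI := hasLTen₃ A
  haveI := isSymMonoidal A
  obtain ⟨e⟩ := nonempty_tensorLeft_shift_unit_iso (A := A) n
  let U := (DTen.unit A)⟦n⟧
  let F := DTen.tensorRightD A K
  have h1 : IsIso ((DTen.LTen₂ A).map (Prod.mkHom (𝟙 U)
      ((DTen.LTen₂ A).map (Prod.mkHom u (𝟙 K))))) := by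
    haveI : IsIso ((DTen.LTen₂ A).map (Prod.mkHom u (𝟙 K))) := ‹IsIso (F.map u)›
    exact inferInstanceAs (IsIso ((DTen.LTen₂ A).mapIso
      (Iso.prod (Iso.refl U) (asIso ((DTen.LTen₂ A).map (Prod.mkHom u (𝟙 K)))))).hom)
  haveI h2 : IsIso ((DTen.LTen₂ A).map (Prod.mkHom ((DTen.LTen₂ A).map (Prod.mkHom (𝟙 U) u)) (𝟙 K))) := by
    have := associator_naturality (𝟙 U) u (𝟙 K)
    rw [← Iso.eq_comp_inv] at this
    rw [this]
    infer_instance
  haveI : IsIso (F.map (((DTen.LTen A).obj U).map u)) := h2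
  exact ((MorphismProperty.isomorphisms (Dual.D A)).arrow_mk_iso_iff
    (((Functor.mapArrowFunctor _ _).mapIso (Functor.isoWhiskerRight e F)).app (Arrow.mk u))).1 this

/-- The tensor product with a cone of a map inverted by it vanishes. -/
lemma isZero_ten_obj₃ (T : Triangle (Dual.D A)) (hT : T ∈ distTriang _) (K : Dual.D A)
    [IsIso ((DTen.tensorRightD A K).map T.mor₁)] :
    IsZero ((DTen.tensorRightD A K).obj T.obj₃) := by
  haveI := hasLTen₃ A
  haveI := isSymMonoidal A
  haveI : (DTen.tensorRightD A K).PreservesZeroMorphisms := by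
    haveI := preservesZeroMorphisms_LTen K
    exact Functor.preservesZeroMorphisms_of_iso (tenFlipIso K)
  let F := DTen.tensorRightD A K
  haveI := isIso_ten_map_shift T.mor₁ K 1
  have h3 : F.map T.mor₃ = 0 := (cancel_mono (F.map (T.mor₁⟦(1 : ℤ)⟧'))).1 (by
    rw [← F.map_comp, comp_distTriang_mor_zero₃₁ _ hT, F.map_zero, zero_comp])
  have h2 : F.map T.mor₂ = 0 := (cancel_epi (F.map T.mor₁)).1 (by
    rw [← F.map_comp, comp_distTriang_mor_zero₁₂ _ hT, F.map_zero, comp_zero])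
  rw [IsZero.iff_id_eq_zero]
  obtain ⟨ψ, hψ⟩ := homExact_tensorRightD K _ (rot_of_distTriang _ hT) _ (𝟙 (F.obj T.obj₃))
    (by exact (congrArg (𝟙 _ ≫ ·) h3).trans comp_zero)
  exact hψ.symm.trans ((congrArg (ψ ≫ ·) h2).trans comp_zero)

omit [DTen.HasLTen A] [DTen.HasRHom A] in
/-- Cohomology of the cone is finite. -/
lemma finite_hd_obj₃ [IsNoetherianRing A] (T : Triangle (Dual.D A)) (hT : T ∈ distTriang _)
    (h₁ : ∀ i : ℤ, Module.Finite A (Dual.HD A T.obj₁ i))
    (h₂ : ∀ i : ℤ, Module.Finite A (Dual.HD A T.obj₂ i)) (i : ℤ) :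
    Module.Finite A (Dual.HD A T.obj₃ i) := by
  have hex := DerivedCategory.HomologySequence.exact₃ T hT i (i + 1)
  rw [ShortComplex.moduleCat_exact_iff] at hex
  exact finite_of_exact _ _ hex (h₂ i) (h₁ (i + 1))

/-- Derived Nakayama. -/
theorem isZero_of_isZero_ten_residueField [IsLocalRing A] [IsNoetherianRing A]
    (Z : Dual.D A) (b : ℤ) [Z.IsLE b] (hZ : ∀ i : ℤ, Module.Finite A (Dual.HD A Z i))
    (h : IsZero ((DTen.tensorRightD A (Dual.inD A (IsLocalRing.ResidueField A))).obj Z)) : IsZero Z := by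
  by_contra hne
  obtain ⟨p, _, hp⟩ := exists_top Z b hne
  let κ := IsLocalRing.ResidueField A
  haveI : DerivedCategory.IsLE (Dual.inD A κ) 0 :=
    inferInstanceAs (DerivedCategory.IsLE ((DerivedCategory.singleFunctor (ModuleCat.{u} A) 0).obj _) 0)
  obtain ⟨e⟩ := exists_topBilinLEquiv Z (Dual.inD A κ) p 0 p (add_zero p) (ModuleCat.of A κ)
  obtain ⟨eκ⟩ := exists_hdSingleLEquiv (ModuleCat.of A κ) 0
  haveI := hZ p
  obtain ⟨f, x, hx⟩ := exists_ne_zero_hom_residueField (A := A) (Dual.HD A Z p)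
  let b : Dual.HD A Z p →ₗ[A] Dual.HD A (Dual.inD A κ) 0 →ₗ[A] κ :=
    LinearMap.mk₂ A (fun x y => f x * eκ y) (by simp [add_mul]) (by simp) (by simp [mul_add]) (by simp)
  have hb : b = 0 := by
    obtain ⟨φ, hφ⟩ : ∃ φ, e φ = b := e.surjective b
    rw [← hφ, h.eq_of_src φ 0, map_zero]
  have := LinearMap.congr_fun (LinearMap.congr_fun hb x) (eκ.symm (1 : κ))
  simp [b, hx] at this

end Groth.Agent.KFlatLib
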