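import Groth.Agent.KFlatLib.Ring.DualizingPoint
import Groth.Agent.KFlatLib.Ring.TenNakayama

/-!
# Recognising dualizing complexes over a local ring
-/

set_option linter.style.haveILetI false
set_option backward.isDefEq.respectTransparency false

universe u

open CategoryTheory CategoryTheory.Limits Pretriangulated MonoidalCategory

attribute [local instance] HasDerivedCategory.standard

namespace Groth.Agent.KFlatLib

variable {A : Type u} [CommRing A] [DTen.HasLTen A] [DTen.HasRHom A]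

omit [DTen.HasLTen A] [DTen.HasRHom A] in
/-- The unit lives in degree zero. -/
lemma unit_bounds : (DTen.unit A).IsLE 0 ∧ (DTen.unit A).IsGE 0 ∧
    Nonempty (Dual.HD A (DTen.unit A) 0 ≃ₗ[A] A) := by
  let e := (DerivedCategory.singleFunctorIsoCompQ (ModuleCat.{u} A) 0).app (ModuleCat.of A A)
  haveI h1 : DerivedCategory.IsLE ((DerivedCategory.singleFunctor (ModuleCat.{u} A) 0).obj (ModuleCat.of A A)) 0 :=
    inferInstance
  haveI h2 : DerivedCategory.IsGE ((DerivedCategory.singleFunctor (ModuleCat.{u} A) 0).obj (ModuleCat.of A A)) 0 :=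
    inferInstance
  obtain ⟨e'⟩ := exists_hdSingleLEquiv (ModuleCat.of A A) 0
  exact ⟨DerivedCategory.TStructure.t.isLE_of_iso e 0, DerivedCategory.TStructure.t.isGE_of_iso e 0,
    ⟨((DerivedCategory.homologyFunctor (ModuleCat.{u} A) 0).mapIso e).symm.toLinearEquiv.trans e'⟩⟩

omit [DTen.HasLTen A] [DTen.HasRHom A] in
/-- Maps out of the unit realise every map in cohomology of degree zero. -/
lemma exists_hom_unit_homologyMap (C : Dual.D A) (x : Dual.HD A C 0) :
    ∃ u : DTen.unit A ⟶ C,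
      x ∈ LinearMap.range ((DerivedCategory.homologyFunctor (ModuleCat.{u} A) 0).map u).hom := by
  obtain ⟨h1, -, ⟨e⟩⟩ := unit_bounds (A := A)
  haveI := h1
  let H := DerivedCategory.homologyFunctor (ModuleCat.{u} A) 0
  let t := DerivedCategory.TStructure.t (C := ModuleCat.{u} A)
  let φ : H.obj (DTen.unit A) ⟶ H.obj C :=
    ModuleCat.ofHom ((LinearMap.toSpanSingleton A _ x).comp e.toLinearMap)
  obtain ⟨τ, hτ⟩ := (bijective_homologyMap 0 (X := DTen.unit A) (Y := (t.truncGE 0).obj C)).2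
    (φ ≫ H.map ((t.truncGEπ 0).app C))
  have hT := rot_of_distTriang _ (t.triangleLTGE_distinguished 0 C)
  obtain ⟨u, hu⟩ := Triangle.coyoneda_exact₂ _ hT τ (by
    haveI : ((t.truncLT 0).obj C).IsLE (0 - 1) := t.isLE_truncLT_obj ..
    haveI := t.isLE_shift ((t.truncLT 0).obj C) (0 - 1) 1 (-2) (by omega)
    let z : DTen.unit A ≅ (DTen.unit A)⟦(0 : ℤ)⟧ := ((shiftFunctorZero (Dual.D A) ℤ).app _).symm
    exact (cancel_epi z.inv).1 ((eq_zero_of_isLE_unit (((t.truncLT 0).obj C)⟦(1 : ℤ)⟧) 0 (-2) (by omega) _).trans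
      comp_zero.symm))
  haveI : IsIso (H.map ((t.truncGEπ 0).app C)) := H9Misc.isIso_map_truncGEπ 0 0 le_rfl C
  have : H.map u = φ := by
    refine (cancel_mono (H.map ((t.truncGEπ 0).app C))).1 (Eq.trans ?_ hτ)
    rw [← Functor.map_comp]
    exact congrArg H.map hu.symm
  refine ⟨u, e.symm 1, ?_⟩
  change (H.map u).hom (e.symm 1) = x
  rw [this]
  change (LinearMap.toSpanSingleton A _ x) (e (e.symm 1)) = x
  rw [e.apply_symm_apply]
  exact one_smul A x

variable [IsLocalRing A] [IsNoetherianRing A]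

/-- Derived Nakayama for the unit. -/
theorem nonempty_iso_unit_of_ten_residueField (C : Dual.D A) (t : ℤ) [C.IsLE t]
    (hC : ∀ i : ℤ, Module.Finite A (Dual.HD A C i))
    (h : (DTen.LTen₂ A).obj (C, Dual.inD A (IsLocalRing.ResidueField A)) ≅
      Dual.inD A (IsLocalRing.ResidueField A)) : Nonempty (C ≅ DTen.unit A) := by
  haveI := hasLTen₃ A
  haveI := isSymMonoidal A
  let κ := IsLocalRing.ResidueField A
  let S := Dual.inD A κ
  haveI hS1 : DerivedCategory.IsLE S 0 :=
    inferInstanceAs (DerivedCategory.IsLE ((DerivedCategory.singleFunctor (ModuleCat.{u} A) 0).obj _) 0)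
  haveI hS2 : DerivedCategory.IsGE S 0 :=
    inferInstanceAs (DerivedCategory.IsGE ((DerivedCategory.singleFunctor (ModuleCat.{u} A) 0).obj _) 0)
  obtain ⟨eS⟩ := exists_hdSingleLEquiv (ModuleCat.of A κ) 0
  obtain ⟨hU1, hU2, ⟨eU⟩⟩ := unit_bounds (A := A)
  haveI := hU1
  haveI := hU2
  have hS0 : (𝟙 S : S ⟶ S) ≠ 0 := fun h0 => by
    have h1 : ((DerivedCategory.homologyFunctor (ModuleCat.{u} A) 0).map (𝟙 S)).hom (eS.symm 1) = 0 :=
      (congrArg (fun z => ((DerivedCategory.homologyFunctor (ModuleCat.{u} A) 0).map z).hom (eS.symm 1)) h0).trans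
        (by rw [Functor.map_zero]; rfl)
    have h2 : eS.symm (1 : κ) = 0 := Eq.trans (by erw [CategoryTheory.Functor.map_id]; rfl) h1
    exact one_ne_zero (α := κ) (eS.symm.injective (h2.trans (map_zero eS.symm).symm))
  -- bounded above by zero
  haveI hC0 : C.IsLE 0 := by
    by_cases hz : IsZero C
    · exact (DerivedCategory.isLE_iff _ _).2 fun i _ => Functor.map_isZero _ hz
    obtain ⟨p, _, hp⟩ := exists_top C t hz
    by_cases hp0 : p ≤ 0
    · exact DerivedCategory.TStructure.t.isLE_of_le C p 0 hp0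
    exfalso
    obtain ⟨e⟩ := exists_topBilinLEquiv C S p 0 p (add_zero p) (ModuleCat.of A κ)
    haveI := hC p
    obtain ⟨f, x, hx⟩ := exists_ne_zero_hom_residueField (A := A) (Dual.HD A C p)
    let b : Dual.HD A C p →ₗ[A] Dual.HD A S 0 →ₗ[A] κ :=
      LinearMap.mk₂ A (fun x y => f x * eS y) (by simp [add_mul]) (by simp) (by simp [mul_add]) (by simp)
    have hb : b = 0 := by
      obtain ⟨φ, hφ⟩ : ∃ φ, e φ = b := e.surjective b
      have h0 : φ = 0 := by
        rw [← cancel_epi h.inv, comp_zero]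
        exact DerivedCategory.TStructure.t.zero _ 0 p (by omega)
      rw [← hφ, h0, map_zero]
    have := LinearMap.congr_fun (LinearMap.congr_fun hb x) (eS.symm (1 : κ))
    simp [b, hx] at this
  -- a map from the unit
  let ψ : C ⟶ (DTen.RHomR A S).obj S := (DTen.rhomHomEquiv C S S) h.hom
  haveI : ((DTen.RHomR A S).obj S).IsGE 0 := by
    have := isGE_RHomR S S 0 0
    simpa using this
  let H := DerivedCategory.homologyFunctor (ModuleCat.{u} A) 0
  obtain ⟨x, hx⟩ : ∃ x, (H.map ψ).hom x ≠ 0 := by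
    by_contra hcon
    simp only [not_exists, not_not] at hcon
    have h0 : ψ = 0 := (bijective_homologyMap 0).1 (by
      change H.map ψ = H.map 0
      rw [Functor.map_zero]
      exact ModuleCat.hom_ext (LinearMap.ext hcon))
    have h1 : (rhomLEquiv C S S) h.hom = 0 := h0
    rw [LinearEquiv.map_eq_zero_iff] at h1
    exact hS0 (by rw [← h.inv_hom_id, h1, comp_zero])
  obtain ⟨u, y, hy⟩ := exists_hom_unit_homologyMap C x
  let F := DTen.tensorRightD A S
  haveI : IsIso (F.map u) := by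
    have hne : F.map u ≫ h.hom ≠ 0 := fun h0 => hx (by
      have h2 : u ≫ ψ = 0 := by
        refine ((DTen.rhomAdj A S).homEquiv_naturality_left u h.hom).symm.trans ?_
        refine (congrArg _ h0).trans ?_
        exact map_zero (rhomLEquiv (DTen.unit A) S S)
      rw [← hy, ← LinearMap.comp_apply, ← ModuleCat.hom_comp, ← H.map_comp, h2, Functor.map_zero]
      rfl)
    let g : S ⟶ S := (DTen.leftUnitor S).inv ≫ F.map u ≫ h.hom
    have hg : g ≠ 0 := fun h0 => hne (by
      rw [← cancel_epi (DTen.leftUnitor S).inv, comp_zero]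
      exact h0)
    haveI : IsSimpleModule A κ := isSimpleModule_iff_isCoatom.2 (IsLocalRing.maximalIdeal.isMaximal A).out
    let g₀ : ModuleCat.of A κ ⟶ ModuleCat.of A κ :=
      (DerivedCategory.singleFunctor (ModuleCat.{u} A) 0).preimage g
    have hg₀ : (DerivedCategory.singleFunctor (ModuleCat.{u} A) 0).map g₀ = g := Functor.map_preimage _ _
    haveI : IsIso g₀ := by
      refine (ConcreteCategory.isIso_iff_bijective g₀).2 (LinearMap.bijective_of_ne_zero (f := g₀.hom) fun h0 => hg ?_)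
      rw [← hg₀, show g₀ = 0 from ModuleCat.hom_ext h0, Functor.map_zero]
    haveI : IsIso g := hg₀ ▸ inferInstance
    haveI : IsIso (F.map u ≫ h.hom) := IsIso.of_isIso_comp_left (DTen.leftUnitor S).inv _
    exact IsIso.of_isIso_comp_right (F.map u) h.hom
  obtain ⟨Z, v, w, hT⟩ := distinguished_cocone_triangle u
  haveI : Z.IsLE 0 := by
    refine (DerivedCategory.isLE_iff _ _).2 fun i hi => ?_
    haveI : Subsingleton (Dual.HD A C i) :=
      ModuleCat.subsingleton_of_isZero (DerivedCategory.isZero_of_isLE C 0 i hi)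
    haveI : Subsingleton (Dual.HD A (DTen.unit A) (i + 1)) :=
      ModuleCat.subsingleton_of_isZero (DerivedCategory.isZero_of_isLE _ 0 (i + 1) (by omega))
    exact (DerivedCategory.HomologySequence.exact₃ _ hT i (i + 1)).isZero_of_both_zeros
      ((@ModuleCat.isZero_of_subsingleton _ _ ((DerivedCategory.homologyFunctor _ i).obj C) ‹_›).eq_of_src _ _)
      ((@ModuleCat.isZero_of_subsingleton _ _ ((DerivedCategory.homologyFunctor _ (i + 1)).obj (DTen.unit A)) ‹_›).eq_of_tgt _ _)
  have hUf : ∀ i : ℤ, Module.Finite A (Dual.HD A (DTen.unit A) i) := fun i => by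
    by_cases hi : i = 0
    · subst hi
      exact Module.Finite.equiv eU.symm
    · haveI : Subsingleton (Dual.HD A (DTen.unit A) i) := ModuleCat.subsingleton_of_isZero (by
        rcases lt_or_gt_of_ne hi with h | h
        · exact DerivedCategory.isZero_of_isGE _ 0 i h
        · exact DerivedCategory.isZero_of_isLE _ 0 i h)
      exact Module.Finite.of_finite
  haveI : IsIso ((DTen.tensorRightD A S).map (Triangle.mk u v w).mor₁) := ‹IsIso (F.map u)›
  have hZ : IsZero Z := isZero_of_isZero_ten_residueField Z 0 (finite_hd_obj₃ _ hT hUf hC)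
    (isZero_ten_obj₃ _ hT S)
  haveI : IsIso u := (Triangle.isZero₃_iff_isIso₁ _ hT).1 hZ
  exact ⟨(asIso u).symm⟩

/-- The residue field criterion for dualizing complexes. -/
theorem isDualizing_of_residueField (R : Dual.D A)
    (hfin : ∀ i : ℤ, Module.Finite A (Dual.HD A R i)) (a : ℤ) [R.IsGE a] (d : ℤ)
    (hvan : ∀ i : ℤ, i ≠ d → Subsingleton (Dual.inD A (IsLocalRing.ResidueField A) ⟶ R⟦i⟧))
    (hd : Nonempty ((Dual.inD A (IsLocalRing.ResidueField A) ⟶ R⟦d⟧) ≃ₗ[A] IsLocalRing.ResidueField A)) :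
    Dual.IsDualizing A R := by
  haveI := hasLTen₃ A
  haveI := isSymMonoidal A
  let κ := IsLocalRing.ResidueField A
  let S := Dual.inD A κ
  have hamp : DRing.HasInjAmplitudeIn A a d R := by
    refine hasInjAmplitudeIn_of_maximal R a d hfin fun m hm j hj => ?_
    obtain rfl := IsLocalRing.eq_maximalIdeal hm
    exact hvan j (by omega)
  let C := (DTen.RHomR A R).obj R
  haveI : C.IsLE (d - a) := isLE_RHomR R R a a d hamp
  have hCfin := finite_hd_RHom_of_finite_hd hfin hfin ⟨a, d, hamp⟩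
  haveI : DerivedCategory.IsGE S 0 :=
    inferInstanceAs (DerivedCategory.IsGE ((DerivedCategory.singleFunctor (ModuleCat.{u} A) 0).obj _) 0)
  haveI := isIso_evalHom_of_pseudoCoherent S R R
    ((Groth.Agent.S6942.result A 0 R κ).2.2 inferInstance) a inferInstance ⟨a, d, hamp⟩
  have single : ∀ (Y : Dual.D A) (n : ℤ), (∀ i : ℤ, i ≠ n → Subsingleton (Dual.HD A Y i)) →
      Nonempty (Dual.HD A Y n ≃ₗ[A] κ) →
      Nonempty (Y ≅ (DerivedCategory.singleFunctor (ModuleCat.{u} A) n).obj (ModuleCat.of A κ)) := by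
    rintro Y n hY ⟨e⟩
    haveI : Y.IsGE n := (DerivedCategory.isGE_iff _ _).2 fun i hi =>
      @ModuleCat.isZero_of_subsingleton _ _ _ (hY i (by omega))
    haveI : Y.IsLE n := (DerivedCategory.isLE_iff _ _).2 fun i hi =>
      @ModuleCat.isZero_of_subsingleton _ _ _ (hY i (by omega))
    obtain ⟨e₁⟩ := H9Misc.nonempty_iso_single_homology n Y
    exact ⟨e₁ ≪≫ (DerivedCategory.singleFunctor (ModuleCat.{u} A) n).mapIso e.toModuleIso⟩
  obtain ⟨e₁⟩ := single ((DTen.RHomR A S).obj R) d (fun i hi => by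
    obtain ⟨e⟩ := exists_hdRHomShiftLEquiv S R i
    haveI := hvan i hi
    exact e.injective.subsingleton) (by
    obtain ⟨e⟩ := exists_hdRHomShiftLEquiv S R d
    obtain ⟨e'⟩ := hd
    exact ⟨e.trans e'⟩)
  let T := (DerivedCategory.singleFunctor (ModuleCat.{u} A) d).obj (ModuleCat.of A κ)
  let eT : T ≅ S⟦-d⟧ :=
    (((DerivedCategory.singleFunctors (ModuleCat.{u} A)).shiftIso (-d) d 0 (by omega)).app _).symm
  have key : ∀ i : ℤ, Nonempty (Dual.HD A ((DTen.RHomR A T).obj R) i ≃ₗ[A] (S ⟶ R⟦d + i⟧)) := by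
    intro i
    obtain ⟨e⟩ := exists_hdRHomLEquiv T R i
    obtain ⟨e'⟩ := exists_shiftHomLEquiv S R (d + i)
    let z : T⟦-i⟧ ≅ S⟦-(d + i)⟧ := (shiftFunctor (Dual.D A) (-i)).mapIso eT ≪≫
      ((shiftFunctorAdd' (Dual.D A) (-d) (-i) (-(d + i)) (by omega)).app S).symm
    exact ⟨e.trans ((Linear.homCongr A z (Iso.refl R)).trans e'.symm)⟩
  obtain ⟨e₂⟩ := single ((DTen.RHomR A T).obj R) 0 (fun i hi => by
    obtain ⟨e⟩ := key i
    haveI := hvan (d + i) (by omega)
    exact e.injective.subsingleton) (by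
    obtain ⟨e⟩ := key 0
    obtain ⟨e'⟩ := hd
    exact ⟨e.trans ((Linear.homCongr A (Iso.refl S) (eqToIso (by rw [add_zero]))).trans e')⟩)
  obtain ⟨eC⟩ := nonempty_iso_unit_of_ten_residueField C (d - a) hCfin
    (asIso (DTen.evalHom S R R) ≪≫ ((DTen.RHom A).flip.obj R).mapIso e₁.symm.op ≪≫ e₂)
  obtain ⟨hU1, hU2, ⟨eU⟩⟩ := unit_bounds (A := A)
  refine ⟨inferInstance, ⟨a, d, fun M _ _ i hi => ?_⟩, hfin, ?_, fun i hi => ?_⟩
  · obtain ⟨E, hz, hE, ⟨e⟩⟩ := hamp
    exact H9Misc.DRingInjAmp.ext_subsingleton hz hE e (ModuleCat.of A M) i hi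
  · obtain ⟨e⟩ := exists_hdRHomShiftLEquiv R R 0
    exact toEnd_bijective_of_linearEquiv R
      ((Linear.homCongr A (Iso.refl R) ((shiftFunctorZero (Dual.D A) ℤ).app R)).symm.trans
        (e.symm.trans (((DerivedCategory.homologyFunctor (ModuleCat.{u} A) 0).mapIso eC).toLinearEquiv.trans eU)))
  · obtain ⟨e⟩ := exists_hdRHomShiftLEquiv R R i
    haveI : Subsingleton (Dual.HD A (DTen.unit A) i) := ModuleCat.subsingleton_of_isZero (by
      rcases lt_or_gt_of_ne hi with h | h
      · exact DerivedCategory.isZero_of_isGE _ 0 i h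
      · exact DerivedCategory.isZero_of_isLE _ 0 i h)
    exact (e.symm.trans ((DerivedCategory.homologyFunctor (ModuleCat.{u} A) i).mapIso eC).toLinearEquiv).injective.subsingleton

end Groth.Agent.KFlatLib
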