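import Groth.Agent.KFlatLib.Ring.EvalPerfect
import Groth.Agent.KFlatLib.Scheme.TildeD
import Groth.Agent.H9Misc.DRingPC
import Groth.Agent.H9Misc.BrownGroth

/-!
# The evaluation map for a pseudo-coherent source
-/

set_option linter.style.haveILetI false
set_option backward.isDefEq.respectTransparency false

universe u

open CategoryTheory CategoryTheory.Limits Pretriangulated Opposite MonoidalCategory

open Pretriangulated.Opposite

attribute [local instance] HasDerivedCategory.standard

namespace Groth.Agent.KFlatLib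

variable {A : Type u} [CommRing A]

/-- The shifts of the unit are free modules of rank one in one degree. -/
theorem nonempty_unit_shift_iso (j : ℤ) :
    Nonempty ((DTen.unit A)⟦j⟧ ≅
      DerivedCategory.Q.obj (H9Misc.BrownGroth.gen A (-j))) :=
  ⟨((DerivedCategory.Q.commShiftIso j).app _).symm ≪≫ DerivedCategory.Q.mapIso
    (((CochainComplex.singleFunctors (ModuleCat.{u} A)).shiftIso j (-j) 0 (by omega)).app _)⟩

/-- Maps out of shifts of the unit come from maps of complexes. -/
theorem exists_unit_map (j : ℤ) (K : DRing.Cx A)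
    (φ : DerivedCategory.Q.obj (H9Misc.BrownGroth.gen A j) ⟶ DerivedCategory.Q.obj K) :
    ∃ g : H9Misc.BrownGroth.gen A j ⟶ K, DerivedCategory.Q.map g = φ := by
  obtain ⟨g, hg⟩ := (CochainComplex.IsKProjective.Qh_map_bijective (H9Misc.BrownGroth.gen A j)
      ((HomotopyCategory.quotient _ _).obj K)).2
    ((DerivedCategory.quotientCompQhIso _).hom.app _ ≫ φ ≫
      (DerivedCategory.quotientCompQhIso _).inv.app K)
  obtain ⟨f, rfl⟩ := (HomotopyCategory.quotient _ _).map_surjective g
  refine ⟨f, ?_⟩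
  have h := (DerivedCategory.quotientCompQhIso (ModuleCat.{u} A)).hom.naturality f
  rw [← cancel_epi ((DerivedCategory.quotientCompQhIso (ModuleCat.{u} A)).hom.app _), ← h]
  refine (congrArg (· ≫ _) hg).trans ?_
  simp

/-- Objects receiving no map from a shift of the unit have no cohomology in that degree. -/
theorem isZero_hd_of_unit (X : Dual.D A) (j : ℤ) (h : ∀ φ : (DTen.unit A)⟦j⟧ ⟶ X, φ = 0) :
    IsZero ((DerivedCategory.homologyFunctor (ModuleCat.{u} A) (-j)).obj X) := by
  obtain ⟨eU⟩ := nonempty_unit_shift_iso (A := A) j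
  let K := DerivedCategory.Q.objPreimage X
  let e : DerivedCategory.Q.obj K ≅ X := DerivedCategory.Q.objObjPreimageIso X
  refine IsZero.of_iso ?_ ((DerivedCategory.homologyFunctor _ _).mapIso e.symm ≪≫
    (DerivedCategory.homologyFunctorFactors _ _).app K)
  generalize hn : -j = n at *
  let sx := HomologicalComplex.singleObjXSelf (ComplexShape.up ℤ) n (ModuleCat.of A A)
  change IsZero (K.homology n)
  rw [IsZero.iff_id_eq_zero, ← cancel_epi (K.homologyπ n), comp_zero, Category.comp_id]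
  refine ModuleCat.hom_ext (LinearMap.ext fun z => ?_)
  let φ : ModuleCat.of A A ⟶ K.cycles n := ModuleCat.ofHom (LinearMap.toSpanSingleton A _ z)
  let f : H9Misc.BrownGroth.gen A n ⟶ K :=
    HomologicalComplex.mkHomFromSingle (φ ≫ K.iCycles n) (fun i hi => by simp)
  have hz : DerivedCategory.Q.map f = 0 := by
    have := h (eU.hom ≫ DerivedCategory.Q.map f ≫ e.hom)
    rwa [← cancel_epi eU.hom, comp_zero, ← cancel_mono e.hom, zero_comp, Category.assoc]
  have hH : HomologicalComplex.homologyMap f n = 0 := by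
    have h' := (DerivedCategory.homologyFunctorFactors (ModuleCat.{u} A) n).hom.naturality f
    rw [Functor.comp_map, hz, Functor.map_zero, zero_comp] at h'
    exact (cancel_epi ((DerivedCategory.homologyFunctorFactors (ModuleCat.{u} A) n).hom.app _)).1
      (h'.symm.trans comp_zero.symm)
  have hl : (H9Misc.BrownGroth.gen A n).liftCycles sx.inv (n + 1) (by simp) (by simp) ≫
      HomologicalComplex.cyclesMap f n = φ := by
    rw [← cancel_mono (K.iCycles n)]
    simp [f, sx, HomologicalComplex.mkHomFromSingle_f]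
  have h0 : φ ≫ K.homologyπ n = 0 := by
    rw [← hl, Category.assoc, ← HomologicalComplex.homologyπ_naturality, hH, comp_zero, comp_zero]
  have h1 := congrArg (fun g => g (1 : A)) h0
  simp [φ] at h1
  exact (congrArg _ (one_smul A z).symm).trans h1

/-- Shifts of the unit do not map to objects concentrated in lower degrees. -/
theorem eq_zero_of_isLE_unit (X : Dual.D A) (j b : ℤ) (hb : b < -j) [X.IsLE b]
    (φ : (DTen.unit A)⟦j⟧ ⟶ X) : φ = 0 := by
  obtain ⟨eU⟩ := nonempty_unit_shift_iso (A := A) j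
  obtain ⟨K, hK, ⟨eK⟩⟩ := DerivedCategory.exists_iso_Q_obj_of_isLE X b
  obtain ⟨g, hg⟩ := exists_unit_map (-j) K (eU.inv ≫ φ ≫ eK.hom)
  have hg0 : g = 0 := HomologicalComplex.from_single_hom_ext
    ((K.isZero_of_isStrictlyLE b (-j) hb).eq_of_tgt _ _)
  rw [hg0, Functor.map_zero] at hg
  rwa [← cancel_epi eU.inv, ← cancel_mono eK.hom, comp_zero, zero_comp, Category.assoc, eq_comm]

/-- Objects bounded below do not map to bounded complexes of injectives in lower degrees. -/
theorem eq_zero_of_injAmplitude {X M : Dual.D A} (n a b : ℤ) (hb : b < n) [X.IsGE n]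
    (hM : DRing.HasInjAmplitudeIn A a b M) (φ : X ⟶ M) : φ = 0 := by
  obtain ⟨E, hE, hI, ⟨eE⟩⟩ := hM
  obtain ⟨K, hK, ⟨eK⟩⟩ := DerivedCategory.exists_iso_Q_obj_of_isGE X n
  haveI : CochainComplex.IsStrictlyGE E a :=
    (CochainComplex.isStrictlyGE_iff _ _).2 fun i hi => hE i (Or.inl hi)
  haveI : ∀ i, Injective (E.X i) := fun i =>
    (Module.injective_iff_injective_object A _).1 (hI i)
  haveI : E.IsKInjective := CochainComplex.isKInjective_of_injective E a
  obtain ⟨g, hg⟩ := exists_Q_map (I := E) (eK.inv ≫ φ ≫ eE.inv)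
  have hg0 : g = 0 := HomologicalComplex.hom_ext _ _ fun i => by
    by_cases hi : i < n
    · exact (K.isZero_of_isStrictlyGE n i hi).eq_of_src _ _
    · exact (hE i (Or.inr (by omega))).eq_of_tgt _ _
  rw [hg0, Functor.map_zero] at hg
  rwa [← cancel_epi eK.inv, ← cancel_mono eE.inv, comp_zero, zero_comp, Category.assoc, eq_comm]

/-- An object without cohomology is zero. -/
theorem isZero_of_forall_hd (Z : Dual.D A)
    (h : ∀ i : ℤ, IsZero ((DerivedCategory.homologyFunctor (ModuleCat.{u} A) i).obj Z)) : IsZero Z :=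
  ((H9Misc.FinDimDerived.isZero_Q_obj_iff (DerivedCategory.Q.objPreimage Z)).2 fun i =>
    (HomologicalComplex.exactAt_iff_isZero_homology _ _).2 ((h i).of_iso
      (((DerivedCategory.homologyFunctorFactors _ i).app _).symm ≪≫
        (DerivedCategory.homologyFunctor _ i).mapIso (DerivedCategory.Q.objObjPreimageIso Z)))).of_iso
    (DerivedCategory.Q.objObjPreimageIso Z).symm

/-- Boundedness above from orthogonality. -/
theorem isLE_of_orth (T : Dual.D A) (k : ℤ)
    (h : ∀ Y : Dual.D A, Y.IsGE (k + 1) → ∀ φ : T ⟶ Y, φ = 0) : T.IsLE k := by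
  obtain ⟨A', B, hA, hB, f, g, δ, hTri⟩ :=
    DerivedCategory.TStructure.t.exists_triangle T k (k + 1) rfl
  haveI : A'.IsLE k := ⟨hA⟩
  refine (DerivedCategory.isLE_iff _ _).2 fun i hi => ?_
  exact (DerivedCategory.HomologySequence.exact₂ _ hTri i).isZero_of_both_zeros
    ((DerivedCategory.isZero_of_isLE A' k i hi).eq_of_src _ _)
    ((congrArg (DerivedCategory.homologyFunctor (ModuleCat.{u} A) i).map (h B ⟨hB⟩ g)).trans
      (Functor.map_zero _ _ _))

variable [DTen.HasLTen A] [DTen.HasRHom A]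

/-- Maps from shifts of the unit into `RHom(X, Y)` are maps from shifts of `X`. -/
theorem eq_zero_of_unit_RHom (X Y : Dual.D A) (j : ℤ) (h : ∀ ψ : X⟦j⟧ ⟶ Y, ψ = 0)
    (φ : (DTen.unit A)⟦j⟧ ⟶ (DTen.RHomR A X).obj Y) : φ = 0 := by
  obtain ⟨e⟩ := nonempty_tensorLeft_shift_unit_iso (A := A) j
  refine (DTen.rhomHomEquiv _ X Y).symm.injective ?_
  have h' : ∀ ψ : (DTen.LTen₂ A).obj ((DTen.unit A)⟦j⟧, X) ⟶ Y, ψ = 0 := fun ψ => by
    rw [← cancel_epi (e.app X).inv, comp_zero]
    exact h _
  exact (h' _).trans (h' _).symm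

/-- `RHom` from an object bounded above to one bounded below is bounded below. -/
theorem isGE_RHomR (X Y : Dual.D A) (m n : ℤ) [X.IsLE m] [Y.IsGE n] :
    ((DTen.RHomR A X).obj Y).IsGE (n - m) := by
  refine (DerivedCategory.isGE_iff _ _).2 fun i hi => ?_
  have := isZero_hd_of_unit ((DTen.RHomR A X).obj Y) (-i) (eq_zero_of_unit_RHom X Y (-i) fun ψ => by
    haveI := DerivedCategory.TStructure.t.isLE_shift X m (-i) (m + i) (by omega)
    exact DerivedCategory.TStructure.t.zero ψ (m + i) n (by omega))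
  rwa [neg_neg] at this

/-- `RHom` into an object of finite injective dimension is bounded above. -/
theorem isLE_RHomR (X M : Dual.D A) (n a b : ℤ) [X.IsGE n] (hM : DRing.HasInjAmplitudeIn A a b M) :
    ((DTen.RHomR A X).obj M).IsLE (b - n) := by
  refine (DerivedCategory.isLE_iff _ _).2 fun i hi => ?_
  have := isZero_hd_of_unit ((DTen.RHomR A X).obj M) (-i) (eq_zero_of_unit_RHom X M (-i) fun ψ => by
    haveI : DerivedCategory.IsGE (X⟦-i⟧) (n + i) :=
      DerivedCategory.TStructure.t.isGE_shift X n (-i) (n + i) (by omega)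
    exact eq_zero_of_injAmplitude (n + i) a b (by omega) hM ψ)
  rwa [neg_neg] at this

/-- Tensor products of objects bounded above are bounded above. -/
theorem isLE_LTen (R C : Dual.D A) (p m : ℤ) [R.IsLE p] [C.IsLE m] :
    ((DTen.LTen₂ A).obj (R, C)).IsLE (p + m) := by
  refine isLE_of_orth _ _ fun Y hY φ => ?_
  haveI := hY
  haveI := isGE_RHomR C Y m (p + m + 1)
  exact (DTen.rhomHomEquiv R C Y).injective
    ((DerivedCategory.TStructure.t.zero _ p (p + m + 1 - m) (by omega)).trans
      (DerivedCategory.TStructure.t.zero _ p (p + m + 1 - m) (by omega)).symm)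

omit [DTen.HasLTen A] [DTen.HasRHom A] in
/-- Bijectivity on maps from shifts of the unit detects isomorphisms. -/
theorem isIso_of_bijective_unit {X Y : Dual.D A} (f : X ⟶ Y)
    (h : ∀ j : ℤ, Function.Bijective (fun φ : (DTen.unit A)⟦j⟧ ⟶ X => φ ≫ f)) : IsIso f := by
  obtain ⟨Z, g, δ, hT⟩ := distinguished_cocone_triangle f
  refine (Pretriangulated.Triangle.isZero₃_iff_isIso₁ _ hT).1
    ((isZero_of_forall_hd Z) fun i => ?_)
  have := isZero_hd_of_unit Z (-i) fun φ => by
    have hδ : φ ≫ δ = 0 := by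
      let U := DTen.unit A
      let e : (U⟦-i - 1⟧)⟦(1 : ℤ)⟧ ≅ U⟦-i⟧ := ((shiftFunctorAdd' (Dual.D A) (-i - 1) 1 (-i) (by omega)).app U).symm
      obtain ⟨ψ, hψ⟩ := (shiftFunctor (Dual.D A) (1 : ℤ)).map_surjective (e.hom ≫ φ ≫ δ)
      have h0 : ψ ≫ f = 0 := by
        refine (shiftFunctor (Dual.D A) (1 : ℤ)).map_injective ?_
        rw [Functor.map_comp, Functor.map_zero, hψ, Category.assoc, Category.assoc,
          show δ ≫ f⟦(1 : ℤ)⟧' = 0 from comp_distTriang_mor_zero₃₁ _ hT, comp_zero, comp_zero]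
      have hψ0 : ψ = 0 := (h (-i - 1)).1 (h0.trans zero_comp.symm)
      rwa [hψ0, Functor.map_zero, eq_comm, ← comp_zero (f := e.hom), cancel_epi] at hψ
    obtain ⟨ψ, hψ⟩ := Triangle.coyoneda_exact₃ _ hT φ hδ
    obtain ⟨χ, hχ⟩ := (h (-i)).2 ψ
    change χ ≫ f = ψ at hχ
    refine hψ.trans ?_
    rw [← hχ, Category.assoc]
    exact (congrArg (χ ≫ ·) (comp_distTriang_mor_zero₁₂ _ hT)).trans comp_zero
  rwa [neg_neg] at this

variable [DTen.HasLTen₃ A] [DTen.IsSymMonoidal A]

/-- The evaluation map is invertible for a pseudo-coherent source, a bounded below middle term and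
a target of finite injective dimension. -/
theorem isIso_evalHom_of_pseudoCoherent (K L M : Dual.D A) (hK : DRing.IsPseudoCoherent' A K)
    (n : ℤ) (hL : DerivedCategory.IsGE L n) (hM : DRing.HasFiniteInjDim A M) :
    IsIso (DTen.evalHom K L M) := by
  haveI := hL
  obtain ⟨a, b, hM⟩ := hM
  haveI := preservesZeroMorphisms_RHom L
  haveI := preservesZeroMorphisms_RHom M
  haveI := preservesZeroMorphisms_LTen ((DTen.RHomR A L).obj M)
  let η := evalHomNat L M
  have hF : HomExact ((DTen.LTen A).obj ((DTen.RHomR A L).obj M)) :=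
    (homExact_tensorRightD _).of_iso (tenFlipIso _).symm
  have hG := homExact_RHom_RHom (A := A) L M
  haveI := isLE_RHomR L M n a b hM
  refine isIso_of_bijective_unit _ fun j => ?_
  let m : ℤ := min (-j - (b - n)) (-j - (b - n)) - 2
  obtain ⟨E, a', b', α, hvan, hfree, hiso, hepi⟩ := (H9Misc.DRingPC.pc'_iff K).1 hK m
  have hP : DRing.IsPerfect A (DRing.toD E) := ⟨E, a', b', hvan, fun i => ⟨(hfree i).1, by
    haveI := (hfree i).2
    infer_instance⟩, ⟨Iso.refl _⟩⟩
  haveI hηP : IsIso (η.app (DRing.toD E)) := isIso_evalHom_of_isPerfect _ L M hP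
  obtain ⟨C, g, δ, hT⟩ := distinguished_cocone_triangle α
  haveI : IsIso (η.app (Triangle.mk α g δ).obj₁) := hηP
  have hCle : ∀ i, m < i → IsZero ((DerivedCategory.homologyFunctor _ i).obj C) := fun i hi => by
    haveI := hiso i hi
    haveI := hiso (i + 1) (by omega)
    have h1 := (DerivedCategory.HomologySequence.epi_homologyMap_mor₁_iff _ hT i).1
      (inferInstanceAs (Epi ((DerivedCategory.homologyFunctor _ i).map α)))
    haveI h2 : Epi ((DerivedCategory.homologyFunctor _ i).map (Triangle.mk α g δ).mor₂) :=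
      (DerivedCategory.HomologySequence.epi_homologyMap_mor₂_iff _ hT i (i + 1) rfl).2
        ((DerivedCategory.HomologySequence.mono_homologyMap_mor₁_iff _ hT i (i + 1) rfl).1
          (inferInstanceAs (Mono ((DerivedCategory.homologyFunctor _ (i + 1)).map α))))
    exact IsZero.of_epi_eq_zero _ h1
  haveI : DerivedCategory.IsLE C m := (DerivedCategory.isLE_iff _ _).2 hCle
  have hFz : ∀ φ : (DTen.unit A)⟦j⟧ ⟶ ((DTen.LTen A).obj ((DTen.RHomR A L).obj M)).obj C, φ = 0 :=
    haveI := isLE_LTen ((DTen.RHomR A L).obj M) C (b - n) m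
    fun φ => eq_zero_of_isLE_unit ((DTen.LTen₂ A).obj (_, C)) j (b - n + m) (by omega) φ
  have hGz : ∀ (C' : Dual.D A) (m' : ℤ), C'.IsLE m' → b - n + m' < -j →
      ∀ φ : (DTen.unit A)⟦j⟧ ⟶ (((DTen.RHom A).flip.obj L).rightOp ⋙ (DTen.RHom A).flip.obj M).obj C',
      φ = 0 := fun C' m' hC' hlt φ =>
    haveI := hC'
    haveI := isGE_RHomR C' L m' n
    haveI := isLE_RHomR ((DTen.RHomR A C').obj L) M (n - m') a b hM
    eq_zero_of_isLE_unit ((DTen.RHomR A ((DTen.RHomR A C').obj L)).obj M) j (b - (n - m')) (by omega) φ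
  refine ⟨fun φ φ' e => sub_eq_zero.1 ?_, fun y => ?_⟩
  · have h0 : (φ - φ') ≫ η.app K = 0 := by rw [Preadditive.sub_comp]; exact sub_eq_zero.2 e
    generalize φ - φ' = φ at h0
    obtain ⟨ψ, rfl⟩ := hF _ hT _ φ (hFz _)
    have h1 : (ψ ≫ η.app _) ≫ (((DTen.RHom A).flip.obj L).rightOp ⋙
        (DTen.RHom A).flip.obj M).map α = 0 :=
      (Category.assoc _ _ _).trans ((congrArg (ψ ≫ ·) (η.naturality α).symm).trans
        ((Category.assoc _ _ _).symm.trans h0))
    obtain ⟨χ, hχ⟩ := hG _ (inv_rot_of_distTriang _ hT) _ _ h1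
    haveI hC1 := DerivedCategory.TStructure.t.isLE_shift C m (-1 : ℤ) (m + 1) (by omega)
    rw [hGz (C⟦(-1 : ℤ)⟧) (m + 1) hC1 (by omega) χ, zero_comp] at hχ
    rw [show ψ = 0 from (cancel_mono (η.app _)).1 (hχ.symm.trans zero_comp.symm), zero_comp]
  · obtain ⟨ψ, hψ⟩ := hG _ hT _ y (hGz C m inferInstance (by omega) _)
    refine ⟨(ψ ≫ inv (η.app (DRing.toD E))) ≫
      ((DTen.LTen A).obj ((DTen.RHomR A L).obj M)).map α, ?_⟩
    refine (Category.assoc _ _ _).trans ((congrArg (_ ≫ ·) (η.naturality α)).trans ?_)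
    rw [Category.assoc]
    exact (congrArg (ψ ≫ ·) (IsIso.inv_hom_id_assoc _ _)).trans hψ

end Groth.Agent.KFlatLib
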