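import Groth.Agent.KFlatLib.Ring.BcRHom
import Groth.Agent.KFlatLib.Ring.EvalPseudoCoherent
import Groth.Agent.H9Misc.DRingTorDim

/-!
# Restriction of derived base change is tensoring with the algebra; amplitude consequences
-/

set_option linter.style.haveILetI false
set_option backward.isDefEq.respectTransparency false

universe u

open CategoryTheory CategoryTheory.Limits Pretriangulated MonoidalCategory Opposite

open Pretriangulated.Opposite

attribute [local instance] HasDerivedCategory.standard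

namespace Groth.Agent.KFlatLib

variable {R A : Type u} [CommRing R] [CommRing A]

/-- A functor computed on K-flat complexes by `H`, as a natural isomorphism. -/
lemma nonempty_resolvedIso {B : Type u} [CommRing B] (F : Dual.D R ⥤ Dual.D B)
    (H : DRing.Cx R ⥤ DRing.Cx B) (β : DerivedCategory.Q ⋙ F ⟶ H ⋙ DerivedCategory.Q)
    (hβ : ∀ K, KFlat (curriedTensor (ModuleCat.{u} R)) K → IsIso (β.app K)) :
    Nonempty (DerivedCategory.Q ⋙ F ≅ (ringCover R).P ⋙ H ⋙ DerivedCategory.Q) := by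
  haveI : ∀ K, IsIso (DerivedCategory.Q.map ((ringCover R).ψ.app K)) := fun K =>
    (DerivedCategory.isIso_Q_map_iff_quasiIso _ _).2 ((ringCover R).quasiIso_ψ K)
  refine ⟨NatIso.ofComponents (fun K =>
    (F.mapIso (asIso (DerivedCategory.Q.map ((ringCover R).ψ.app K)))).symm ≪≫
      @asIso _ _ _ _ (β.app _) (hβ _ (kFlat_ringRes K))) fun {K K'} f => ?_⟩
  have hn := β.naturality ((ringCover R).P.map f)
  simp only [Functor.comp_map] at hn
  simp only [Iso.trans_hom, Iso.symm_hom, Functor.mapIso_inv, asIso_inv, asIso_hom, Functor.comp_map,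
    Category.assoc, Functor.map_inv]
  rw [← hn, ← Category.assoc, ← Category.assoc]
  refine congrArg (· ≫ _) ?_
  rw [IsIso.comp_inv_eq, Category.assoc, IsIso.eq_inv_comp, ← Functor.map_comp, ← Functor.map_comp,
    ← Functor.map_comp, ← Functor.map_comp]
  exact congrArg (fun z => F.map (DerivedCategory.Q.map z)) ((ringCover R).ψ.naturality f).symm

variable (φ : R →+* A) [DTen.HasLTen R] [DTen.HasLBase φ]

/-- `A` as a module over `R`, in degree zero. -/
noncomputable abbrev resUnitCx : DRing.Cx R :=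
  (HomologicalComplex.single (ModuleCat.{u} R) (ComplexShape.up ℤ) 0).obj
    ((ModuleCat.restrictScalars φ).obj (ModuleCat.of A A))

/-- `(X ⊗^L_R A)|_R = X ⊗^L_R A`. -/
theorem nonempty_resLBase_iso :
    Nonempty (DTen.LBase φ ⋙ DRing.restrictD φ ≅
      DTen.tensorRightD R (DerivedCategory.Q.obj (resUnitCx φ))) := by
  let T := curriedTensor (ModuleCat.{u} R)
  let N := (ModuleCat.restrictScalars φ).obj (ModuleCat.of A A)
  let eH : DTen.extCx φ ⋙ DTen.resCx φ ≅ T.map₂CochainComplex.flip.obj (resUnitCx φ) :=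
    (singleIso T N ≪≫ NatIso.mapHomologicalComplex
      (curriedTensorFlipIso.app N ≪≫ (extendRestrictIso φ).symm) _).symm
  let β₁ : DerivedCategory.Q ⋙ (DTen.LBase φ ⋙ DRing.restrictD φ) ⟶
      T.map₂CochainComplex.flip.obj (resUnitCx φ) ⋙ DerivedCategory.Q :=
    Functor.whiskerRight (DTen.baseCmp φ) (DRing.restrictD φ) ≫
      Functor.whiskerLeft (DTen.extCx φ) (DTen.resFactors φ).hom ≫
      Functor.whiskerRight eH.hom DerivedCategory.Q
  let β₂ : DerivedCategory.Q ⋙ DTen.tensorRightD R (DerivedCategory.Q.obj (resUnitCx φ)) ⟶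
      T.map₂CochainComplex.flip.obj (resUnitCx φ) ⋙ DerivedCategory.Q :=
    { app := fun K => (DTen.ε R).app (K, resUnitCx φ)
      naturality := fun K K' g => by
        have h := (DTen.ε R).naturality (Prod.mkHom g (𝟙 (resUnitCx φ)))
        refine (Eq.trans (congrArg (fun z => (DTen.LTen₂ R).map z ≫ _) ?_) h).trans
          (congrArg (_ ≫ ·) ?_)
        · exact Prod.ext rfl (DerivedCategory.Q.map_id _).symm
        · refine congrArg DerivedCategory.Q.map ?_
          change (T.map₂CochainComplex.map g).app _ ≫ (T.map₂CochainComplex.obj K').map (𝟙 _) = _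
          rw [CategoryTheory.Functor.map_id]
          exact Category.comp_id _ }
  obtain ⟨i₁⟩ := nonempty_resolvedIso _ _ β₁ fun K hK => by
    haveI := isIso_baseCmp φ hK
    dsimp [β₁]
    infer_instance
  obtain ⟨i₂⟩ := nonempty_resolvedIso _ _ β₂ fun K hK => isIso_ε hK (resUnitCx φ)
  exact ⟨Localization.liftNatIso DerivedCategory.Q (HomologicalComplex.quasiIso _ (ComplexShape.up ℤ))
    _ _ _ _ (i₁ ≪≫ i₂.symm)⟩

variable {φ}

omit [DTen.HasLBase φ] in
/-- Tensoring with a bounded complex of flat modules shifts boundedness below. -/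
lemma isGE_tensor {P : Dual.D R} {a : ℤ} (hP : DRing.HasTorAmplitudeIn R a 0 P) (X : Dual.D R)
    (n : ℤ) [X.IsGE n] : ((DTen.tensorRightD R P).obj X).IsGE (n + a) := by
  obtain ⟨E, hz, hf, ⟨e⟩⟩ := hP
  obtain ⟨K, hK, ⟨eK⟩⟩ := DerivedCategory.exists_iso_Q_obj_of_isGE X n
  have hE : KFlat (curriedTensor (ModuleCat.{u} R)) E :=
    kFlat_of_termwiseFlat hf (fun i hi => hz i (Or.inr hi))
  haveI := isIso_ε_right hE K
  let C := ((curriedTensor (ModuleCat.{u} R)).map₂CochainComplex.obj K).obj E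
  have hC : CochainComplex.IsStrictlyGE C (n + a) := by
    refine (CochainComplex.isStrictlyGE_iff _ _).2 fun i hi => ?_
    rw [IsZero.iff_id_eq_zero]
    refine HomologicalComplex.mapBifunctor.hom_ext fun p q h => ?_
    change p + q = i at h
    refine IsZero.eq_of_src ?_ _ _
    by_cases hp : p < n
    · exact ((curriedTensor (ModuleCat.{u} R)).flip.obj (E.X q)).map_isZero
        (K.isZero_of_isStrictlyGE n p hp)
    · exact ((curriedTensor (ModuleCat.{u} R)).obj (K.X p)).map_isZero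
        (hz q (Or.inl (by omega)))
  haveI : DerivedCategory.IsGE ((DTen.LTen₂ R).obj ((DRing.toD K), (DRing.toD E))) (n + a) := by
    haveI : DerivedCategory.IsGE ((DTen.tensor₂ R).obj (K, E)) (n + a) :=
      (DerivedCategory.isGE_Q_obj_iff C _).2 inferInstance
    exact DerivedCategory.TStructure.t.isGE_of_iso (asIso ((DTen.ε R).app (K, E))).symm (n + a)
  exact DerivedCategory.TStructure.t.isGE_of_iso
    ((DTen.LTen₂ R).mapIso (Iso.prod eK.symm e)) (n + a)

/-- Derived base change of finite tor amplitude shifts boundedness below. -/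
lemma isGE_LBase {a : ℤ}
    (hA : DRing.HasTorAmplitudeIn R a 0 (DerivedCategory.Q.obj (resUnitCx φ))) (X : Dual.D R) (n : ℤ)
    [X.IsGE n] : ((DTen.LBase φ).obj X).IsGE (n + a) := by
  obtain ⟨β⟩ := nonempty_resLBase_iso φ
  haveI := isGE_tensor hA X n
  have : ((DRing.restrictD φ).obj ((DTen.LBase φ).obj X)).IsGE (n + a) :=
    DerivedCategory.TStructure.t.isGE_of_iso (β.app X).symm (n + a)
  refine (DerivedCategory.isGE_iff _ _).2 fun i hi => ?_
  -- reflect through restriction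
  have hz := DerivedCategory.isZero_of_isGE ((DRing.restrictD φ).obj ((DTen.LBase φ).obj X)) (n + a) i hi
  have hs : Subsingleton ((ModuleCat.restrictScalars.{u} φ).obj
      ((DerivedCategory.homologyFunctor (ModuleCat.{u} A) i).obj ((DTen.LBase φ).obj X))) :=
    ModuleCat.subsingleton_of_isZero
      (hz.of_iso ((mapDCHomologyIso (ModuleCat.restrictScalars.{u} φ) i).app ((DTen.LBase φ).obj X)).symm)
  exact @ModuleCat.isZero_of_subsingleton _ _ _ hs

omit [DTen.HasLTen R] in
/-- Derived base change preserves boundedness above. -/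
lemma isLE_LBase (X : Dual.D R) (n : ℤ) [X.IsLE n] : ((DTen.LBase φ).obj X).IsLE n := by
  refine isLE_of_orth _ _ fun Y hY f => ?_
  haveI := hY
  haveI : ((DRing.restrictD φ).obj Y).IsGE (n + 1) := (DerivedCategory.isGE_iff _ _).2 fun i hi =>
    ((ModuleCat.restrictScalars.{u} φ).map_isZero (DerivedCategory.isZero_of_isGE Y (n + 1) i hi)).of_iso
      ((mapDCHomologyIso (ModuleCat.restrictScalars.{u} φ) i).app Y)
  refine ((DTen.baseAdj φ).homEquiv _ _).injective ?_
  exact (DerivedCategory.TStructure.t.zero _ n (n + 1) (by omega)).trans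
    (DerivedCategory.TStructure.t.zero _ n (n + 1) (by omega)).symm

variable [DTen.HasLTen A] [DTen.HasRHom R] [DTen.HasRHom A] [DTen.HasResTen φ] [DTen.ResLegIso φ]

/-- Base change for derived hom out of a pseudo-coherent object. -/
theorem isIso_bcRHom_of_pseudoCoherent {a : ℤ}
    (hA : DRing.HasTorAmplitudeIn R a 0 (DerivedCategory.Q.obj (resUnitCx φ)))
    (K M : Dual.D R) [IsIso (DTen.rhomBC φ K ((DTen.LBase φ).obj M))]
    (hK : DRing.IsPseudoCoherent' R K) (n : ℤ) (hM : DerivedCategory.IsGE M n) :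
    IsIso (DTen.bcRHom φ K M) := by
  haveI := hM
  haveI := hasLTen₃ R
  haveI := hasLTen₃ A
  haveI := isSymMonoidal R
  haveI := isSymMonoidal A
  have hbc : ∀ K M, IsIso (DTen.rhomBC φ K M) := fun K M => isIso_rhomBC φ K M
  haveI := hbc
  let N := (DTen.LBase φ).obj M
  haveI : N.IsGE (n + a) := isGE_LBase hA M n
  let F := (DTen.RHom R).flip.obj M ⋙ DTen.LBase φ
  let G := (DTen.LBase φ).op ⋙ (DTen.RHom A).flip.obj N
  let η : F ⟶ G :=
    { app := fun K => DTen.bcRHom φ K.unop M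
      naturality := fun K K' k => (rhom_map_bcRHom hbc M k.unop).symm }
  haveI : (DTen.LBase φ).PreservesZeroMorphisms :=
    Functor.preservesZeroMorphisms_of_isLeftAdjoint _
  refine isIso_of_bijective_unit _ fun j => ?_
  let m : ℤ := n + a + j - 2
  obtain ⟨E, a', b', α, hvan, hfree, hiso, hepi⟩ := (H9Misc.DRingPC.pc'_iff K).1 hK m
  have hP : DRing.IsPerfect R (DRing.toD E) := ⟨E, a', b', hvan, fun i => ⟨(hfree i).1, by
    haveI := (hfree i).2
    infer_instance⟩, ⟨Iso.refl _⟩⟩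
  haveI hηP : IsIso (DTen.bcRHom φ (DRing.toD E) M) := isIso_bcRHom_of_isPerfect _ M hP
  obtain ⟨C, g, δ, hT⟩ := distinguished_cocone_triangle α
  have hCle : ∀ i, m < i → IsZero ((DerivedCategory.homologyFunctor _ i).obj C) := fun i hi => by
    haveI := hiso i hi
    haveI := hiso (i + 1) (by omega)
    have h1 := (DerivedCategory.HomologySequence.epi_homologyMap_mor₁_iff _ hT i).1
      (inferInstanceAs (Epi ((DerivedCategory.homologyFunctor _ i).map α)))
    haveI h2 : Epi ((DerivedCategory.homologyFunctor _ i).map (Triangle.mk α g δ).mor₂) :=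
      (DerivedCategory.HomologySequence.epi_homologyMap_mor₂_iff _ hT i (i + 1) rfl).2
        ((DerivedCategory.HomologySequence.mono_homologyMap_mor₁_iff _ hT i (i + 1) rfl).1
          (inferInstanceAs (Mono ((DerivedCategory.homologyFunctor _ (i + 1)).map α))))
    exact IsZero.of_epi_eq_zero _ h1
  haveI : DerivedCategory.IsLE C m := (DerivedCategory.isLE_iff _ _).2 hCle
  -- maps from the unit into bounded below objects
  have hz : ∀ (Y : Dual.D A) (k : ℤ), Y.IsGE k → -j < k → ∀ f : (DTen.unit A)⟦j⟧ ⟶ Y, f = 0 := by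
    intro Y k hY hk f
    haveI := hY
    obtain ⟨eU⟩ := nonempty_unit_shift_iso (A := A) j
    haveI : DerivedCategory.IsLE ((DTen.unit A)⟦j⟧) (-j) := by
      haveI : DerivedCategory.IsLE (DerivedCategory.Q.obj (H9Misc.BrownGroth.gen A (-j))) (-j) :=
        (DerivedCategory.isLE_Q_obj_iff _ _).2 inferInstance
      exact DerivedCategory.TStructure.t.isLE_of_iso eU.symm (-j)
    exact DerivedCategory.TStructure.t.zero f (-j) k hk
  haveI hC1 : DerivedCategory.IsLE (C⟦(-1 : ℤ)⟧) (m + 1) :=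
    DerivedCategory.TStructure.t.isLE_shift C m (-1 : ℤ) (m + 1) (by omega)
  have hFC : ∀ f : (DTen.unit A)⟦j⟧ ⟶ F.obj (op C), f = 0 := by
    haveI := isGE_RHomR C M m n
    exact fun f => hz _ _ (isGE_LBase hA ((DTen.RHomR R C).obj M) (n - m)) (by omega) f
  have hFC' : ∀ f : (DTen.unit A)⟦j⟧ ⟶ F.obj (op (C⟦(-1 : ℤ)⟧)), f = 0 := by
    haveI := isGE_RHomR (C⟦(-1 : ℤ)⟧) M (m + 1) n
    exact fun f => hz _ _ (isGE_LBase hA ((DTen.RHomR R (C⟦(-1 : ℤ)⟧)).obj M) (n - (m + 1))) (by omega) f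
  have hGC : ∀ f : (DTen.unit A)⟦j⟧ ⟶ G.obj (op C), f = 0 := by
    haveI := isLE_LBase (φ := φ) C m
    exact fun f => hz _ _ (isGE_RHomR ((DTen.LBase φ).obj C) N m (n + a)) (by omega) f
  have hGC' : ∀ f : (DTen.unit A)⟦j⟧ ⟶ G.obj (op (C⟦(-1 : ℤ)⟧)), f = 0 := by
    haveI := isLE_LBase (φ := φ) (C⟦(-1 : ℤ)⟧) (m + 1)
    exact fun f => hz _ _ (isGE_RHomR ((DTen.LBase φ).obj (C⟦(-1 : ℤ)⟧)) N (m + 1) (n + a)) (by omega) f
  let T := Triangle.mk α g δ
  obtain ⟨c₁, hc₁⟩ := exists_triangle_RHomMap T hT M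
  obtain ⟨c₂, hc₂⟩ := exists_triangle_LBase φ _ hc₁
  obtain ⟨c₃, hc₃⟩ := exists_triangle_RHomMap _ (inv_rot_of_distTriang _ hT) M
  obtain ⟨c₄, hc₄⟩ := exists_triangle_LBase φ _ hc₃
  obtain ⟨d₁, hd₁⟩ := exists_triangle_LBase φ _ hT
  obtain ⟨d₂, hd₂⟩ := exists_triangle_RHomMap _ hd₁ N
  obtain ⟨d₃, hd₃⟩ := exists_triangle_LBase φ _ (inv_rot_of_distTriang _ hT)
  obtain ⟨d₄, hd₄⟩ := exists_triangle_RHomMap _ hd₃ N
  let a₁ : F.obj (op K) ⟶ F.obj (op (DRing.toD E)) := (DTen.LBase φ).map (DTen.RHomMap α M)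
  let a₂ : G.obj (op K) ⟶ G.obj (op (DRing.toD E)) := DTen.RHomMap ((DTen.LBase φ).map α) N
  have hn : DTen.bcRHom φ K M ≫ a₂ = a₁ ≫ DTen.bcRHom φ (DRing.toD E) M := rhom_map_bcRHom hbc M α
  refine ⟨fun f f' hff => sub_eq_zero.1 ?_, fun y => ?_⟩
  · have h0 : (f - f') ≫ DTen.bcRHom φ K M = 0 := by
      rw [Preadditive.sub_comp]; exact sub_eq_zero.2 hff
    generalize f - f' = f at h0
    have h1 : f ≫ a₁ = 0 := (cancel_mono (DTen.bcRHom φ (DRing.toD E) M)).1 (by
      rw [Category.assoc, ← hn, ← Category.assoc, h0, zero_comp, zero_comp])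
    obtain ⟨x, hx⟩ := Triangle.coyoneda_exact₂ _ hc₂ f h1
    rw [hx, hFC x]
    exact zero_comp
  · obtain ⟨x, hx⟩ : ∃ x : (DTen.unit A)⟦j⟧ ⟶ F.obj (op K),
        x ≫ a₁ = (y ≫ a₂) ≫ inv (DTen.bcRHom φ (DRing.toD E) M) := by
      obtain ⟨x, hx⟩ := Triangle.coyoneda_exact₂ _ hc₄
        ((y ≫ a₂) ≫ inv (DTen.bcRHom φ (DRing.toD E) M)) (hFC' _)
      exact ⟨x, hx.symm⟩
    refine ⟨x, sub_eq_zero.1 ?_⟩
    have h1 : (x ≫ DTen.bcRHom φ K M - y) ≫ a₂ = 0 := by
      rw [Preadditive.sub_comp, Category.assoc, hn, ← Category.assoc, hx, Category.assoc _ (inv _),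
        IsIso.inv_hom_id, Category.comp_id, sub_self]
    obtain ⟨z, hz'⟩ := Triangle.coyoneda_exact₂ _ hd₂ _ h1
    change x ≫ DTen.bcRHom φ K M - y = 0
    rw [hz', hGC z]
    exact zero_comp

variable (R A) in
omit [DTen.HasLTen R] [DTen.HasLTen A] [DTen.HasRHom R] [DTen.HasRHom A] [DTen.HasLBase φ]
  [DTen.HasResTen φ] [DTen.ResLegIso φ] in
/-- The two forms of `A[0]` over `R`. -/
theorem nonempty_resUnit_iso [Algebra R A] :
    Nonempty (Dual.inD R A ≅ DerivedCategory.Q.obj (resUnitCx (algebraMap R A))) := by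
  let e : ModuleCat.of R A ≅ (ModuleCat.restrictScalars (algebraMap R A)).obj (ModuleCat.of A A) :=
    LinearEquiv.toModuleIso (m₂ := ((ModuleCat.restrictScalars (algebraMap R A)).obj (ModuleCat.of A A)).isModule)
      { toFun := fun x => x
        invFun := fun x => x
        left_inv := fun _ => rfl
        right_inv := fun _ => rfl
        map_add' := fun _ _ => rfl
        map_smul' := fun r x => (Algebra.smul_def r x : _) }
  exact ⟨(DerivedCategory.singleFunctor (ModuleCat.{u} R) 0).mapIso e ≪≫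
    (DerivedCategory.singleFunctorIsoCompQ (ModuleCat.{u} R) 0).app _⟩

end Groth.Agent.KFlatLib
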