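import Groth.Agent.KFlatLib.Ring.LTen
import Groth.Agent.KFlatLib.Scheme.PullTensorCx
import Groth.Prelude.Def_DTen2
import Groth.Prelude.Def_DTen6

/-!
# Symmetry, associativity and iterated change of rings for the derived tensor product
-/

set_option linter.style.haveILetI false

universe u

open CategoryTheory CategoryTheory.Limits MonoidalCategory

attribute [local instance] HasDerivedCategory.standard

namespace Groth.Agent.KFlatLib

variable {A B C : Type u} [CommRing A] [CommRing B] [CommRing C]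

/-- A K-flat representative. -/
noncomputable abbrev flatRep (E : Dual.D A) : DRing.Cx A :=
  (ringCover A).P.obj (DerivedCategory.Q.objPreimage E)

/-- A K-flat representative represents. -/
noncomputable def flatRepIso (E : Dual.D A) : DerivedCategory.Q.obj (flatRep E) ≅ E :=
  @asIso _ _ _ _ (DerivedCategory.Q.map ((ringCover A).ψ.app (DerivedCategory.Q.objPreimage E)))
    ((DerivedCategory.isIso_Q_map_iff_quasiIso _ _).2 ((ringCover A).quasiIso_ψ _)) ≪≫
  DerivedCategory.Q.objObjPreimageIso E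

lemma isIso_symm_app [DTen.HasLTen A] (E F : Dual.D A) : IsIso ((DTen.symm A).app (E, F)) := by
  haveI := isIso_ε (A := A) (kFlat_ringRes (DerivedCategory.Q.objPreimage E)) (flatRep F)
  haveI := isIso_ε (A := A) (kFlat_ringRes (DerivedCategory.Q.objPreimage F)) (flatRep E)
  have h := DTen.symm_fac A (flatRep E) (flatRep F)
  haveI : IsIso ((DTen.symm A).app (DerivedCategory.Q.obj (flatRep E), DerivedCategory.Q.obj (flatRep F))) := by
    haveI : IsIso ((DTen.symm A).app (DerivedCategory.Q.obj (flatRep E), DerivedCategory.Q.obj (flatRep F)) ≫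
        (DTen.ε A).app (flatRep E, flatRep F)) := by
      rw [h]
      exact IsIso.comp_isIso' inferInstance inferInstance
    exact IsIso.of_isIso_comp_right _ ((DTen.ε A).app (flatRep E, flatRep F))
  exact (NatTrans.isIso_app_iff_of_iso (DTen.symm A) (Iso.prod (flatRepIso E) (flatRepIso F))).1
    (by assumption)

/-- Resolve the first two variables. -/
noncomputable def tenRes₃ (A : Type u) [CommRing A] : Resolution (DTen.qis₃ A) (DTen.tensor₃ A) where
  Good X := KFlat (curriedTensor (ModuleCat.{u} A)) X.1 ∧ KFlat (curriedTensor (ModuleCat.{u} A)) X.2.1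
  P := (ringCover A).P.prod ((ringCover A).P.prod (𝟭 (DRing.Cx A)))
  ψ := NatTrans.prod (ringCover A).ψ (NatTrans.prod (ringCover A).ψ (𝟙 (𝟭 (DRing.Cx A))))
  good X := ⟨kFlat_ringRes X.1, kFlat_ringRes X.2.1⟩
  weq X := ⟨(ringCover A).quasiIso_ψ X.1, (ringCover A).quasiIso_ψ X.2.1,
    show QuasiIso (𝟙 X.2.2) from inferInstance⟩
  inverts X Y f hX hY hf := by
    haveI : QuasiIso f.1 := hf.1
    haveI : QuasiIso ((DTen.tensorT A).map f.2) :=
      (DerivedCategory.isIso_Q_map_iff_quasiIso _ _).1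
        (show IsIso (DerivedCategory.Q.map ((DTen.tensorT A).map f.2)) from
          (tenRes A).inverts f.2 hX.2 hY.2 hf.2)
    exact isIso_tensor₂_map f.1 ((DTen.tensorT A).map f.2) hX.1 hY.1

lemma isIso_assoc_app [DTen.HasLTen A] [DTen.HasLTen₃ A] (a b c : Dual.D A) :
    IsIso ((DTen.assocL A).app (a, (b, c))) ∧ IsIso ((DTen.assocR A).app (a, (b, c))) := by
  let X : DRing.Cx A × (DRing.Cx A × DRing.Cx A) := (flatRep a, (flatRep b, flatRep c))
  have hK : KFlat (curriedTensor (ModuleCat.{u} A)) X.1 := kFlat_ringRes _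
  have hL : KFlat (curriedTensor (ModuleCat.{u} A)) X.2.1 := kFlat_ringRes _
  haveI : IsIso ((DTen.ε₃ A).app X) :=
    (tenRes₃ A).isIso_totalLeftDerivedCounit (DTen.QQQ A) (X := X) ⟨hK, hL⟩
  haveI := isIso_ε (A := A) hK X.2.1
  haveI := isIso_ε (A := A) hL X.2.2
  haveI := isIso_ε (A := A) hK (X.2.1 ⊗ X.2.2)
  haveI := isIso_ε (A := A) (K := X.1 ⊗ X.2.1) (kFlat_tensor hK hL) X.2.2
  let e : (DTen.QQQ A).obj X ≅ (a, (b, c)) :=
    Iso.prod (flatRepIso a) (Iso.prod (flatRepIso b) (flatRepIso c))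
  constructor
  · haveI : IsIso ((DTen.βL A).app X) := by
      dsimp only [DTen.βL]
      haveI : IsIso (Prod.mkHom ((DTen.ε A).app (X.1, X.2.1)) (𝟙 (DerivedCategory.Q.obj X.2.2))) :=
        (isIso_prod_iff _ _).2 ⟨inferInstance, inferInstanceAs (IsIso (𝟙 (DerivedCategory.Q.obj X.2.2)))⟩
      exact IsIso.comp_isIso' (Functor.map_isIso _ _) (IsIso.comp_isIso' inferInstance inferInstance)
    haveI : IsIso ((DTen.assocL A).app ((DTen.QQQ A).obj X)) := by
      haveI : IsIso ((DTen.assocL A).app ((DTen.QQQ A).obj X) ≫ (DTen.ε₃ A).app X) := by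
        rw [DTen.assocL_fac]; infer_instance
      exact IsIso.of_isIso_comp_right _ ((DTen.ε₃ A).app X)
    exact (NatTrans.isIso_app_iff_of_iso (DTen.assocL A) e).1 (by assumption)
  · haveI : IsIso ((DTen.βR A).app X) := by
      dsimp only [DTen.βR]
      haveI : IsIso (Prod.mkHom (𝟙 (DerivedCategory.Q.obj X.1)) ((DTen.ε A).app X.2)) :=
        (isIso_prod_iff _ _).2 ⟨inferInstanceAs (IsIso (𝟙 (DerivedCategory.Q.obj X.1))), by assumption⟩
      exact IsIso.comp_isIso' (Functor.map_isIso _ _) inferInstance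
    haveI : IsIso ((DTen.assocR A).app ((DTen.QQQ A).obj X)) := by
      haveI : IsIso ((DTen.assocR A).app ((DTen.QQQ A).obj X) ≫ (DTen.ε₃ A).app X) := by
        rw [DTen.assocR_fac]; infer_instance
      exact IsIso.of_isIso_comp_right _ ((DTen.ε₃ A).app X)
    exact (NatTrans.isIso_app_iff_of_iso (DTen.assocR A) e).1 (by assumption)

variable (φ : A →+* B) (ψ : B →+* C)

lemma kFlat_mixT {M : DRing.Cx A} {N : DRing.Cx B}
    (hM : KFlat (curriedTensor (ModuleCat.{u} A)) M) (hN : KFlat (curriedTensor (ModuleCat.{u} B)) N) :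
    KFlat (curriedTensor (ModuleCat.{u} B)) ((DTen.mixT φ).obj (M, N)) :=
  kFlat_tensor (kFlat_extendScalars φ hM) hN

/-- Resolve the first two variables. -/
noncomputable def mixRes₃ : Resolution (DTen.qisMix₃ A B C) (DTen.mix₃ φ ψ) where
  Good X := KFlat (curriedTensor (ModuleCat.{u} A)) X.1 ∧ KFlat (curriedTensor (ModuleCat.{u} B)) X.2.1
  P := (ringCover A).P.prod ((ringCover B).P.prod (𝟭 (DRing.Cx C)))
  ψ := NatTrans.prod (ringCover A).ψ (NatTrans.prod (ringCover B).ψ (𝟙 (𝟭 (DRing.Cx C))))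
  good X := ⟨kFlat_ringRes X.1, kFlat_ringRes X.2.1⟩
  weq X := ⟨(ringCover A).quasiIso_ψ X.1, (ringCover B).quasiIso_ψ X.2.1,
    show QuasiIso (𝟙 X.2.2) from inferInstance⟩
  inverts X Y f hX hY hf := by
    have h : QuasiIso ((DTen.mixT φ).map (Prod.mkHom f.1 f.2.1)) :=
      (DerivedCategory.isIso_Q_map_iff_quasiIso _ _).1
        (show IsIso (DerivedCategory.Q.map ((DTen.mixT φ).map (Prod.mkHom f.1 f.2.1))) from
          (mixRes φ).inverts (Prod.mkHom f.1 f.2.1) hX.1 hY.1 ⟨hf.1, hf.2.1⟩)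
    exact (mixRes ψ).inverts (Prod.mkHom ((DTen.mixT φ).map (Prod.mkHom f.1 f.2.1)) f.2.2)
      (kFlat_mixT φ hX.1 hX.2) (kFlat_mixT φ hY.1 hY.2) ⟨h, hf.2.2⟩

lemma isIso_leg₃_app [DTen.HasLTenMix φ] [DTen.HasLTenMix ψ] [DTen.HasLTenMix (ψ.comp φ)]
    [DTen.HasLTenMix₃ φ ψ] (E : Dual.D A) (F : Dual.D B) (G : Dual.D C) :
    IsIso ((DTen.leg₃L φ ψ).app (E, (F, G))) ∧ IsIso ((DTen.leg₃R φ ψ).app (E, (F, G))) := by
  let X : DRing.Cx A × (DRing.Cx B × DRing.Cx C) := (flatRep E, (flatRep F, flatRep G))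
  have hK : KFlat (curriedTensor (ModuleCat.{u} A)) X.1 := kFlat_ringRes _
  have hL : KFlat (curriedTensor (ModuleCat.{u} B)) X.2.1 := kFlat_ringRes _
  haveI : IsIso ((DTen.εMix₃ φ ψ).app X) :=
    (mixRes₃ φ ψ).isIso_totalLeftDerivedCounit (DTen.QMix₃ A B C) (X := X) ⟨hK, hL⟩
  haveI := isIso_εMix φ hK X.2.1
  haveI := isIso_εMix ψ hL X.2.2
  haveI := isIso_εMix ψ (kFlat_mixT φ hK hL) X.2.2
  haveI := isIso_εMix (ψ.comp φ) hK ((DTen.mixT ψ).obj (X.2.1, X.2.2))
  let e : (DTen.QMix₃ A B C).obj X ≅ (E, (F, G)) :=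
    Iso.prod (flatRepIso E) (Iso.prod (flatRepIso F) (flatRepIso G))
  constructor
  · haveI : IsIso ((DTen.β₃L φ ψ).app X) := by
      dsimp only [DTen.β₃L]
      have h1 : IsIso (Prod.mkHom ((DTen.εMix φ).app (X.1, X.2.1)) (𝟙 (DerivedCategory.Q.obj X.2.2))) :=
        (isIso_prod_iff _ _).2 ⟨inferInstance, inferInstanceAs (IsIso (𝟙 (DerivedCategory.Q.obj X.2.2)))⟩
      exact IsIso.comp_isIso' (@Functor.map_isIso _ _ _ _ _ _ _ _ h1)
        (isIso_εMix ψ (kFlat_mixT φ hK hL) X.2.2)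
    haveI : IsIso ((DTen.leg₃L φ ψ).app ((DTen.QMix₃ A B C).obj X)) := by
      haveI : IsIso ((DTen.leg₃L φ ψ).app ((DTen.QMix₃ A B C).obj X) ≫ (DTen.εMix₃ φ ψ).app X) := by
        rw [DTen.leg₃L_fac]; infer_instance
      exact IsIso.of_isIso_comp_right _ ((DTen.εMix₃ φ ψ).app X)
    exact (NatTrans.isIso_app_iff_of_iso (DTen.leg₃L φ ψ) e).1 (by assumption)
  · haveI : IsIso ((DTen.β₃R φ ψ).app X) := by
      dsimp only [DTen.β₃R]
      have h1 : IsIso (Prod.mkHom (𝟙 (DerivedCategory.Q.obj X.1)) ((DTen.εMix ψ).app (X.2.1, X.2.2))) :=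
        (isIso_prod_iff _ _).2 ⟨inferInstanceAs (IsIso (𝟙 (DerivedCategory.Q.obj X.1))), by assumption⟩
      exact IsIso.comp_isIso' (@Functor.map_isIso _ _ _ _ _ _ _ _ h1)
        (IsIso.comp_isIso' inferInstance inferInstance)
    haveI : IsIso ((DTen.leg₃R φ ψ).app ((DTen.QMix₃ A B C).obj X)) := by
      haveI : IsIso ((DTen.leg₃R φ ψ).app ((DTen.QMix₃ A B C).obj X) ≫ (DTen.εMix₃ φ ψ).app X) := by
        rw [DTen.leg₃R_fac]; infer_instance
      exact IsIso.of_isIso_comp_right _ ((DTen.εMix₃ φ ψ).app X)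
    exact (NatTrans.isIso_app_iff_of_iso (DTen.leg₃R φ ψ) e).1 (by assumption)

end Groth.Agent.KFlatLib
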