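import Groth.Agent.KFlatLib.Ring.LTen
import Groth.Agent.KFlatLib.Ring.LTen3
import Groth.Agent.H9Misc.DRingLTensorCx

/-!
# The tensor product by a complex is the derived tensor product
-/

set_option linter.style.haveILetI false
set_option backward.isDefEq.respectTransparency false

universe u

open CategoryTheory CategoryTheory.Limits MonoidalCategory

attribute [local instance] HasDerivedCategory.standard

namespace Groth.Agent.KFlatLib

variable {A : Type u} [CommRing A] [DTen.HasLTen A]

/-- `L ⊗^L E` for a complex `E`. -/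
lemma nonempty_LTensorCx_obj_iso (E : DRing.Cx A) [DRing.HasLTensorCx A E] (L : Dual.D A) :
    Nonempty ((DRing.LTensorCx A E).obj L ≅ (DTen.LTen₂ A).obj (L, DerivedCategory.Q.obj E)) := by
  obtain ⟨a⟩ := H9Misc.DRingLTensorCx.nonempty_iso E (kFlat_ringRes _) (flatRepIso L)
  haveI := isIso_ε (A := A) (kFlat_ringRes (DerivedCategory.Q.objPreimage L)) E
  exact ⟨a ≪≫ (asIso ((DTen.ε A).app (flatRep L, E))).symm ≪≫
    (DTen.LTen₂ A).mapIso (Iso.prod (flatRepIso L) (Iso.refl _))⟩

end Groth.Agent.KFlatLib
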