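import Groth.Agent.H9Misc.DRingTorDim
import Groth.Agent.H9Misc.DRingTorTriangle
import Mathlib.Algebra.MvPolynomial.Equiv
import Mathlib.RingTheory.Flat.Stability

/-!
# Tor dimension over polynomial rings of modules flat over the base
-/

set_option linter.style.haveILetI false
set_option backward.isDefEq.respectTransparency false

universe u

open CategoryTheory CategoryTheory.Limits Pretriangulated

open scoped TensorProduct

attribute [local instance] HasDerivedCategory.standard

namespace Groth.Agent.KFlatLib

/-- Tor dimension is preserved by flat base change. -/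
theorem torDimLE_baseChange {A B : Type u} [CommRing A] [CommRing B] [Algebra A B] [Module.Flat A B] :
    ∀ (d : ℕ) (M : Type u) [AddCommGroup M] [Module A M],
      DRing.HasTorDimLE A d M → DRing.HasTorDimLE B d (B ⊗[A] M) := by
  intro d
  induction d with
  | zero =>
    intro M _ _ h
    haveI : Module.Flat A M := (H9Misc.DRingTor.torDimLE_zero_iff (ModuleCat.of A M)).1 h
    exact (H9Misc.DRingTor.torDimLE_zero_iff (ModuleCat.of B (B ⊗[A] M))).2 inferInstance
  | succ d ih =>
    intro M _ _ h
    obtain ⟨S, hS, hSM, hP⟩ := H9Misc.DRingTor.exists_ses (ModuleCat.of A M)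
    haveI : Module.Flat A S.X₂ := inferInstance
    let e₃ : (S.X₃ : Type u) ≃ₗ[A] M := (eqToIso hSM).toLinearEquiv
    have h' : DRing.HasTorDimLE A (d + 1) S.X₃ := by rw [hSM]; exact h
    have h₁ := ih S.X₁ ((H9Misc.DRingTor.torDimLE_succ_iff hS d).1 h')
    have hgs : Function.Surjective (e₃.toLinearMap ∘ₗ S.g.hom) :=
      e₃.surjective.comp ((ModuleCat.epi_iff_surjective _).1 hS.epi_g)
    have hfg : Function.Exact S.f.hom (e₃.toLinearMap ∘ₗ S.g.hom) := by
      intro z
      have := (ShortComplex.ShortExact.moduleCat_exact_iff_function_exact _).1 hS.exact z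
      simpa using this
    have hex : Function.Exact (S.f.hom.baseChange B) ((e₃.toLinearMap ∘ₗ S.g.hom).baseChange B) :=
      Module.Flat.lTensor_exact B hfg
    let S' : ShortComplex (ModuleCat.{u} B) := ShortComplex.mk
      (ModuleCat.ofHom (S.f.hom.baseChange B)) (ModuleCat.ofHom ((e₃.toLinearMap ∘ₗ S.g.hom).baseChange B))
      (ModuleCat.hom_ext (LinearMap.ext fun x => hex.apply_apply_eq_zero x))
    have hS' : S'.ShortExact :=
      { exact := (ShortComplex.moduleCat_exact_iff S').2 fun x hx => (hex x).1 hx
        mono_f := (ModuleCat.mono_iff_injective _).2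
          (Module.Flat.lTensor_preserves_injective_linearMap (M := B) _ ((ModuleCat.mono_iff_injective _).1 hS.mono_f))
        epi_g := (ModuleCat.epi_iff_surjective _).2 (LinearMap.lTensor_surjective B hgs) }
    haveI : Module.Flat B S'.X₂ := inferInstanceAs (Module.Flat B (B ⊗[A] S.X₂))
    exact (H9Misc.DRingTor.torDimLE_succ_iff hS' d).2 h₁

/-- Tor dimension goes up by one along a short exact sequence. -/
theorem torDimLE_third {A : Type u} [CommRing A] {S : ShortComplex (ModuleCat.{u} A)} (hS : S.ShortExact)
    (d : ℕ) (h₁ : DRing.HasTorDimLE A d S.X₁) (h₂ : DRing.HasTorDimLE A d S.X₂) :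
    DRing.HasTorDimLE A (d + 1) S.X₃ := by
  rw [H9Misc.DRingTor.torDimLE_iff] at h₁ h₂ ⊢
  obtain ⟨T, hT, ⟨e₁⟩, ⟨e₂⟩, ⟨e₃⟩⟩ := H9Misc.DRingTor.inD_triangle hS
  refine H9Misc.DRingTor.of_iso e₃ ?_
  refine H9Misc.DRingTor.obj₃_of T hT
    (H9Misc.DRingTor.mono ?_ (by omega) (H9Misc.DRingTor.of_iso e₁.symm h₁))
    (H9Misc.DRingTor.mono ?_ le_rfl (H9Misc.DRingTor.of_iso e₂.symm h₂)) <;> push_cast <;> omega

/-- One more variable costs at most one tor dimension. -/
theorem torDimLE_polynomial_step {A P : Type u} [CommRing A] [CommRing P] [Algebra A P]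
    (e : Polynomial A ≃ₐ[A] P) (d : ℕ) (N : Type u) [AddCommGroup N] [Module A N] [Module P N]
    [IsScalarTower A P N] (h : DRing.HasTorDimLE A d N) : DRing.HasTorDimLE P (d + 1) N := by
  let x : P := e Polynomial.X
  haveI : Module.Flat A P := Module.Flat.of_linearEquiv e.symm.toLinearEquiv
  let q : P ⊗[A] N →ₗ[P] N := LinearMap.liftBaseChange P (LinearMap.id : N →ₗ[A] N)
  let f : P ⊗[A] N →ₗ[P] P ⊗[A] N :=
    x • LinearMap.id - LinearMap.baseChange P ((x • (LinearMap.id : N →ₗ[P] N)).restrictScalars A)
  have hq : ∀ (p : P) (n : N), q (p ⊗ₜ n) = p • n := fun p n => LinearMap.liftBaseChange_tmul _ _ _ _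
  have hf : ∀ (p : P) (n : N), f (p ⊗ₜ n) = (x * p) ⊗ₜ n - p ⊗ₜ (x • n) := fun p n => rfl
  have hqf : ∀ z, q (f z) = 0 := fun z => by
    induction z using TensorProduct.induction_on with
    | zero => simp
    | add a b ha hb => rw [map_add, map_add, ha, hb, add_zero]
    | tmul p n => rw [hf, map_sub, hq, hq, mul_smul, smul_comm, sub_self]
  have hmod : ∀ z, ∃ w, f w = z - (1 : P) ⊗ₜ q z := by
    intro z
    induction z using TensorProduct.induction_on with
    | zero => exact ⟨0, by simp⟩
    | add a b ha hb =>
      obtain ⟨u, hu⟩ := ha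
      obtain ⟨v, hv⟩ := hb
      exact ⟨u + v, by rw [map_add, map_add, TensorProduct.tmul_add, hu, hv]; abel⟩
    | tmul p n =>
      obtain ⟨g, rfl⟩ := e.surjective p
      induction g using Polynomial.induction_on' with
      | add a b ha hb =>
        obtain ⟨u, hu⟩ := ha
        obtain ⟨v, hv⟩ := hb
        exact ⟨u + v, by rw [map_add, map_add, TensorProduct.add_tmul, map_add, TensorProduct.tmul_add, hu, hv]; abel⟩
      | monomial k a =>
        induction k generalizing n with
        | zero =>
          refine ⟨0, ?_⟩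
          rw [map_zero, hq, Polynomial.monomial_zero_left, ← Polynomial.algebraMap_eq, e.commutes,
            algebraMap_smul, Algebra.algebraMap_eq_smul_one, TensorProduct.smul_tmul, sub_self]
        | succ k ih =>
          obtain ⟨u, hu⟩ := ih (x • n)
          refine ⟨(e (Polynomial.monomial k a)) ⊗ₜ n + u, ?_⟩
          have hx : e (Polynomial.monomial (k + 1) a) = x * e (Polynomial.monomial k a) := by
            rw [← Polynomial.X_mul_monomial, map_mul]
          rw [map_add, hu, hf, hq, hq, hx, mul_smul, smul_comm x]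
          abel
  let c : ℕ → P ⊗[A] N →ₗ[A] N := fun k => TensorProduct.lift
    ((LinearMap.lsmul A N).comp ((Polynomial.lcoeff A k).comp e.symm.toLinearMap))
  have hc : ∀ k (p : P) (n : N), c k (p ⊗ₜ n) = (e.symm p).coeff k • n := fun k p n => rfl
  have hcf : ∀ z k, c (k + 1) (f z) = c k z - x • c (k + 1) z := by
    intro z k
    induction z using TensorProduct.induction_on with
    | zero => simp
    | add a b ha hb => rw [map_add, map_add, map_add, map_add, ha, hb, smul_add]; abel
    | tmul p n =>
      rw [hf, map_sub, hc, hc, hc, hc, map_mul, show e.symm x = Polynomial.X from e.symm_apply_apply _,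
        Polynomial.coeff_X_mul, smul_comm x]
  have hfin : ∀ z, ∃ B : ℕ, (∀ k, B ≤ k → c k z = 0) ∧
      ∀ C, B ≤ C → z = ∑ k ∈ Finset.range C, (x ^ k) ⊗ₜ[A] c k z := by
    intro z
    induction z using TensorProduct.induction_on with
    | zero => exact ⟨0, fun k _ => map_zero _, fun C _ => by simp⟩
    | add a b ha hb =>
      obtain ⟨B₁, u₁, u₂⟩ := ha
      obtain ⟨B₂, v₁, v₂⟩ := hb
      refine ⟨max B₁ B₂, fun k hk => by rw [map_add, u₁ k (le_of_max_le_left hk), v₁ k (le_of_max_le_right hk), add_zero],
        fun C hC => ?_⟩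
      conv_lhs => rw [u₂ C (le_of_max_le_left hC), v₂ C (le_of_max_le_right hC), ← Finset.sum_add_distrib]
      exact Finset.sum_congr rfl fun k _ => by rw [map_add, TensorProduct.tmul_add]
    | tmul p n =>
      refine ⟨(e.symm p).natDegree + 1, fun k hk => by
        rw [hc, Polynomial.coeff_eq_zero_of_natDegree_lt (by omega), zero_smul], fun C hC => ?_⟩
      have hs : p = ∑ k ∈ Finset.range C, (e.symm p).coeff k • x ^ k := by
        conv_lhs => rw [← e.apply_symm_apply p, Polynomial.as_sum_range' (e.symm p) C (by omega)]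
        rw [map_sum]
        refine Finset.sum_congr rfl fun k _ => ?_
        rw [← Polynomial.smul_X_eq_monomial, map_smul, map_pow]
      conv_lhs => rw [hs]
      rw [TensorProduct.sum_tmul]
      exact Finset.sum_congr rfl fun k _ => by rw [hc, TensorProduct.smul_tmul]
  have hinj : Function.Injective f := by
    refine (injective_iff_map_eq_zero f).2 fun z hz => ?_
    obtain ⟨B, h₁, h₂⟩ := hfin z
    have hk : ∀ j k, B ≤ k + j → c k z = 0 := by
      intro j
      induction j with
      | zero => exact fun k hk => h₁ k (by omega)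
      | succ j ih =>
        intro k hk
        have h3 := hcf z k
        rw [hz, map_zero, ih (k + 1) (by omega), smul_zero, sub_zero] at h3
        exact h3.symm
    rw [h₂ B le_rfl]
    exact Finset.sum_eq_zero fun k _ => by rw [hk B k (by omega), TensorProduct.tmul_zero]
  let S : ShortComplex (ModuleCat.{u} P) := ShortComplex.mk (ModuleCat.ofHom f) (ModuleCat.ofHom q)
    (ModuleCat.hom_ext (LinearMap.ext hqf))
  have hS : S.ShortExact :=
    { exact := (ShortComplex.moduleCat_exact_iff S).2 fun z hz => by
        obtain ⟨w, hw⟩ := hmod z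
        exact ⟨w, hw.trans (by rw [show q z = 0 from hz, TensorProduct.tmul_zero, sub_zero])⟩
      mono_f := (ModuleCat.mono_iff_injective _).2 hinj
      epi_g := (ModuleCat.epi_iff_surjective _).2 fun n => ⟨(1 : P) ⊗ₜ n, (hq 1 n).trans (one_smul P n)⟩ }
  exact torDimLE_third hS d (torDimLE_baseChange (B := P) d N h) (torDimLE_baseChange (B := P) d N h)

/-- A module over a polynomial ring flat over the base has tor dimension at most the number of variables. -/
theorem torDimLE_of_flat_base {R : Type u} [CommRing R] : ∀ (n : ℕ) (P : Type u) [CommRing P] [Algebra R P]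
    (_ : MvPolynomial (Fin n) R ≃ₐ[R] P) (N : Type u) [AddCommGroup N] [Module R N] [Module P N]
    [IsScalarTower R P N] [Module.Flat R N], DRing.HasTorDimLE P n N := by
  intro n
  induction n with
  | zero =>
    intro P _ _ e N _ _ _ _ _
    refine (H9Misc.DRingTor.torDimLE_zero_iff (ModuleCat.of P N)).2 ?_
    have hs : Function.Surjective (algebraMap R P) := fun p => by
      obtain ⟨g, rfl⟩ := e.surjective p
      obtain ⟨r, rfl⟩ := MvPolynomial.C_surjective (Fin 0) g
      exact ⟨r, (e.commutes r).symm⟩
    let g : P ⊗[R] N →ₗ[P] N := LinearMap.liftBaseChange P (LinearMap.id : N →ₗ[R] N)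
    have hg : ∀ z, (1 : P) ⊗ₜ[R] g z = z := fun z => by
      induction z using TensorProduct.induction_on with
      | zero => simp
      | add a b ha hb => rw [map_add, TensorProduct.tmul_add, ha, hb]
      | tmul p m =>
        obtain ⟨r, rfl⟩ := hs p
        rw [LinearMap.liftBaseChange_tmul, LinearMap.id_apply, algebraMap_smul, Algebra.algebraMap_eq_smul_one,
          TensorProduct.smul_tmul]
    exact Module.Flat.of_linearEquiv (LinearEquiv.ofBijective g
      ⟨fun a b hab => by rw [← hg a, ← hg b, hab],
        fun m => ⟨(1 : P) ⊗ₜ m, (LinearMap.liftBaseChange_tmul _ _ _ _).trans (one_smul P m)⟩⟩).symm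
  | succ n ih =>
    intro P _ _ e N _ _ _ _ _
    let A := MvPolynomial (Fin n) R
    let h : Polynomial A ≃ₐ[R] P := (MvPolynomial.finSuccEquiv R n).symm.trans e
    letI : Algebra A P := (h.toRingEquiv.toRingHom.comp Polynomial.C).toAlgebra
    let e' : Polynomial A ≃ₐ[A] P := AlgEquiv.ofRingEquiv (f := h.toRingEquiv) fun _ => rfl
    letI : Module A N := Module.compHom N (algebraMap A P)
    haveI : IsScalarTower A P N := IsScalarTower.of_algebraMap_smul fun _ _ => rfl
    haveI : IsScalarTower R A N := IsScalarTower.of_algebraMap_smul fun r m => by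
      change (h (Polynomial.C (algebraMap R A r))) • m = r • m
      rw [show h (Polynomial.C (algebraMap R A r)) = algebraMap R P r from h.commutes r, algebraMap_smul]
    exact torDimLE_polynomial_step e' n N (ih A AlgEquiv.refl N)

end Groth.Agent.KFlatLib
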