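import Groth.Agent.KFlatLib.Ring.ShriekVia
import Groth.Agent.KFlatLib.Ring.TorPoly
import Groth.Agent.KFlatLib.Ring.LTensorCxBridge
import Groth.Agent.H9Misc.DRingPerfect

/-!
# The shriek through a presentation of a flat algebra is a twisted base change
-/

set_option linter.style.haveILetI false
set_option backward.isDefEq.respectTransparency false

universe u

open CategoryTheory CategoryTheory.Limits Pretriangulated MonoidalCategory

attribute [local instance] HasDerivedCategory.standard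

namespace Groth.Agent.KFlatLib

/-- A flat algebra of finite type is perfect over a polynomial ring presenting it. -/
theorem isPerfect_res_presentation {R A : Type u} [CommRing R] [CommRing A] [Algebra R A] [IsNoetherianRing R]
    [Module.Flat R A] (n : ℕ) (ψ : MvPolynomial (Fin n) R →+* A) (hψ : Function.Surjective ψ)
    (hR : ψ.comp MvPolynomial.C = algebraMap R A) :
    DRing.IsPerfect (MvPolynomial (Fin n) R) ((DRing.restrictD ψ).obj (DTen.unit A)) := by
  let P := MvPolynomial (Fin n) R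
  letI : Algebra P A := ψ.toAlgebra
  haveI : IsScalarTower R P A := IsScalarTower.of_algebraMap_eq fun r => (RingHom.congr_fun hR r).symm
  haveI : Module.Finite P A := Module.Finite.of_surjective (Algebra.linearMap P A) hψ
  let eA : ((ModuleCat.restrictScalars ψ).obj (ModuleCat.of A A) : Type u) ≃ₗ[P] A :=
    LinearEquiv.ofBijective
      ({ toFun := fun x => x
         map_add' := fun _ _ => rfl
         map_smul' := fun p (x : A) => (Algebra.smul_def p x).symm } :
        ((ModuleCat.restrictScalars ψ).obj (ModuleCat.of A A) : Type u) →ₗ[P] A) Function.bijective_id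
  refine H9Misc.DRingPC.isPerfect_of_iso
    ((DerivedCategory.singleFunctor (ModuleCat.{u} P) 0).mapIso eA.toModuleIso.symm ≪≫
      (H9Misc.DRingRestrict.restrictInDIso ψ (ModuleCat.of A A)).symm ≪≫
      (DRing.restrictD ψ).mapIso ((DerivedCategory.singleFunctorIsoCompQ (ModuleCat.{u} A) 0).app (ModuleCat.of A A)))
    ((H9Misc.DRingPerfect.isPerfect_iff (Dual.inD P A)).2 ⟨?_, -(n : ℤ), 0, ?_⟩)
  · exact (Groth.Agent.S6942.result P 0 (Dual.inD P A) A).2.2 inferInstance
  · exact (H9Misc.DRingTor.torDimLE_iff n (ModuleCat.of P A)).1 (torDimLE_of_flat_base n P AlgEquiv.refl A)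

/-- Derived base change of the ring. -/
lemma nonempty_LBase_unit {A B : Type u} [CommRing A] [CommRing B] (φ : A →+* B) [DTen.HasLBase φ] :
    Nonempty ((DTen.LBase φ).obj (DTen.unit A) ≅ DTen.unit B) := by
  haveI := isIso_baseCmp φ (kFlat_unitSh (A := A) 0)
  exact ⟨(DTen.LBase φ).mapIso ((shiftFunctorZero (Dual.D A) ℤ).app (DTen.unit A)).symm ≪≫
    (DTen.LBase φ).mapIso ((DerivedCategory.Q.commShiftIso (0 : ℤ)).app (𝟙_ (DRing.Cx A))).symm ≪≫
    asIso ((DTen.baseCmp φ).app (unitSh A 0)) ≪≫ DerivedCategory.Q.mapIso (extUnitShIso φ 0) ≪≫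
    (DerivedCategory.Q.commShiftIso (0 : ℤ)).app (𝟙_ (DRing.Cx B)) ≪≫
    (shiftFunctorZero (Dual.D B) ℤ).app _⟩

/-- A shift moves into the second factor of a tensor product. -/
lemma nonempty_ten_shift {A : Type u} [CommRing A] [DTen.HasLTen A] (X Y : Dual.D A) (n : ℤ) :
    Nonempty (((DTen.LTen₂ A).obj (X, Y))⟦n⟧ ≅ (DTen.LTen₂ A).obj (X, Y⟦n⟧)) := by
  haveI := hasLTen₃ A
  haveI := isSymMonoidal A
  obtain ⟨t⟩ := nonempty_tensorRight_shift (B := A) n (Iso.refl ((DTen.unit A)⟦n⟧))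
  exact ⟨(t.app _).symm ≪≫ DTen.associator X Y _ ≪≫
    (DTen.LTen₂ A).mapIso (Iso.prod (Iso.refl X) (t.app Y))⟩

/-- The shriek of a flat algebra is base change tensored with the relative dualizing complex. -/
theorem nonempty_shriekVia_iso_ten {R A : Type u} [CommRing R] [CommRing A] [Algebra R A] [IsNoetherianRing R]
    [Module.Flat R A] (n : ℕ) (ψ : MvPolynomial (Fin n) R →+* A) (hψ : Function.Surjective ψ)
    (hR : ψ.comp MvPolynomial.C = algebraMap R A) (ι : R →+* MvPolynomial (Fin n) R) (hι : ι = MvPolynomial.C)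
    [DTen.HasLBase ι] [DTen.HasLBase (algebraMap R A)] [DTen.HasLTen A]
    {Rψ : Dual.D (MvPolynomial (Fin n) R) ⥤ Dual.D A} (a : DRing.restrictD ψ ⊣ Rψ)
    {W : Dual.D A} (eW : W ≅ (Rψ.obj (DTen.unit (MvPolynomial (Fin n) R)))⟦(n : ℤ)⟧) (K : Dual.D R) :
    Nonempty ((Rψ.obj ((DTen.LBase ι).obj K))⟦(n : ℤ)⟧ ≅
      (DTen.LTen₂ A).obj ((DTen.LBase (algebraMap R A)).obj K, W)) := by
  haveI := hasLBase ψ
  obtain ⟨i⟩ := nonempty_shriek_iso_of_perfect (isPerfect_res_presentation n ψ hψ hR) a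
  obtain ⟨l⟩ := nonempty_LBase_comp ι ψ (algebraMap R A) (hι ▸ hR : ψ.comp ι = algebraMap R A)
  obtain ⟨t⟩ := nonempty_ten_shift ((DTen.LBase ψ).obj ((DTen.LBase ι).obj K))
    (Rψ.obj (DTen.unit (MvPolynomial (Fin n) R))) (n : ℤ)
  exact ⟨(shiftFunctor (Dual.D A) (n : ℤ)).mapIso (i.app _) ≪≫ t ≪≫
    (DTen.LTen₂ A).mapIso (Iso.prod (l.app K) eW.symm)⟩

end Groth.Agent.KFlatLib
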