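import Groth.Agent.KFlatLib.Ring.RelDualizing
import Groth.Agent.KFlatLib.Ring.DualizingCriterion
import Groth.Agent.KFlatLib.Ring.ResLBase
import Groth.Agent.KFlatLib.Ring.ShriekPerfect
import Groth.Agent.FlatLoc6.FiberRing
import Groth.Agent.LC.GorRing
import Mathlib.Algebra.Module.FinitePresentation
import Mathlib.RingTheory.Localization.BaseChange
import Mathlib.RingTheory.Support

/-!
# Gorenstein fibres and invertibility of the relative dualizing complex
-/

set_option linter.style.haveILetI false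
set_option backward.isDefEq.respectTransparency false

universe u

open CategoryTheory CategoryTheory.Limits MonoidalCategory
open scoped TensorProduct

attribute [local instance] HasDerivedCategory.standard

namespace Groth.Agent.KFlatLib

section Single

variable {A : Type u} [CommRing A]

lemma nonempty_unit_iso_inD (A : Type u) [CommRing A] : Nonempty (DTen.unit A ≅ Dual.inD A A) :=
  ⟨((DerivedCategory.singleFunctorIsoCompQ (ModuleCat.{u} A) 0).app (ModuleCat.of A A)).symm⟩

/-- A complex whose only cohomology is the ring in degree zero is the unit. -/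
lemma nonempty_iso_unit_of_hd (C : Dual.D A) (h : ∀ i : ℤ, i ≠ 0 → Subsingleton (Dual.HD A C i))
    (e : Dual.HD A C 0 ≃ₗ[A] A) : Nonempty (C ≅ DTen.unit A) := by
  haveI : C.IsGE 0 := (DerivedCategory.isGE_iff _ _).2 fun i hi =>
    @ModuleCat.isZero_of_subsingleton _ _ _ (h i (by omega))
  haveI : C.IsLE 0 := (DerivedCategory.isLE_iff _ _).2 fun i hi =>
    @ModuleCat.isZero_of_subsingleton _ _ _ (h i (by omega))
  obtain ⟨e₁⟩ := H9Misc.nonempty_iso_single_homology 0 C
  exact ⟨e₁ ≪≫ (DerivedCategory.singleFunctor (ModuleCat.{u} A) 0).mapIso e.toModuleIso ≪≫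
    (DerivedCategory.singleFunctorIsoCompQ (ModuleCat.{u} A) 0).app (ModuleCat.of A A)⟩

end Single

section Local

variable {L B : Type u} [CommRing L] [CommRing B] [IsLocalRing L] [IsLocalRing B] [IsNoetherianRing L]

/-- A complex which becomes the unit along a local map is the unit. -/
theorem nonempty_iso_unit_of_LBase (φ : L →+* B) [IsLocalHom φ] [DTen.HasLBase φ] (X : Dual.D L) (t : ℤ)
    [X.IsLE t] (hfin : ∀ i : ℤ, Module.Finite L (Dual.HD L X i))
    (h : (DTen.LBase φ).obj X ≅ DTen.unit B) : Nonempty (X ≅ DTen.unit L) := by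
  haveI := hasLTen L
  haveI := hasRHom (A := L)
  haveI := hasLTen₃ L
  haveI := isSymMonoidal L
  let κ := IsLocalRing.ResidueField L
  let κ' := IsLocalRing.ResidueField B
  letI : Algebra κ κ' := (IsLocalRing.ResidueField.map φ).toAlgebra
  haveI := hasLBase (IsLocalRing.residue B)
  haveI := hasLBase (algebraMap L κ)
  haveI := hasLBase (algebraMap κ κ')
  haveI := hasLBase ((IsLocalRing.residue B).comp φ)
  haveI : Module.Free κ κ' := Module.Free.of_divisionRing κ κ'
  haveI : Nontrivial κ' := inferInstanceAs (Nontrivial (IsLocalRing.ResidueField B))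
  haveI : Module.FaithfullyFlat κ κ' := Module.FaithfullyFlat.of_linearEquiv _ _ (Module.Free.chooseBasis κ κ').repr
  haveI : Module.Flat κ κ' := Module.Flat.of_free
  have hc : (algebraMap κ κ').comp (algebraMap L κ) = (IsLocalRing.residue B).comp φ := RingHom.ext fun _ => rfl
  obtain ⟨c₁⟩ := nonempty_LBase_comp (algebraMap L κ) (algebraMap κ κ') _ hc
  obtain ⟨c₂⟩ := nonempty_LBase_comp φ (IsLocalRing.residue B) _ rfl
  obtain ⟨u⟩ := nonempty_LBase_unit (IsLocalRing.residue B)
  let V := (DTen.LBase (algebraMap L κ)).obj X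
  let e' : (DTen.LBase (algebraMap κ κ')).obj V ≅ DTen.unit κ' :=
    c₁.app X ≪≫ (c₂.app X).symm ≪≫ (DTen.LBase _).mapIso h ≪≫ u
  obtain ⟨hU1, hU2, ⟨eU⟩⟩ := unit_bounds (A := κ')
  haveI := hU1
  haveI := hU2
  have hV : ∀ i : ℤ, i ≠ 0 → Subsingleton (Dual.HD κ V i) := fun i hi => by
    obtain ⟨e⟩ := exists_hdLBaseLEquiv (B := κ') V i
    haveI : Subsingleton (Dual.HD κ' (DTen.unit κ') i) := ModuleCat.subsingleton_of_isZero (by
      rcases lt_or_gt_of_ne hi with h | h
      · exact DerivedCategory.isZero_of_isGE _ 0 i h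
      · exact DerivedCategory.isZero_of_isLE _ 0 i h)
    have h0 := subsingleton_hd_of_iso e'.symm i inferInstance
    haveI := e.symm.injective.subsingleton
    exact Module.FaithfullyFlat.lTensor_reflects_triviality κ κ' _
  obtain ⟨hV0⟩ : Nonempty (Dual.HD κ V 0 ≃ₗ[κ] κ) := by
    obtain ⟨e⟩ := exists_hdLBaseLEquiv (B := κ') V 0
    let e₂ : κ' ⊗[κ] Dual.HD κ V 0 ≃ₗ[κ'] κ' :=
      e.symm.trans (((DerivedCategory.homologyFunctor (ModuleCat.{u} κ') 0).mapIso e').toLinearEquiv.trans eU)
    have h1 : Module.finrank κ (Dual.HD κ V 0) = 1 := by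
      rw [← Module.finrank_baseChange (R := κ'), e₂.finrank_eq, Module.finrank_self]
    haveI : Module.Finite κ (Dual.HD κ V 0) := Module.finite_of_finrank_eq_succ h1
    exact ⟨LinearEquiv.ofFinrankEq _ _ (h1.trans (Module.finrank_self κ).symm)⟩
  obtain ⟨eV⟩ := nonempty_iso_unit_of_hd V hV hV0
  obtain ⟨β⟩ := nonempty_resLBase_iso (algebraMap L κ)
  obtain ⟨r⟩ := nonempty_resUnit_iso (R := L) (A := κ)
  obtain ⟨u₀⟩ := nonempty_LBase_unit (algebraMap L κ)
  let T : Dual.D L := DerivedCategory.Q.obj (resUnitCx (algebraMap L κ))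
  let e₃ : (DTen.LTen₂ L).obj (X, Dual.inD L κ) ≅ Dual.inD L κ :=
    (DTen.LTen₂ L).mapIso (CategoryTheory.Iso.prod (Iso.refl X) r) ≪≫
      (β.app X).symm ≪≫ (DRing.restrictD _).mapIso (eV ≪≫ u₀.symm) ≪≫
      β.app (DTen.unit L) ≪≫ DTen.leftUnitor T ≪≫ r.symm
  exact nonempty_iso_unit_of_ten_residueField X t hfin e₃

/-- A complex which becomes a shift of the unit along a local map is a shift of the unit. -/
theorem nonempty_iso_shift_of_LBase (φ : L →+* B) [IsLocalHom φ] [DTen.HasLBase φ] (X : Dual.D L) (t : ℤ)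
    [X.IsLE t] (hfin : ∀ i : ℤ, Module.Finite L (Dual.HD L X i)) (m : ℤ)
    (h : (DTen.LBase φ).obj X ≅ (DTen.unit B)⟦m⟧) : Nonempty (X ≅ (DTen.unit L)⟦m⟧) := by
  haveI : (X⟦-m⟧).IsLE (t + m) := DerivedCategory.TStructure.t.isLE_shift X t (-m) (t + m) (by omega)
  obtain ⟨s⟩ := nonempty_LBase_shift φ (-m)
  obtain ⟨e⟩ := nonempty_iso_unit_of_LBase φ (X⟦-m⟧) (t + m) (fun i => by
    obtain ⟨e⟩ := exists_hdShiftLEquiv X (-m) i (-m + i) rfl
    haveI := hfin (-m + i)
    exact Module.Finite.equiv e.symm)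
    (s.app X ≪≫ (CategoryTheory.shiftFunctor _ (-m)).mapIso h ≪≫
      (shiftFunctorCompIsoId (Dual.D B) m (-m) (by omega)).app _)
  exact ⟨((shiftFunctorCompIsoId (Dual.D L) (-m) m (by omega)).app X).symm ≪≫
    (CategoryTheory.shiftFunctor _ m).mapIso e⟩

end Local

section Spread

variable {A : Type u} [CommRing A] [IsNoetherianRing A]

/-- A finite module free of rank one at a prime is free of rank one nearby, avoiding a given element. -/
lemma exists_away_linearEquiv (H : Type u) [AddCommGroup H] [Module A H] [Module.Finite A H]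
    (q : Ideal A) [q.IsPrime] (e : LocalizedModule q.primeCompl H ≃ₗ[Localization.AtPrime q] Localization.AtPrime q)
    (c : A) (hc : c ∉ q) :
    ∃ f : A, f ∉ q ∧ c ∣ f ∧ Nonempty (Localization.Away f ⊗[A] H ≃ₗ[Localization.Away f] Localization.Away f) := by
  haveI : Module.FinitePresentation A H := Module.finitePresentation_of_finite A H
  obtain ⟨x, s, hxs⟩ : ∃ (x : H) (s : q.primeCompl), e.symm 1 = LocalizedModule.mk x s := by
    induction e.symm 1 using LocalizedModule.induction_on with
    | _ x s => exact ⟨x, s, rfl⟩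
  let l : A →ₗ[A] H := LinearMap.toSpanSingleton A H x
  let α : Localization.AtPrime q →ₗ[A] LocalizedModule q.primeCompl H :=
    (e.symm.toLinearMap.restrictScalars A).comp ((s : A) • LinearMap.id)
  have hα : IsLocalizedModule.map q.primeCompl (Algebra.linearMap A (Localization.AtPrime q))
      (LocalizedModule.mkLinearMap q.primeCompl H) l = α := by
    refine IsLocalizedModule.ext q.primeCompl (Algebra.linearMap A (Localization.AtPrime q))
      (IsLocalizedModule.map_units (LocalizedModule.mkLinearMap q.primeCompl H)) ?_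
    refine LinearMap.ext_ring ?_
    have h1 : LocalizedModule.mk x (1 : q.primeCompl) = (s : A) • LocalizedModule.mk x s := by
      rw [LocalizedModule.smul'_mk, ← Submonoid.smul_def]
      exact (LocalizedModule.mk_cancel s x).symm
    simp only [LinearMap.comp_apply, IsLocalizedModule.map_apply, α]
    simp [l, h1, ← hxs]
  have hb : Function.Bijective (IsLocalizedModule.map q.primeCompl (Algebra.linearMap A (Localization.AtPrime q))
      (LocalizedModule.mkLinearMap q.primeCompl H) l) := by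
    rw [hα]
    exact e.symm.bijective.comp
      ((Module.End.isUnit_iff _).1 (IsLocalizedModule.map_units (Algebra.linearMap A (Localization.AtPrime q)) s))
  obtain ⟨r, hr, hbij⟩ := exists_bijective_map_powers q.primeCompl (Algebra.linearMap A (Localization.AtPrime q))
    (LocalizedModule.mkLinearMap q.primeCompl H) l hb
  refine ⟨r * c, fun h => ((Ideal.IsPrime.mem_or_mem ‹_› h).elim hr hc), dvd_mul_left c r, ⟨?_⟩⟩
  let g : LocalizedModule (Submonoid.powers (r * c)) A ≃ₗ[Localization (Submonoid.powers (r * c))]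
      LocalizedModule (Submonoid.powers (r * c)) H :=
    LinearEquiv.ofBijective _ (hbij (r * c) (dvd_mul_right r c))
  exact ((LocalizedModule.equivTensorProduct (Submonoid.powers (r * c)) H).symm.trans g.symm).trans
    ((LocalizedModule.equivTensorProduct (Submonoid.powers (r * c)) A).trans
      (TensorProduct.AlgebraTensorModule.rid A _ _))

/-- A shifted unit at a prime spreads to a basic open. -/
theorem exists_away_iso_shift (W : Dual.D A) (a b : ℤ) [W.IsGE a] [W.IsLE b]
    (hfin : ∀ i : ℤ, Module.Finite A (Dual.HD A W i)) (q : Ideal A) [q.IsPrime]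
    [DTen.HasLBase (algebraMap A (Localization.AtPrime q))] (m : ℤ)
    (h : (DTen.LBase (algebraMap A (Localization.AtPrime q))).obj W ≅ (DTen.unit (Localization.AtPrime q))⟦m⟧) :
    ∃ f : A, f ∉ q ∧ ∀ [DTen.HasLBase (algebraMap A (Localization.Away f))],
      Nonempty ((DTen.LBase (algebraMap A (Localization.Away f))).obj W ≅
        (DTen.unit (Localization.Away f))⟦m⟧) := by
  classical
  let Aq := Localization.AtPrime q
  obtain ⟨hU1, hU2, ⟨eU⟩⟩ := unit_bounds (A := Aq)
  haveI := hU1
  haveI := hU2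
  have key : ∀ i : ℤ, i ≠ -m → ∃ c : A, c ∉ q ∧ ∀ x : Dual.HD A W i, c • x = 0 := fun i hi => by
    obtain ⟨e⟩ := exists_hdLBaseLEquiv (B := Aq) W i
    obtain ⟨e'⟩ := exists_hdShiftLEquiv (DTen.unit Aq) m i (m + i) rfl
    haveI : Subsingleton (Dual.HD Aq (DTen.unit Aq) (m + i)) := ModuleCat.subsingleton_of_isZero (by
      rcases lt_or_gt_of_ne (show m + i ≠ 0 by omega) with h | h
      · exact DerivedCategory.isZero_of_isGE _ 0 _ h
      · exact DerivedCategory.isZero_of_isLE _ 0 _ h)
    have h0 := subsingleton_hd_of_iso h.symm i e'.injective.subsingleton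
    haveI := e.symm.injective.subsingleton
    haveI : Subsingleton (LocalizedModule q.primeCompl (Dual.HD A W i)) :=
      (LocalizedModule.equivTensorProduct q.primeCompl (Dual.HD A W i)).injective.subsingleton
    haveI := hfin i
    have hq := (Module.notMem_support_iff (p := (⟨q, ‹_›⟩ : PrimeSpectrum A))).2 ‹_›
    rw [Module.mem_support_iff_of_finite] at hq
    obtain ⟨c, hc, hcq⟩ := SetLike.not_le_iff_exists.1 hq
    exact ⟨c, hcq, Module.mem_annihilator.1 hc⟩
  choose c hcq hc using key
  let cc : ℤ → A := fun i => if hi : i = -m then 1 else c i hi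
  let c₀ : A := ∏ i ∈ Finset.Icc a b, cc i
  have hc₀ : c₀ ∉ q := by
    intro hmem
    obtain ⟨i, -, hi⟩ := (Ideal.IsPrime.prod_mem_iff (p := q)).1 hmem
    by_cases him : i = -m
    · simp [cc, him] at hi
      exact Ideal.IsPrime.ne_top ‹_› ((Ideal.eq_top_iff_one q).2 hi)
    · simp [cc, him] at hi
      exact hcq i him hi
  obtain ⟨e⟩ := exists_hdLBaseLEquiv (B := Aq) W (-m)
  obtain ⟨e'⟩ := exists_hdShiftLEquiv (DTen.unit Aq) m (-m) 0 (by omega)
  haveI := hfin (-m)
  obtain ⟨f, hfq, hcf, ⟨ef⟩⟩ := exists_away_linearEquiv (Dual.HD A W (-m)) q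
    ((LocalizedModule.equivTensorProduct q.primeCompl (Dual.HD A W (-m))).trans
      (e.symm.trans (((DerivedCategory.homologyFunctor (ModuleCat.{u} Aq) (-m)).mapIso h).toLinearEquiv.trans
        (e'.trans eU)))) c₀ hc₀
  refine ⟨f, hfq, ?_⟩
  intro _
  let Af := Localization.Away f
  haveI : IsLocalization.Away f Af := inferInstance
  let X := (DTen.LBase (algebraMap A Af)).obj W
  have hX : ∀ i : ℤ, i ≠ 0 → Subsingleton (Dual.HD Af (X⟦-m⟧) i) := fun i hi => by
    obtain ⟨e₁⟩ := exists_hdShiftLEquiv X (-m) i (-m + i) rfl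
    obtain ⟨e₂⟩ := exists_hdLBaseLEquiv (B := Af) W (-m + i)
    haveI : Subsingleton (Af ⊗[A] Dual.HD A W (-m + i)) := by
      by_cases hj : -m + i ∈ Finset.Icc a b
      · refine subsingleton_of_forall_eq 0 fun z => ?_
        have hne : -m + i ≠ -m := by omega
        have hu : IsUnit (algebraMap A Af (c (-m + i) hne)) := by
          refine isUnit_of_dvd_unit (map_dvd (algebraMap A Af) (dvd_trans ?_ hcf))
            (IsLocalization.Away.algebraMap_isUnit f)
          have := Finset.dvd_prod_of_mem cc hj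
          simpa [cc, hne] using this
        induction z with
        | zero => rfl
        | tmul y x =>
          obtain ⟨v, hv⟩ := hu.exists_left_inv
          have : y = c (-m + i) hne • (v * y) := by rw [Algebra.smul_def, ← mul_assoc, mul_comm _ v, hv, one_mul]
          rw [this, TensorProduct.smul_tmul, hc, TensorProduct.tmul_zero]
        | add y z hy hz => rw [hy, hz, add_zero]
      · haveI : Subsingleton (Dual.HD A W (-m + i)) := ModuleCat.subsingleton_of_isZero (by
          simp only [Finset.mem_Icc, not_and_or, not_le] at hj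
          rcases hj with h | h
          · exact DerivedCategory.isZero_of_isGE W a _ h
          · exact DerivedCategory.isZero_of_isLE W b _ h)
        infer_instance
    exact (e₁.trans e₂).injective.subsingleton
  obtain ⟨e₁⟩ := exists_hdShiftLEquiv X (-m) 0 (-m) (by omega)
  obtain ⟨e₂⟩ := exists_hdLBaseLEquiv (B := Af) W (-m)
  obtain ⟨eX⟩ := nonempty_iso_unit_of_hd (X⟦-m⟧) hX ((e₁.trans e₂).trans ef)
  exact ⟨((shiftFunctorCompIsoId (Dual.D Af) (-m) m (by omega)).app X).symm ≪≫
    (CategoryTheory.shiftFunctor _ m).mapIso eX⟩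

end Spread

section Fibre

variable {A C : Type u} [CommRing A] [CommRing C] (W : Dual.D A) (ι : A →+* C) [DTen.HasLBase ι]

/-- Gorenstein target and dualizing restriction give local invertibility. -/
theorem exists_away_iso_of_gorenstein_target [IsNoetherianRing A] (a b : ℤ) [W.IsGE a] [W.IsLE b]
    (hfin : ∀ i : ℤ, Module.Finite A (Dual.HD A W i)) (q : Ideal A) [q.IsPrime] (Q : Ideal C) [Q.IsPrime]
    (hQ : q = Q.comap ι) (hd : Dual.IsDualizing C ((DTen.LBase ι).obj W))
    (hG : LocCoh.IsGorensteinRing C) :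
    ∃ f : A, f ∉ q ∧ ∃ m : ℤ, ∀ [DTen.HasLBase (algebraMap A (Localization.Away f))],
      Nonempty ((DTen.LBase (algebraMap A (Localization.Away f))).obj W ≅
        (DTen.unit (Localization.Away f))⟦m⟧) := by
  haveI : IsNoetherianRing C := hd.isNoetherianRing
  let Aq := Localization.AtPrime q
  let CQ := Localization.AtPrime Q
  haveI : IsNoetherianRing CQ := IsLocalization.isNoetherianRing Q.primeCompl _ inferInstance
  haveI : IsNoetherianRing Aq := IsLocalization.isNoetherianRing q.primeCompl _ inferInstance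
  let φ : Aq →+* CQ := Localization.localRingHom q Q ι hQ
  haveI : IsLocalHom φ := Localization.isLocalHom_localRingHom q Q _ hQ
  haveI := hasLBase (R := C) (A := CQ) (algebraMap C CQ)
  haveI := hasLBase (algebraMap A Aq)
  haveI := hasLBase (R := Aq) (A := CQ) φ
  haveI := hasLBase (R := A) (A := CQ) ((algebraMap C CQ).comp ι)
  haveI := hasLTen CQ
  haveI := hasRHom (A := CQ)
  have hd' := isDualizing_LBase (B := CQ) hd fun n _ => ⟨_, IsLocalization.map_under Q.primeCompl CQ n⟩
  haveI hGQ : LocCoh.IsGorensteinLocalRing CQ := hG.isGorensteinLocalRing_localization Q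
  obtain ⟨iU⟩ := nonempty_unit_iso_inD CQ
  have hU : Dual.IsDualizing CQ (DTen.unit CQ) :=
    isDualizing_of_iso iU.symm ((LC.gorenstein_iff_isDualizing CQ).1 hGQ)
  obtain ⟨m, ⟨e⟩⟩ := exists_iso_shift_of_isDualizing hU hd'
  obtain ⟨c₁⟩ := nonempty_LBase_comp ι (algebraMap C CQ) _ rfl
  obtain ⟨c₂⟩ := nonempty_LBase_comp (algebraMap A Aq) φ ((algebraMap C CQ).comp ι)
    (RingHom.ext fun x => Localization.localRingHom_to_map q Q _ hQ x)
  haveI : ((DTen.LBase (algebraMap A Aq)).obj W).IsLE b := isLE_LBase W b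
  obtain ⟨e'⟩ := nonempty_iso_shift_of_LBase φ ((DTen.LBase (algebraMap A Aq)).obj W) b
    (fun i => finite_hd_LBase W i (hfin i)) m (c₂.app W ≪≫ (c₁.app W).symm ≪≫ e)
  obtain ⟨f, hf, hiso⟩ := exists_away_iso_shift W a b hfin q m e'
  exact ⟨f, hf, m, hiso⟩

/-- Local invertibility gives a Gorenstein target. -/
theorem gorenstein_target_of_away_iso (hd : Dual.IsDualizing C ((DTen.LBase ι).obj W))
    (hloc : ∀ q : PrimeSpectrum A, ∃ f : A, f ∉ q.asIdeal ∧ ∃ m : ℤ,
      ∀ [DTen.HasLBase (algebraMap A (Localization.Away f))],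
        Nonempty ((DTen.LBase (algebraMap A (Localization.Away f))).obj W ≅
          (DTen.unit (Localization.Away f))⟦m⟧)) :
    LocCoh.IsGorensteinRing C := by
  haveI : IsNoetherianRing C := hd.isNoetherianRing
  refine LC.gorensteinRing_of_atPrime fun Q _ => ?_
  obtain ⟨f, hf, m, hiso⟩ := hloc (PrimeSpectrum.comap ι ⟨Q, ‹_›⟩)
  let CQ := Localization.AtPrime Q
  let χ : A →+* CQ := (algebraMap C CQ).comp ι
  haveI : IsNoetherianRing CQ := IsLocalization.isNoetherianRing Q.primeCompl _ inferInstance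
  have hu : IsUnit (χ f) :=
    show IsUnit (algebraMap C CQ (ι f)) from IsLocalization.map_units CQ (⟨ι f, hf⟩ : Q.primeCompl)
  obtain ⟨ψ, hψc⟩ : ∃ ψ : Localization.Away f →+* CQ, ψ.comp (algebraMap A (Localization.Away f)) = χ :=
    ⟨IsLocalization.Away.lift f hu, IsLocalization.Away.lift_comp f hu⟩
  haveI := hasLBase (algebraMap A (Localization.Away f))
  haveI := hasLBase (R := C) (A := CQ) (algebraMap C CQ)
  haveI := hasLBase (R := Localization.Away f) (A := CQ) ψ
  haveI := hasLBase (R := A) (A := CQ) χ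
  haveI := hasLTen CQ
  haveI := hasRHom (A := CQ)
  obtain ⟨e⟩ := hiso
  obtain ⟨c₁⟩ := nonempty_LBase_comp ι (algebraMap C CQ) χ rfl
  obtain ⟨c₂⟩ := nonempty_LBase_comp (algebraMap A (Localization.Away f)) ψ χ hψc
  obtain ⟨s⟩ := nonempty_LBase_shift ψ m
  obtain ⟨u⟩ := nonempty_LBase_unit ψ
  obtain ⟨iU⟩ := nonempty_unit_iso_inD CQ
  have h0 := isDualizing_LBase (B := CQ) hd fun n _ => ⟨_, IsLocalization.map_under Q.primeCompl CQ n⟩
  let W₁ := (DTen.LBase χ).obj W
  let k₁ : (DTen.LBase (algebraMap C CQ)).obj ((DTen.LBase ι).obj W) ≅ W₁ := c₁.app W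
  let k₂ : W₁ ≅ (DTen.LBase ψ).obj ((DTen.LBase (algebraMap A (Localization.Away f))).obj W) := (c₂.app W).symm
  let k₃ : (DTen.LBase ψ).obj ((DTen.unit (Localization.Away f))⟦m⟧) ≅
      ((DTen.LBase ψ).obj (DTen.unit (Localization.Away f)))⟦m⟧ := s.app _
  have h1 : Dual.IsDualizing CQ ((DTen.unit CQ)⟦m⟧) :=
    isDualizing_of_iso (k₁ ≪≫ k₂ ≪≫ (DTen.LBase ψ).mapIso e ≪≫ k₃ ≪≫
      (CategoryTheory.shiftFunctor (Dual.D CQ) m).mapIso u) h0
  exact (LC.gorenstein_iff_isDualizing CQ).2 (isDualizing_of_iso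
    ((shiftFunctorCompIsoId (Dual.D CQ) m (-m) (by omega)).app _ ≪≫ iU) (isDualizing_shift h1 (-m)))

end Fibre

section FibreRing

variable {R A : Type u} [CommRing R] [CommRing A] [Algebra R A] (W : Dual.D A)

/-- Gorenstein fibre and dualizing restriction give local invertibility. -/
theorem exists_away_iso_of_gorenstein_fibre [IsNoetherianRing A] (a b : ℤ) [W.IsGE a] [W.IsLE b]
    (hfin : ∀ i : ℤ, Module.Finite A (Dual.HD A W i)) (q : Ideal A) [q.IsPrime] (p : Ideal R) [p.IsPrime]
    (hpq : q.comap (algebraMap R A) = p) [DTen.HasLBase (incRight R p.ResidueField A)]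
    (hd : Dual.IsDualizing (p.ResidueField ⊗[R] A) ((DTen.LBase (incRight R p.ResidueField A)).obj W))
    (hG : LocCoh.IsGorensteinRing (p.ResidueField ⊗[R] A)) :
    ∃ f : A, f ∉ q ∧ ∃ m : ℤ, ∀ [DTen.HasLBase (algebraMap A (Localization.Away f))],
      Nonempty ((DTen.LBase (algebraMap A (Localization.Away f))).obj W ≅
        (DTen.unit (Localization.Away f))⟦m⟧) := by
  obtain ⟨⟨Q, hQp⟩, hQ⟩ := FlatLoc6.exists_fiber_prime p q hpq
  exact exists_away_iso_of_gorenstein_target W (incRight R p.ResidueField A) a b hfin q Q hQ.symm hd hG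

/-- Local invertibility gives Gorenstein fibres. -/
theorem gorenstein_fibre_of_away_iso (p : Ideal R) [p.IsPrime] [DTen.HasLBase (incRight R p.ResidueField A)]
    (hd : Dual.IsDualizing (p.ResidueField ⊗[R] A) ((DTen.LBase (incRight R p.ResidueField A)).obj W))
    (hloc : ∀ q : PrimeSpectrum A, ∃ f : A, f ∉ q.asIdeal ∧ ∃ m : ℤ,
      ∀ [DTen.HasLBase (algebraMap A (Localization.Away f))],
        Nonempty ((DTen.LBase (algebraMap A (Localization.Away f))).obj W ≅
          (DTen.unit (Localization.Away f))⟦m⟧)) :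
    LocCoh.IsGorensteinRing (p.ResidueField ⊗[R] A) :=
  gorenstein_target_of_away_iso W (incRight R p.ResidueField A) hd hloc

end FibreRing

end Groth.Agent.KFlatLib
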