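import Groth.Agent.KFlatLib.Ring.FourTerm
import Groth.Agent.FlatModel.Open

/-!
# The four-term criterion at a prime
-/

set_option autoImplicit false
set_option linter.style.haveILetI false

universe u

open TensorProduct IsLocalRing

namespace Groth.Agent.KFlatLib

theorem exists_localizedQuotSMul {B : Type u} [CommRing B] (S : Submonoid B) (P : Ideal B) (E : Type u) [AddCommGroup E]
    [Module B E] : Nonempty (LocalizedModule S (E ⧸ (P • ⊤ : Submodule B E)) ≃ₗ[Localization S]
      LocalizedModule S E ⧸ (P.map (algebraMap B (Localization S)) • ⊤ :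
        Submodule (Localization S) (LocalizedModule S E))) := by
  refine ⟨(localizedQuotientEquiv S (P • ⊤ : Submodule B E)).symm.trans (Submodule.quotEquivOfEq _ _ ?_)⟩
  rw [Submodule.localized, Submodule.localized'_smul]
  congr 1
  · ext x
    rw [IsLocalization.mem_map_algebraMap_iff S]
    constructor
    · rintro ⟨r, hr, s, rfl⟩
      refine ⟨⟨⟨r, hr⟩, s⟩, ?_⟩
      rw [← IsLocalization.mk'_eq_mk']
      exact IsLocalization.mk'_spec _ r s
    · rintro ⟨⟨⟨r, hr⟩, s⟩, h⟩
      exact ⟨r, hr, s, by rw [← IsLocalization.mk'_eq_mk', eq_comm, IsLocalization.eq_mk'_iff_mul_eq]; exact h⟩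
  · exact eq_top_iff.2 fun z _ => by
      obtain ⟨⟨x, s⟩, rfl⟩ := IsLocalizedModule.mk'_surjective S (LocalizedModule.mkLinearMap S E) z
      exact ⟨x, trivial, s, rfl⟩

section AtPrime

variable {A B : Type u} [CommRing A] [CommRing B] [IsNoetherianRing A] [IsNoetherianRing B] [Algebra A B]
variable (J : Ideal B) (p : Ideal A) [p.IsPrime] (n : Ideal B) [n.IsPrime] (hn : n.comap (algebraMap A B) = p)
variable [Algebra (Localization.AtPrime p) (Localization.AtPrime n)] [n.LiesOver p]
  [Localization.AtPrime.IsLiesOverAlgebra p n]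

variable (E : Type u) [AddCommGroup E] [Module B E] [Module.Finite B E]

omit [IsNoetherianRing A] [IsNoetherianRing B] [Module.Finite B E] in
include hn in
theorem fibMod_eq :
    (EGA4.mB (Localization.AtPrime p) (Localization.AtPrime n) • ⊤ :
        Submodule (Localization.AtPrime n) (LocalizedModule n.primeCompl E)) =
      (n.comap (algebraMap A B)).map (algebraMap A (Localization.AtPrime n)) • ⊤ := by
  rw [EGA4.mB, FlatLoc6.map_maximalIdeal_eq (p := p) (q := n), hn]

include hn in
/-- Pointwise fibre depths give the depth of the closed fibre at a prime. -/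
theorem le_idealDepth_fibMod_atPrime (k : ℕ∞)
    (h : ∀ q : PrimeSpectrum B, J ≤ q.asIdeal → q.asIdeal ≤ n →
      k ≤ LocCoh.idealDepth (q.asIdeal.map (algebraMap B (EGA4.FibLocRing A B q.asIdeal))) (EGA4.FibLocMod A B q.asIdeal E)) :
    k ≤ LocCoh.idealDepth (J.map (algebraMap B (Localization.AtPrime n)))
      (EGA4.FibMod (Localization.AtPrime p) (Localization.AtPrime n) (LocalizedModule n.primeCompl E)) := by
  haveI : IsNoetherianRing (Localization.AtPrime n) := IsLocalization.isNoetherianRing n.primeCompl _ inferInstance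
  let P : Ideal B := p.map (algebraMap A B)
  let Ebar := E ⧸ (P • ⊤ : Submodule B E)
  haveI : Module.Finite (Localization.AtPrime n) (LocalizedModule n.primeCompl Ebar) :=
    Module.Finite.of_isLocalizedModule n.primeCompl (LocalizedModule.mkLinearMap _ _)
  haveI : Module.Finite (Localization.AtPrime n) (LocalizedModule n.primeCompl E) :=
    Module.Finite.of_isLocalizedModule n.primeCompl (LocalizedModule.mkLinearMap _ _)
  obtain ⟨e⟩ := exists_localizedQuotSMul n.primeCompl P E
  have hP : ∀ (q : Ideal B) [q.IsPrime],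
      P.map (algebraMap B (Localization.AtPrime q)) = p.map (algebraMap A (Localization.AtPrime q)) := fun q _ => by
    rw [Ideal.map_map, ← IsScalarTower.algebraMap_eq]
  rw [LC.idealDepth_congr _ (N := LocalizedModule n.primeCompl Ebar) (((Submodule.quotEquivOfEq _ _ (by
    rw [hP, fibMod_eq p n hn E, hn])).trans e.symm) : EGA4.FibMod (Localization.AtPrime p) (Localization.AtPrime n)
      (LocalizedModule n.primeCompl E) ≃ₗ[Localization.AtPrime n] LocalizedModule n.primeCompl Ebar)]
  suffices key : ∀ (q : Ideal B) [q.IsPrime], J ≤ q → q ≤ n →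
      k ≤ LocCoh.depth (Localization.AtPrime q) (LocalizedModule q.primeCompl Ebar) by
    rw [LC.idealDepth_eq_iInf_depth]
    refine le_iInf₂ fun Q hQ => ?_
    rw [Alg6.depth_locLoc]
    refine key _ (Ideal.map_le_iff_le_comap.1 hQ) fun x hx => ?_
    by_contra hxn
    exact Q.isPrime.ne_top (Ideal.eq_top_of_isUnit_mem _ hx
      (IsLocalization.map_units (Localization.AtPrime n) (⟨x, hxn⟩ : n.primeCompl)))
  intro q _ hJq hqn
  by_cases hs : (⟨q, inferInstance⟩ : PrimeSpectrum B) ∈ Module.support B Ebar
  · have hPq : P ≤ q := fun x hx => by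
      by_contra hxq
      obtain ⟨z, hz⟩ := Module.mem_support_iff'.1 hs
      obtain ⟨z, rfl⟩ := Submodule.Quotient.mk_surjective _ z
      exact hz x hxq ((Submodule.Quotient.mk_eq_zero _).2 (Submodule.smul_mem_smul hx trivial))
    have hpq : q.comap (algebraMap A B) = p :=
      le_antisymm ((Ideal.comap_mono hqn).trans hn.le) (Ideal.map_le_iff_le_comap.1 hPq)
    haveI := FlatLoc6.isLocalRing_fibLocRing (A := A) q
    have hk := h ⟨q, inferInstance⟩ hJq hqn
    rw [map_eq_maximalIdeal_fibLocRing q, show LocCoh.idealDepth (maximalIdeal (EGA4.FibLocRing A B q))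
      (EGA4.FibLocMod A B q E) = LocCoh.depth (EGA4.FibLocRing A B q) (EGA4.FibLocMod A B q E) from rfl,
      FlatLoc6.fibDepth_eq] at hk
    obtain ⟨e'⟩ := exists_localizedQuotSMul q.primeCompl P E
    refine hk.trans (le_of_eq (FlatLoc6.depth_congr' ?_).symm)
    exact e'.trans (Submodule.quotEquivOfEq _ _ (by rw [hP, hpq]))
  · haveI := Module.notMem_support_iff.1 hs
    rw [LocCoh.depth, LocCoh.idealDepth, if_pos (Subsingleton.elim _ _)]
    exact le_top

end AtPrime

variable {A B : Type u} [CommRing A] [CommRing B] [IsNoetherianRing A] [IsNoetherianRing B] [Algebra A B] (J : Ideal B)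
variable {F E0 E1 G : Type u}
  [AddCommGroup F] [Module B F] [Module A F] [IsScalarTower A B F] [Module.Finite B F]
  [AddCommGroup E0] [Module B E0] [Module A E0] [IsScalarTower A B E0] [Module.Finite B E0] [Module.Flat A E0]
  [AddCommGroup E1] [Module B E1] [Module A E1] [IsScalarTower A B E1] [Module.Finite B E1] [Module.Flat A E1]
  [AddCommGroup G] [Module B G] [Module A G] [IsScalarTower A B G] [Module.Finite B G]
  {f : F →ₗ[B] E0} {u : E0 →ₗ[B] E1} {v : E1 →ₗ[B] G}
  (hf : Function.Injective f) (hfu : Function.Exact f u) (huv : Function.Exact u v) (hv : Function.Surjective v)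

include hf hfu huv hv in
/-- The criterion at a prime, in both directions. -/
theorem fourTerm_atPrime (n : Ideal B) [n.IsPrime]
    (h0 : ∀ q : PrimeSpectrum B, J ≤ q.asIdeal → q.asIdeal ≤ n →
      2 ≤ LocCoh.idealDepth (q.asIdeal.map (algebraMap B (EGA4.FibLocRing A B q.asIdeal))) (EGA4.FibLocMod A B q.asIdeal E0))
    (h1 : ∀ q : PrimeSpectrum B, J ≤ q.asIdeal → q.asIdeal ≤ n →
      1 ≤ LocCoh.idealDepth (q.asIdeal.map (algebraMap B (EGA4.FibLocRing A B q.asIdeal))) (EGA4.FibLocMod A B q.asIdeal E1)) :
    (FlatCA.FlatAt A n G → FlatCA.FlatAt A n F ∧ (J = n →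
        2 ≤ LocCoh.idealDepth (n.map (algebraMap B (EGA4.FibLocRing A B n))) (EGA4.FibLocMod A B n F))) ∧
    ((∀ q : PrimeSpectrum B, ¬ J ≤ q.asIdeal → FlatCA.FlatAt A q.asIdeal G) →
      (∀ q : PrimeSpectrum B, J ≤ q.asIdeal → q.asIdeal ≤ n →
        2 ≤ LocCoh.idealDepth (q.asIdeal.map (algebraMap B (EGA4.FibLocRing A B q.asIdeal))) (EGA4.FibLocMod A B q.asIdeal F)) →
      FlatCA.FlatAt A n G) := by
  let p := n.comap (algebraMap A B)
  haveI : n.LiesOver p := ⟨rfl⟩
  letI := Localization.AtPrime.algebraOfLiesOver p n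
  haveI := FlatLoc6.isLocalHom_atPrime p n
  let A' := Localization.AtPrime p
  let B' := Localization.AtPrime n
  haveI : IsNoetherianRing A' := IsLocalization.isNoetherianRing p.primeCompl _ inferInstance
  haveI : IsNoetherianRing B' := IsLocalization.isNoetherianRing n.primeCompl _ inferInstance
  letI : Module A' (LocalizedModule n.primeCompl F) := Module.compHom _ (algebraMap A' B')
  letI : Module A' (LocalizedModule n.primeCompl E0) := Module.compHom _ (algebraMap A' B')
  letI : Module A' (LocalizedModule n.primeCompl E1) := Module.compHom _ (algebraMap A' B')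
  letI : Module A' (LocalizedModule n.primeCompl G) := Module.compHom _ (algebraMap A' B')
  haveI : IsScalarTower A' B' (LocalizedModule n.primeCompl F) := IsScalarTower.of_algebraMap_smul fun _ _ => rfl
  haveI : IsScalarTower A' B' (LocalizedModule n.primeCompl E0) := IsScalarTower.of_algebraMap_smul fun _ _ => rfl
  haveI : IsScalarTower A' B' (LocalizedModule n.primeCompl E1) := IsScalarTower.of_algebraMap_smul fun _ _ => rfl
  haveI : IsScalarTower A' B' (LocalizedModule n.primeCompl G) := IsScalarTower.of_algebraMap_smul fun _ _ => rfl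
  haveI : IsScalarTower A A' (LocalizedModule n.primeCompl F) := IsScalarTower.of_algebraMap_smul fun a x => by
    show algebraMap A' B' (algebraMap A A' a) • x = a • x
    rw [← IsScalarTower.algebraMap_apply, algebraMap_smul]
  haveI : IsScalarTower A A' (LocalizedModule n.primeCompl E0) := IsScalarTower.of_algebraMap_smul fun a x => by
    show algebraMap A' B' (algebraMap A A' a) • x = a • x
    rw [← IsScalarTower.algebraMap_apply, algebraMap_smul]
  haveI : IsScalarTower A A' (LocalizedModule n.primeCompl E1) := IsScalarTower.of_algebraMap_smul fun a x => by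
    show algebraMap A' B' (algebraMap A A' a) • x = a • x
    rw [← IsScalarTower.algebraMap_apply, algebraMap_smul]
  haveI : IsScalarTower A A' (LocalizedModule n.primeCompl G) := IsScalarTower.of_algebraMap_smul fun a x => by
    show algebraMap A' B' (algebraMap A A' a) • x = a • x
    rw [← IsScalarTower.algebraMap_apply, algebraMap_smul]
  haveI : Module.Finite B' (LocalizedModule n.primeCompl F) :=
    Module.Finite.of_isLocalizedModule n.primeCompl (LocalizedModule.mkLinearMap _ _)
  haveI : Module.Finite B' (LocalizedModule n.primeCompl E0) :=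
    Module.Finite.of_isLocalizedModule n.primeCompl (LocalizedModule.mkLinearMap _ _)
  haveI : Module.Finite B' (LocalizedModule n.primeCompl E1) :=
    Module.Finite.of_isLocalizedModule n.primeCompl (LocalizedModule.mkLinearMap _ _)
  haveI : Module.Finite B' (LocalizedModule n.primeCompl G) :=
    Module.Finite.of_isLocalizedModule n.primeCompl (LocalizedModule.mkLinearMap _ _)
  haveI : Module.Flat A' (LocalizedModule n.primeCompl E0) :=
    (Module.flat_iff_of_isLocalization A' p.primeCompl _).mpr (flat_localized n.primeCompl E0)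
  haveI : Module.Flat A' (LocalizedModule n.primeCompl E1) :=
    (Module.flat_iff_of_isLocalization A' p.primeCompl _).mpr (flat_localized n.primeCompl E1)
  let J' := J.map (algebraMap B B')
  let f' := LocalizedModule.map n.primeCompl f
  let u' := LocalizedModule.map n.primeCompl u
  let v' := LocalizedModule.map n.primeCompl v
  have hf' : Function.Injective f' := LocalizedModule.map_injective _ f hf
  have hfu' : Function.Exact f' u' := LocalizedModule.map_exact _ f u hfu
  have huv' : Function.Exact u' v' := LocalizedModule.map_exact _ u v huv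
  have hv' : Function.Surjective v' := LocalizedModule.map_surjective _ v hv
  have d0 := le_idealDepth_fibMod_atPrime J p n rfl E0 2 h0
  have d1 := le_idealDepth_fibMod_atPrime J p n rfl E1 1 h1
  refine ⟨fun hG => ?_, fun hGU hF => ?_⟩
  · haveI : Module.Flat A' (LocalizedModule n.primeCompl G) :=
      (Module.flat_iff_of_isLocalization A' p.primeCompl _).mpr hG
    haveI : Module.Flat A' (LinearMap.range u') := flat_of_flat_quotient
      (f := (LinearMap.range u').subtype.restrictScalars A') (g := v'.restrictScalars A') Subtype.val_injective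
      (fun z => (huv' z).trans ⟨fun ⟨w, hw⟩ => ⟨⟨z, w, hw⟩, rfl⟩, fun ⟨w, hw⟩ => hw ▸ w.2⟩) hv'
    have hexF : Function.Exact f' u'.rangeRestrict := fun z =>
      ⟨fun h => (hfu' z).1 (congrArg Subtype.val h), fun h => Subtype.ext ((hfu' z).2 h)⟩
    have hflatF : Module.Flat A' (LocalizedModule n.primeCompl F) := flat_of_flat_quotient
      (f := f'.restrictScalars A') (g := u'.rangeRestrict.restrictScalars A') hf' hexF u'.surjective_rangeRestrict
    refine ⟨(Module.flat_iff_of_isLocalization A' p.primeCompl _).mp hflatF, fun hJn => ?_⟩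
    have hF2 := (flat_ker_of_flat J' hf' hfu' huv' hv' d0 d1).2
    haveI := FlatLoc6.isLocalRing_fibLocRing (A := A) n
    rw [map_eq_maximalIdeal_fibLocRing n, show LocCoh.idealDepth (maximalIdeal (EGA4.FibLocRing A B n))
      (EGA4.FibLocMod A B n F) = LocCoh.depth (EGA4.FibLocRing A B n) (EGA4.FibLocMod A B n F) from rfl,
      FlatLoc6.fibDepth_eq]
    refine le_of_le_of_eq hF2 ?_
    show LocCoh.idealDepth J' _ = LocCoh.idealDepth (maximalIdeal (Localization.AtPrime n)) _
    rw [show J' = maximalIdeal B' by simp only [J', hJn]; exact Localization.AtPrime.map_eq_maximalIdeal]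
    exact LC.idealDepth_congr _ (Submodule.quotEquivOfEq _ _ (fibMod_eq p n rfl F))
  · have hGU' : ∀ Q : PrimeSpectrum B', ¬ J' ≤ Q.asIdeal →
        FlatCA.FlatAt A' Q.asIdeal (LocalizedModule n.primeCompl G) := fun Q hQ => by
      let q := Q.asIdeal.comap (algebraMap B B')
      have hq : ¬ J ≤ q := fun h => hQ (Ideal.map_le_iff_le_comap.2 h)
      haveI hflat : Module.Flat A (LocalizedModule q.primeCompl G) := hGU ⟨q, inferInstance⟩ hq
      refine (Module.flat_iff_of_isLocalization A' p.primeCompl _).mpr ?_
      exact Module.Flat.of_linearEquiv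
        (((IsLocalizedModule.iso q.primeCompl (Alg6.locLocMap n.primeCompl G Q.asIdeal)).restrictScalars A).symm)
    have dF := le_idealDepth_fibMod_atPrime J p n rfl F 2 hF
    exact (Module.flat_iff_of_isLocalization A' p.primeCompl _).mp
      (flat_coker_of_fibMod J' hf' hfu' huv' hv' hGU' d0 dF).1

end Groth.Agent.KFlatLib
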