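import Groth.Agent.KFlatLib.Ring.RHomFinite
import Groth.Agent.H9Misc.TFactor
import Groth.Agent.H9Misc.Split
import Mathlib.Algebra.Category.ModuleCat.Monoidal.Basic

/-!
# Linearity of the derived tensor product and derived hom; maps in cohomology
-/

set_option linter.style.haveILetI false
set_option backward.isDefEq.respectTransparency false

universe u v w

open CategoryTheory CategoryTheory.Limits Pretriangulated MonoidalCategory

attribute [local instance] HasDerivedCategory.standard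

namespace Groth.Agent.KFlatLib

section Heart

variable {C : Type u} [Category.{v} C] [Abelian C] [HasDerivedCategory.{w} C]

open DerivedCategory

/-- Maps from `≤ m` to `≥ m` are maps in cohomology of degree `m`. -/
lemma bijective_homologyMap (m : ℤ) {X Y : DerivedCategory C} [X.IsLE m] [Y.IsGE m] :
    Function.Bijective fun f : X ⟶ Y => (homologyFunctor C m).map f := by
  let H := homologyFunctor C m
  refine ⟨fun f g h => sub_eq_zero.1 (H9Misc.zero_of_homologyMap m _ (by
    rw [Functor.map_sub]; exact sub_eq_zero.2 h)), fun h => ?_⟩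
  let t := TStructure.t (C := C)
  let X' := (t.truncGE m).obj X
  let Y' := (t.truncLT (m + 1)).obj Y
  let π : X ⟶ X' := (t.truncGEπ m).app X
  let ι : Y' ⟶ Y := (t.truncLTι (m + 1)).app Y
  haveI : X'.IsLE m := inferInstanceAs (t.IsLE ((t.truncGE m).obj X) m)
  haveI : X'.IsGE m := t.isGE_truncGE_obj ..
  haveI : Y'.IsLE m := t.isLE_truncLT_obj ..
  haveI : Y'.IsGE m := inferInstanceAs (t.IsGE ((t.truncLT (m + 1)).obj Y) m)
  haveI : IsIso (H.map π) := H9Misc.isIso_map_truncGEπ m m le_rfl X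
  haveI : IsIso (H.map ι) := H9Misc.isIso_map_truncLTι (m + 1) m (lt_add_one m) Y
  obtain ⟨P, ⟨eP⟩⟩ := exists_iso_singleFunctor_obj_of_isGE_of_isLE X' m
  obtain ⟨Q, ⟨eQ⟩⟩ := exists_iso_singleFunctor_obj_of_isGE_of_isLE Y' m
  let e := singleFunctorCompHomologyFunctorIso C m
  let φ : P ⟶ Q := e.inv.app P ≫ H.map eP.inv ≫ inv (H.map π) ≫ h ≫ inv (H.map ι) ≫ H.map eQ.hom ≫
    e.hom.app Q
  refine ⟨π ≫ (eP.hom ≫ (singleFunctor C m).map φ ≫ eQ.inv) ≫ ι, ?_⟩
  have hn : H.map ((singleFunctor C m).map φ) = e.hom.app P ≫ φ ≫ e.inv.app Q := by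
    have := e.hom.naturality φ
    simp only [Functor.comp_map, Functor.id_map] at this
    rw [← reassoc_of% this]
    exact (Category.comp_id _).symm.trans (congrArg (_ ≫ ·) (e.hom_inv_id_app Q).symm)
  simp only [Functor.map_comp]
  rw [hn]
  simp only [φ, Category.assoc, Iso.hom_inv_id_app, Iso.hom_inv_id_app_assoc]
  erw [Category.id_comp]
  have h1 : H.map eP.hom ≫ H.map eP.inv = 𝟙 _ := by
    rw [← Functor.map_comp, eP.hom_inv_id, CategoryTheory.Functor.map_id]
  have h2 : H.map eQ.hom ≫ H.map eQ.inv = 𝟙 _ := by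
    rw [← Functor.map_comp, eQ.hom_inv_id, CategoryTheory.Functor.map_id]
  change H.map π ≫ H.map eP.hom ≫ H.map eP.inv ≫ inv (H.map π) ≫ h ≫ inv (H.map ι) ≫
    H.map eQ.hom ≫ H.map eQ.inv ≫ H.map ι = h
  rw [reassoc_of% h1, IsIso.hom_inv_id_assoc, reassoc_of% h2, IsIso.inv_hom_id, Category.comp_id]

end Heart

variable {A : Type u} [CommRing A] [DTen.HasLTen A]

/-- A scalar on the first complex is a scalar on the tensor product. -/
lemma tensorT_map_smul_id (r : A) (K L : DRing.Cx A) :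
    (DTen.tensorT A).map (Prod.mkHom (r • 𝟙 K) (𝟙 L)) = r • 𝟙 _ := by
  refine HomologicalComplex.hom_ext _ _ fun j => HomologicalComplex.mapBifunctor.hom_ext fun p q h => ?_
  change HomologicalComplex.ιMapBifunctor K L (curriedTensor (ModuleCat.{u} A)) (ComplexShape.up ℤ) p q j h ≫
      (HomologicalComplex.mapBifunctorMap (r • 𝟙 K) (𝟙 L) (curriedTensor (ModuleCat.{u} A)) (ComplexShape.up ℤ) ≫
        HomologicalComplex.mapBifunctorMap (𝟙 K) (𝟙 L) (curriedTensor (ModuleCat.{u} A)) (ComplexShape.up ℤ)).f j = _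
  rw [HomologicalComplex.comp_f, ← Category.assoc, HomologicalComplex.ι_mapBifunctorMap, Category.assoc,
    Category.assoc, HomologicalComplex.ι_mapBifunctorMap]
  simp only [HomologicalComplex.smul_f_apply, HomologicalComplex.id_f, CategoryTheory.Functor.map_id,
    Category.id_comp, Linear.comp_smul, Category.comp_id]
  change (r • 𝟙 (K.X p)) ▷ L.X q ≫ _ = _
  rw [MonoidalLinear.smul_whiskerRight, MonoidalCategory.id_whiskerRight, Linear.smul_comp, Category.id_comp]
  erw [Category.comp_id]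
  exact congrArg (r • ·) (Category.id_comp _)

/-- A scalar on the first object is a scalar on the derived tensor product. -/
lemma ten_smul_id (r : A) (X E : Dual.D A) :
    (DTen.LTen₂ A).map (Prod.mkHom (r • 𝟙 X) (𝟙 E)) = r • 𝟙 _ := by
  let K := flatRep X
  let eX : DerivedCategory.Q.obj K ≅ X := flatRepIso X
  let L := DerivedCategory.Q.objPreimage E
  let eE : DerivedCategory.Q.obj L ≅ E := DerivedCategory.Q.objObjPreimageIso E
  suffices h : (DTen.LTen₂ A).map (Prod.mkHom (r • 𝟙 (DerivedCategory.Q.obj K)) (𝟙 (DerivedCategory.Q.obj L))) =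
      r • 𝟙 _ by
    let e := (DTen.LTen₂ A).mapIso (Iso.prod eX eE)
    have hc : (DTen.LTen₂ A).map (Prod.mkHom (r • 𝟙 (DerivedCategory.Q.obj K)) (𝟙 (DerivedCategory.Q.obj L))) ≫
        e.hom = e.hom ≫ (DTen.LTen₂ A).map (Prod.mkHom (r • 𝟙 X) (𝟙 E)) := by
      simp only [e, Functor.mapIso_hom]
      rw [← Functor.map_comp, ← Functor.map_comp]
      exact congrArg _ (Prod.ext (by simp) (by simp))
    rw [h, Linear.smul_comp, Category.id_comp] at hc
    rw [← cancel_epi e.hom, ← hc, Linear.comp_smul, Category.comp_id]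
  haveI : IsIso ((DTen.ε A).app (K, L)) := isIso_ε (A := A) (kFlat_ringRes _) L
  have hn := (DTen.ε A).naturality (Prod.mkHom (r • 𝟙 K) (𝟙 L))
  have hQ : DerivedCategory.Q.map (r • 𝟙 K) = r • 𝟙 (DerivedCategory.Q.obj K) := by
    rw [Functor.map_smul, CategoryTheory.Functor.map_id]
  have ht : (DTen.tensor₂ A).map (Prod.mkHom (r • 𝟙 K) (𝟙 L)) = r • 𝟙 ((DTen.tensor₂ A).obj (K, L)) := by
    change DerivedCategory.Q.map ((DTen.tensorT A).map (Prod.mkHom (r • 𝟙 K) (𝟙 L))) = _
    rw [tensorT_map_smul_id, Functor.map_smul, CategoryTheory.Functor.map_id]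
    rfl
  rw [← cancel_mono ((DTen.ε A).app (K, L)), Linear.smul_comp, Category.id_comp]
  refine Eq.trans ?_ (hn.trans ((congrArg (_ ≫ ·) ht).trans ?_))
  · refine congrArg (fun z => (DTen.LTen₂ A).map z ≫ _) (Prod.ext hQ.symm (DerivedCategory.Q.map_id L).symm)
  · rw [Linear.comp_smul, Category.comp_id]

/-- Derived tensor product is linear in the first variable. -/
lemma ten_smul (r : A) {X X' : Dual.D A} (f : X ⟶ X') (E : Dual.D A) :
    (DTen.tensorRightD A E).map (r • f) = r • (DTen.tensorRightD A E).map f := by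
  have : r • f = f ≫ (r • 𝟙 X') := by simp
  rw [this, Functor.map_comp]
  change _ ≫ (DTen.LTen₂ A).map (Prod.mkHom (r • 𝟙 X') (𝟙 E)) = _
  rw [ten_smul_id, Linear.comp_smul, Category.comp_id]

variable [DTen.HasRHom A]

/-- The adjunction of tensor and hom is linear. -/
noncomputable def rhomLEquiv (K L M : Dual.D A) :
    ((DTen.LTen₂ A).obj (K, L) ⟶ M) ≃ₗ[A] (K ⟶ (DTen.RHomR A L).obj M) :=
  LinearEquiv.symm
    { toFun := fun g => (DTen.rhomHomEquiv K L M).symm g
      invFun := fun f => DTen.rhomHomEquiv K L M f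
      left_inv := fun g => Equiv.apply_symm_apply _ g
      right_inv := fun f => Equiv.symm_apply_apply _ f
      map_add' := fun g g' => by
        haveI := preservesBinaryBiproducts_of_preservesBinaryCoproducts (DTen.tensorRightD A L)
        haveI : (DTen.tensorRightD A L).Additive := Functor.additive_of_preservesBinaryBiproducts _
        simp only [DTen.rhomHomEquiv]
        erw [Adjunction.homEquiv_counit, Adjunction.homEquiv_counit, Adjunction.homEquiv_counit]
        rw [Functor.map_add, Preadditive.add_comp]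
      map_smul' := fun r g => by
        simp only [DTen.rhomHomEquiv, RingHom.id_apply]
        erw [Adjunction.homEquiv_counit, Adjunction.homEquiv_counit]
        rw [ten_smul, Linear.smul_comp] }

omit [DTen.HasLTen A] [DTen.HasRHom A] in
/-- Evaluation at the generator. -/
lemma exists_homUnitLEquiv (Y : Dual.D A) (j n : ℤ) (hn : j + n = 0) :
    Nonempty (((DTen.unit A)⟦j⟧ ⟶ Y) ≃ₗ[A] Dual.HD A Y n) := by
  obtain rfl : n = -j := by omega
  obtain ⟨eU⟩ := nonempty_unit_shift_iso (A := A) j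
  let G := DerivedCategory.Q.obj (H9Misc.BrownGroth.gen A (-j))
  let H := DerivedCategory.homologyFunctor (ModuleCat.{u} A) (-j)
  let eG : H.obj G ≅ ModuleCat.of A A :=
    (DerivedCategory.homologyFunctorFactors _ (-j)).app (H9Misc.BrownGroth.gen A (-j)) ≪≫
      HomologicalComplex.singleObjHomologySelfIso (ComplexShape.up ℤ) (-j) (ModuleCat.of A A)
  haveI : G.IsLE (-j) := (DerivedCategory.isLE_Q_obj_iff _ _).2 inferInstance
  let t := DerivedCategory.TStructure.t (C := ModuleCat.{u} A)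
  let Y' := (t.truncGE (-j)).obj Y
  let π : Y ⟶ Y' := (t.truncGEπ (-j)).app Y
  haveI : Y'.IsGE (-j) := t.isGE_truncGE_obj ..
  haveI : IsIso (H.map π) := H9Misc.isIso_map_truncGEπ (-j) (-j) le_rfl Y
  have hinj : Function.Bijective fun φ : G ⟶ Y => H.map φ := by
    refine ⟨fun φ ψ h => sub_eq_zero.1 (eq_zero_of_homologyMap_eq_zero _ _ (by
      rw [Functor.map_sub]; exact sub_eq_zero.2 h)), fun h => ?_⟩
    obtain ⟨ψ, hψ⟩ := (bijective_homologyMap (-j) (X := G) (Y := Y')).2 (h ≫ H.map π)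
    have hT := rot_of_distTriang _ (t.triangleLTGE_distinguished (-j) Y)
    obtain ⟨φ, hφ⟩ := Triangle.coyoneda_exact₂ _ hT ψ (by
      rw [← cancel_epi eU.hom]
      haveI : ((t.truncLT (-j)).obj Y).IsLE (-j - 1) := t.isLE_truncLT_obj ..
      haveI := t.isLE_shift ((t.truncLT (-j)).obj Y) (-j - 1) 1 (-j - 2) (by omega)
      exact (eq_zero_of_isLE_unit (((t.truncLT (-j)).obj Y)⟦(1 : ℤ)⟧) j (-j - 2) (by omega) _).trans
        comp_zero.symm)
    refine ⟨φ, (cancel_mono (H.map π)).1 ?_⟩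
    change H.map φ ≫ H.map π = h ≫ H.map π
    rw [← Functor.map_comp]
    exact (congrArg H.map hφ.symm).trans hψ
  let Φ : ((DTen.unit A)⟦j⟧ ⟶ Y) →ₗ[A] Dual.HD A Y (-j) :=
    { toFun := fun φ => (eG.inv ≫ H.map (eU.inv ≫ φ)).hom (1 : A)
      map_add' := fun φ ψ => by simp [G, H]
      map_smul' := fun r φ => by simp [G, H] }
  refine ⟨LinearEquiv.ofBijective Φ ⟨fun φ ψ h => ?_, fun y => ?_⟩⟩
  · rw [← cancel_epi eU.inv]
    refine hinj.1 ((cancel_epi eG.inv).1 ?_)
    exact ModuleCat.hom_ext (LinearMap.ext_ring h)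
  · obtain ⟨φ, hφ⟩ := hinj.2 (eG.hom ≫ ModuleCat.ofHom (LinearMap.toSpanSingleton A _ y))
    refine ⟨eU.hom ≫ φ, ?_⟩
    change (eG.inv ≫ H.map (eU.inv ≫ eU.hom ≫ φ)).hom (1 : A) = y
    rw [eU.inv_hom_id_assoc, show H.map φ = _ from hφ, eG.inv_hom_id_assoc]
    exact one_smul A y

/-- Cohomology of derived hom. -/
lemma exists_hdRHomLEquiv (X Y : Dual.D A) (n : ℤ) :
    Nonempty (Dual.HD A ((DTen.RHomR A X).obj Y) n ≃ₗ[A] (X⟦-n⟧ ⟶ Y)) := by
  haveI := hasLTen₃ A
  haveI := isSymMonoidal A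
  obtain ⟨e⟩ := nonempty_tensorLeft_shift_unit_iso (A := A) (-n)
  obtain ⟨u⟩ := exists_homUnitLEquiv ((DTen.RHomR A X).obj Y) (-n) n (by omega)
  let c : ((DTen.LTen₂ A).obj ((DTen.unit A)⟦-n⟧, X) ⟶ Y) ≃ₗ[A] (X⟦-n⟧ ⟶ Y) :=
    Linear.homCongr A (e.app X) (Iso.refl Y)
  exact ⟨u.symm.trans ((rhomLEquiv _ X Y).symm.trans c)⟩

end Groth.Agent.KFlatLib
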