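import Groth.Agent.KFlatLib.Ring.DualizingMatlis
import Groth.Agent.KFlatLib.Ring.DualizingDepth
import Groth.Agent.KFlatLib.Ring.DualizingDimension
import Groth.Agent.LC.CohBasic
import Groth.Agent.LC.CohTorsion
import Mathlib.Algebra.Homology.DerivedCategory.Ext.Linear
import Mathlib.Algebra.Homology.DerivedCategory.Ext.ExactSequences
import Mathlib.RingTheory.Ideal.AssociatedPrime.Finiteness

/-!
# Local duality for a normalized dualizing complex
-/

set_option linter.style.haveILetI false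
set_option backward.isDefEq.respectTransparency false

universe u

open CategoryTheory CategoryTheory.Limits Pretriangulated IsLocalRing Opposite

attribute [local instance] HasDerivedCategory.standard

namespace Groth.Agent.KFlatLib

variable {A : Type u} [CommRing A] [IsLocalRing A]

/-- Local cohomology of a module through the maps in the derived category. -/
theorem exists_tmEquivH (M : Type u) [AddCommGroup M] [Module A M] (i : ℕ) :
    Nonempty (LocCoh.H (maximalIdeal A) i M ≃ₗ[A] Tm ((Dual.inD A M)⟦(i : ℤ)⟧)) := by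
  let K := (Dual.inD A M)⟦(i : ℤ)⟧
  let h : ∀ n, Abelian.Ext (LC.qObj (maximalIdeal A) n) (ModuleCat.of A M) i ≃ₗ[A]
      (Dual.inD A (A ⧸ maximalIdeal A ^ n) ⟶ K) := fun n => Abelian.Ext.homLinearEquiv
  have hh : ∀ (n m : ℕ) (hnm : n ≤ m) (x : Abelian.Ext (LC.qObj (maximalIdeal A) n) (ModuleCat.of A M) i),
      h m (LC.res (maximalIdeal A) hnm i _ x) = inDMap (quotPow hnm) ≫ h n x := fun n m hnm x =>
    (Abelian.Ext.singleFunctor_map_comp_hom (LC.qMap (maximalIdeal A) hnm) x).symm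
  obtain ⟨Φ, hΦ⟩ := LC.exists_descH (maximalIdeal A) i (M := ModuleCat.of A M)
    (fun n => (toTm K n) ∘ₗ (h n).toLinearMap) (fun n m hnm x => by
      show toTm K m (h m _) = toTm K n (h n x)
      rw [hh, toTm_quotPow])
  refine ⟨LinearEquiv.ofBijective Φ ⟨?_, fun w => ?_⟩⟩
  · rw [injective_iff_map_eq_zero]
    intro z hz
    obtain ⟨n, x, rfl⟩ := LC.exists_toH (maximalIdeal A) i z
    rw [hΦ] at hz
    obtain ⟨l, h1, h2, he⟩ := (toTm_eq_iff K (h n x) (0 : Dual.inD A (A ⧸ maximalIdeal A ^ n) ⟶ K)).1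
      (hz.trans (map_zero _).symm)
    rw [comp_zero] at he
    refine (LC.toH_eq_zero_iff (maximalIdeal A) i x).2 ⟨l, h1, (h l).injective ?_⟩
    rw [hh, map_zero]
    exact he
  · obtain ⟨n, u, rfl⟩ := exists_toTm K w
    obtain ⟨x, rfl⟩ := (h n).surjective u
    exact ⟨_, hΦ n x⟩

/-- The maps into the colimit are additive and linear in the morphism. -/
lemma tmMap_add {K L : Dual.D A} (g g' : K ⟶ L) : tmMap (g + g') = tmMap g + tmMap g' :=
  LinearMap.ext fun w => by
    obtain ⟨n, u, rfl⟩ := exists_toTm K w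
    simp [tmMap_toTm, Preadditive.comp_add]

lemma tmMap_smul {K L : Dual.D A} (r : A) (g : K ⟶ L) : tmMap (r • g) = r • tmMap g :=
  LinearMap.ext fun w => by
    obtain ⟨n, u, rfl⟩ := exists_toTm K w
    simp [tmMap_toTm, Linear.comp_smul]

lemma tmMap_comp {K L N : Dual.D A} (g : K ⟶ L) (g' : L ⟶ N) (w : Tm K) :
    tmMap (g ≫ g') w = tmMap g' (tmMap g w) := by
  obtain ⟨n, u, rfl⟩ := exists_toTm K w
  simp [tmMap_toTm]

lemma tmMap_zero {K L : Dual.D A} (w : Tm K) : tmMap (0 : K ⟶ L) w = 0 := by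
  obtain ⟨n, u, rfl⟩ := exists_toTm K w
  rw [tmMap_toTm, comp_zero, map_zero]

/-- Exactness in a triangle. -/
lemma tm_exact {T : Triangle (Dual.D A)} (hT : T ∈ distTriang (Dual.D A)) (w : Tm T.obj₂)
    (hw : tmMap T.mor₂ w = 0) : ∃ v, tmMap T.mor₁ v = w := by
  obtain ⟨n, u, rfl⟩ := exists_toTm T.obj₂ w
  rw [tmMap_toTm] at hw
  obtain ⟨l, h1, h2, he⟩ := (toTm_eq_iff T.obj₃ (u ≫ T.mor₂)
    (0 : Dual.inD A (A ⧸ maximalIdeal A ^ n) ⟶ T.obj₃)).1 (hw.trans (map_zero _).symm)
  rw [comp_zero, ← Category.assoc] at he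
  obtain ⟨g, hg⟩ := Triangle.coyoneda_exact₂ T hT _ he
  exact ⟨toTm T.obj₁ l g, by rw [tmMap_toTm, ← hg, toTm_quotPow]⟩

/-- Elements of the colimit are torsion. -/
lemma isPowerTorsion_tm (K : Dual.D A) : LocCoh.IsPowerTorsion (maximalIdeal A) (Tm K) := by
  intro w
  obtain ⟨n, u, rfl⟩ := exists_toTm K w
  refine ⟨n, fun a ha => ?_⟩
  rw [← map_smul]
  have h0 : (a • LinearMap.id : (A ⧸ maximalIdeal A ^ n) →ₗ[A] _) = 0 :=
    Submodule.linearMap_qext _ (LinearMap.ext_ring (by
      show a • Submodule.Quotient.mk (1 : A) = (0 : A ⧸ maximalIdeal A ^ n)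
      rw [← Submodule.Quotient.mk_smul, Submodule.Quotient.mk_eq_zero, smul_eq_mul, mul_one]
      exact ha))
  have h1 : a • u = inDMap (a • LinearMap.id : (A ⧸ maximalIdeal A ^ n) →ₗ[A] _) ≫ u := by
    rw [show inDMap (a • LinearMap.id : (A ⧸ maximalIdeal A ^ n) →ₗ[A] _) = a • 𝟙 _ from
      ((DerivedCategory.singleFunctor (ModuleCat.{u} A) 0).map_smul a
        (ModuleCat.ofHom (LinearMap.id : (A ⧸ maximalIdeal A ^ n) →ₗ[A] _))).trans
        (congrArg (a • ·) ((DerivedCategory.singleFunctor (ModuleCat.{u} A) 0).map_id _)),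
      Linear.smul_comp, Category.id_comp]
  rw [h1, h0, show inDMap (0 : (A ⧸ maximalIdeal A ^ n) →ₗ[A] (A ⧸ maximalIdeal A ^ n)) = 0 from
    (DerivedCategory.singleFunctor (ModuleCat.{u} A) 0).map_zero _ _, zero_comp, map_zero]

variable {ω : Dual.D A} {E : Type u} [AddCommGroup E] [Module A E] (J : Tm ω →ₗ[A] E)

/-- The duality pairing. -/
noncomputable def dualPairing (K : Dual.D A) : Tm K →ₗ[A] ((K ⟶ ω) →ₗ[A] E) where
  toFun w :=
    { toFun := fun φ => J (tmMap φ w)
      map_add' := fun φ ψ => by rw [tmMap_add, LinearMap.add_apply, map_add]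
      map_smul' := fun r φ => by rw [tmMap_smul, LinearMap.smul_apply, map_smul, RingHom.id_apply] }
  map_add' w w' := LinearMap.ext fun φ => by simp
  map_smul' r w := LinearMap.ext fun φ => by simp

lemma dualPairing_apply (K : Dual.D A) (w : Tm K) (φ : K ⟶ ω) : dualPairing J K w φ = J (tmMap φ w) := rfl

lemma dualPairing_natural {K L : Dual.D A} (g : K ⟶ L) (w : Tm K) (φ : L ⟶ ω) :
    dualPairing J L (tmMap g w) φ = dualPairing J K w (g ≫ φ) := by
  rw [dualPairing_apply, dualPairing_apply, tmMap_comp]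

/-- The condition of duality at all shifts. -/
def IsDual (K : Dual.D A) : Prop := Function.Bijective (dualPairing J K)

variable {J}

lemma isDual_of_iso {K L : Dual.D A} (e : K ≅ L) (h : IsDual J K) : IsDual J L := by
  constructor
  · intro w w' hw
    have h1 : tmMap e.inv w = tmMap e.inv w' := h.1 (LinearMap.ext fun φ => by
      rw [dualPairing_natural, dualPairing_natural]
      exact LinearMap.congr_fun hw _)
    have h2 := congrArg (tmMap e.hom) h1
    rw [← tmMap_comp, ← tmMap_comp, e.inv_hom_id] at h2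
    obtain ⟨n, u, rfl⟩ := exists_toTm L w
    obtain ⟨n', u', rfl⟩ := exists_toTm L w'
    simpa [tmMap_toTm] using h2
  · intro g
    obtain ⟨w, hw⟩ := h.2 (g ∘ₗ Linear.leftComp A ω e.inv)
    refine ⟨tmMap e.hom w, LinearMap.ext fun φ => ?_⟩
    rw [dualPairing_natural, hw, LinearMap.comp_apply, Linear.leftComp_apply, e.inv_hom_id_assoc]

/-- Both sides vanish. -/
lemma isDual_of_subsingleton {K : Dual.D A} (h1 : Subsingleton (Tm K)) (h2 : Subsingleton (K ⟶ ω)) :
    IsDual J K :=
  ⟨fun a b _ => Subsingleton.elim a b, fun g => ⟨0, LinearMap.ext fun φ => by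
    rw [Subsingleton.elim φ 0, map_zero, map_zero]⟩⟩

variable [Module.Injective A E]

/-- A functional on maps into the complex killing the image extends through the triangle. -/
lemma exists_factor_dual {T : Triangle (Dual.D A)} (hT : T ∈ distTriang (Dual.D A))
    (g : (T.obj₂ ⟶ ω) →ₗ[A] E) (hg : ∀ ψ : T.obj₃ ⟶ ω, g (T.mor₂ ≫ ψ) = 0) :
    ∃ e : (T.obj₁ ⟶ ω) →ₗ[A] E, ∀ φ, e (T.mor₁ ≫ φ) = g φ := by
  let a : (T.obj₂ ⟶ ω) →ₗ[A] (T.obj₁ ⟶ ω) := Linear.leftComp A ω T.mor₁
  have hker : LinearMap.ker a ≤ LinearMap.ker g := fun φ hφ => by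
    obtain ⟨ψ, rfl⟩ := Triangle.yoneda_exact₂ T hT φ hφ
    exact hg ψ
  obtain ⟨e, he⟩ := Module.Injective.extension_property A E _ _ ((LinearMap.ker a).liftQ a le_rfl)
    (by rw [← LinearMap.ker_eq_bot, Submodule.ker_liftQ, Submodule.mkQ_map_self]) ((LinearMap.ker a).liftQ g hker)
  exact ⟨e, fun φ => LinearMap.congr_fun he (Submodule.Quotient.mk φ)⟩

/-- The middle of a triangle. -/
theorem isDual_middle {T : Triangle (Dual.D A)} (hT : T ∈ distTriang (Dual.D A))
    (h1 : IsDual J T.obj₁) (h3 : IsDual J T.obj₃)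
    (h3' : IsDual J (T.obj₃⟦(-1 : ℤ)⟧)) (h1' : IsDual J (T.obj₁⟦(1 : ℤ)⟧)) : IsDual J T.obj₂ := by
  have hI := inv_rot_of_distTriang _ hT
  have hR := rot_of_distTriang _ hT
  have h01 := comp_distTriang_mor_zero₁₂ _ hI
  constructor
  · rw [injective_iff_map_eq_zero]
    intro w hw
    have hq : tmMap T.mor₂ w = 0 := h3.1 (LinearMap.ext fun φ => by
      rw [dualPairing_natural, hw, map_zero]; rfl)
    obtain ⟨v, rfl⟩ := tm_exact hT w hq
    obtain ⟨e, he⟩ := exists_factor_dual hI (dualPairing J T.obj₁ v) (fun ψ => by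
      show dualPairing J T.obj₁ v (T.mor₁ ≫ ψ) = 0
      rw [← dualPairing_natural, hw]; rfl)
    obtain ⟨z, hz⟩ := h3'.2 e
    have hv : tmMap T.invRotate.mor₁ z = v := h1.1 (LinearMap.ext fun φ =>
      (dualPairing_natural J T.invRotate.mor₁ z φ).trans ((LinearMap.congr_fun hz _).trans (he φ)))
    rw [← hv]
    refine (tmMap_comp T.invRotate.mor₁ T.mor₁ z).symm.trans ?_
    rw [show T.invRotate.mor₁ ≫ T.mor₁ = (0 : _ ⟶ T.obj₂) from h01]
    exact tmMap_zero z
  · intro g
    obtain ⟨c, hc⟩ := h3.2 (g ∘ₗ Linear.leftComp A ω T.mor₂)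
    have hc0 : tmMap T.mor₃ c = 0 := h1'.1 (LinearMap.ext fun φ => by
      rw [dualPairing_natural, hc, LinearMap.comp_apply, Linear.leftComp_apply, ← Category.assoc,
        comp_distTriang_mor_zero₂₃ _ hT, zero_comp, map_zero, map_zero]; rfl)
    obtain ⟨y, hy⟩ := tm_exact hR c hc0
    obtain ⟨e, he⟩ := exists_factor_dual hT (g - dualPairing J T.obj₂ y) (fun ψ => by
      rw [LinearMap.sub_apply, sub_eq_zero, ← dualPairing_natural,
        show tmMap T.mor₂ y = c from hy, hc]
      rfl)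
    obtain ⟨x, hx⟩ := h1.2 e
    refine ⟨(show Tm T.obj₂ from y) + tmMap T.mor₁ x, LinearMap.ext fun φ => ?_⟩
    rw [map_add, LinearMap.add_apply, dualPairing_natural, hx, he, LinearMap.sub_apply, add_sub_cancel]

variable [IsNoetherianRing A]

/-- Functionals on a finite module of maps into a torsion module are torsion. -/
lemma exists_pow_smul_eq_zero_dual (hE : LocCoh.IsPowerTorsion (maximalIdeal A) E) (X : Type*) [AddCommGroup X]
    [Module A X] [Module.Finite A X] (g : X →ₗ[A] E) (c : A) (hc : c ∈ maximalIdeal A) :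
    ∃ N : ℕ, c ^ N • g = 0 := by
  classical
  obtain ⟨s, hs⟩ := Module.Finite.fg_top (R := A) (M := X)
  choose k hk using fun x : X => hE (g x)
  refine ⟨s.sup k, LinearMap.ext_on hs fun x hx => ?_⟩
  exact hk x _ (Ideal.pow_le_pow_right (Finset.le_sup hx) (Ideal.pow_mem_pow hc _))

/-- The step along multiplication by a scalar. -/
theorem isDual_of_smul {X Q : Dual.D A} (c : A) (hc : c ∈ maximalIdeal A) (q : X ⟶ Q) (δ : Q ⟶ X⟦(1 : ℤ)⟧)
    (hT : Triangle.mk (c • 𝟙 X) q δ ∈ distTriang (Dual.D A)) (hE : LocCoh.IsPowerTorsion (maximalIdeal A) E)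
    [Module.Finite A (X ⟶ ω)] (h3 : IsDual J Q) (h3' : IsDual J (Q⟦(-1 : ℤ)⟧))
    (hX : IsDual J (X⟦(-1 : ℤ)⟧)) : IsDual J X := by
  let T := Triangle.mk (c • 𝟙 X) q δ
  have hI := inv_rot_of_distTriang _ hT
  have hII := inv_rot_of_distTriang _ hI
  have hI12 := comp_distTriang_mor_zero₁₂ _ hII
  have hsm : ∀ w : Tm X, tmMap T.mor₁ w = c • w := fun w => by
    obtain ⟨n, u, rfl⟩ := exists_toTm X w
    show tmMap (c • 𝟙 X) (toTm X n u) = c • toTm X n u
    rw [tmMap_toTm, Linear.comp_smul, Category.comp_id, map_smul]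
  have hinj : ∀ w, dualPairing J X w = 0 → c • w = 0 → w = 0 := by
    intro w hw hcw
    obtain ⟨b, hb⟩ := tm_exact hI w ((hsm w).trans hcw)
    obtain ⟨e, he⟩ := exists_factor_dual hII (dualPairing J T.invRotate.obj₁ b) (fun ψ => by
      refine (dualPairing_natural J T.invRotate.mor₁ b ψ).symm.trans ?_
      rw [hb]
      exact LinearMap.congr_fun hw ψ)
    obtain ⟨v, hv⟩ := hX.2 e
    have hbv : tmMap T.invRotate.invRotate.mor₁ v = b := h3'.1 (LinearMap.ext fun φ =>
      (dualPairing_natural J T.invRotate.invRotate.mor₁ v φ).trans ((LinearMap.congr_fun hv _).trans (he φ)))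
    rw [← hb, ← hbv]
    refine (tmMap_comp T.invRotate.invRotate.mor₁ T.invRotate.mor₁ v).symm.trans ?_
    rw [show T.invRotate.invRotate.mor₁ ≫ T.invRotate.mor₁ = 0 from hI12]
    exact tmMap_zero v
  have hsurj : ∀ g : (X ⟶ ω) →ₗ[A] E, c • g ∈ LinearMap.range (dualPairing J X) →
      g ∈ LinearMap.range (dualPairing J X) := by
    rintro g ⟨a', ha'⟩
    have hq : tmMap T.mor₂ a' = 0 := h3.1 (LinearMap.ext fun φ => by
      refine (dualPairing_natural J T.mor₂ a' φ).trans ?_
      rw [show dualPairing J T.obj₂ a' = c • g from ha']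
      have h0 : c • (T.mor₂ ≫ φ) = 0 := by
        have h12 := congrArg (· ≫ φ) (comp_distTriang_mor_zero₁₂ _ hT)
        simp only [zero_comp] at h12
        rw [Category.assoc] at h12
        refine Eq.trans ?_ h12
        show c • (q ≫ φ) = (c • 𝟙 X) ≫ q ≫ φ
        rw [Linear.smul_comp, Category.id_comp]
      rw [map_zero, LinearMap.zero_apply, LinearMap.smul_apply, ← map_smul, h0, map_zero])
    obtain ⟨a'', ha''⟩ := tm_exact hT a' hq
    rw [show tmMap T.mor₁ a'' = c • a'' from hsm a''] at ha''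
    obtain ⟨e, he⟩ := exists_factor_dual hI (g - dualPairing J X a'') (fun ψ => by
      show (g - dualPairing J X a'') ((c • 𝟙 X) ≫ ψ) = 0
      rw [Linear.smul_comp, Category.id_comp, map_smul, LinearMap.sub_apply, smul_sub, ← LinearMap.smul_apply,
        ← LinearMap.smul_apply, ← ha', ← map_smul, ha'', sub_self])
    obtain ⟨b, hb⟩ := h3'.2 e
    refine ⟨(show Tm X from a'') + (show Tm X from tmMap T.invRotate.mor₁ b), LinearMap.ext fun φ => ?_⟩
    rw [map_add, LinearMap.add_apply]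
    refine (congrArg _ ((dualPairing_natural J T.invRotate.mor₁ b φ).trans
      ((LinearMap.congr_fun hb _).trans (he φ)))).trans ?_
    exact add_sub_cancel _ _
  constructor
  · rw [injective_iff_map_eq_zero]
    intro w hw
    obtain ⟨N, hN⟩ := isPowerTorsion_tm X w
    have key : ∀ k : ℕ, ∀ w : Tm X, dualPairing J X w = 0 → c ^ k • w = 0 → w = 0 := by
      intro k
      induction k with
      | zero => intro w _ h; rwa [pow_zero, one_smul] at h
      | succ k ih =>
        intro w hw h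
        refine hinj w hw (ih (c • w) (by rw [map_smul, hw, smul_zero]) ?_)
        rwa [← mul_smul, ← pow_succ]
    exact key N w hw (hN _ (Ideal.pow_mem_pow hc N))
  · intro g
    obtain ⟨N, hN⟩ := exists_pow_smul_eq_zero_dual hE (X ⟶ ω) g c hc
    have key : ∀ k : ℕ, ∀ g : (X ⟶ ω) →ₗ[A] E, c ^ k • g = 0 → g ∈ LinearMap.range (dualPairing J X) := by
      intro k
      induction k with
      | zero => intro g h; rw [pow_zero, one_smul] at h; rw [h]; exact zero_mem _
      | succ k ih =>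
        intro g h
        exact hsurj g (ih (c • g) (by rwa [← mul_smul, ← pow_succ]))
    exact key N g hN

omit [IsLocalRing A] [IsNoetherianRing A] in
/-- Shifting the source. -/
lemma exists_homShiftLEquiv (X Y : Dual.D A) (i : ℤ) :
    Nonempty ((X⟦i⟧ ⟶ Y) ≃ₗ[A] (X ⟶ Y⟦-i⟧)) := by
  obtain ⟨e⟩ := exists_shiftHomLEquiv X Y (-i)
  exact ⟨(Linear.homCongr A (eqToIso (congrArg (fun j : ℤ => X⟦j⟧) (neg_neg i).symm)) (Iso.refl Y)).trans e.symm⟩

/-- Below the degree of the module both sides vanish. -/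
lemma isDual_shift_of_neg (hω : Dual.IsDualizing A ω) (hn : Dual.IsNormalized A ω) (M : Type u) [AddCommGroup M]
    [Module A M] [Module.Finite A M] (i : ℤ) (hi : i < 0) : IsDual J ((Dual.inD A M)⟦i⟧) := by
  haveI hM : DerivedCategory.IsGE (Dual.inD A M) 0 :=
    inferInstanceAs (DerivedCategory.IsGE ((DerivedCategory.singleFunctor (ModuleCat.{u} A) 0).obj _) 0)
  haveI : DerivedCategory.IsGE ((Dual.inD A M)⟦i⟧) (-i) :=
    DerivedCategory.TStructure.t.isGE_shift (Dual.inD A M) 0 i (-i) (by omega)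
  refine isDual_of_subsingleton (subsingleton_of_forall_eq 0 fun w => ?_) ?_
  · obtain ⟨n, u, rfl⟩ := exists_toTm _ w
    haveI : DerivedCategory.IsLE (Dual.inD A (A ⧸ maximalIdeal A ^ n)) 0 :=
      inferInstanceAs (DerivedCategory.IsLE ((DerivedCategory.singleFunctor (ModuleCat.{u} A) 0).obj _) 0)
    rw [DerivedCategory.TStructure.t.zero_of_isLE_of_isGE u 0 (-i) (by omega) inferInstance inferInstance, map_zero]
  · haveI := subsingleton_hom_module_of_pos hω hn M (-i) (by omega)
    obtain ⟨e⟩ := exists_homShiftLEquiv (Dual.inD A M) ω i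
    exact e.toEquiv.subsingleton

end Groth.Agent.KFlatLib

namespace Groth.Agent.KFlatLib

variable {A : Type u} [CommRing A] [IsLocalRing A] [IsNoetherianRing A] {ω : Dual.D A} {E : Type u}
  [AddCommGroup E] [Module A E] {f : ResidueField A →ₗ[A] E} (hf : InjHull.IsInjectiveHull f)
  (hω : Dual.IsDualizing A ω) (hn : Dual.IsNormalized A ω) (J : Tm ω →ₗ[A] E)
  (hJ : ∀ (n : ℕ) (N : Type u) [AddCommGroup N] [Module A N], IsFiniteLength A N →
    ∀ hN : ∀ a ∈ maximalIdeal A ^ n, ∀ x : N, a • x = 0, Function.Bijective (gam J n hN))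

include hf hJ in
/-- A module of finite length in degree zero. -/
lemma isDual_inD_of_isFiniteLength (N : Type u) [AddCommGroup N] [Module A N] (hfl : IsFiniteLength A N) :
    IsDual J (Dual.inD A N) := by
  obtain ⟨n, hN⟩ := exists_pow_smul_eq_zero N hfl
  let γ := LinearEquiv.ofBijective (gam J n hN) (hJ n N hfl hN)
  let ev : N →ₗ[A] (N →ₗ[A] E) →ₗ[A] E := LinearMap.applyₗ
  have hev : Function.Bijective ev := LC.applyₗ_bijective_of_isFiniteLength hf N hfl
  let ξ : N → Tm (Dual.inD A N) := fun x => toTm _ n (inDMap (genPow n hN x))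
  have hξs : Function.Surjective ξ := by
    intro w
    obtain ⟨l, v, rfl⟩ := exists_toTm _ w
    obtain ⟨g, rfl⟩ := (DerivedCategory.singleFunctor (ModuleCat.{u} A) 0).map_surjective
      (X := ModuleCat.of A (A ⧸ maximalIdeal A ^ l)) (Y := ModuleCat.of A N) v
    refine ⟨g.hom (Submodule.Quotient.mk 1), ?_⟩
    refine (toTm_eq_iff _ _ _).2 ⟨max n l, le_max_left _ _, le_max_right _ _, ?_⟩
    refine ((DerivedCategory.singleFunctor (ModuleCat.{u} A) 0).map_comp (ModuleCat.ofHom _)
      (ModuleCat.ofHom _)).symm.trans (Eq.trans ?_ ((DerivedCategory.singleFunctor (ModuleCat.{u} A) 0).map_comp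
      (ModuleCat.ofHom _) g))
    congr 1
    refine ModuleCat.hom_ext (Submodule.linearMap_qext _ (LinearMap.ext_ring ?_))
    show (1 : A) • g.hom (Submodule.Quotient.mk 1) = g.hom (Submodule.Quotient.mk 1)
    rw [one_smul]
  have key : ∀ x φ, dualPairing J (Dual.inD A N) (ξ x) φ = ev x (γ φ) := fun x φ => by
    rw [dualPairing_apply, tmMap_toTm]
    rfl
  constructor
  · intro w w' h
    obtain ⟨x, rfl⟩ := hξs w
    obtain ⟨y, rfl⟩ := hξs w'
    refine congrArg ξ (hev.1 (LinearMap.ext fun g => ?_))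
    obtain ⟨φ, rfl⟩ := γ.surjective g
    rw [← key, ← key, h]
  · intro g
    obtain ⟨x, hx⟩ := hev.2 (g ∘ₗ γ.symm.toLinearMap)
    refine ⟨ξ x, LinearMap.ext fun φ => ?_⟩
    rw [key, hx, LinearMap.comp_apply]
    exact congrArg g (γ.symm_apply_apply φ)

include hf hω hn hJ in
/-- All shifts of a module of finite length. -/
lemma isDual_shift_of_isFiniteLength (N : Type u) [AddCommGroup N] [Module A N] (hfl : IsFiniteLength A N)
    (i : ℤ) : IsDual J ((Dual.inD A N)⟦i⟧) := by
  haveI : IsNoetherian A N := (isFiniteLength_iff_isNoetherian_isArtinian.1 hfl).1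
  haveI := hf.isInjective
  rcases lt_trichotomy i 0 with hi | rfl | hi
  · exact isDual_shift_of_neg hω hn N i hi
  · exact isDual_of_iso ((shiftFunctorZero (Dual.D A) ℤ).app _).symm (isDual_inD_of_isFiniteLength hf J hJ N hfl)
  · obtain ⟨k, rfl⟩ : ∃ k : ℕ, i = ((k + 1 : ℕ) : ℤ) := ⟨i.toNat - 1, by omega⟩
    obtain ⟨n, hN⟩ := exists_pow_smul_eq_zero N hfl
    have htor : LocCoh.IsPowerTorsion (maximalIdeal A) (ModuleCat.of A N) := fun x => ⟨n, fun a ha => hN a ha x⟩
    haveI := LC.subsingleton_of_torsion (maximalIdeal A) k (ModuleCat.of A N) htor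
    obtain ⟨e⟩ := exists_tmEquivH (A := A) N (k + 1)
    refine isDual_of_subsingleton (e.symm.injective.subsingleton) ?_
    haveI := subsingleton_hom_of_isFiniteLength hn N hfl (-((k + 1 : ℕ) : ℤ)) (by omega)
    obtain ⟨e'⟩ := exists_homShiftLEquiv (Dual.inD A N) ω ((k + 1 : ℕ) : ℤ)
    exact e'.toEquiv.subsingleton

include hf in
omit [IsNoetherianRing A] in
/-- The middle of a short exact sequence. -/
lemma isDual_shift_of_ses {N₁ N₂ N₃ : Type u} [AddCommGroup N₁] [Module A N₁] [AddCommGroup N₂] [Module A N₂]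
    [AddCommGroup N₃] [Module A N₃] {a : N₁ →ₗ[A] N₂} {b : N₂ →ₗ[A] N₃}
    (ha : Function.Injective a) (hb : Function.Surjective b) (h : Function.Exact a b)
    (h₁ : ∀ i : ℤ, IsDual J ((Dual.inD A N₁)⟦i⟧)) (h₃ : ∀ i : ℤ, IsDual J ((Dual.inD A N₃)⟦i⟧)) (i : ℤ) :
    IsDual J ((Dual.inD A N₂)⟦i⟧) := by
  haveI := hf.isInjective
  obtain ⟨w, hS⟩ := exists_ses_of_exact ha hb h
  let T := (Triangle.shiftFunctor (Dual.D A) i).obj hS.singleTriangle
  have hT : T ∈ distTriang (Dual.D A) := Triangle.shift_distinguished _ hS.singleTriangle_distinguished i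
  exact isDual_middle (T := T) hT (h₁ i) (h₃ i)
    (isDual_of_iso ((shiftFunctorAdd' (Dual.D A) i (-1 : ℤ) (i - 1) (by omega)).app _) (h₃ (i - 1)))
    (isDual_of_iso ((shiftFunctorAdd' (Dual.D A) i (1 : ℤ) (i + 1) (by omega)).app _) (h₁ (i + 1)))

include hf hω hn hJ in
/-- Cyclic modules. -/
theorem isDual_shift_quotient (I : Ideal A) : ∀ i : ℤ, IsDual J ((Dual.inD A (A ⧸ I))⟦i⟧) := by
  haveI := hf.isInjective
  induction I using WellFoundedGT.induction with
  | _ I ih =>
    intro i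
    by_cases hI : I = ⊤
    · subst hI
      haveI : Subsingleton (A ⧸ (⊤ : Ideal A)) := Submodule.Quotient.subsingleton_iff.2 rfl
      exact isDual_shift_of_isFiniteLength hf hω hn J hJ _ IsFiniteLength.of_subsingleton i
    by_cases hp : I.IsPrime
    · by_cases hm : I = maximalIdeal A
      · subst hm
        haveI : IsSimpleModule A (A ⧸ maximalIdeal A) :=
          isSimpleModule_iff_isCoatom.2 (IsLocalRing.maximalIdeal.isMaximal A).out
        exact isDual_shift_of_isFiniteLength hf hω hn J hJ _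
          (isFiniteLength_iff_isNoetherian_isArtinian.2 ⟨inferInstance, inferInstance⟩) i
      obtain ⟨x, hxm, hxI⟩ := SetLike.exists_of_lt (lt_of_le_of_ne (le_maximalIdeal hI) hm)
      let φ : (A ⧸ I) →ₗ[A] (A ⧸ I) := x • LinearMap.id
      have hφ : Function.Injective φ := by
        rw [← LinearMap.ker_eq_bot, LinearMap.ker_eq_bot']
        intro z hz
        obtain ⟨c, rfl⟩ := Submodule.Quotient.mk_surjective _ z
        change Submodule.Quotient.mk (x * c) = 0 at hz
        exact (Submodule.Quotient.mk_eq_zero _).2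
          ((hp.mem_or_mem ((Submodule.Quotient.mk_eq_zero _).1 hz)).resolve_left hxI)
      have hex : Function.Exact φ (Submodule.factor (p := I) (p' := I ⊔ Ideal.span {x}) le_sup_left) := fun z => by
        obtain ⟨c, rfl⟩ := Submodule.Quotient.mk_surjective _ z
        refine ⟨fun hz => ?_, ?_⟩
        · obtain ⟨a, ha, b, hb, hab⟩ := Submodule.mem_sup.1 ((Submodule.Quotient.mk_eq_zero _).1 hz)
          obtain ⟨d, rfl⟩ := Ideal.mem_span_singleton.1 hb
          refine ⟨Submodule.Quotient.mk d, ?_⟩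
          change Submodule.Quotient.mk (x * d) = _
          rw [Submodule.Quotient.eq, show c = a + x * d from hab.symm]
          simpa using ha
        · rintro ⟨w, hw⟩
          obtain ⟨d, rfl⟩ := Submodule.Quotient.mk_surjective _ w
          rw [← hw]
          exact (Submodule.Quotient.mk_eq_zero _).2
            (Submodule.mem_sup_right (Ideal.mem_span_singleton.2 (dvd_mul_right x d)))
      obtain ⟨w, hS⟩ := exists_ses_of_exact hφ (Submodule.factor_surjective le_sup_left) hex
      have hQ : ∀ j : ℤ, IsDual J ((Dual.inD A (A ⧸ (I ⊔ Ideal.span {x})))⟦j⟧) :=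
        ih _ (lt_of_le_of_ne le_sup_left fun e =>
          hxI (e ▸ Submodule.mem_sup_right (Ideal.mem_span_singleton_self x)))
      obtain ⟨a, b, -, ha, -⟩ := exists_bounds_of_isDualizing hω
      haveI := ha
      have hstep : ∀ j : ℤ, IsDual J ((Dual.inD A (A ⧸ I))⟦j - 1⟧) → IsDual J ((Dual.inD A (A ⧸ I))⟦j⟧) := by
        intro j hj
        let T := (Triangle.shiftFunctor (Dual.D A) j).obj hS.singleTriangle
        have hT : T ∈ distTriang (Dual.D A) := Triangle.shift_distinguished _ hS.singleTriangle_distinguished j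
        let c : A := ((j.negOnePow : ℤˣ) : ℤ) • x
        have hmor : T.mor₁ = c • 𝟙 ((Dual.inD A (A ⧸ I))⟦j⟧) := by
          show j.negOnePow • (shiftFunctor (Dual.D A) j).map (inDMap φ) = _
          rw [show inDMap φ = x • 𝟙 _ from
            ((DerivedCategory.singleFunctor (ModuleCat.{u} A) 0).map_smul x
              (ModuleCat.ofHom (LinearMap.id : (A ⧸ I) →ₗ[A] _))).trans
              (congrArg (x • ·) ((DerivedCategory.singleFunctor (ModuleCat.{u} A) 0).map_id _)),
            Functor.map_smul, CategoryTheory.Functor.map_id, Units.smul_def, smul_assoc]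
        have hT' : Triangle.mk (c • 𝟙 ((Dual.inD A (A ⧸ I))⟦j⟧)) T.mor₂ T.mor₃ ∈ distTriang (Dual.D A) := by
          rw [← hmor]
          exact hT
        haveI : Module.Finite A ((Dual.inD A (A ⧸ I))⟦j⟧ ⟶ ω) := by
          haveI := finite_hom_module ω a hω.finite_cohomology (A ⧸ I) (-j)
          obtain ⟨e⟩ := exists_homShiftLEquiv (Dual.inD A (A ⧸ I)) ω j
          exact Module.Finite.equiv e.symm
        exact isDual_of_smul c (zsmul_mem hxm _) T.mor₂ T.mor₃ hT' (LC.hull_isPowerTorsion hf) (hQ j)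
          (isDual_of_iso ((shiftFunctorAdd' (Dual.D A) j (-1 : ℤ) (j - 1) (by omega)).app _) (hQ (j - 1)))
          (isDual_of_iso ((shiftFunctorAdd' (Dual.D A) j (-1 : ℤ) (j - 1) (by omega)).app _) hj)
      rcases lt_or_ge i 0 with hi | hi
      · exact isDual_shift_of_neg hω hn _ i hi
      obtain ⟨k, rfl⟩ : ∃ k : ℕ, i = (k : ℤ) := ⟨i.toNat, by omega⟩
      clear hi
      induction k with
      | zero => exact hstep 0 (isDual_shift_of_neg hω hn _ _ (by omega))
      | succ k ihk => exact hstep _ (by rw [show ((k + 1 : ℕ) : ℤ) - 1 = (k : ℤ) by omega]; exact ihk)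
    · obtain ⟨x, hx, y, hy, hxy⟩ := (Ideal.not_isPrime_iff.1 hp).resolve_left hI
      have hle : I ≤ (Submodule.comap (LinearMap.mulLeft A x) I : Ideal A) := fun c hc => I.mul_mem_left x hc
      obtain ⟨φ, ψ, w, hS, -⟩ := exists_colon_ses I x
      exact isDual_shift_of_ses hf J (a := φ.hom) (b := ψ.hom) hS.moduleCat_injective_f hS.moduleCat_surjective_g
        ((ShortComplex.ShortExact.moduleCat_exact_iff_function_exact _).1 hS.exact)
        (ih _ (lt_of_le_of_ne hle
          fun e => hy (e.symm ▸ (show y ∈ (Submodule.comap (LinearMap.mulLeft A x) I : Ideal A) from hxy))))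
        (ih _ (lt_of_le_of_ne le_sup_left fun e =>
          hx (e ▸ Submodule.mem_sup_right (Ideal.mem_span_singleton_self x)))) i

include hf hω hn hJ in
/-- Finite modules. -/
theorem isDual_shift_module (M : Type u) [AddCommGroup M] [Module A M] [Module.Finite A M] :
    ∀ i : ℤ, IsDual J ((Dual.inD A M)⟦i⟧) := by
  refine IsNoetherianRing.induction_on_isQuotientEquivQuotientPrime A (M := M) inferInstance
    (motive := fun N _ _ _ => ∀ i : ℤ, IsDual J ((Dual.inD A N)⟦i⟧)) ?_ ?_ ?_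
  · intro N _ _ _ _ i
    exact isDual_shift_of_isFiniteLength hf hω hn J hJ N IsFiniteLength.of_subsingleton i
  · intro N _ _ _ p e i
    exact isDual_of_iso ((shiftFunctor (Dual.D A) i).mapIso
      ((DerivedCategory.singleFunctor (ModuleCat.{u} A) 0).mapIso e.toModuleIso.symm))
      (isDual_shift_quotient hf hω hn J hJ p.1 i)
  · intro N₁ _ _ _ N₂ _ _ _ N₃ _ _ _ a b ha hb hab h₁ h₃ i
    exact isDual_shift_of_ses hf J ha hb hab h₁ h₃ i

omit J hJ in
include hf hω hn in
/-- Local duality. -/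
theorem exists_localDuality_dualizing (M : Type u) [AddCommGroup M] [Module A M] [Module.Finite A M] (i : ℕ) :
    Nonempty (LocCoh.H (maximalIdeal A) i M ≃ₗ[A] ((Dual.inD A M ⟶ ω⟦-(i : ℤ)⟧) →ₗ[A] E)) := by
  obtain ⟨J, -, hJ⟩ := exists_trace hω hn hf
  haveI := hf.isInjective
  obtain ⟨e⟩ := exists_tmEquivH (A := A) M i
  obtain ⟨e'⟩ := exists_homShiftLEquiv (Dual.inD A M) ω (i : ℤ)
  exact ⟨e.trans ((LinearEquiv.ofBijective _ (isDual_shift_module hf hω hn J hJ M (i : ℤ))).trans
    (LinearEquiv.congrLeft E A e'))⟩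

end Groth.Agent.KFlatLib
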