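import Groth.Prelude.Def_DRing3
import Groth.Prelude.Def_DualLC
import Groth.Agent.S1032
import Groth.Agent.TriCat.KInjRes
import Mathlib.Algebra.Homology.DerivedCategory.KInjective
import Mathlib.Algebra.Homology.DerivedCategory.Linear
import Mathlib.Algebra.Homology.DerivedCategory.SingleTriangle
import Mathlib.Algebra.Homology.HomotopyCategory.HomComplexSingle
import Mathlib.Algebra.Homology.HomotopyCategory.HomComplexShift
import Mathlib.Algebra.Category.ModuleCat.Colimits
import Mathlib.Algebra.Category.Grp.FilteredColimits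
import Mathlib.Algebra.Category.Grp.Colimits
import Mathlib.CategoryTheory.Limits.Preserves.Filtered
import Mathlib.CategoryTheory.Limits.ConcreteCategory.Basic
import Mathlib.Algebra.Homology.ShortComplex.ModuleCat
import Mathlib.Algebra.Category.ModuleCat.AB

/-!
# The cohomology of `RΓ_I` as a colimit of morphisms
-/

set_option linter.style.haveILetI false
set_option backward.isDefEq.respectTransparency false

universe u

open CategoryTheory CategoryTheory.Limits Opposite CochainComplex CochainComplex.HomComplex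

attribute [local instance] HasDerivedCategory.standard

namespace Groth.Agent.KFlatLib.RgammaHDI

variable {A : Type u} [CommRing A] (I : Ideal A)

/-- The quotient by a power. -/
noncomputable abbrev qp (n : ℕ) : ModuleCat.{u} A := ModuleCat.of A (A ⧸ I ^ n)

/-- The projection between the quotients. -/
noncomputable def qpMap {n l : ℕ} (h : n ≤ l) : qp I l ⟶ qp I n :=
  ModuleCat.ofHom (Submodule.mapQ _ _ LinearMap.id (Ideal.pow_le_pow_right h))

variable (J : CochainComplex (ModuleCat.{u} A) ℤ) (q : ℤ)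

/-- The map in `D(A)` of a cocycle of degree `q`. -/
noncomputable def psi (M : ModuleCat.{u} A) (f : M ⟶ J.X q) (hf : f ≫ J.d q (q + 1) = 0) :
    (DerivedCategory.singleFunctor (ModuleCat.{u} A) 0).obj M ⟶ (DerivedCategory.Q.obj J)⟦q⟧ :=
  (DerivedCategory.singleFunctorIsoCompQ (ModuleCat.{u} A) 0).hom.app M ≫
    DerivedCategory.Q.map (Cocycle.equivHomShift.symm (Cocycle.fromSingleMk f (zero_add q) (q + 1) rfl hf)) ≫
      ((DerivedCategory.Q).commShiftIso q).hom.app J

lemma psi_precomp {M M' : ModuleCat.{u} A} (g : M' ⟶ M) (f : M ⟶ J.X q) (hf : f ≫ J.d q (q + 1) = 0) :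
    psi J q M' (g ≫ f) (by rw [Category.assoc, hf, comp_zero]) =
      (DerivedCategory.singleFunctor (ModuleCat.{u} A) 0).map g ≫ psi J q M f hf := by
  rw [psi, psi, Cocycle.fromSingleMk_precomp g f (zero_add q) (q + 1) rfl hf,
    Cocycle.equivHomShift_symm_precomp, Functor.map_comp, Category.assoc]
  exact ((DerivedCategory.singleFunctorIsoCompQ (ModuleCat.{u} A) 0).hom.naturality_assoc g _).symm

lemma psi_add {M : ModuleCat.{u} A} (f g : M ⟶ J.X q) (hf : f ≫ J.d q (q + 1) = 0) (hg : g ≫ J.d q (q + 1) = 0) :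
    psi J q M (f + g) (by rw [Preadditive.add_comp, hf, hg, add_zero]) = psi J q M f hf + psi J q M g hg := by
  rw [psi, psi, psi, Cocycle.fromSingleMk_add f g (zero_add q) (q + 1) rfl hf hg, map_add, Functor.map_add,
    Preadditive.add_comp, Preadditive.comp_add]

variable [J.IsKInjective]

lemma psi_surjective (M : ModuleCat.{u} A)
    (u : (DerivedCategory.singleFunctor (ModuleCat.{u} A) 0).obj M ⟶ (DerivedCategory.Q.obj J)⟦q⟧) :
    ∃ f hf, psi J q M f hf = u := by
  let S := (CochainComplex.singleFunctor (ModuleCat.{u} A) 0).obj M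
  let κ := DerivedCategory.quotientCompQhIso (ModuleCat.{u} A)
  let u' : DerivedCategory.Q.obj S ⟶ DerivedCategory.Q.obj (J⟦q⟧) :=
    (DerivedCategory.singleFunctorIsoCompQ (ModuleCat.{u} A) 0).inv.app M ≫ u ≫
      ((DerivedCategory.Q).commShiftIso q).inv.app J
  obtain ⟨g, hg⟩ := (CochainComplex.IsKInjective.Qh_map_bijective _ (J⟦q⟧)).2
    (κ.hom.app S ≫ u' ≫ κ.inv.app (J⟦q⟧))
  obtain ⟨c, rfl⟩ := (CohomologyClass.toHom_bijective S J q).2 g
  obtain ⟨c, rfl⟩ := c.mk_surjective
  obtain ⟨f, hf, rfl⟩ := Cocycle.fromSingleMk_surjective c q (zero_add q) (q + 1) rfl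
  rw [CohomologyClass.toHom_mk] at hg
  have h1 : DerivedCategory.Q.map (Cocycle.equivHomShift.symm (Cocycle.fromSingleMk f (zero_add q) (q + 1) rfl hf)) = u' := by
    rw [← cancel_epi (κ.hom.app S), ← κ.hom.naturality, Functor.comp_map, hg]
    simp
  refine ⟨f, hf, ?_⟩
  rw [psi, h1]
  simp [u']

lemma psi_eq_zero_iff (M : ModuleCat.{u} A) (f : M ⟶ J.X q) (hf : f ≫ J.d q (q + 1) = 0) :
    psi J q M f hf = 0 ↔ ∃ g : M ⟶ J.X (q - 1), g ≫ J.d (q - 1) q = f := by
  rw [← Cocycle.fromSingleMk_mem_coboundaries_iff f (zero_add q) (q + 1) rfl hf (q - 1) (by omega),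
    ← CohomologyClass.toHom_mk_eq_zero_iff, CohomologyClass.toHom_mk]
  let κ := DerivedCategory.quotientCompQhIso (ModuleCat.{u} A)
  constructor
  · intro h
    refine (CochainComplex.IsKInjective.Qh_map_bijective _ (J⟦q⟧)).1 ?_
    rw [psi] at h
    have h1 : DerivedCategory.Q.map (Cocycle.equivHomShift.symm (Cocycle.fromSingleMk f (zero_add q) (q + 1) rfl hf)) = 0 :=
      Preadditive.IsIso.comp_right_eq_zero _ (((DerivedCategory.Q).commShiftIso q).hom.app J) |>.1
        (Preadditive.IsIso.comp_left_eq_zero _ _ |>.1 h)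
    rw [Functor.map_zero, ← cancel_mono (κ.hom.app (J⟦q⟧)), zero_comp]
    refine (κ.hom.naturality _).trans ?_
    rw [h1, comp_zero]
  · intro h
    have h1 := κ.hom.naturality (Cocycle.equivHomShift.symm (Cocycle.fromSingleMk f (zero_add q) (q + 1) rfl hf))
    rw [Functor.comp_map, h, Functor.map_zero, zero_comp] at h1
    rw [psi, show DerivedCategory.Q.map (Cocycle.equivHomShift.symm (Cocycle.fromSingleMk f (zero_add q) (q + 1) rfl hf)) = 0
      from (Preadditive.IsIso.comp_left_eq_zero _ _).1 h1.symm, zero_comp, comp_zero]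

end Groth.Agent.KFlatLib.RgammaHDI

namespace Groth.Agent.KFlatLib.RgammaHDI

variable {A : Type u} [CommRing A] (I : Ideal A)

lemma preservesColimitsOfShape_nat :
    PreservesColimitsOfShape ℕᵒᵖᵒᵖ (forget (ModuleCat.{u + 1} A)) := by
  haveI : PreservesFilteredColimitsOfSize.{0, 0} (forget AddCommGrpCat.{u + 1}) :=
    preservesFilteredColimitsOfSize_shrink.{0, u + 1} _
  exact comp_preservesColimitsOfShape (forget₂ (ModuleCat.{u + 1} A) AddCommGrpCat) (forget AddCommGrpCat.{u + 1})

/-- The diagram of the quotients. -/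
noncomputable abbrev diag : ℕᵒᵖᵒᵖ ⥤ (Dual.D A)ᵒᵖ :=
  (localCohomology.ringModIdeals (localCohomology.idealPowersDiagram I) ⋙
    DerivedCategory.singleFunctor (ModuleCat.{u} A) 0).op

/-- The colimit. -/
noncomputable abbrev T (L : Dual.D A) : ModuleCat.{u + 1} A :=
  colimit (diag I ⋙ (linearYoneda A (Dual.D A)).obj L)

/-- One stage. -/
noncomputable def inc (L : Dual.D A) (n : ℕ) :
    ((DerivedCategory.singleFunctor (ModuleCat.{u} A) 0).obj (qp I n) ⟶ L) →ₗ[A] T I L :=
  (colimit.ι (diag I ⋙ (linearYoneda A (Dual.D A)).obj L) (op (op n))).hom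

lemma inc_qpMap (L : Dual.D A) {n l : ℕ} (h : n ≤ l)
    (u : (DerivedCategory.singleFunctor (ModuleCat.{u} A) 0).obj (qp I n) ⟶ L) :
    inc I L l ((DerivedCategory.singleFunctor (ModuleCat.{u} A) 0).map (qpMap I h) ≫ u) = inc I L n u :=
  ConcreteCategory.congr_hom
    (colimit.w (diag I ⋙ (linearYoneda A (Dual.D A)).obj L)
      ((homOfLE h).op.op : (op (op n) : ℕᵒᵖᵒᵖ) ⟶ op (op l))) u

lemma exists_inc (L : Dual.D A) (w : T I L) : ∃ n u, inc I L n u = w := by
  haveI := preservesColimitsOfShape_nat (A := A)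
  obtain ⟨⟨⟨n⟩⟩, u, hu⟩ := Concrete.colimit_exists_rep (diag I ⋙ (linearYoneda A (Dual.D A)).obj L) w
  exact ⟨n, u, hu⟩

lemma inc_eq_zero (L : Dual.D A) {n : ℕ}
    (u : (DerivedCategory.singleFunctor (ModuleCat.{u} A) 0).obj (qp I n) ⟶ L) (h : inc I L n u = 0) :
    ∃ l, ∃ h : n ≤ l, (DerivedCategory.singleFunctor (ModuleCat.{u} A) 0).map (qpMap I h) ≫ u = 0 := by
  haveI := preservesColimitsOfShape_nat (A := A)
  let F := diag I ⋙ (linearYoneda A (Dual.D A)).obj L
  let z : (DerivedCategory.singleFunctor (ModuleCat.{u} A) 0).obj (qp I n) ⟶ L := 0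
  have he' : (colimit.cocone F).ι.app (op (op n)) u = (colimit.cocone F).ι.app (op (op n)) z :=
    h.trans (map_zero (inc I L n)).symm
  obtain ⟨k, f, g, hk⟩ := Concrete.isColimit_exists_of_rep_eq F (colimit.isColimit F)
    (i := op (op n)) (j := op (op n)) u z he'
  obtain ⟨⟨l⟩⟩ := k
  have h1 : n ≤ l := f.unop.unop.down.down
  rw [show f = (homOfLE h1).op.op from Subsingleton.elim _ _,
    show g = (homOfLE h1).op.op from Subsingleton.elim _ _] at hk
  exact ⟨l, h1, hk.trans (map_zero ((F.map (homOfLE h1).op.op).hom))⟩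

section Main

variable (J : CochainComplex (ModuleCat.{u} A) ℤ) (q : ℤ)

/-- The complex of torsion sections. -/
noncomputable abbrev gCx : CochainComplex (ModuleCat.{u} A) ℤ :=
  ((DRing.gammaI I).mapHomologicalComplex (ComplexShape.up ℤ)).obj J

/-- The cycles. -/
noncomputable abbrev Z : Submodule A ((gCx I J).X q) := LinearMap.ker ((gCx I J).d q (q + 1)).hom

/-- The underlying element of a cycle. -/
noncomputable abbrev elt (z : Z I J q) : J.X q := (z.1 : DRing.torsionSub I (J.X q)).1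

lemma d_elt (z : Z I J q) : (J.d q (q + 1)).hom (elt I J q z) = 0 :=
  congrArg (fun t : DRing.torsionSub I (J.X (q + 1)) => (t : J.X (q + 1))) (LinearMap.mem_ker.1 z.2)

/-- The map out of a quotient attached to an element killed by the power. -/
noncomputable def gen (n : ℕ) (x : J.X q) (hx : ∀ a ∈ I ^ n, a • x = 0) : qp I n ⟶ J.X q :=
  ModuleCat.ofHom ((I ^ n).liftQ (LinearMap.toSpanSingleton A (J.X q) x) hx)

lemma gen_comp_d (n : ℕ) (x : J.X q) (hx : ∀ a ∈ I ^ n, a • x = 0) (hd : (J.d q (q + 1)).hom x = 0) :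
    gen I J q n x hx ≫ J.d q (q + 1) = 0 := by
  refine ModuleCat.hom_ext (Submodule.linearMap_qext _ (LinearMap.ext_ring ?_))
  show (J.d q (q + 1)).hom ((1 : A) • x) = 0
  rw [one_smul, hd]

lemma qpMap_gen {n l : ℕ} (h : n ≤ l) (x : J.X q) (hx : ∀ a ∈ I ^ n, a • x = 0) :
    qpMap I h ≫ gen I J q n x hx = gen I J q l x (fun a ha => hx a (Ideal.pow_le_pow_right h ha)) :=
  ModuleCat.hom_ext (Submodule.linearMap_qext _ (LinearMap.ext_ring rfl))

/-- A cycle gives an element of the colimit. -/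
noncomputable def theta0 (z : Z I J q) (n : ℕ) (hn : ∀ a ∈ I ^ n, a • elt I J q z = 0) :
    T I ((DerivedCategory.Q.obj J)⟦q⟧) :=
  inc I _ n (psi J q (qp I n) (gen I J q n (elt I J q z) hn) (gen_comp_d I J q n _ hn (d_elt I J q z)))

lemma psi_congr {M : ModuleCat.{u} A} {f g : M ⟶ J.X q} (h : f = g) (hf : f ≫ J.d q (q + 1) = 0)
    (hg : g ≫ J.d q (q + 1) = 0) : psi J q M f hf = psi J q M g hg := by
  subst h; rfl

lemma theta0_eq (z : Z I J q) (n : ℕ) (hn : ∀ a ∈ I ^ n, a • elt I J q z = 0) {l : ℕ} (h : n ≤ l) :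
    theta0 I J q z n hn = theta0 I J q z l (fun a ha => hn a (Ideal.pow_le_pow_right h ha)) := by
  rw [theta0, theta0, ← inc_qpMap I _ h, ← psi_precomp J q (qpMap I h) _ _]
  exact congrArg _ (psi_congr J q (qpMap_gen I J q h _ hn) _ _)

/-- The comparison map on cycles. -/
noncomputable def theta : Z I J q →ₗ[A] T I ((DerivedCategory.Q.obj J)⟦q⟧) where
  toFun z := theta0 I J q z (Classical.choose (z.1 : DRing.torsionSub I (J.X q)).2)
    (Classical.choose_spec (z.1 : DRing.torsionSub I (J.X q)).2)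
  map_add' z w := by
    let a := Classical.choose ((z + w).1 : DRing.torsionSub I (J.X q)).2
    let b := Classical.choose (z.1 : DRing.torsionSub I (J.X q)).2
    let c := Classical.choose (w.1 : DRing.torsionSub I (J.X q)).2
    have ha : ∀ r ∈ I ^ a, r • elt I J q (z + w) = 0 := Classical.choose_spec ((z + w).1 : DRing.torsionSub I (J.X q)).2
    have hb : ∀ r ∈ I ^ b, r • elt I J q z = 0 := Classical.choose_spec (z.1 : DRing.torsionSub I (J.X q)).2
    have hc : ∀ r ∈ I ^ c, r • elt I J q w = 0 := Classical.choose_spec (w.1 : DRing.torsionSub I (J.X q)).2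
    show theta0 I J q (z + w) a ha = theta0 I J q z b hb + theta0 I J q w c hc
    rw [theta0_eq I J q (z + w) a ha (le_max_left a (max b c)),
      theta0_eq I J q z b hb ((le_max_left b c).trans (le_max_right a _)),
      theta0_eq I J q w c hc ((le_max_right b c).trans (le_max_right a _))]
    simp only [theta0]
    rw [← map_add, ← psi_add]
    refine congrArg _ (psi_congr J q (ModuleCat.hom_ext (Submodule.linearMap_qext _ (LinearMap.ext_ring ?_))) _ _)
    show (1 : A) • (elt I J q z + elt I J q w) = (1 : A) • elt I J q z + (1 : A) • elt I J q w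
    rw [smul_add]
  map_smul' r z := by
    let a := Classical.choose ((r • z).1 : DRing.torsionSub I (J.X q)).2
    let b := Classical.choose (z.1 : DRing.torsionSub I (J.X q)).2
    have ha : ∀ s ∈ I ^ a, s • elt I J q (r • z) = 0 := Classical.choose_spec ((r • z).1 : DRing.torsionSub I (J.X q)).2
    have hb : ∀ s ∈ I ^ b, s • elt I J q z = 0 := Classical.choose_spec (z.1 : DRing.torsionSub I (J.X q)).2
    show theta0 I J q (r • z) a ha = r • theta0 I J q z b hb
    rw [theta0_eq I J q (r • z) a ha (le_max_left a b), theta0_eq I J q z b hb (le_max_right a b)]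
    simp only [theta0]
    rw [← map_smul]
    have hb' : ∀ s ∈ I ^ max a b, s • elt I J q z = 0 := fun s hs => hb s (Ideal.pow_le_pow_right (le_max_right a b) hs)
    have h1 : (r • 𝟙 (qp I (max a b))) ≫ gen I J q _ (elt I J q z) hb' =
        gen I J q _ (elt I J q (r • z)) (fun s hs => ha s (Ideal.pow_le_pow_right (le_max_left a b) hs)) := by
      rw [Linear.smul_comp, Category.id_comp]
      refine ModuleCat.hom_ext (Submodule.linearMap_qext _ (LinearMap.ext_ring ?_))
      show r • ((1 : A) • elt I J q z) = (1 : A) • (r • elt I J q z)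
      rw [one_smul, one_smul]
    refine congrArg _ ?_
    rw [← psi_congr J q h1 (by rw [Category.assoc, gen_comp_d I J q _ _ _ (d_elt I J q z), comp_zero]) _,
      psi_precomp J q _ _ (gen_comp_d I J q _ _ hb' (d_elt I J q z)), Functor.map_smul,
      CategoryTheory.Functor.map_id, Linear.smul_comp]
    exact congrArg (r • ·) (Category.id_comp _)

lemma theta_eq (z : Z I J q) (n : ℕ) (hn : ∀ a ∈ I ^ n, a • elt I J q z = 0) :
    theta I J q z = theta0 I J q z n hn := by
  let b := Classical.choose (z.1 : DRing.torsionSub I (J.X q)).2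
  have hb : ∀ r ∈ I ^ b, r • elt I J q z = 0 := Classical.choose_spec (z.1 : DRing.torsionSub I (J.X q)).2
  show theta0 I J q z b hb = _
  rw [theta0_eq I J q z b hb (le_max_left b n), theta0_eq I J q z n hn (le_max_right b n)]

lemma theta_eq_psi (n : ℕ) (f : qp I n ⟶ J.X q) (hf : f ≫ J.d q (q + 1) = 0) :
    ∃ z : Z I J q, theta I J q z = inc I _ n (psi J q (qp I n) f hf) := by
  let x : J.X q := f.hom (Submodule.Quotient.mk (1 : A))
  have hx : ∀ a ∈ I ^ n, a • x = 0 := fun a ha => by
    rw [← map_smul, ← Submodule.Quotient.mk_smul, smul_eq_mul, mul_one,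
      (Submodule.Quotient.mk_eq_zero _).2 ha, map_zero]
  have hdx : (J.d q (q + 1)).hom x = 0 := by
    have h1 := LinearMap.congr_fun (congrArg ModuleCat.Hom.hom hf) (Submodule.Quotient.mk (1 : A))
    rw [ModuleCat.hom_comp, LinearMap.comp_apply, ModuleCat.hom_zero, LinearMap.zero_apply] at h1
    exact h1
  have hf' : gen I J q n x hx = f :=
    ModuleCat.hom_ext (Submodule.linearMap_qext _ (LinearMap.ext_ring (one_smul A x)))
  let z : Z I J q := ⟨(⟨x, n, hx⟩ : DRing.torsionSub I (J.X q)), LinearMap.mem_ker.2 (Subtype.ext hdx)⟩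
  exact ⟨z, (theta_eq I J q z n hx).trans (congrArg (inc I _ n) (psi_congr J q hf' _ hf))⟩

variable [J.IsKInjective]

lemma theta_surjective : Function.Surjective (theta I J q) := by
  intro w
  obtain ⟨n, u, rfl⟩ := exists_inc I _ w
  obtain ⟨f, hf, rfl⟩ := psi_surjective J q (qp I n) u
  exact theta_eq_psi I J q n f hf

lemma exists_of_theta_eq_zero (z : Z I J q) (h : theta I J q z = 0) :
    ∃ (y : J.X (q - 1)) (l : ℕ), (∀ a ∈ I ^ l, a • y = 0) ∧ (J.d (q - 1) q).hom y = elt I J q z := by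
  obtain ⟨n, hn⟩ := (z.1 : DRing.torsionSub I (J.X q)).2
  rw [theta_eq I J q z n hn] at h
  obtain ⟨l, hl, he⟩ := inc_eq_zero I _ _ h
  have hn' : ∀ a ∈ I ^ l, a • elt I J q z = 0 := fun a ha => hn a (Ideal.pow_le_pow_right hl ha)
  have hd := gen_comp_d I J q l (elt I J q z) hn' (d_elt I J q z)
  have he' : psi J q (qp I l) (gen I J q l (elt I J q z) hn') hd = 0 := by
    refine Eq.trans ?_ he
    rw [← psi_precomp J q (qpMap I hl) _ _]
    exact psi_congr J q (qpMap_gen I J q hl _ hn).symm _ _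
  obtain ⟨g, hg⟩ := (psi_eq_zero_iff J q _ _ hd).1 he'
  refine ⟨g.hom (Submodule.Quotient.mk (1 : A)), l, fun a ha => ?_, ?_⟩
  · rw [← map_smul, ← Submodule.Quotient.mk_smul, smul_eq_mul, mul_one,
      (Submodule.Quotient.mk_eq_zero _).2 ha, map_zero]
  · exact (LinearMap.congr_fun (congrArg ModuleCat.Hom.hom hg) (Submodule.Quotient.mk (1 : A))).trans
      (one_smul A _)

lemma theta_eq_zero_of (z : Z I J q) (y : J.X (q - 1)) (n : ℕ) (hn : ∀ a ∈ I ^ n, a • y = 0)
    (hy : (J.d (q - 1) q).hom y = elt I J q z) : theta I J q z = 0 := by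
  have hn' : ∀ a ∈ I ^ n, a • elt I J q z = 0 := fun a ha => by
    rw [← hy, ← map_smul, hn a ha, map_zero]
  let g : qp I n ⟶ J.X (q - 1) :=
    ModuleCat.ofHom ((I ^ n).liftQ (LinearMap.toSpanSingleton A (J.X (q - 1)) y) hn)
  have hg : g ≫ J.d (q - 1) q = gen I J q n (elt I J q z) hn' := by
    refine ModuleCat.hom_ext (Submodule.linearMap_qext _ (LinearMap.ext_ring ?_))
    show (J.d (q - 1) q).hom ((1 : A) • y) = (1 : A) • elt I J q z
    rw [one_smul, one_smul]
    exact hy
  rw [theta_eq I J q z n hn', theta0, (psi_eq_zero_iff J q _ _ _).2 ⟨g, hg⟩, map_zero]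

/-- The homology of the torsion sections is the colimit. -/
theorem nonempty_homology_equiv :
    Nonempty ((gCx I J).homology q ≃ₗ[A] T I ((DerivedCategory.Q.obj J)⟦q⟧)) := by
  let S := (gCx I J).sc' (q - 1) q (q + 1)
  let e₁ : (gCx I J).homology q ≅ S.homology :=
    (gCx I J).homologyIsoSc' (q - 1) q (q + 1) (by simp) (by simp)
  let e₂ := S.moduleCatHomologyIso
  let e₃ : (Z I J q ⧸ LinearMap.range S.moduleCatToCycles) ≃ₗ[A] T I ((DerivedCategory.Q.obj J)⟦q⟧) :=
    (Submodule.quotEquivOfEq _ _ (by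
      ext z
      rw [LinearMap.mem_ker, LinearMap.mem_range]
      exact ⟨fun ⟨y, h⟩ => theta_eq_zero_of I J q z (y : DRing.torsionSub I (J.X (q - 1))).1 _
          (y : DRing.torsionSub I (J.X (q - 1))).2.choose_spec
          (congrArg (fun t : Z I J q => elt I J q t) h),
        fun h => by
          obtain ⟨y, l, hl, he⟩ := exists_of_theta_eq_zero I J q z h
          exact ⟨(⟨y, l, hl⟩ : DRing.torsionSub I (J.X (q - 1))), Subtype.ext (Subtype.ext he)⟩⟩)).trans
      (LinearMap.quotKerEquivOfSurjective (theta I J q) (theta_surjective I J q))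
  exact ⟨(e₁ ≪≫ e₂).toLinearEquiv.trans e₃⟩

end Main

/-- The cohomology of `RΓ_I`. -/
theorem nonempty_hd_equiv [DRing.HasRgammaI I] (K : Dual.D A) (q : ℤ) :
    Nonempty (Dual.HD A ((DRing.RgammaI I).obj K) q ≃ₗ[A] Dual2.HDI A I K q) := by
  obtain ⟨J, g, hJ, hg, -, -⟩ := TriCat.exists_kInjective_resolution'.{u} (DerivedCategory.Q.objPreimage K)
  haveI := hJ
  let eK : K ≅ DerivedCategory.Q.obj J :=
    (DerivedCategory.Q.objObjPreimageIso K).symm ≪≫
      @asIso _ _ _ _ (DerivedCategory.Q.map g) ((DerivedCategory.isIso_Q_map_iff_quasiIso _ _).2 hg)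
  have hres : ∀ L : CochainComplex (ModuleCat.{u} A) ℤ,
      ∃ (I' : CochainComplex (ModuleCat.{u} A) ℤ) (f : L ⟶ I'), I'.IsKInjective ∧ QuasiIso f := fun L => by
    obtain ⟨I', f, h1, h2, -, -⟩ := TriCat.exists_kInjective_resolution'.{u} L
    exact ⟨I', f, h1, h2⟩
  haveI : IsIso (((DRing.gammaIKh I).totalRightDerivedUnit DerivedCategory.Qh
      (HomotopyCategory.quasiIso (ModuleCat.{u} A) (ComplexShape.up ℤ))).app
      ((HomotopyCategory.quotient (ModuleCat.{u} A) (ComplexShape.up ℤ)).obj J)) :=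
    (Groth.Agent.S1032.result hres (DRing.gammaIKh I)).2 J hJ
  let κ := DerivedCategory.quotientCompQhIso (ModuleCat.{u} A)
  let e : DerivedCategory.Q.obj (gCx I J) ≅ (DRing.RgammaI I).obj K :=
    (κ.app (gCx I J)).symm ≪≫
      DerivedCategory.Qh.mapIso (((DRing.gammaI I).mapHomotopyCategoryFactors (ComplexShape.up ℤ)).app J).symm ≪≫
      asIso (((DRing.gammaIKh I).totalRightDerivedUnit DerivedCategory.Qh
        (HomotopyCategory.quasiIso (ModuleCat.{u} A) (ComplexShape.up ℤ))).app
        ((HomotopyCategory.quotient (ModuleCat.{u} A) (ComplexShape.up ℤ)).obj J)) ≪≫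
      (DRing.RgammaI I).mapIso (κ.app J ≪≫ eK.symm)
  obtain ⟨eh⟩ := nonempty_homology_equiv I J q
  let et : T I ((DerivedCategory.Q.obj J)⟦q⟧) ≃ₗ[A] Dual2.HDI A I K q :=
    (Limits.colim.mapIso (Functor.isoWhiskerLeft (diag I)
      ((linearYoneda A (Dual.D A)).mapIso ((CategoryTheory.shiftFunctor (Dual.D A) q).mapIso eK.symm)))).toLinearEquiv
  exact ⟨(((DerivedCategory.homologyFunctor (ModuleCat.{u} A) q).mapIso e.symm ≪≫
    (DerivedCategory.homologyFunctorFactors (ModuleCat.{u} A) q).app (gCx I J)).toLinearEquiv.trans eh).trans et⟩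

end Groth.Agent.KFlatLib.RgammaHDI
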