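import Groth.Agent.KFlatLib.Ring.FourTerm
import Groth.Agent.LC.CdDim
import Groth.Agent.LC.CohTorsion
import Groth.Agent.S7038
import Mathlib.RingTheory.Filtration

/-!
# Flatness from vanishing of `H²` on the closed fibre
-/

set_option autoImplicit false
set_option linter.style.haveILetI false

universe u

open TensorProduct IsLocalRing CategoryTheory

namespace Groth.Agent.KFlatLib

section

variable {R : Type u} [CommRing R] [IsNoetherianRing R] (J : Ideal R)

theorem subsingleton_H_succ_of_support (N : Type u) [AddCommGroup N] [Module R N]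
    (h : ∀ p ∈ Module.support R N, J ≤ p.asIdeal) (i : ℕ) :
    Subsingleton ((localCohomology J (i + 1)).obj (ModuleCat.of R N)) :=
  LC.subsingleton_of_torsion J i (ModuleCat.of R N)
    ((Groth.Agent.S7038.result J N).2 (IsNoetherian.noetherian J) fun p hp a ha => h p hp ha)

variable {X Y Z : Type u} [AddCommGroup X] [Module R X] [AddCommGroup Y] [Module R Y] [AddCommGroup Z] [Module R Z]

/-- The tail of the long exact sequence, at an outer term. -/
private theorem subsingleton_H_X₃ (f : X →ₗ[R] Y) (g : Y →ₗ[R] Z) (hf : Function.Injective f) (hex : Function.Exact f g)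
    (hg : Function.Surjective g) (i : ℕ) (hY : Subsingleton ((localCohomology J i).obj (ModuleCat.of R Y)))
    (hX : Subsingleton ((localCohomology J (i + 1)).obj (ModuleCat.of R X))) :
    Subsingleton ((localCohomology J i).obj (ModuleCat.of R Z)) := by
  let S : ShortComplex (ModuleCat.{u} R) := ShortComplex.mk (ModuleCat.ofHom f) (ModuleCat.ofHom g)
    (ModuleCat.hom_ext (LinearMap.ext fun x => hex.apply_apply_eq_zero x))
  have hS : S.ShortExact :=
    { exact := (ShortComplex.ShortExact.moduleCat_exact_iff_function_exact S).mpr hex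
      mono_f := (ModuleCat.mono_iff_injective _).mpr hf
      epi_g := (ModuleCat.epi_iff_surjective _).mpr hg }
  refine subsingleton_of_forall_eq 0 fun z => ?_
  obtain ⟨w, rfl⟩ := (LC.exact₃ J i hS (i + 1) rfl z).1 (Subsingleton.elim (α := (localCohomology J (i + 1)).obj (ModuleCat.of R X)) _ _)
  rw [Subsingleton.elim (α := (localCohomology J i).obj (ModuleCat.of R Y)) w 0, map_zero]

theorem subsingleton_H_X₂ (f : X →ₗ[R] Y) (g : Y →ₗ[R] Z) (hf : Function.Injective f) (hex : Function.Exact f g)
    (hg : Function.Surjective g) (i : ℕ) (hX : Subsingleton ((localCohomology J i).obj (ModuleCat.of R X)))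
    (hZ : Subsingleton ((localCohomology J i).obj (ModuleCat.of R Z))) :
    Subsingleton ((localCohomology J i).obj (ModuleCat.of R Y)) :=
  LC.subsingleton_H_of_shortExact J
    (S := ShortComplex.mk (ModuleCat.ofHom f) (ModuleCat.ofHom g)
      (ModuleCat.hom_ext (LinearMap.ext fun x => hex.apply_apply_eq_zero x)))
    { exact := (ShortComplex.ShortExact.moduleCat_exact_iff_function_exact _).mpr hex
      mono_f := (ModuleCat.mono_iff_injective _).mpr hf
      epi_g := (ModuleCat.epi_iff_surjective _).mpr hg } i hX hZ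

/-- Torsion elements lift along a surjection whose kernel has no `H¹`. -/
theorem exists_torsion_lift (g : Y →ₗ[R] Z) (hg : Function.Surjective g)
    (h : Subsingleton ((localCohomology J 1).obj (ModuleCat.of R (LinearMap.ker g))))
    (z : DRing.torsionSub J Z) : ∃ y : DRing.torsionSub J Y, g y.1 = z.1 := by
  let S : ShortComplex (ModuleCat.{u} R) := ShortComplex.mk (ModuleCat.ofHom (LinearMap.ker g).subtype)
    (ModuleCat.ofHom g) (ModuleCat.hom_ext (LinearMap.ext fun x => x.2))
  have hS : S.ShortExact :=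
    { exact := (ShortComplex.ShortExact.moduleCat_exact_iff_function_exact S).mpr (LinearMap.exact_subtype_ker_map g)
      mono_f := (ModuleCat.mono_iff_injective _).mpr Subtype.val_injective
      epi_g := (ModuleCat.epi_iff_surjective _).mpr hg }
  obtain ⟨w, hw⟩ := (LC.exact₃ J 0 hS 1 rfl ((LC.H0Equiv J (ModuleCat.of R Z)).symm z)).1
    (Subsingleton.elim (α := (localCohomology J 1).obj (ModuleCat.of R (LinearMap.ker g))) _ _)
  refine ⟨LC.H0Equiv J (ModuleCat.of R Y) w, ?_⟩
  have h1 := LC.H0Equiv_natural J (ModuleCat.ofHom g) w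
  rw [show ((localCohomology J 0).map (ModuleCat.ofHom g)).hom w = (LC.H0Equiv J (ModuleCat.of R Z)).symm z from hw,
    LinearEquiv.apply_symm_apply] at h1
  exact h1.symm

end

variable {A B : Type u} [CommRing A] [CommRing B] [IsNoetherianRing A] [IsNoetherianRing B] [Algebra A B]
  [IsLocalRing A]
variable (J : Ideal B) (M : Type u) [AddCommGroup M] [Module B M] [Module A M] [IsScalarTower A B M] [Module.Finite B M]
variable (hU : ∀ q : PrimeSpectrum B, ¬ J ≤ q.asIdeal → FlatCA.FlatAt A q.asIdeal M)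

include hU in
/-- `H¹` of the image of a tensored injection. -/
theorem subsingleton_H1_range {X Y : Type u} [AddCommGroup X] [Module A X] [AddCommGroup Y] [Module A Y]
    (f : X →ₗ[A] Y) (hf : Function.Injective f)
    (h : Subsingleton ((localCohomology J 1).obj (ModuleCat.of B (M ⊗[A] X)))) :
    Subsingleton ((localCohomology J 1).obj (ModuleCat.of B (LinearMap.range (FlatLoc6.tmap (B := B) M f)))) :=
  subsingleton_H_X₃ J (LinearMap.ker (FlatLoc6.tmap (B := B) M f)).subtype (FlatLoc6.tmap (B := B) M f).rangeRestrict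
    Subtype.val_injective
    (fun z => ⟨fun hz => ⟨⟨z, congrArg Subtype.val hz⟩, rfl⟩, fun ⟨w, hw⟩ => hw ▸ Subtype.ext w.2⟩)
    (LinearMap.surjective_rangeRestrict _) 1 h
    (subsingleton_H_succ_of_support J _ (support_ker_tmap J M hU f hf) 1)

include hU in
/-- `H¹ = 0` spreads from the closed fibre to tensor products with finite length modules. -/
theorem subsingleton_H1_tensor
    (h : Subsingleton ((localCohomology J 1).obj (ModuleCat.of B (EGA4.FibMod A B M)))) :
    ∀ (n : ℕ) (X : Type u) [AddCommGroup X] [Module A X] [Module.Finite A X],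
      maximalIdeal A ^ n ≤ Module.annihilator A X →
        Subsingleton ((localCohomology J 1).obj (ModuleCat.of B (M ⊗[A] X))) := by
  intro n
  induction n with
  | zero =>
    intro X _ _ _ hX
    haveI : Subsingleton X := subsingleton_of_forall_eq 0 fun x => by
      have := Module.mem_annihilator.1 (hX (show (1 : A) ∈ maximalIdeal A ^ 0 by simp)) x
      rwa [one_smul] at this
    exact LC.subsingleton_H_of_subsingleton J (ModuleCat.of B (M ⊗[A] X)) 1
  | succ n ih =>
    have key : ∀ r : ℕ, Subsingleton ((localCohomology J 1).obj (ModuleCat.of B (Fin r → EGA4.FibMod A B M))) := by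
      intro r
      induction r with
      | zero => exact LC.subsingleton_H_of_subsingleton J (ModuleCat.of B (Fin 0 → EGA4.FibMod A B M)) 1
      | succ r ihr =>
        refine subsingleton_H_X₂ J (LinearMap.single B (fun _ : Fin (r + 1) => EGA4.FibMod A B M) 0)
          (LinearMap.funLeft B (EGA4.FibMod A B M) Fin.succ)
          (fun a b e => Pi.single_injective (M := fun _ : Fin (r + 1) => EGA4.FibMod A B M) 0 e)
          (fun v => ⟨fun h => ⟨v 0, funext fun i => Fin.cases (Pi.single_eq_same (M := fun _ : Fin (r + 1) => EGA4.FibMod A B M) 0 (v 0))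
            (fun j => (Pi.single_eq_of_ne (M := fun _ : Fin (r + 1) => EGA4.FibMod A B M) (Fin.succ_ne_zero j) (v 0)).trans
              (congrFun h j).symm) i⟩,
            fun ⟨w, hw⟩ => hw ▸ funext fun j => Pi.single_eq_of_ne (M := fun _ : Fin (r + 1) => EGA4.FibMod A B M) (Fin.succ_ne_zero j) w⟩)
          (LinearMap.funLeft_surjective_of_injective _ _ _ (Fin.succ_injective _)) 1 h ihr
    intro X _ _ _ hX
    let X' : Submodule A X := maximalIdeal A ^ n • ⊤
    let Q := X ⧸ X'
    have hkillQ : maximalIdeal A ^ n ≤ Module.annihilator A Q := fun a ha => Module.mem_annihilator.2 fun q => by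
      obtain ⟨x, rfl⟩ := Submodule.Quotient.mk_surjective _ q
      exact (Submodule.Quotient.mk_eq_zero _).2 (Submodule.smul_mem_smul ha trivial)
    have hkill' : Module.IsTorsionBySet A X' (maximalIdeal A : Set A) := by
      rintro ⟨x, hx⟩ ⟨a, ha⟩
      refine Subtype.ext ?_
      show a • x = 0
      induction hx using Submodule.smul_induction_on' with
      | smul b hb y _ =>
        rw [smul_smul]
        exact Module.mem_annihilator.1 (hX (by rw [pow_succ']; exact Ideal.mul_mem_mul ha hb)) y
      | add y _ z _ hy hz => rw [smul_add, hy, hz, add_zero]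
    have h' : Subsingleton ((localCohomology J 1).obj (ModuleCat.of B (M ⊗[A] X'))) := by
      letI : Module (ResidueField A) X' := hkill'.module
      haveI : IsScalarTower A (ResidueField A) X' := hkill'.isScalarTower
      haveI : Module.Finite (ResidueField A) X' := Module.Finite.of_restrictScalars_finite A _ _
      let r := Module.finrank (ResidueField A) X'
      let e : X' ≃ₗ[A] (Fin r → ResidueField A) :=
        ((Module.finBasis (ResidueField A) X').equivFun).restrictScalars A
      obtain ⟨e1⟩ := FlatLoc6.exists_residueEquiv (A := A) (B := B) M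
      let E : (M ⊗[A] X') ≃ₗ[B] (Fin r → EGA4.FibMod A B M) :=
        (AlgebraTensorModule.congr (LinearEquiv.refl B M) e).trans
          ((TensorProduct.piRight A B M fun _ : Fin r => ResidueField A).trans (LinearEquiv.piCongrRight fun _ => e1))
      refine LC.subsingleton_H_of_equiv J E.symm 1 ?_
      exact key r
    refine subsingleton_H_X₂ J (LinearMap.range (FlatLoc6.tmap (B := B) M X'.subtype)).subtype
      (FlatLoc6.tmap (B := B) M X'.mkQ) Subtype.val_injective (fun z => ?_) (fun z => ?_) 1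
      (subsingleton_H1_range J M hU X'.subtype Subtype.val_injective h') (ih Q hkillQ)
    · rw [FlatLoc6.tmap_apply]
      refine (lTensor_exact M (LinearMap.exact_subtype_mkQ X') (Submodule.mkQ_surjective X') z).trans ?_
      exact ⟨fun ⟨w, hw⟩ => ⟨⟨z, w, (FlatLoc6.tmap_apply _ _).trans hw⟩, rfl⟩,
        fun ⟨⟨_, w, hw⟩, hz⟩ => ⟨w, by rw [← FlatLoc6.tmap_apply (B := B), hw]; exact hz⟩⟩
    · obtain ⟨w, hw⟩ := LinearMap.lTensor_surjective M (Submodule.mkQ_surjective X') z
      exact ⟨w, (FlatLoc6.tmap_apply _ _).trans hw⟩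

include hU in
/-- Torsion on the closed fibre lifts to all infinitesimal levels. -/
theorem exists_torsion_lift_pow
    (h : Subsingleton ((localCohomology J 1).obj (ModuleCat.of B (EGA4.FibMod A B M)))) (n : ℕ) (hn : n ≠ 0)
    (x : M) (hx : x ⊗ₜ[A] (1 : A ⧸ maximalIdeal A ^ 1) ∈ DRing.torsionSub J (M ⊗[A] (A ⧸ maximalIdeal A ^ 1))) :
    ∃ y : M, (y - x) ∈ (EGA4.mB A B • ⊤ : Submodule B M) ∧
      y ⊗ₜ[A] (1 : A ⧸ maximalIdeal A ^ n) ∈ DRing.torsionSub J (M ⊗[A] (A ⧸ maximalIdeal A ^ n)) := by
  have hle : maximalIdeal A ^ n ≤ maximalIdeal A ^ 1 := Ideal.pow_le_pow_right (Nat.one_le_iff_ne_zero.2 hn)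
  let π : (A ⧸ maximalIdeal A ^ n) →ₗ[A] (A ⧸ maximalIdeal A ^ 1) := Submodule.mapQ _ _ LinearMap.id hle
  have hπ : Function.Surjective π := fun q => by
    obtain ⟨a, rfl⟩ := Submodule.Quotient.mk_surjective _ q
    exact ⟨Submodule.Quotient.mk a, rfl⟩
  let g := FlatLoc6.tmap (B := B) M π
  have hkill : maximalIdeal A ^ n ≤ Module.annihilator A (LinearMap.ker π) := fun a ha =>
    Module.mem_annihilator.2 fun q => Subtype.ext (by
      obtain ⟨b, hb⟩ := Ideal.Quotient.mk_surjective (q.1)
      show a • q.1 = 0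
      rw [← hb]
      exact (Submodule.Quotient.mk_eq_zero _).2 ((maximalIdeal A ^ n).mul_mem_right b ha))
  have hk := subsingleton_H1_range J M hU (LinearMap.ker π).subtype Subtype.val_injective
    (subsingleton_H1_tensor J M hU h n (LinearMap.ker π) hkill)
  have heq : LinearMap.range (FlatLoc6.tmap (B := B) M (LinearMap.ker π).subtype) = LinearMap.ker g := by
    ext z
    rw [LinearMap.mem_ker, FlatLoc6.tmap_apply]
    exact ⟨fun ⟨w, hw⟩ => (lTensor_exact M (LinearMap.exact_subtype_ker_map π) hπ z).2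
        ⟨w, (FlatLoc6.tmap_apply _ _).symm.trans hw⟩,
      fun hz => by
        obtain ⟨w, hw⟩ := (lTensor_exact M (LinearMap.exact_subtype_ker_map π) hπ z).1 hz
        exact ⟨w, (FlatLoc6.tmap_apply _ _).trans hw⟩⟩
  rw [heq] at hk
  obtain ⟨⟨v, hv⟩, hgv⟩ := exists_torsion_lift J g (fun z => by
    obtain ⟨w, hw⟩ := LinearMap.lTensor_surjective M hπ z
    exact ⟨w, (FlatLoc6.tmap_apply _ _).trans hw⟩) hk ⟨_, hx⟩
  have hs : ∀ v : M ⊗[A] (A ⧸ maximalIdeal A ^ n), ∃ y : M, y ⊗ₜ[A] (1 : A ⧸ maximalIdeal A ^ n) = v := fun v => by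
    induction v using TensorProduct.induction_on with
    | zero => exact ⟨0, TensorProduct.zero_tmul _ _⟩
    | tmul m q =>
      obtain ⟨a, rfl⟩ := Ideal.Quotient.mk_surjective q
      refine ⟨a • m, ?_⟩
      rw [TensorProduct.smul_tmul, Algebra.smul_def, mul_one]
      rfl
    | add a b ha hb => obtain ⟨a, rfl⟩ := ha; obtain ⟨b, rfl⟩ := hb; exact ⟨a + b, TensorProduct.add_tmul _ _ _⟩
  obtain ⟨y, rfl⟩ := hs v
  refine ⟨y, ?_, hv⟩
  rw [← pow_one (EGA4.mB A B), ← tmul_one_eq_zero_iff_pow (A := A) (B := B) M 1, TensorProduct.sub_tmul, sub_eq_zero]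
  exact hgv

variable {F E0 E1 G : Type u}
  [AddCommGroup F] [Module B F] [Module A F] [IsScalarTower A B F] [Module.Finite B F]
  [AddCommGroup E0] [Module B E0] [Module A E0] [IsScalarTower A B E0] [Module.Finite B E0] [Module.Flat A E0]
  [AddCommGroup E1] [Module B E1] [Module A E1] [IsScalarTower A B E1] [Module.Finite B E1] [Module.Flat A E1]
  [AddCommGroup G] [Module B G] [Module A G] [IsScalarTower A B G] [Module.Finite B G]
  {f : F →ₗ[B] E0} {u : E0 →ₗ[B] E1} {v : E1 →ₗ[B] G}
  (hf : Function.Injective f) (hfu : Function.Exact f u) (huv : Function.Exact u v) (hv : Function.Surjective v)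
  (hGU : ∀ q : PrimeSpectrum B, ¬ J ≤ q.asIdeal → FlatCA.FlatAt A q.asIdeal G)
  [IsLocalRing B] [IsLocalHom (algebraMap A B)]

include hf hfu huv hv hGU in
/-- Vanishing of `H²` on the closed fibre of the kernel gives depth two there. -/
theorem two_le_fibMod_of_H2 (h0 : 2 ≤ LocCoh.idealDepth J (EGA4.FibMod A B E0))
    (h1 : 1 ≤ LocCoh.idealDepth J (EGA4.FibMod A B E1))
    (hH2 : Subsingleton ((localCohomology J 2).obj (ModuleCat.of B (EGA4.FibMod A B F)))) :
    2 ≤ LocCoh.idealDepth J (EGA4.FibMod A B F) := by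
  obtain ⟨hKU, -⟩ := flatAt_range_ker J hf hfu huv hv hGU
  let K := LinearMap.range u
  have hexF : Function.Exact f u.rangeRestrict := fun z =>
    ⟨fun h => (hfu z).1 (congrArg Subtype.val h), fun h => Subtype.ext ((hfu z).2 h)⟩
  obtain ⟨hKex, hKsurj⟩ := fibMap_exact (A := A) f u.rangeRestrict hexF u.surjective_rangeRestrict
  have e0 : ∀ i < 2, Subsingleton ((localCohomology J i).obj (ModuleCat.of B (EGA4.FibMod A B E0))) :=
    (LC.le_idealDepth_iff_H J _ 2).1 (by exact_mod_cast h0)
  -- `H¹` of the closed fibre of the image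
  have hR : Subsingleton ((localCohomology J 2).obj (ModuleCat.of B (LinearMap.range (fibMap A f)))) :=
    subsingleton_H_X₃ J (LinearMap.ker (fibMap A f)).subtype (fibMap A f).rangeRestrict Subtype.val_injective
      (fun z => ⟨fun hz => ⟨⟨z, congrArg Subtype.val hz⟩, rfl⟩, fun ⟨w, hw⟩ => hw ▸ Subtype.ext w.2⟩)
      (LinearMap.surjective_rangeRestrict _) 2 hH2
      (subsingleton_H_succ_of_support J _ (support_ker_fibMap J f u.rangeRestrict hf hexF u.surjective_rangeRestrict hKU) 2)
  have hK1 : Subsingleton ((localCohomology J 1).obj (ModuleCat.of B (EGA4.FibMod A B K))) :=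
    subsingleton_H_X₃ J (LinearMap.range (fibMap A f)).subtype (fibMap A u.rangeRestrict) Subtype.val_injective
      (fun z => (hKex z).trans ⟨fun ⟨w, hw⟩ => ⟨⟨z, w, hw⟩, rfl⟩, fun ⟨⟨_, w, hw⟩, hz⟩ => ⟨w, hw.trans hz⟩⟩)
      hKsurj 1 (e0 1 one_lt_two) hR
  obtain ⟨c, hc⟩ := Ideal.exists_pow_inf_eq_pow_smul (EGA4.mB A B) (K : Submodule B E1)
  have hdK : 1 ≤ LocCoh.idealDepth J (EGA4.FibMod A B K) := by
    rw [← Nat.cast_one, LC.le_idealDepth_iff_H]
    intro i hi
    obtain rfl : i = 0 := by omega
    refine (LC.subsingleton_H0_iff J _).2 ((Submodule.eq_bot_iff _).2 fun t ht => ?_)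
    obtain ⟨k, rfl⟩ := Submodule.Quotient.mk_surjective _ t
    have hk : k ⊗ₜ[A] (1 : A ⧸ maximalIdeal A ^ 1) ∈ DRing.torsionSub J (K ⊗[A] (A ⧸ maximalIdeal A ^ 1)) := by
      obtain ⟨N, hN⟩ := ht
      refine ⟨N, fun a ha => ?_⟩
      rw [TensorProduct.smul_tmul', tmul_one_eq_zero_iff_pow (A := A) (B := B) K 1, pow_one,
        ← Submodule.Quotient.mk_eq_zero, Submodule.Quotient.mk_smul]
      exact hN a ha
    obtain ⟨y, hyk, hy⟩ := exists_torsion_lift_pow J K hKU hK1 (c + 1) (by omega) k hk
    have hyE : (y : E1) ∈ ((EGA4.mB A B) ^ (c + 1) • ⊤ : Submodule B E1) := by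
      rw [← tmul_one_eq_zero_iff_pow (A := A) (B := B) E1]
      have hd : 1 ≤ LocCoh.idealDepth J (E1 ⊗[A] (A ⧸ maximalIdeal A ^ (c + 1))) := by
        rw [← Nat.cast_one] at h1 ⊢
        exact le_idealDepth_tensor J E1 (fun q _ => flat_localized q.asIdeal.primeCompl E1) le_rfl h1 (c + 1) _
          (by rw [Ideal.annihilator_quotient])
      haveI : Module.Finite B (E1 ⊗[A] (A ⧸ maximalIdeal A ^ (c + 1))) := LocalCrit.finite_tensor (C := B) E1 _
      rw [← Nat.cast_one, LC.le_idealDepth_iff_H] at hd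
      refine (Submodule.eq_bot_iff _).1 ((LC.subsingleton_H0_iff J _).1 (hd 0 one_pos)) _ ?_
      obtain ⟨N, hN⟩ := hy
      refine ⟨N, fun a ha => ?_⟩
      have h2 := congrArg (AlgebraTensorModule.map K.subtype (LinearMap.id (R := A) (M := A ⧸ maximalIdeal A ^ (c + 1))))
        (hN a ha)
      rw [map_zero, map_smul] at h2
      exact h2
    have hy2 : (y : E1) ∈ (EGA4.mB A B • K : Submodule B E1) := by
      have h3 : (y : E1) ∈ ((EGA4.mB A B) ^ (c + 1) • ⊤ ⊓ K : Submodule B E1) := ⟨hyE, y.2⟩
      rw [hc (c + 1) (Nat.le_succ c), Nat.add_sub_cancel_left, pow_one] at h3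
      exact Submodule.smul_mono le_rfl inf_le_right h3
    refine (Submodule.Quotient.mk_eq_zero _).2 ?_
    have hy3 : y ∈ (EGA4.mB A B • ⊤ : Submodule B K) := Submodule.mem_smul_top_iff _ _ y |>.2 hy2
    simpa using sub_mem hy3 hyk
  haveI : Module.Flat A K := flat_of_one_le_fibMod J K hKU hdK
  have hFi := fibMap_injective_of_flat (A := A) f u.rangeRestrict hf hexF u.surjective_rangeRestrict
  exact two_le_idealDepth_of_exact J (fibMap A f) (fibMap A u.rangeRestrict) hFi hKex h0 hdK

end Groth.Agent.KFlatLib
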