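import Groth.Agent.KFlatLib.Ring.LocalFibre
import Groth.Agent.KFlatLib.Ring.FourTermH2
import Groth.Agent.LC.Colimit
import Groth.Agent.LC.CohAcyclic
import Mathlib.RingTheory.IsTensorProduct

/-!
# Depth along a closed subset after a base change
-/

set_option autoImplicit false
set_option linter.style.haveILetI false

universe u

open TensorProduct IsLocalRing CategoryTheory

namespace Groth.Agent.KFlatLib

/-- Depth does not see the ring. -/
theorem idealDepth_restrict {R R' : Type u} [CommRing R] [CommRing R'] [IsNoetherianRing R] [IsNoetherianRing R']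
    [Algebra R R'] (I : Ideal R) (M : Type u) [AddCommGroup M] [Module R' M] [Module R M] [IsScalarTower R R' M]
    [Module.Finite R' M] [Module.Finite R M] :
    LocCoh.idealDepth (I.map (algebraMap R R')) M = LocCoh.idealDepth I M :=
  LC.enat_eq_of_nat_le_iff fun n => by
    rw [LC.le_idealDepth_iff_H, LC.le_idealDepth_iff_H]
    exact forall₂_congr fun i _ => ((LC.exists_indep I i M).choose.toEquiv).subsingleton_congr

theorem le_idealDepth_iff_H_restrict {R R' : Type u} [CommRing R] [CommRing R'] [IsNoetherianRing R] [IsNoetherianRing R']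
    [Algebra R R'] (I : Ideal R) (M : Type u) [AddCommGroup M] [Module R' M] [Module R M] [IsScalarTower R R' M]
    [Module.Finite R' M] (n : ℕ) :
    (n : ℕ∞) ≤ LocCoh.idealDepth (I.map (algebraMap R R')) M ↔
      ∀ i < n, Subsingleton ((localCohomology I i).obj (ModuleCat.of R M)) := by
  rw [LC.le_idealDepth_iff_H]
  exact forall₂_congr fun i _ => ((LC.exists_indep I i M).choose.toEquiv).subsingleton_congr

theorem le_idealDepth_of_retract {R : Type u} [CommRing R] [IsNoetherianRing R] (I : Ideal R)
    {M N : Type u} [AddCommGroup M] [Module R M] [Module.Finite R M] [AddCommGroup N] [Module R N] [Module.Finite R N]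
    (i : M →ₗ[R] N) (r : N →ₗ[R] M) (h : ∀ x, r (i x) = x) {k : ℕ} (hN : (k : ℕ∞) ≤ LocCoh.idealDepth I N) :
    (k : ℕ∞) ≤ LocCoh.idealDepth I M := by
  rw [LC.le_idealDepth_iff_H] at hN ⊢
  intro j hj
  haveI := hN j hj
  refine subsingleton_of_forall_eq 0 fun z => ?_
  have hid : ModuleCat.ofHom i ≫ ModuleCat.ofHom r = 𝟙 (ModuleCat.of R M) :=
    ModuleCat.hom_ext (LinearMap.ext h)
  have := ConcreteCategory.congr_hom (congrArg (fun φ => (localCohomology I j).map φ) hid) z
  simp only [Functor.map_comp, CategoryTheory.Functor.map_id] at this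
  rw [← show ((localCohomology I j).map (ModuleCat.ofHom r)).hom (((localCohomology I j).map (ModuleCat.ofHom i)).hom z) = z
    from this, Subsingleton.elim (((localCohomology I j).map (ModuleCat.ofHom i)).hom z) 0, map_zero]

/-- A map bijective after localization at a prime has an inverse up to an element outside. -/
theorem exists_inverse_up_to {R : Type u} [CommRing R] {X Y : Type u} [AddCommGroup X] [Module R X] [Module.Finite R X]
    [IsNoetherianRing R] [AddCommGroup Y] [Module R Y] [Module.Finite R Y] (f : X →ₗ[R] Y) (S : Submonoid R)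
    (hk : ∀ x, f x = 0 → ∃ s ∈ S, s • x = 0) (hc : ∀ y, ∃ s ∈ S, s • y ∈ LinearMap.range f) :
    ∃ (c : R) (g : Y →ₗ[R] X), c ∈ S ∧ (∀ x, g (f x) = c • x) ∧ ∀ y, f (g y) = c • y := by
  classical
  obtain ⟨a, ha⟩ : ∃ a ∈ S, ∀ x ∈ LinearMap.ker f, a • x = 0 := by
    obtain ⟨l, v, hv⟩ := Submodule.fg_iff_exists_fin_generating_family.1 (IsNoetherian.noetherian (LinearMap.ker f))
    choose s hsS hs using fun i : Fin l => hk (v i) (LinearMap.mem_ker.1 (hv ▸ Submodule.subset_span ⟨i, rfl⟩))
    refine ⟨∏ i, s i, prod_mem fun i _ => hsS i, fun x hx => ?_⟩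
    rw [← hv] at hx
    induction hx using Submodule.span_induction with
    | mem x hx =>
      obtain ⟨i, rfl⟩ := hx
      rw [← Finset.prod_erase_mul _ _ (Finset.mem_univ i), mul_smul, hs i, smul_zero]
    | zero => rw [smul_zero]
    | add x y _ _ hx hy => rw [smul_add, hx, hy, add_zero]
    | smul r x _ hx => rw [smul_comm, hx, smul_zero]
  obtain ⟨b, hb⟩ : ∃ b ∈ S, ∀ y, b • y ∈ LinearMap.range f := by
    obtain ⟨l, v, hv⟩ := Submodule.fg_iff_exists_fin_generating_family.1 (Module.Finite.fg_top (R := R) (M := Y))
    choose s hsS hs using fun i : Fin l => hc (v i)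
    refine ⟨∏ i, s i, prod_mem fun i _ => hsS i, fun y => ?_⟩
    have hy : y ∈ Submodule.span R (Set.range v) := hv ▸ trivial
    induction hy using Submodule.span_induction with
    | mem x hx =>
      obtain ⟨i, rfl⟩ := hx
      rw [← Finset.prod_erase_mul _ _ (Finset.mem_univ i), mul_smul]
      exact Submodule.smul_mem _ _ (hs i)
    | zero => rw [smul_zero]; exact zero_mem _
    | add x y _ _ hx hy => rw [smul_add]; exact add_mem hx hy
    | smul r x _ hx => rw [smul_comm]; exact Submodule.smul_mem _ _ hx
  choose x hx using fun y => LinearMap.mem_range.1 (hb.2 y)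
  let g : Y →ₗ[R] X :=
    { toFun := fun y => a • x y
      map_add' := fun y z => by
        have h0 : f (x (y + z) - (x y + x z)) = 0 := by rw [map_sub, map_add, hx, hx, hx, smul_add, sub_self]
        have := ha.2 _ h0
        rwa [smul_sub, sub_eq_zero, smul_add] at this
      map_smul' := fun r y => by
        have h0 : f (x (r • y) - r • x y) = 0 := by rw [map_sub, map_smul, hx, hx, smul_comm, sub_self]
        have := ha.2 _ h0
        rw [smul_sub, sub_eq_zero, smul_comm] at this
        exact this }
  refine ⟨a * b, g, mul_mem ha.1 hb.1, fun z => ?_, fun y => ?_⟩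
  · have h0 : f (x (f z) - b • z) = 0 := by rw [map_sub, hx, map_smul, sub_self]
    have := ha.2 _ h0
    rw [smul_sub, sub_eq_zero] at this
    show a • x (f z) = _
    rw [this, mul_smul]
  · show f (a • x y) = _
    rw [map_smul, hx, mul_smul]

variable {A B : Type u} [CommRing A] [CommRing B] [IsNoetherianRing A] [IsNoetherianRing B] [Algebra A B]
variable (J : Ideal B) (E : Type u) [AddCommGroup E] [Module B E] [Module A E] [IsScalarTower A B E]
  [Module.Finite B E] [Module.Flat A E]

/-- Fibre depths bound the depth of every tensor product with a module of the base. -/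
theorem subsingleton_H_tensor (k : ℕ)
    (h : ∀ q : PrimeSpectrum B, J ≤ q.asIdeal →
      (k : ℕ∞) ≤ LocCoh.idealDepth (q.asIdeal.map (algebraMap B (EGA4.FibLocRing A B q.asIdeal))) (EGA4.FibLocMod A B q.asIdeal E))
    (X : Type u) [AddCommGroup X] [Module A X] (i : ℕ) (hi : i < k) :
    Subsingleton ((localCohomology J i).obj (ModuleCat.of B (E ⊗[A] X))) := by
  have hfin : ∀ (X₀ : Type u) [AddCommGroup X₀] [Module A X₀] [Module.Finite A X₀],
      Subsingleton ((localCohomology J i).obj (ModuleCat.of B (E ⊗[A] X₀))) := fun X₀ _ _ _ => by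
    haveI : Module.Finite B (E ⊗[A] X₀) := LocalCrit.finite_tensor (C := B) E X₀
    refine (LC.le_idealDepth_iff_H J _ k).1 ?_ i hi
    rw [LC.idealDepth_eq_iInf_depth]
    refine le_iInf₂ fun q hq => ?_
    by_cases hs : q ∈ Module.support B (E ⊗[A] X₀)
    · obtain ⟨hE, hX⟩ := (FlatLoc6.mem_support_tensor_iff q).1 hs
      haveI := FlatLoc6.isLocalRing_fibLocRing (A := A) q.asIdeal
      have hk := h q hq
      rw [map_eq_maximalIdeal_fibLocRing q.asIdeal, show LocCoh.idealDepth (maximalIdeal (EGA4.FibLocRing A B q.asIdeal))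
        (EGA4.FibLocMod A B q.asIdeal E) = LocCoh.depth (EGA4.FibLocRing A B q.asIdeal) (EGA4.FibLocMod A B q.asIdeal E) from rfl,
        FlatLoc6.fibDepth_eq] at hk
      rw [(FlatLoc6.formulas_atPrime (A := A) E X₀ (q.asIdeal.comap (algebraMap A B)) q.asIdeal rfl hE hX).1]
      exact hk.trans le_add_self
    · haveI := Module.notMem_support_iff.1 hs
      rw [LocCoh.depth, LocCoh.idealDepth, if_pos (Subsingleton.elim _ _)]
      exact le_top
  let T := {X₀ : Submodule A X // X₀.FG}
  haveI : Nonempty T := ⟨⟨⊥, Submodule.fg_bot⟩⟩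
  haveI : IsDirectedOrder T := ⟨fun a b => ⟨⟨a.1 ⊔ b.1, a.2.sup b.2⟩, le_sup_left, le_sup_right⟩⟩
  let K : T ⥤ ModuleCat.{u} B :=
    { obj := fun a => ModuleCat.of B (E ⊗[A] a.1)
      map := fun {a b} g => ModuleCat.ofHom (FlatLoc6.tmap (B := B) E (Submodule.inclusion (leOfHom g)))
      map_id := fun a => ModuleCat.hom_ext (LinearMap.ext fun z => by
        show FlatLoc6.tmap (B := B) E _ z = z
        induction z using TensorProduct.induction_on with
        | zero => rw [map_zero]
        | tmul e x => rfl
        | add x y hx hy => rw [map_add, hx, hy])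
      map_comp := fun {a b c} g g' => ModuleCat.hom_ext (LinearMap.ext fun z => by
        show FlatLoc6.tmap (B := B) E _ z = FlatLoc6.tmap (B := B) E _ (FlatLoc6.tmap (B := B) E _ z)
        induction z using TensorProduct.induction_on with
        | zero => rw [map_zero, map_zero, map_zero]
        | tmul e x => rfl
        | add x y hx hy => rw [map_add, map_add, map_add, hx, hy]) }
  let f : ∀ a : T, K.obj a ⟶ ModuleCat.of B (E ⊗[A] X) := fun a =>
    ModuleCat.ofHom (FlatLoc6.tmap (B := B) E a.1.subtype)
  have hK : LC.IsElemColim K f :=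
    { nat := fun {a b} g => ModuleCat.hom_ext (LinearMap.ext fun z => by
        show FlatLoc6.tmap (B := B) E _ (FlatLoc6.tmap (B := B) E _ z) = FlatLoc6.tmap (B := B) E _ z
        induction z using TensorProduct.induction_on with
        | zero => rw [map_zero, map_zero, map_zero]
        | tmul e x => rfl
        | add x y hx hy => rw [map_add, map_add, map_add, hx, hy])
      rep := fun m => by
        induction m using TensorProduct.induction_on with
        | zero => exact ⟨⟨⊥, Submodule.fg_bot⟩, 0, map_zero _⟩
        | tmul e x => exact ⟨⟨A ∙ x, Submodule.fg_span_singleton x⟩, e ⊗ₜ ⟨x, Submodule.mem_span_singleton_self x⟩, rfl⟩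
        | add x y hx hy =>
          obtain ⟨a, x', rfl⟩ := hx
          obtain ⟨b, y', rfl⟩ := hy
          refine ⟨⟨a.1 ⊔ b.1, a.2.sup b.2⟩, FlatLoc6.tmap (B := B) E (Submodule.inclusion le_sup_left) x' +
            FlatLoc6.tmap (B := B) E (Submodule.inclusion le_sup_right) y', ?_⟩
          show FlatLoc6.tmap (B := B) E _ (_ + _) = _
          rw [map_add]
          congr 1
          · induction x' using TensorProduct.induction_on with
            | zero => rw [map_zero, map_zero, map_zero]
            | tmul e x => rfl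
            | add x y hx hy => rw [map_add, map_add, map_add, hx, hy]
          · induction y' using TensorProduct.induction_on with
            | zero => rw [map_zero, map_zero, map_zero]
            | tmul e x => rfl
            | add x y hx hy => rw [map_add, map_add, map_add, hx, hy]
      zero := fun a x hx => ⟨a, 𝟙 a, by
        have hx0 : x = 0 := by
          refine Module.Flat.lTensor_preserves_injective_linearMap (M := E) a.1.subtype Subtype.val_injective ?_
          rw [map_zero, ← FlatLoc6.tmap_apply (B := B)]
          exact hx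
        rw [hx0, map_zero]⟩ }
  refine subsingleton_of_forall_eq 0 fun z => ?_
  obtain ⟨a, w, rfl⟩ := (hK.localCohomology J i).rep z
  haveI : Module.Finite A a.1 := ⟨(Submodule.fg_top _).2 a.2⟩
  haveI := hfin a.1
  rw [show w = 0 from Subsingleton.elim (α := (localCohomology J i).obj (ModuleCat.of B (E ⊗[A] a.1))) _ _, map_zero]

end Groth.Agent.KFlatLib
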