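import Groth.Agent.KFlatLib.Ring.RgammaHDI
import Groth.Agent.LC.CohTorsion
import Groth.Agent.TriCat.KInjRes
import Mathlib.Algebra.Module.Injective

/-!
# The cohomological amplitude of `RΓ_I` for an ideal of a Noetherian ring
-/

set_option linter.style.haveILetI false
set_option backward.isDefEq.respectTransparency false

universe u

open CategoryTheory CategoryTheory.Limits

attribute [local instance] HasDerivedCategory.standard

namespace Groth.Agent.KFlatLib.RgammaHDI

variable {A : Type u} [CommRing A] [IsNoetherianRing A]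

/-- Injective modules are divisible up to torsion. -/
lemma exists_div (M : Type u) [AddCommGroup M] [Module A M] [Module.Injective A M] (f : A) (w : M) (n : ℕ) :
    ∃ (w' : M) (m : ℕ), f ^ m • (f ^ n • w' - w) = 0 := by
  let c : ℕ →o Ideal A := ⟨fun k => LinearMap.ker (LinearMap.mulLeft A (f ^ k)), fun i j h x hx => by
    rw [LinearMap.mem_ker, LinearMap.mulLeft_apply] at hx ⊢
    rw [← Nat.sub_add_cancel h, pow_add, mul_assoc, hx, mul_zero]⟩
  obtain ⟨m, hm⟩ := monotone_stabilizes_iff_noetherian.2 (inferInstanceAs (IsNoetherian A A)) c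
  have hker : LinearMap.ker (LinearMap.mulLeft A (f ^ (m + n))) ≤
      LinearMap.ker (LinearMap.toSpanSingleton A M (f ^ m • w)) := fun a ha => by
    have h1 : a ∈ c m := (hm (m + n) (Nat.le_add_right m n)).ge ha
    change f ^ m * a = 0 at h1
    rw [LinearMap.mem_ker, LinearMap.toSpanSingleton_apply, smul_smul, mul_comm, h1, zero_smul]
  let i := (LinearMap.ker (LinearMap.mulLeft A (f ^ (m + n)))).liftQ (LinearMap.mulLeft A (f ^ (m + n))) le_rfl
  have hi : Function.Injective i := by
    rw [← LinearMap.ker_eq_bot, Submodule.ker_liftQ, Submodule.mkQ_map_self]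
  obtain ⟨g, hg⟩ := Module.Injective.extension_property A M _ _ i hi ((LinearMap.ker _).liftQ _ hker)
  refine ⟨g 1, m, ?_⟩
  have h2 : g (f ^ (m + n) * 1) = (1 : A) • (f ^ m • w) := LinearMap.congr_fun hg (Submodule.Quotient.mk 1)
  rw [one_smul, mul_one, ← mul_one (f ^ (m + n)), ← smul_eq_mul, map_smul, pow_add, mul_smul] at h2
  rw [smul_sub, h2, sub_self]

omit [IsNoetherianRing A] in
lemma exact_at {J : CochainComplex (ModuleCat.{u} A) ℤ} {p q r : ℤ} (hpq : p + 1 = q) (hqr : q + 1 = r)
    (h : J.ExactAt q) (z : J.X q) (hz : (J.d q r).hom z = 0) : ∃ y : J.X p, (J.d p q).hom y = z := by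
  have h1 : (J.sc' p q r).Exact := (J.exactAt_iff' p q r (by simp; omega) (by simp; omega)).1 h
  exact (ShortComplex.moduleCat_exact_iff _).1 h1 z hz

variable (J : CochainComplex (ModuleCat.{u} A) ℤ) [hJinj : ∀ n, Module.Injective A (J.X n)]

/-- Torsion cycles in high degrees are boundaries of torsion elements. -/
theorem exists_torsion_preimage (c : ℤ) (hJ : ∀ n, c < n → J.ExactAt n) (s : Finset A) :
    ∀ (q p r : ℤ), p + 1 = q → q + 1 = r → c + s.card < q → ∀ z ∈ DRing.torsionSub (Ideal.span (s : Set A)) (J.X q),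
      (J.d q r).hom z = 0 →
        ∃ y ∈ DRing.torsionSub (Ideal.span (s : Set A)) (J.X p), (J.d p q).hom y = z := by
  classical
  induction s using Finset.induction_on with
  | empty =>
    intro q p r hpq hqr hq z _ hdz
    obtain ⟨y, hy⟩ := exact_at hpq hqr (hJ q (by simpa using hq)) z hdz
    refine ⟨y, ⟨1, fun a ha => ?_⟩, hy⟩
    rw [Finset.coe_empty, Ideal.span_empty, pow_one, Ideal.mem_bot] at ha
    rw [ha, zero_smul]
  | insert f s hf ih =>
    intro q p r hpq hqr hq z hz hdz
    rw [Finset.card_insert_of_notMem hf, Nat.cast_add, Nat.cast_one] at hq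
    have hsp : Ideal.span (↑(insert f s) : Set A) = Ideal.span {f} ⊔ Ideal.span (s : Set A) := by
      rw [Finset.coe_insert, Ideal.span_insert]
    rw [hsp] at hz ⊢
    obtain ⟨k, hk⟩ := hz
    have hzs : z ∈ DRing.torsionSub (Ideal.span (s : Set A)) (J.X q) :=
      ⟨k, fun a ha => hk a (Ideal.pow_right_mono le_sup_right k ha)⟩
    have hfz : f ^ k • z = 0 :=
      hk _ (Ideal.pow_right_mono le_sup_left k (Ideal.pow_mem_pow (Ideal.mem_span_singleton_self f) k))
    obtain ⟨y, hy, hdy⟩ := ih q p r hpq hqr (by omega) z hzs hdz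
    obtain ⟨w, hw, hdw⟩ := ih p (p - 1) q (by omega) hpq (by omega) (f ^ k • y)
      ((DRing.torsionSub _ _).smul_mem _ hy) (by rw [map_smul, hdy, hfz])
    haveI : Module.Injective A (DRing.torsionSub (Ideal.span (s : Set A)) (J.X (p - 1))) := by
      rw [LC.torsionSub_eq_iSup]; exact LC.injective_torsion _
    obtain ⟨w', m, hm⟩ := exists_div (DRing.torsionSub (Ideal.span (s : Set A)) (J.X (p - 1))) f ⟨w, hw⟩ k
    have hm' : f ^ m • (f ^ k • (w' : J.X (p - 1)) - w) = 0 := congrArg Subtype.val hm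
    let y' := y - (J.d (p - 1) p).hom (w' : J.X (p - 1))
    have hy's : y' ∈ DRing.torsionSub (Ideal.span (s : Set A)) (J.X p) :=
      sub_mem hy (DRing.map_mem_torsionSub _ _ w'.2)
    have hy'f : f ^ (m + k) • y' = 0 := by
      rw [pow_add, mul_smul, smul_sub, ← map_smul, ← hdw, ← map_sub, ← map_smul,
        ← neg_sub (f ^ k • (w' : J.X (p - 1))) w, smul_neg, hm', neg_zero, map_zero]
    obtain ⟨l, hl⟩ := hy's
    refine ⟨y', ⟨(m + k) + l, fun a ha => ?_⟩, ?_⟩
    · obtain ⟨b, hb, b', hb', rfl⟩ := Submodule.mem_sup.1 (Ideal.sup_pow_add_le_pow_sup_pow ha)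
      rw [Ideal.span_singleton_pow] at hb
      obtain ⟨t, rfl⟩ := Ideal.mem_span_singleton'.1 hb
      rw [add_smul, mul_smul, hy'f, smul_zero, hl b' hb', add_zero]
    · rw [map_sub, hdy, ← ConcreteCategory.comp_apply]
      simp

/-- Local cohomology vanishes above the amplitude. -/
theorem exists_bound_HDI (I : Ideal A) : ∃ r : ℕ, ∀ (K : Dual.D A) (c q : ℤ), K.IsLE c → c + r < q →
    Subsingleton (Dual2.HDI A I K q) := by
  obtain ⟨s, hs⟩ := (IsNoetherian.noetherian I : I.FG)
  refine ⟨s.card, fun K c q hK hq => ?_⟩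
  haveI := hK
  obtain ⟨J, g, hJ, hg, -, hinj⟩ := TriCat.exists_kInjective_resolution'.{u} (DerivedCategory.Q.objPreimage K)
  haveI := hJ
  haveI : ∀ n, Module.Injective A (J.X n) := fun n => (Module.injective_iff_injective_object A _).2 (hinj n)
  let eK : K ≅ DerivedCategory.Q.obj J :=
    (DerivedCategory.Q.objObjPreimageIso K).symm ≪≫
      @asIso _ _ _ _ (DerivedCategory.Q.map g) ((DerivedCategory.isIso_Q_map_iff_quasiIso _ _).2 hg)
  haveI : (DerivedCategory.Q.obj J).IsLE c := DerivedCategory.TStructure.t.isLE_of_iso eK c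
  have hex : ∀ n, c < n → J.ExactAt n := fun n hn =>
    (HomologicalComplex.exactAt_iff_isZero_homology _ _).2 ((DerivedCategory.isZero_of_isLE (DerivedCategory.Q.obj J) c n hn).of_iso
      ((DerivedCategory.homologyFunctorFactors (ModuleCat.{u} A) n).app J).symm)
  have hT : Subsingleton (T I ((DerivedCategory.Q.obj J)⟦q⟧)) := subsingleton_of_forall_eq 0 fun w => by
    obtain ⟨z, rfl⟩ := theta_surjective I J q w
    have hz : elt I J q z ∈ DRing.torsionSub (Ideal.span (s : Set A)) (J.X q) := by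
      show _ ∈ DRing.torsionSub (Submodule.span A (s : Set A)) (J.X q)
      rw [hs]
      exact (z.1 : DRing.torsionSub I (J.X q)).2
    obtain ⟨y, ⟨n, hn⟩, hdy⟩ := exists_torsion_preimage J c hex s q (q - 1) (q + 1) (by omega) rfl hq _ hz (d_elt I J q z)
    exact theta_eq_zero_of I J q z y n (fun a ha => hn a (by
      show a ∈ (Submodule.span A (s : Set A) : Ideal A) ^ n
      rw [hs]
      exact ha)) hdy
  exact @Equiv.subsingleton _ _ ((Limits.colim.mapIso (Functor.isoWhiskerLeft (diag I) ((linearYoneda A (Dual.D A)).mapIso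
    ((CategoryTheory.shiftFunctor (Dual.D A) q).mapIso eK)))).toLinearEquiv).toEquiv hT

end Groth.Agent.KFlatLib.RgammaHDI
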