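import Groth.Agent.KFlatLib.Ring.RgammaHDI
import Groth.Agent.KFlatLib.Ring.RgammaAmplitude
import Groth.Agent.LC.CohAcyclic
import Groth.Agent.KFlatLib.Scheme.TildeD

/-!
# Torsion sections of complexes of modules divisible up to torsion
-/

set_option linter.style.haveILetI false
set_option backward.isDefEq.respectTransparency false

universe u

open CategoryTheory CategoryTheory.Limits Pretriangulated

attribute [local instance] HasDerivedCategory.standard

namespace Groth.Agent.KFlatLib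

variable {A : Type u} [CommRing A]

/-- A map of complexes of modules is a quasi-isomorphism from conditions on elements. -/
lemma quasiIso_of_elements {K L : CochainComplex (ModuleCat.{u} A) ℤ} (φ : K ⟶ L)
    (hsurj : ∀ p q r : ℤ, p + 1 = q → q + 1 = r → ∀ z : L.X q, (L.d q r).hom z = 0 →
      ∃ (x : K.X q) (y : L.X p), (K.d q r).hom x = 0 ∧ (φ.f q).hom x + (L.d p q).hom y = z)
    (hinj : ∀ p q r : ℤ, p + 1 = q → q + 1 = r → ∀ (x : K.X q) (y : L.X p), (K.d q r).hom x = 0 →
      (φ.f q).hom x = (L.d p q).hom y → ∃ x' : K.X p, (K.d p q).hom x' = x) : QuasiIso φ := by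
  refine ⟨fun q => ?_⟩
  rw [quasiIsoAt_iff' φ (q - 1) q (q + 1) (by simp) (by simp)]
  let ψ := (HomologicalComplex.shortComplexFunctor' (ModuleCat.{u} A) (ComplexShape.up ℤ) (q - 1) q (q + 1)).map φ
  let γ : ShortComplex.LeftHomologyMapData ψ (K.sc' (q - 1) q (q + 1)).moduleCatLeftHomologyData
      (L.sc' (q - 1) q (q + 1)).moduleCatLeftHomologyData := default
  rw [γ.quasiIso_iff, ConcreteCategory.isIso_iff_bijective]
  have hK : ∀ v : LinearMap.ker (K.d q (q + 1)).hom, ((γ.φK.hom v).1 : L.X q) = (φ.f q).hom v.1 := fun v =>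
    LinearMap.congr_fun (congrArg ModuleCat.Hom.hom γ.commi) v
  have hπ : ∀ v, γ.φH.hom ((K.sc' (q - 1) q (q + 1)).moduleCatLeftHomologyData.π.hom v) =
      (L.sc' (q - 1) q (q + 1)).moduleCatLeftHomologyData.π.hom (γ.φK.hom v) := fun v =>
    LinearMap.congr_fun (congrArg ModuleCat.Hom.hom γ.commπ) v
  constructor
  · show Function.Injective γ.φH.hom
    rw [injective_iff_map_eq_zero]
    intro w hw
    obtain ⟨v, rfl⟩ := Submodule.Quotient.mk_surjective _ w
    have h1 : γ.φH.hom ((K.sc' (q - 1) q (q + 1)).moduleCatLeftHomologyData.π.hom v) = 0 := hw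
    rw [hπ] at h1
    obtain ⟨y, hy⟩ := (Submodule.Quotient.mk_eq_zero _).1 h1
    obtain ⟨x', hx'⟩ := hinj (q - 1) q (q + 1) (by omega) rfl v.1 y (LinearMap.mem_ker.1 v.2)
      ((hK v).symm.trans (congrArg Subtype.val hy).symm)
    exact (Submodule.Quotient.mk_eq_zero _).2 ⟨x', Subtype.ext hx'⟩
  · intro w
    obtain ⟨v, rfl⟩ := Submodule.Quotient.mk_surjective _ w
    obtain ⟨x, y, hx, hxy⟩ := hsurj (q - 1) q (q + 1) (by omega) rfl v.1 (LinearMap.mem_ker.1 v.2)
    refine ⟨(K.sc' (q - 1) q (q + 1)).moduleCatLeftHomologyData.π.hom ⟨x, LinearMap.mem_ker.2 hx⟩, ?_⟩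
    refine (hπ _).trans ((Submodule.Quotient.eq _).2 ⟨-y, Subtype.ext ?_⟩)
    show (L.d (q - 1) q).hom (-y) = (γ.φK.hom _).1 - v.1
    rw [hK, ← hxy, map_neg]
    abel

variable [IsNoetherianRing A] {J : CochainComplex (ModuleCat.{u} A) ℤ} (hdiv : ∀ n, LC.HasDiv A (J.X n))

include hdiv in
omit [IsNoetherianRing A] in
/-- Torsion cohomology is computed by torsion sections, for a finite set of generators. -/
theorem torsion_chase (s : Finset A)
    (hpow : ∀ f ∈ s, ∀ p q r : ℤ, p + 1 = q → q + 1 = r → ∀ z : J.X q, (J.d q r).hom z = 0 →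
      ∃ (k : ℕ) (w : J.X p), (J.d p q).hom w = f ^ k • z) :
    (∀ p q r : ℤ, p + 1 = q → q + 1 = r → ∀ z : J.X q, (J.d q r).hom z = 0 →
      ∃ y : J.X p, z - (J.d p q).hom y ∈ DRing.torsionSub (Ideal.span (s : Set A)) (J.X q)) ∧
    (∀ p q : ℤ, p + 1 = q → ∀ y : J.X p, (J.d p q).hom y ∈ DRing.torsionSub (Ideal.span (s : Set A)) (J.X q) →
      ∃ y' ∈ DRing.torsionSub (Ideal.span (s : Set A)) (J.X p), (J.d p q).hom y' = (J.d p q).hom y) := by
  classical
  induction s using Finset.induction_on with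
  | empty =>
    have hall : ∀ {n : ℤ} (x : J.X n), x ∈ DRing.torsionSub (Ideal.span ((∅ : Finset A) : Set A)) (J.X n) :=
      fun x => ⟨1, fun a ha => by
        rw [Finset.coe_empty, Ideal.span_empty, pow_one, Ideal.mem_bot] at ha
        rw [ha, zero_smul]⟩
    exact ⟨fun p q r _ _ z _ => ⟨0, hall _⟩, fun p q _ y _ => ⟨y, hall y, rfl⟩⟩
  | insert f s hf ih =>
    obtain ⟨ih1, ih2⟩ := ih fun g hg => hpow g (Finset.mem_insert_of_mem hg)
    have hmem : ∀ {n : ℤ} (x : J.X n) (k : ℕ), x ∈ DRing.torsionSub (Ideal.span (s : Set A)) (J.X n) →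
        f ^ k • x = 0 → x ∈ DRing.torsionSub (Ideal.span (↑(insert f s) : Set A)) (J.X n) := by
      rintro n x k ⟨l, hl⟩ hk
      refine ⟨k + l, fun a ha => ?_⟩
      rw [Finset.coe_insert, Ideal.span_insert] at ha
      obtain ⟨b, hb, b', hb', rfl⟩ := Submodule.mem_sup.1 (Ideal.sup_pow_add_le_pow_sup_pow ha)
      rw [Ideal.span_singleton_pow] at hb
      obtain ⟨t, rfl⟩ := Ideal.mem_span_singleton'.1 hb
      rw [add_smul, mul_smul, hk, smul_zero, hl b' hb', add_zero]
    have hle : Ideal.span (s : Set A) ≤ Ideal.span (↑(insert f s) : Set A) :=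
      Ideal.span_mono (by rw [Finset.coe_insert]; exact Set.subset_insert _ _)
    have hfmem : f ∈ Ideal.span (↑(insert f s) : Set A) := Ideal.subset_span (Finset.mem_insert_self f s)
    constructor
    · intro p q r hpq hqr z hz
      obtain ⟨y₀, hy₀⟩ := ih1 p q r hpq hqr z hz
      have hz₁ : (J.d q r).hom (z - (J.d p q).hom y₀) = 0 := by
        rw [map_sub, hz, ← ConcreteCategory.comp_apply]
        simp
      obtain ⟨k, w₀, hw₀⟩ := hpow f (Finset.mem_insert_self f s) p q r hpq hqr _ hz₁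
      obtain ⟨w, hw, hdw⟩ := ih2 p q hpq w₀ (hw₀ ▸ Submodule.smul_mem _ _ hy₀)
      obtain ⟨w', hw', t, ht⟩ := hdiv p (Ideal.span (s : Set A)) f w hw k
      refine ⟨y₀ + w', hmem _ (t + k) ?_ ?_⟩
      · rw [map_add, ← sub_sub]
        exact sub_mem hy₀ (DRing.map_mem_torsionSub _ _ hw')
      · rw [map_add, ← sub_sub, smul_sub, ← map_smul (J.d p q).hom (f ^ (t + k)) w', ht, map_smul, hdw, hw₀,
          pow_add, mul_smul, sub_self]
    · intro p q hpq y₀ hy₀
      obtain ⟨n, hn⟩ := hy₀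
      obtain ⟨y, hy, hdy⟩ := ih2 p q hpq y₀ ⟨n, fun a ha => hn a (Ideal.pow_right_mono hle n ha)⟩
      have hcyc : (J.d p q).hom (f ^ n • y) = 0 := by
        rw [map_smul, hdy, hn _ (Ideal.pow_mem_pow hfmem n)]
      obtain ⟨l, w₀, hw₀⟩ := hpow f (Finset.mem_insert_self f s) (p - 1) p q (by omega) hpq _ hcyc
      obtain ⟨w, hw, hdw⟩ := ih2 (p - 1) p (by omega) w₀
        (hw₀ ▸ Submodule.smul_mem _ _ (Submodule.smul_mem _ _ hy))
      obtain ⟨w', hw', t, ht⟩ := hdiv (p - 1) (Ideal.span (s : Set A)) f w hw (l + n)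
      refine ⟨y - (J.d (p - 1) p).hom w', hmem _ (t + (l + n)) (sub_mem hy (DRing.map_mem_torsionSub _ _ hw')) ?_, ?_⟩
      · rw [smul_sub, ← map_smul (J.d (p - 1) p).hom (f ^ (t + (l + n))) w', ht, map_smul, hdw, hw₀,
          pow_add, pow_add, mul_smul, mul_smul, sub_self]
      · rw [map_sub, hdy, ← ConcreteCategory.comp_apply]
        simp

/-- The inclusion of the torsion sections. -/
noncomputable def gIncl (I : Ideal A) (J : CochainComplex (ModuleCat.{u} A) ℤ) : RgammaHDI.gCx I J ⟶ J where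
  f n := (DRing.gammaIι I).app (J.X n)
  comm' i j _ := ((DRing.gammaIι I).naturality (J.d i j)).symm

include hdiv in
/-- Torsion sections compute the cohomology of a complex with torsion cohomology. -/
theorem quasiIso_gIncl (I : Ideal A)
    (hpow : ∀ f ∈ I, ∀ p q r : ℤ, p + 1 = q → q + 1 = r → ∀ z : J.X q, (J.d q r).hom z = 0 →
      ∃ (k : ℕ) (w : J.X p), (J.d p q).hom w = f ^ k • z) : QuasiIso (gIncl I J) := by
  obtain ⟨s, rfl⟩ := (IsNoetherian.noetherian I : I.FG)
  obtain ⟨h1, h2⟩ := torsion_chase hdiv s fun f hf => hpow f (Submodule.subset_span hf)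
  refine quasiIso_of_elements _ (fun p q r hpq hqr z hz => ?_) (fun p q r hpq hqr x y hx hxy => ?_)
  · obtain ⟨y, hy⟩ := h1 p q r hpq hqr z hz
    refine ⟨(⟨_, hy⟩ : DRing.torsionSub (Ideal.span (s : Set A)) (J.X q)), y, Subtype.ext ?_, sub_add_cancel z _⟩
    show (J.d q r).hom (z - (J.d p q).hom y) = 0
    rw [map_sub, hz, ← ConcreteCategory.comp_apply]
    simp
  · have hy : (J.d p q).hom y ∈ DRing.torsionSub (Ideal.span (s : Set A)) (J.X q) :=
      hxy ▸ (x : DRing.torsionSub _ (J.X q)).2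
    obtain ⟨y', hy', hdy'⟩ := h2 p q hpq y hy
    exact ⟨(⟨y', hy'⟩ : DRing.torsionSub (Ideal.span (s : Set A)) (J.X p)), Subtype.ext (hdy'.trans hxy.symm)⟩

omit [IsNoetherianRing A] in
/-- Torsion homology gives powers multiplying cycles into boundaries. -/
theorem exists_pow_smul_boundary (I : Ideal A) (J : CochainComplex (ModuleCat.{u} A) ℤ)
    (hJ : ∀ q, LocCoh.IsPowerTorsion I (J.homology q)) (f : A) (hf : f ∈ I) (p q r : ℤ) (hpq : p + 1 = q)
    (hqr : q + 1 = r) (z : J.X q) (hz : (J.d q r).hom z = 0) :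
    ∃ (k : ℕ) (w : J.X p), (J.d p q).hom w = f ^ k • z := by
  let e := (J.homologyIsoSc' p q r (by simp; omega) (by simp; omega) ≪≫ (J.sc' p q r).moduleCatHomologyIso).toLinearEquiv
  let c : LinearMap.ker (J.d q r).hom := ⟨z, hz⟩
  obtain ⟨k, hk⟩ := hJ q (e.symm (Submodule.Quotient.mk c))
  have h0 := congrArg e (hk (f ^ k) (Ideal.pow_mem_pow hf k))
  rw [map_smul, LinearEquiv.apply_symm_apply, map_zero, ← Submodule.Quotient.mk_smul,
    Submodule.Quotient.mk_eq_zero] at h0
  obtain ⟨w, hw⟩ := h0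
  exact ⟨k, w, congrArg Subtype.val hw⟩

end Groth.Agent.KFlatLib

namespace Groth.Agent.KFlatLib

variable {A : Type u} [CommRing A] (I : Ideal A) [DRing.HasRgammaI I]

/-- The derived torsion functor at a K-injective complex. -/
theorem exists_rgamma_iso (J : CochainComplex (ModuleCat.{u} A) ℤ) [hJ : J.IsKInjective] :
    ∃ e : DerivedCategory.Q.obj (RgammaHDI.gCx I J) ≅ (DRing.RgammaI I).obj (DerivedCategory.Q.obj J),
      e.hom ≫ (DRing.RgammaIε I).app (DerivedCategory.Q.obj J) = DerivedCategory.Q.map (gIncl I J) := by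
  have hres : ∀ L : CochainComplex (ModuleCat.{u} A) ℤ,
      ∃ (I' : CochainComplex (ModuleCat.{u} A) ℤ) (f : L ⟶ I'), I'.IsKInjective ∧ QuasiIso f := fun L => by
    obtain ⟨I', f, h1, h2, -, -⟩ := TriCat.exists_kInjective_resolution'.{u} L
    exact ⟨I', f, h1, h2⟩
  let W := HomotopyCategory.quasiIso (ModuleCat.{u} A) (ComplexShape.up ℤ)
  let α := (DRing.gammaIKh I).totalRightDerivedUnit DerivedCategory.Qh W
  let X := (HomotopyCategory.quotient (ModuleCat.{u} A) (ComplexShape.up ℤ)).obj J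
  haveI : IsIso (α.app X) := (Groth.Agent.S1032.result hres (DRing.gammaIKh I)).2 J hJ
  let κ := DerivedCategory.quotientCompQhIso (ModuleCat.{u} A)
  let e₀ : DerivedCategory.Q.obj (RgammaHDI.gCx I J) ≅ (DRing.gammaIKh I).obj X :=
    (κ.app (RgammaHDI.gCx I J)).symm ≪≫
      DerivedCategory.Qh.mapIso (((DRing.gammaI I).mapHomotopyCategoryFactors (ComplexShape.up ℤ)).app J).symm
  refine ⟨e₀ ≪≫ asIso (α.app X) ≪≫ (DRing.RgammaI I).mapIso (κ.app J), ?_⟩
  have hfac : α.app X ≫ (DRing.RgammaIε I).app (DerivedCategory.Qh.obj X) = (DRing.gammaIτ I).app X :=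
    ((DRing.RgammaI I).rightDerived_fac_app α W (𝟭 (Dual.D A))
      (DRing.gammaIτ I ≫ (Functor.rightUnitor _).inv) X).trans (Category.comp_id _)
  simp only [Iso.trans_hom, asIso_hom, Functor.mapIso_hom, Category.assoc]
  rw [(DRing.RgammaIε I).naturality (κ.app J).hom, Functor.id_map]
  show e₀.hom ≫ α.app X ≫ (DRing.RgammaIε I).app (DerivedCategory.Qh.obj X) ≫ κ.hom.app J = _
  rw [reassoc_of% hfac]
  have hτ : (DRing.gammaIτ I).app X = (DRing.gammaIτ0 I).app J := rfl
  rw [hτ]
  dsimp only [DRing.gammaIτ0, NatTrans.comp_app, Functor.associator_inv_app, Functor.associator_hom_app,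
    Functor.whiskerRight_app, Functor.leftUnitor_hom_app, e₀, Iso.trans_hom, Iso.symm_hom, Iso.app_inv,
    Functor.mapIso_hom, Iso.app_hom]
  simp
  rw [← DerivedCategory.Qh.map_comp_assoc, ← Functor.map_comp,
    show (NatTrans.mapHomologicalComplex (DRing.gammaIι I) (ComplexShape.up ℤ)).app J ≫
      (Functor.mapHomologicalComplexIdIso (ModuleCat.{u} A) (ComplexShape.up ℤ)).hom.app J = gIncl I J from
        HomologicalComplex.hom_ext _ _ fun n => Category.comp_id _]
  exact (congrArg (κ.inv.app _ ≫ ·) (κ.hom.naturality (gIncl I J))).trans (κ.inv_hom_id_app_assoc _ _)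

end Groth.Agent.KFlatLib

namespace Groth.Agent.KFlatLib

variable {A : Type u} [CommRing A]

/-- Complexes of modules divisible up to torsion are closed under mapping cones. -/
lemma hasDiv_mappingCone {M N : CochainComplex (ModuleCat.{u} A) ℤ} (φ : M ⟶ N)
    (hM : ∀ n, LC.HasDiv A (M.X n)) (hN : ∀ n, LC.HasDiv A (N.X n)) (n : ℤ) :
    LC.HasDiv A ((CochainComplex.mappingCone φ).X n) := by
  intro a b x hx m
  let p := ((CochainComplex.mappingCone.fst φ).1.v n (n + 1) rfl).hom
  let q := ((CochainComplex.mappingCone.snd φ).v n n (add_zero n)).hom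
  let i := ((CochainComplex.mappingCone.inl φ).v (n + 1) n (by omega)).hom
  let j := ((CochainComplex.mappingCone.inr φ).f n).hom
  have hid : ∀ v, i (p v) + j (q v) = v := fun v =>
    LinearMap.congr_fun (congrArg ModuleCat.Hom.hom (CochainComplex.mappingCone.id_X φ n (n + 1) rfl)) v
  obtain ⟨w₁, hw₁, t₁, ht₁⟩ := hM (n + 1) a b (p x) (DRing.map_mem_torsionSub _ _ hx) m
  obtain ⟨w₂, hw₂, t₂, ht₂⟩ := hN n a b (q x) (DRing.map_mem_torsionSub _ _ hx) m
  refine ⟨i w₁ + j w₂, add_mem (DRing.map_mem_torsionSub _ _ hw₁) (DRing.map_mem_torsionSub _ _ hw₂), t₁ + t₂, ?_⟩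
  conv_rhs => rw [← hid x]
  rw [smul_add, smul_add]
  congr 1
  · rw [show t₁ + t₂ + m = t₂ + (t₁ + m) by omega, pow_add, mul_smul, ← map_smul, ht₁, map_smul, ← mul_smul,
      ← pow_add, add_comm t₂]
  · rw [show t₁ + t₂ + m = t₁ + (t₂ + m) by omega, pow_add, mul_smul, ← map_smul, ht₂, map_smul, ← mul_smul, ← pow_add]

variable [IsNoetherianRing A]

/-- Torsion sections preserve quasi-isomorphisms between complexes divisible up to torsion. -/
theorem isIso_Q_map_gamma (I : Ideal A) {M N : CochainComplex (ModuleCat.{u} A) ℤ} (φ : M ⟶ N) [QuasiIso φ]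
    (hM : ∀ n, LC.HasDiv A (M.X n)) (hN : ∀ n, LC.HasDiv A (N.X n)) :
    IsIso (DerivedCategory.Q.map (((DRing.gammaI I).mapHomologicalComplex (ComplexShape.up ℤ)).map φ)) := by
  let C := CochainComplex.mappingCone φ
  have hC : IsZero (DerivedCategory.Q.obj C) := by
    refine (Triangle.isZero₃_iff_isIso₁ _ (DerivedCategory.mappingCone_triangle_distinguished φ)).2 ?_
    exact (DerivedCategory.isIso_Q_map_iff_quasiIso _ _).2 ‹QuasiIso φ›
  have hex : ∀ n, C.ExactAt n := fun n => (HomologicalComplex.exactAt_iff_isZero_homology _ _).2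
    ((Functor.map_isZero (DerivedCategory.homologyFunctor (ModuleCat.{u} A) n) hC).of_iso
      ((DerivedCategory.homologyFunctorFactors (ModuleCat.{u} A) n).app C).symm)
  haveI : QuasiIso (gIncl I C) := quasiIso_gIncl (hasDiv_mappingCone φ hM hN) I
    fun f _ p q r hpq hqr z hz => by
      obtain ⟨w, hw⟩ := RgammaHDI.exact_at hpq hqr (hex q) z hz
      exact ⟨0, w, by rw [hw, pow_zero, one_smul]⟩
  haveI : IsIso (DerivedCategory.Q.map (gIncl I C)) := (DerivedCategory.isIso_Q_map_iff_quasiIso _ _).2 ‹_›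
  have hC' : IsZero (DerivedCategory.Q.obj (RgammaHDI.gCx I C)) := hC.of_iso (asIso (DerivedCategory.Q.map (gIncl I C)))
  refine (Triangle.isZero₃_iff_isIso₁ _ (DerivedCategory.mappingCone_triangle_distinguished _)).1 ?_
  exact hC'.of_iso (DerivedCategory.Q.mapIso (CochainComplex.mappingCone.mapHomologicalComplexIso φ _)).symm

variable (I : Ideal A) [DRing.HasRgammaI I]

/-- Injective resolutions in the derived category. -/
lemma exists_injective_model (K : Dual.D A) :
    ∃ J : CochainComplex (ModuleCat.{u} A) ℤ, J.IsKInjective ∧ (∀ n, LC.HasDiv A (J.X n)) ∧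
      (∀ n, Module.Injective A (J.X n)) ∧ Nonempty (K ≅ DerivedCategory.Q.obj J) := by
  obtain ⟨J, g, hJ, hg, -, hinj⟩ := TriCat.exists_kInjective_resolution'.{u} (DerivedCategory.Q.objPreimage K)
  haveI : ∀ n, Module.Injective A (J.X n) := fun n => (Module.injective_iff_injective_object A _).2 (hinj n)
  exact ⟨J, hJ, fun n => LC.hasDiv_of_injective _, this, ⟨(DerivedCategory.Q.objObjPreimageIso K).symm ≪≫
    @asIso _ _ _ _ (DerivedCategory.Q.map g) ((DerivedCategory.isIso_Q_map_iff_quasiIso _ _).2 hg)⟩⟩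

omit [DRing.HasRgammaI I] [IsNoetherianRing A] in
/-- The homology of torsion sections is torsion. -/
lemma isPowerTorsion_homology_gCx (J : CochainComplex (ModuleCat.{u} A) ℤ) (q : ℤ) :
    LocCoh.IsPowerTorsion I ((RgammaHDI.gCx I J).homology q) := by
  let e := ((RgammaHDI.gCx I J).homologyIsoSc' (q - 1) q (q + 1) (by simp) (by simp) ≪≫
    ((RgammaHDI.gCx I J).sc' (q - 1) q (q + 1)).moduleCatHomologyIso).toLinearEquiv
  intro w
  obtain ⟨v, hv⟩ := Submodule.Quotient.mk_surjective _ (e w)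
  obtain ⟨n, hn⟩ := (v.1 : DRing.torsionSub I (J.X q)).2
  refine ⟨n, fun a ha => e.injective ?_⟩
  rw [map_smul, map_zero, ← hv, ← Submodule.Quotient.mk_smul]
  exact (Submodule.Quotient.mk_eq_zero _).2 (by
    rw [show a • v = 0 from Subtype.ext (Subtype.ext (hn a ha))]
    exact zero_mem _)

omit [IsNoetherianRing A] in
/-- `RΓ_I` takes torsion values. -/
theorem isPowerTorsion_hd_rgamma (K : Dual.D A) (q : ℤ) :
    LocCoh.IsPowerTorsion I (Dual.HD A ((DRing.RgammaI I).obj K) q) := by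
  obtain ⟨J, g, hJ, hg, -, -⟩ := TriCat.exists_kInjective_resolution'.{u} (DerivedCategory.Q.objPreimage K)
  let eK : K ≅ DerivedCategory.Q.obj J := (DerivedCategory.Q.objObjPreimageIso K).symm ≪≫
    @asIso _ _ _ _ (DerivedCategory.Q.map g) ((DerivedCategory.isIso_Q_map_iff_quasiIso _ _).2 hg)
  haveI := hJ
  obtain ⟨e, -⟩ := exists_rgamma_iso I J
  let f : Dual.HD A ((DRing.RgammaI I).obj K) q ≃ₗ[A] (RgammaHDI.gCx I J).homology q :=
    ((DerivedCategory.homologyFunctor (ModuleCat.{u} A) q).mapIso ((DRing.RgammaI I).mapIso eK ≪≫ e.symm) ≪≫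
      (DerivedCategory.homologyFunctorFactors (ModuleCat.{u} A) q).app _).toLinearEquiv
  intro w
  obtain ⟨n, hn⟩ := isPowerTorsion_homology_gCx I J q (f w)
  exact ⟨n, fun a ha => f.injective (by rw [map_smul, hn a ha, map_zero])⟩

omit [DRing.HasRgammaI I] in
/-- Torsion sections of a model with torsion cohomology. -/
lemma isIso_Q_gIncl_of_torsion (J : CochainComplex (ModuleCat.{u} A) ℤ) (hdiv : ∀ n, LC.HasDiv A (J.X n))
    (hJ : ∀ q, LocCoh.IsPowerTorsion I (Dual.HD A (DerivedCategory.Q.obj J) q)) :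
    IsIso (DerivedCategory.Q.map (gIncl I J)) := by
  refine (DerivedCategory.isIso_Q_map_iff_quasiIso _ _).2 (quasiIso_gIncl hdiv I fun f hf p q r hpq hqr z hz =>
    exists_pow_smul_boundary I J (fun m => ?_) f hf p q r hpq hqr z hz)
  let φ := ((DerivedCategory.homologyFunctorFactors (ModuleCat.{u} A) m).app J).toLinearEquiv
  intro w
  obtain ⟨n, hn⟩ := hJ m (φ.symm w)
  exact ⟨n, fun a ha => φ.symm.injective (by rw [map_smul, hn a ha, map_zero])⟩

/-- Objects with torsion cohomology are their own derived torsion. -/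
theorem isIso_rgammaε (K : Dual.D A) (hK : ∀ q, LocCoh.IsPowerTorsion I (Dual.HD A K q)) :
    IsIso ((DRing.RgammaIε I).app K) := by
  obtain ⟨J, hJ, hdiv, -, ⟨eK⟩⟩ := exists_injective_model K
  haveI := hJ
  obtain ⟨e, he⟩ := exists_rgamma_iso I J
  haveI := isIso_Q_gIncl_of_torsion I J hdiv fun q => by
    let φ := ((DerivedCategory.homologyFunctor (ModuleCat.{u} A) q).mapIso eK).toLinearEquiv
    intro w
    obtain ⟨n, hn⟩ := hK q (φ.symm w)
    exact ⟨n, fun a ha => φ.symm.injective (by rw [map_smul, hn a ha, map_zero])⟩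
  haveI : IsIso ((DRing.RgammaIε I).app (DerivedCategory.Q.obj J)) := by
    rw [show (DRing.RgammaIε I).app (DerivedCategory.Q.obj J) = e.inv ≫ DerivedCategory.Q.map (gIncl I J) from
      (Iso.eq_inv_comp e).2 he]
    infer_instance
  exact (NatTrans.isIso_app_iff_of_iso _ eK).2 this

/-- The universal property of the derived torsion. -/
theorem rgammaε_bijective (L K : Dual.D A) (hL : ∀ q, LocCoh.IsPowerTorsion I (Dual.HD A L q)) :
    Function.Bijective (fun g : L ⟶ (DRing.RgammaI I).obj K => g ≫ (DRing.RgammaIε I).app K) := by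
  haveI := isIso_rgammaε I L hL
  refine ⟨fun g₁ g₂ hg => sub_eq_zero.1 ?_, fun φ =>
    ⟨inv ((DRing.RgammaIε I).app L) ≫ (DRing.RgammaI I).map φ, ?_⟩⟩
  · replace hg : (g₁ - g₂) ≫ (DRing.RgammaIε I).app K = 0 := by rw [Preadditive.sub_comp]; exact sub_eq_zero.2 hg
    generalize g₁ - g₂ = g at hg ⊢
    obtain ⟨J, hJ, hdiv, hinj, ⟨eK⟩⟩ := exists_injective_model K
    obtain ⟨JL, hJL, hdivL, -, ⟨eL⟩⟩ := exists_injective_model L
    haveI := hJ
    haveI := hJL
    obtain ⟨e, he⟩ := exists_rgamma_iso I J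
    let G := RgammaHDI.gCx I J
    let g' : DerivedCategory.Q.obj JL ⟶ DerivedCategory.Q.obj G :=
      eL.inv ≫ g ≫ (DRing.RgammaI I).map eK.hom ≫ e.inv
    have hg' : g' ≫ DerivedCategory.Q.map (gIncl I J) = 0 := by
      rw [← he]
      simp only [g', Category.assoc, Iso.inv_hom_id_assoc]
      rw [(DRing.RgammaIε I).naturality eK.hom, reassoc_of% hg]
      simp
    suffices hz : g' = 0 by
      have h1 : g = eL.hom ≫ g' ≫ e.hom ≫ (DRing.RgammaI I).map eK.inv := by
        simp [g', ← Functor.map_comp]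
      rw [h1, hz, zero_comp, comp_zero]
    obtain ⟨J', f, hJ', hf, -, hinj'⟩ := TriCat.exists_kInjective_resolution'.{u} G
    haveI := hJ'
    haveI := hf
    haveI : ∀ n, Module.Injective A (J'.X n) := fun n => (Module.injective_iff_injective_object A _).2 (hinj' n)
    haveI : IsIso (DerivedCategory.Q.map f) := (DerivedCategory.isIso_Q_map_iff_quasiIso _ _).2 hf
    obtain ⟨ι, hι⟩ := exists_Q_map (I := J) (inv (DerivedCategory.Q.map f) ≫ DerivedCategory.Q.map (gIncl I J))
    obtain ⟨h, hh⟩ := exists_Q_map (I := J') (g' ≫ DerivedCategory.Q.map f)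
    let Γ := (DRing.gammaI I).mapHomologicalComplex (ComplexShape.up ℤ)
    have hQ : ∀ {M N : CochainComplex (ModuleCat.{u} A) ℤ} [N.IsKInjective] (a b : M ⟶ N),
        DerivedCategory.Q.map a = DerivedCategory.Q.map b →
        DerivedCategory.Q.map (Γ.map a) = DerivedCategory.Q.map (Γ.map b) := fun {M N} _ a b hab => by
      exact DerivedCategory.Q_map_eq_of_homotopy _ ((DRing.gammaI I).mapHomotopy (homotopy_of_Q_map_eq a b hab).some)
    have hnat : ∀ {M N : CochainComplex (ModuleCat.{u} A) ℤ} (a : M ⟶ N),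
        gIncl I M ≫ a = Γ.map a ≫ gIncl I N := fun a => by ext n x; rfl
    haveI : IsIso (DerivedCategory.Q.map (gIncl I J')) := isIso_Q_gIncl_of_torsion I J'
      (fun n => LC.hasDiv_of_injective _) fun q w => by
        let φ := ((DerivedCategory.homologyFunctor (ModuleCat.{u} A) q).mapIso
          (asIso (DerivedCategory.Q.map f)) ).symm.toLinearEquiv.trans
            ((DerivedCategory.homologyFunctorFactors (ModuleCat.{u} A) q).app G).toLinearEquiv
        obtain ⟨n, hn⟩ := isPowerTorsion_homology_gCx I J q (φ w)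
        exact ⟨n, fun a ha => φ.injective (by rw [map_smul, hn a ha, map_zero])⟩
    haveI : IsIso (gIncl I G) := by
      haveI : ∀ n, IsIso ((gIncl I G).f n) := fun n => (ConcreteCategory.isIso_iff_bijective _).2
        ⟨Subtype.val_injective, fun x => ⟨(⟨x, (x : DRing.torsionSub I (J.X n)).2.choose,
          fun a ha => Subtype.ext ((x : DRing.torsionSub I (J.X n)).2.choose_spec a ha)⟩ :
            DRing.torsionSub I (G.X n)), rfl⟩⟩
      exact HomologicalComplex.Hom.isIso_of_components _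
    haveI : IsIso (DerivedCategory.Q.map (Γ.map f)) := by
      have h1 := congrArg DerivedCategory.Q.map (hnat f)
      rw [Functor.map_comp, Functor.map_comp] at h1
      exact IsIso.of_isIso_fac_right h1.symm
    haveI : IsIso (DerivedCategory.Q.map (Γ.map (gIncl I J))) := by
      rw [show Γ.map (gIncl I J) = gIncl I G from by ext n x; rfl]
      infer_instance
    haveI : IsIso (DerivedCategory.Q.map (Γ.map ι)) := by
      have h1 : DerivedCategory.Q.map (Γ.map f) ≫ DerivedCategory.Q.map (Γ.map ι) =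
          DerivedCategory.Q.map (Γ.map (gIncl I J)) := by
        rw [← Functor.map_comp, ← Functor.map_comp]
        exact hQ _ _ (by rw [Functor.map_comp, hι, IsIso.hom_inv_id_assoc])
      exact IsIso.of_isIso_fac_left h1
    haveI : IsIso (DerivedCategory.Q.map (gIncl I JL)) := isIso_Q_gIncl_of_torsion I JL hdivL fun q w => by
      let φ := ((DerivedCategory.homologyFunctor (ModuleCat.{u} A) q).mapIso eL).symm.toLinearEquiv
      obtain ⟨n, hn⟩ := hL q (φ w)
      exact ⟨n, fun a ha => φ.injective (by rw [map_smul, hn a ha, map_zero])⟩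
    have h3 : DerivedCategory.Q.map (Γ.map h) = 0 := by
      rw [← cancel_mono (DerivedCategory.Q.map (Γ.map ι)), zero_comp, ← Functor.map_comp, ← Functor.map_comp,
        ← DerivedCategory.Q.map_zero _ _, ← Γ.map_zero JL J]
      refine hQ _ _ ?_
      rw [Functor.map_comp, hι, hh, Category.assoc, IsIso.hom_inv_id_assoc, hg', Functor.map_zero]
    rw [← cancel_mono (DerivedCategory.Q.map f), zero_comp, ← hh, ← cancel_epi (DerivedCategory.Q.map (gIncl I JL)),
      comp_zero, ← Functor.map_comp, hnat, Functor.map_comp, h3, zero_comp]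
  · show (inv _ ≫ (DRing.RgammaI I).map φ) ≫ _ = φ
    rw [Category.assoc]
    exact (congrArg (inv ((DRing.RgammaIε I).app L) ≫ ·) ((DRing.RgammaIε I).naturality φ)).trans
      (IsIso.inv_hom_id_assoc _ _)

end Groth.Agent.KFlatLib

namespace Groth.Agent.KFlatLib

variable {A : Type u} [CommRing A]

/-- Torsion sections for two ideals. -/
noncomputable def torsionSupEquiv (I J : Ideal A) (M : Type u) [AddCommGroup M] [Module A M] :
    DRing.torsionSub J (DRing.torsionSub I M) ≃ₗ[A] DRing.torsionSub (I ⊔ J) M where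
  toFun x := ⟨(x.1 : M), by
    obtain ⟨a, ha⟩ := x.1.2
    obtain ⟨b, hb⟩ := x.2
    refine ⟨a + b, fun r hr => ?_⟩
    obtain ⟨u, hu, v, hv, rfl⟩ := Submodule.mem_sup.1 (Ideal.sup_pow_add_le_pow_sup_pow hr)
    rw [add_smul, ha u hu, zero_add]
    exact congrArg Subtype.val (hb v hv)⟩
  map_add' _ _ := rfl
  map_smul' _ _ := rfl
  invFun x := ⟨⟨x.1, x.2.choose, fun a ha => x.2.choose_spec a (Ideal.pow_right_mono le_sup_left _ ha)⟩,
    x.2.choose, fun a ha => Subtype.ext (x.2.choose_spec a (Ideal.pow_right_mono le_sup_right _ ha))⟩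
  left_inv _ := rfl
  right_inv _ := rfl

/-- Torsion sections for two ideals, on complexes. -/
noncomputable def gCxSupIso (I J : Ideal A) (K : CochainComplex (ModuleCat.{u} A) ℤ) :
    RgammaHDI.gCx J (RgammaHDI.gCx I K) ≅ RgammaHDI.gCx (I ⊔ J) K :=
  HomologicalComplex.Hom.isoOfComponents (fun n => (torsionSupEquiv I J (K.X n)).toModuleIso)
    (fun _ _ _ => by ext x; rfl)

/-- Iterated derived torsion. -/
theorem nonempty_rgamma_sup [IsNoetherianRing A] (I J : Ideal A) [DRing.HasRgammaI I] [DRing.HasRgammaI J]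
    [DRing.HasRgammaI (I ⊔ J)] (K : Dual.D A) :
    Nonempty ((DRing.RgammaI J).obj ((DRing.RgammaI I).obj K) ≅ (DRing.RgammaI (I ⊔ J)).obj K) := by
  obtain ⟨K₀, hK₀, -, hinj, ⟨eK⟩⟩ := exists_injective_model K
  haveI := hK₀
  haveI := hinj
  obtain ⟨e₁, -⟩ := exists_rgamma_iso I K₀
  obtain ⟨e₂, -⟩ := exists_rgamma_iso (I ⊔ J) K₀
  obtain ⟨K', f, hK', hf, -, hinj'⟩ := TriCat.exists_kInjective_resolution'.{u} (RgammaHDI.gCx I K₀)
  haveI := hK'
  haveI := hf
  haveI : ∀ n, Module.Injective A (K'.X n) := fun n => (Module.injective_iff_injective_object A _).2 (hinj' n)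
  haveI hΓf := isIso_Q_map_gamma J f
    (fun n => by
      haveI : Module.Injective A ((RgammaHDI.gCx I K₀).X n) := by
        show Module.Injective A (DRing.torsionSub I (K₀.X n))
        rw [LC.torsionSub_eq_iSup]; exact LC.injective_torsion I
      exact LC.hasDiv_of_injective _)
    (fun n => LC.hasDiv_of_injective _)
  haveI : IsIso (DerivedCategory.Q.map f) := (DerivedCategory.isIso_Q_map_iff_quasiIso _ _).2 hf
  obtain ⟨e₃, -⟩ := exists_rgamma_iso J K'
  exact ⟨(DRing.RgammaI J).mapIso ((DRing.RgammaI I).mapIso eK ≪≫ e₁.symm ≪≫ asIso (DerivedCategory.Q.map f)) ≪≫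
    e₃.symm ≪≫
    (@asIso _ _ _ _ (DerivedCategory.Q.map (((DRing.gammaI J).mapHomologicalComplex (ComplexShape.up ℤ)).map f))
      hΓf).symm ≪≫
    DerivedCategory.Q.mapIso (gCxSupIso I J K₀) ≪≫ e₂ ≪≫ (DRing.RgammaI (I ⊔ J)).mapIso eK.symm⟩

end Groth.Agent.KFlatLib
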