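import Groth.Agent.KFlatLib.Ring.DualizingRange
import Groth.Agent.LC.GorLoc
import Mathlib.CategoryTheory.Triangulated.TStructure.TruncLTGE

/-!
# The bottom cohomology module of a bounded below complex
-/

set_option linter.style.haveILetI false
set_option backward.isDefEq.respectTransparency false

universe u

open CategoryTheory CategoryTheory.Limits Pretriangulated DerivedCategory.TStructure

attribute [local instance] HasDerivedCategory.standard

namespace Groth.Agent.KFlatLib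

variable {A : Type u} [CommRing A]

/-- The triangle of the bottom cohomology module. -/
theorem exists_bottom_triangle (Y : Dual.D A) (c : ℤ) [Y.IsGE c] :
    ∃ (M : ModuleCat.{u} A) (T : Triangle (Dual.D A)), T ∈ distTriang (Dual.D A) ∧
      T.obj₁ = (Dual.inD A M)⟦-c⟧ ∧ T.obj₂ = Y ∧ T.obj₃.IsGE (c + 1) ∧
      Nonempty (Dual.HD A Y c ≃ₗ[A] M) := by
  let T := (t.triangleLTGE (c + 1)).obj Y
  have hT : T ∈ distTriang (Dual.D A) := t.triangleLTGE_distinguished (c + 1) Y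
  haveI h3 : DerivedCategory.IsGE T.obj₃ (c + 1) := t.isGE_truncGE_obj Y (c + 1) (c + 1)
  haveI h1 : DerivedCategory.IsLE T.obj₁ c := t.isLE_truncLT_obj Y (c + 1) c
  haveI h2 : DerivedCategory.IsGE T.obj₂ c := ‹Y.IsGE c›
  haveI : DerivedCategory.IsGE T.obj₁ c := by
    refine (DerivedCategory.isGE_iff _ _).2 fun i hi => ?_
    exact (DerivedCategory.HomologySequence.exact₁ _ hT (i - 1) i).isZero_of_both_zeros
      ((DerivedCategory.isZero_of_isGE T.obj₃ (c + 1) (i - 1) (by omega)).eq_of_src _ _)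
      ((DerivedCategory.isZero_of_isGE T.obj₂ c i hi).eq_of_tgt _ _)
  obtain ⟨M, ⟨e⟩⟩ := DerivedCategory.exists_iso_singleFunctor_obj_of_isGE_of_isLE T.obj₁ c
  let e' : T.obj₁ ≅ (Dual.inD A M)⟦-c⟧ :=
    e ≪≫ (((DerivedCategory.singleFunctors (ModuleCat.{u} A)).shiftIso (-c) c 0 (by omega)).app M).symm
  refine ⟨M, Triangle.mk (e'.inv ≫ T.mor₁) T.mor₂ (T.mor₃ ≫ (shiftFunctor (Dual.D A) (1 : ℤ)).map e'.hom),
    isomorphic_distinguished _ hT _ (Triangle.isoMk _ _ e'.symm (Iso.refl _) (Iso.refl _) ?_ ?_ ?_), rfl, rfl, h3, ?_⟩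
  · simp
  · simp
  · simp
  have hiso : IsIso ((DerivedCategory.homologyFunctor (ModuleCat.{u} A) c).map T.mor₁) := by
    haveI : Mono ((DerivedCategory.homologyFunctor (ModuleCat.{u} A) c).map T.mor₁) :=
      (DerivedCategory.HomologySequence.exact₁ _ hT (c - 1) c).mono_g
        ((DerivedCategory.isZero_of_isGE T.obj₃ (c + 1) (c - 1) (by omega)).eq_of_src _ _)
    haveI : Epi ((DerivedCategory.homologyFunctor (ModuleCat.{u} A) c).map T.mor₁) :=
      (DerivedCategory.HomologySequence.exact₂ _ hT c).epi_f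
        ((DerivedCategory.isZero_of_isGE T.obj₃ (c + 1) c (by omega)).eq_of_tgt _ _)
    exact isIso_of_mono_of_epi _
  exact ⟨((asIso ((DerivedCategory.homologyFunctor (ModuleCat.{u} A) c).map T.mor₁)).symm.toLinearEquiv.trans
    ((DerivedCategory.homologyFunctor (ModuleCat.{u} A) c).mapIso e).toLinearEquiv).trans
      ((DerivedCategory.singleFunctorCompHomologyFunctorIso (ModuleCat.{u} A) c).app M).toLinearEquiv⟩

/-- Degree zero and one maps into the bottom cohomology inject. -/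
theorem subsingleton_ext_bottom (Y : Dual.D A) (c : ℤ) [Y.IsGE c] (N : Type u) [AddCommGroup N] [Module A N]
    (s : ℕ) (hs : s ≤ 1) (h : Subsingleton (Dual.inD A N ⟶ Y⟦c + (s : ℤ)⟧)) :
    Subsingleton (Abelian.Ext (ModuleCat.of A N) (ModuleCat.of A (Dual.HD A Y c)) s) := by
  obtain ⟨M, T, hT, hT1, hT2, hT3, ⟨e⟩⟩ := exists_bottom_triangle Y c
  let T' := ((Triangle.shiftFunctor (Dual.D A) (c + (s : ℤ))).obj T).invRotate
  have hT' : T' ∈ distTriang (Dual.D A) := inv_rot_of_distTriang _ (Triangle.shift_distinguished _ hT _)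
  haveI := hT3
  haveI : DerivedCategory.IsGE T'.obj₁ (2 - (s : ℤ)) := by
    haveI : DerivedCategory.IsGE (T.obj₃⟦c + (s : ℤ)⟧) (1 - (s : ℤ)) :=
      t.isGE_shift T.obj₃ (c + 1) (c + s) (1 - s) (by omega)
    exact t.isGE_shift (T.obj₃⟦c + (s : ℤ)⟧) (1 - (s : ℤ)) (-1) (2 - s) (by omega)
  haveI hN : DerivedCategory.IsLE (Dual.inD A N) 0 :=
    inferInstanceAs (DerivedCategory.IsLE ((DerivedCategory.singleFunctor (ModuleCat.{u} A) 0).obj _) 0)
  have h0 : Subsingleton (Dual.inD A N ⟶ T'.obj₂) := by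
    refine subsingleton_of_forall_eq 0 fun f => ?_
    haveI : Subsingleton (Dual.inD A N ⟶ T'.obj₃) := by
      show Subsingleton (Dual.inD A N ⟶ T.obj₂⟦c + (s : ℤ)⟧)
      rw [hT2]
      exact h
    obtain ⟨g, rfl⟩ := Triangle.coyoneda_exact₂ T' hT' f (Subsingleton.elim _ _)
    rw [show g = 0 from t.zero_of_isLE_of_isGE g 0 (2 - (s : ℤ)) (by omega) hN inferInstance, zero_comp]
  have h1 : Subsingleton (Dual.inD A N ⟶ (Dual.inD A M)⟦(s : ℤ)⟧) := by
    change Subsingleton (Dual.inD A N ⟶ T.obj₁⟦c + (s : ℤ)⟧) at h0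
    rw [hT1] at h0
    let i : ((Dual.inD A M)⟦-c⟧)⟦c + (s : ℤ)⟧ ≅ (Dual.inD A M)⟦(s : ℤ)⟧ :=
      ((shiftFunctorAdd' (Dual.D A) (-c) (c + (s : ℤ)) s (by omega)).app _).symm
    exact (Iso.homToEquiv (Z := Dual.inD A N) i).symm.subsingleton
  haveI : Subsingleton (Dual.inD A N ⟶ (Dual.inD A (Dual.HD A Y c))⟦(s : ℤ)⟧) :=
    (Iso.homToEquiv (Z := Dual.inD A N) ((shiftFunctor (Dual.D A) (s : ℤ)).mapIso
      ((DerivedCategory.singleFunctor (ModuleCat.{u} A) 0).mapIso e.toModuleIso))).subsingleton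
  exact (Abelian.Ext.homEquiv (X := ModuleCat.of A N) (Y := ModuleCat.of A (Dual.HD A Y c)) (n := s)).injective.subsingleton
    (β := Dual.inD A N ⟶ (Dual.inD A (Dual.HD A Y c))⟦(s : ℤ)⟧)

end Groth.Agent.KFlatLib
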