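import Groth.Agent.KFlatLib.Ring.LocalInvertible

/-!
# Biduality for dualizing complexes
-/

set_option linter.style.haveILetI false
set_option backward.isDefEq.respectTransparency false

universe u

open CategoryTheory CategoryTheory.Limits Pretriangulated Opposite MonoidalCategory

open Pretriangulated.Opposite

attribute [local instance] HasDerivedCategory.standard

namespace Groth.Agent.KFlatLib

variable {A : Type u} [CommRing A]

/-- A dualizing complex has finite injective dimension. -/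
lemma finiteInjDim_of_isDualizing {ω : Dual.D A} (h : Dual.IsDualizing A ω) :
    DRing.HasFiniteInjDim A ω := by
  obtain ⟨a, b, hab⟩ := h.finite_injective_dimension
  exact ⟨a, b, ((H9Misc.DRingInjAmp.tfae ω a b).out 1 0).1 (by intro N _ _ i hi; exact hab N i hi)⟩

section

variable [DTen.HasLTen A] [DTen.HasRHom A]

/-- `RHom(ω, ω) = A` for a dualizing complex. -/
lemma nonempty_RHom_self_iso {ω : Dual.D A} (h : Dual.IsDualizing A ω) :
    Nonempty ((DTen.RHomR A ω).obj ω ≅ DTen.unit A) := by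
  let X := (DTen.RHomR A ω).obj ω
  have hz : ∀ n : ℤ, n ≠ 0 → IsZero ((DerivedCategory.homologyFunctor (ModuleCat.{u} A) n).obj X) := fun n hn => by
    obtain ⟨e⟩ := exists_hdRHomLEquiv ω ω n
    haveI : Subsingleton (ω⟦-n⟧ ⟶ ω) :=
      @Equiv.subsingleton _ _ ((shiftEquiv' (Dual.D A) (-n) n (by omega)).toAdjunction.homEquiv ω ω)
        (h.ext_self_subsingleton n hn)
    exact @ModuleCat.isZero_of_subsingleton _ _ _ e.injective.subsingleton
  haveI : X.IsLE 0 := (DerivedCategory.isLE_iff _ _).2 fun i hi => hz i (by omega)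
  haveI : X.IsGE 0 := (DerivedCategory.isGE_iff _ _).2 fun i hi => hz i (by omega)
  obtain ⟨e₁⟩ := H9Misc.nonempty_iso_single_homology 0 X
  obtain ⟨e₂⟩ := exists_hdRHomLEquiv ω ω 0
  let c : A →ₗ[A] (ω ⟶ ω) :=
    { toFun := fun a => a • 𝟙 ω
      map_add' := fun a b => add_smul a b _
      map_smul' := fun a b => mul_smul a b _ }
  let s : (ω⟦-(0 : ℤ)⟧ ⟶ ω) ≃ₗ[A] (ω ⟶ ω) :=
    Linear.homCongr A (eqToIso (by rw [neg_zero]) ≪≫ (shiftFunctorZero (Dual.D A) ℤ).app ω) (Iso.refl ω)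
  let e₃ : Dual.HD A X 0 ≃ₗ[A] A :=
    e₂.trans (s.trans (LinearEquiv.ofBijective c h.toEnd_bijective).symm)
  exact ⟨e₁ ≪≫ (DerivedCategory.singleFunctor (ModuleCat.{u} A) 0).mapIso e₃.toModuleIso ≪≫
    (DerivedCategory.singleFunctorIsoCompQ (ModuleCat.{u} A) 0).app (ModuleCat.of A A)⟩

/-- Bounded above objects with finite cohomology are pseudo-coherent. -/
lemma pc'_of_finite_hd [IsNoetherianRing A] (X : Dual.D A) (b : ℤ) [X.IsLE b]
    (hX : ∀ i : ℤ, Module.Finite A (Dual.HD A X i)) : DRing.IsPseudoCoherent' A X :=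
  (H9Misc.DRingPC.pc'_iff X).2 fun m => (Groth.Agent.S6942.result A m X A).1.2
    ⟨⟨b, fun i hi => ModuleCat.subsingleton_of_isZero (DerivedCategory.isZero_of_isLE X b i hi)⟩,
      fun i _ => hX i⟩

/-- Biduality: evaluation into a dualizing complex is invertible on finite cohomology. -/
theorem isIso_evalHom_self [DTen.HasLTen₃ A] [DTen.IsSymMonoidal A] [IsNoetherianRing A] {ω : Dual.D A}
    (hω : Dual.IsDualizing A ω) {K : Dual.D A} (hK : ∀ i : ℤ, Module.Finite A (Dual.HD A K i)) :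
    IsIso (DTen.evalHom K ω ω) := by
  have hinj := finiteInjDim_of_isDualizing hω
  obtain ⟨a, b, hab⟩ := hinj
  haveI := isGE_of_injAmplitude hab
  haveI := preservesZeroMorphisms_LTen ((DTen.RHomR A ω).obj ω)
  let η := evalHomNat ω ω
  have hF : HomExact ((DTen.LTen A).obj ((DTen.RHomR A ω).obj ω)) :=
    (homExact_tensorRightD _).of_iso (tenFlipIso _).symm
  have hG := homExact_RHom_RHom (A := A) ω ω
  obtain ⟨eω⟩ := nonempty_RHom_self_iso hω
  obtain ⟨e0⟩ := nonempty_tensorLeft_shift_unit_iso (A := A) 0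
  let eF : ∀ B : Dual.D A, ((DTen.LTen A).obj ((DTen.RHomR A ω).obj ω)).obj B ≅ B := fun B =>
    ((DTen.LTen A).mapIso (eω ≪≫ ((shiftFunctorZero (Dual.D A) ℤ).app _).symm)).app B ≪≫ e0.app B ≪≫
      (shiftFunctorZero (Dual.D A) ℤ).app B
  refine isIso_of_bijective_unit _ fun j => ?_
  let N : ℤ := -j + (b - a).natAbs + 2
  obtain ⟨T, hT, hpc, _, h₂, hB, -⟩ := exists_trunc hK N
  subst h₂
  haveI hη : IsIso (η.app T.obj₁) :=
    isIso_evalHom_of_pseudoCoherent _ ω ω hpc a inferInstance ⟨a, b, hab⟩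
  have hzero : ∀ (Y : Dual.D A) (k : ℤ), Y.IsGE k → -j < k → ∀ f : (DTen.unit A)⟦j⟧ ⟶ Y, f = 0 := by
    intro Y k hY hk f
    haveI := hY
    obtain ⟨eU⟩ := nonempty_unit_shift_iso (A := A) j
    haveI : DerivedCategory.IsLE ((DTen.unit A)⟦j⟧) (-j) := by
      haveI : DerivedCategory.IsLE (DerivedCategory.Q.obj (H9Misc.BrownGroth.gen A (-j))) (-j) :=
        (DerivedCategory.isLE_Q_obj_iff _ _).2 inferInstance
      exact DerivedCategory.TStructure.t.isLE_of_iso eU.symm (-j)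
    exact DerivedCategory.TStructure.t.zero f (-j) k hk
  have hFB : ∀ f : (DTen.unit A)⟦j⟧ ⟶ ((DTen.LTen A).obj ((DTen.RHomR A ω).obj ω)).obj T.obj₃, f = 0 := by
    refine fun f => hzero _ (N + 1) ?_ (by omega) f
    exact DerivedCategory.TStructure.t.isGE_of_iso (eF T.obj₃).symm (N + 1)
  have hGB : ∀ (B : Dual.D A) (k : ℤ), B.IsGE k → -j < k + a - b →
      ∀ f : (DTen.unit A)⟦j⟧ ⟶ (((DTen.RHom A).flip.obj ω).rightOp ⋙ (DTen.RHom A).flip.obj ω).obj B, f = 0 :=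
    fun B k hBk hlt f => by
      haveI := hBk
      haveI := isLE_RHomR B ω k a b hab
      haveI := isGE_RHomR ((DTen.RHomR A B).obj ω) ω (b - k) a
      exact hzero ((DTen.RHomR A ((DTen.RHomR A B).obj ω)).obj ω) (a - (b - k)) inferInstance (by omega) f
  refine ⟨fun φ φ' e => sub_eq_zero.1 ?_, fun y => ?_⟩
  · have h0 : (φ - φ') ≫ η.app T.obj₂ = 0 := by rw [Preadditive.sub_comp]; exact sub_eq_zero.2 e
    generalize φ - φ' = φ at h0
    obtain ⟨ψ, rfl⟩ := hF _ hT _ φ (hFB _)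
    have h1 : (ψ ≫ η.app _) ≫ (((DTen.RHom A).flip.obj ω).rightOp ⋙
        (DTen.RHom A).flip.obj ω).map T.mor₁ = 0 :=
      (Category.assoc _ _ _).trans ((congrArg (ψ ≫ ·) (η.naturality T.mor₁).symm).trans
        ((Category.assoc _ _ _).symm.trans h0))
    obtain ⟨χ, hχ⟩ := hG _ (inv_rot_of_distTriang _ hT) _ _ h1
    haveI hC1 : DerivedCategory.IsGE (T.obj₃⟦(-1 : ℤ)⟧) (N + 2) :=
      haveI := hB; DerivedCategory.TStructure.t.isGE_shift T.obj₃ (N + 1) (-1 : ℤ) (N + 2) (by omega)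
    rw [hGB (T.obj₃⟦(-1 : ℤ)⟧) (N + 2) hC1 (by omega) χ, zero_comp] at hχ
    rw [show ψ = 0 from (cancel_mono (η.app T.obj₁)).1 (hχ.symm.trans zero_comp.symm), zero_comp]
  · obtain ⟨ψ, hψ⟩ := hG _ hT _ y (hGB T.obj₃ (N + 1) hB (by omega) _)
    refine ⟨(ψ ≫ inv (η.app T.obj₁)) ≫
      ((DTen.LTen A).obj ((DTen.RHomR A ω).obj ω)).map T.mor₁, ?_⟩
    refine (Category.assoc _ _ _).trans ((congrArg (_ ≫ ·) (η.naturality T.mor₁)).trans ?_)
    rw [Category.assoc]
    exact (congrArg (ψ ≫ ·) (IsIso.inv_hom_id_assoc _ _)).trans hψ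

/-- Biduality as an isomorphism. -/
theorem nonempty_biduality [IsNoetherianRing A] {ω : Dual.D A} (hω : Dual.IsDualizing A ω) {K : Dual.D A}
    (hK : ∀ i : ℤ, Module.Finite A (Dual.HD A K i)) :
    Nonempty ((DTen.RHomR A ((DTen.RHomR A K).obj ω)).obj ω ≅ K) := by
  haveI := hasLTen₃ A
  haveI := isSymMonoidal A
  haveI := isIso_evalHom_self hω hK
  obtain ⟨eω⟩ := nonempty_RHom_self_iso hω
  obtain ⟨e0⟩ := nonempty_tensorLeft_shift_unit_iso (A := A) 0
  exact ⟨(asIso (DTen.evalHom K ω ω)).symm ≪≫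
    ((DTen.LTen A).mapIso (eω ≪≫ ((shiftFunctorZero (Dual.D A) ℤ).app _).symm)).app K ≪≫ e0.app K ≪≫
      (shiftFunctorZero (Dual.D A) ℤ).app K⟩

/-- The homs between two dualizing complexes are inverse to each other. -/
theorem nonempty_ten_RHom_iso_unit [IsNoetherianRing A] {ω ω' : Dual.D A} (hω : Dual.IsDualizing A ω)
    (hω' : Dual.IsDualizing A ω') :
    Nonempty ((DTen.LTen₂ A).obj ((DTen.RHomR A ω).obj ω', (DTen.RHomR A ω').obj ω) ≅ DTen.unit A) := by
  haveI := hasLTen₃ A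
  haveI := isSymMonoidal A
  obtain ⟨a, b, hab⟩ := finiteInjDim_of_isDualizing hω
  obtain ⟨a', b', hab'⟩ := finiteInjDim_of_isDualizing hω'
  haveI := isGE_of_injAmplitude hab
  haveI := isGE_of_injAmplitude hab'
  haveI := isLE_RHomR ω' ω a' a b hab
  have hQ := finite_hd_RHom_of_finite_hd hω'.finite_cohomology hω.finite_cohomology ⟨a, b, hab⟩
  haveI := isIso_evalHom_of_pseudoCoherent ((DTen.RHomR A ω').obj ω) ω ω' (pc'_of_finite_hd _ (b - a') hQ) a
    inferInstance ⟨a', b', hab'⟩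
  obtain ⟨e₁⟩ := nonempty_biduality hω hω'.finite_cohomology
  obtain ⟨e₂⟩ := nonempty_RHom_self_iso hω'
  exact ⟨asIso (DTen.evalHom ((DTen.RHomR A ω').obj ω) ω ω') ≪≫
    ((DTen.RHom A).flip.obj ω').mapIso e₁.op.symm ≪≫ e₂⟩

/-- Dualizing complexes over a local ring are unique up to shift. -/
theorem exists_iso_shift_of_isDualizing [IsLocalRing A] [IsNoetherianRing A] {ω ω' : Dual.D A}
    (hω : Dual.IsDualizing A ω) (hω' : Dual.IsDualizing A ω') : ∃ n : ℤ, Nonempty (ω' ≅ ω⟦n⟧) := by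
  haveI := hasLTen₃ A
  haveI := isSymMonoidal A
  obtain ⟨a, b, hab⟩ := finiteInjDim_of_isDualizing hω
  obtain ⟨a', b', hab'⟩ := finiteInjDim_of_isDualizing hω'
  haveI := isGE_of_injAmplitude hab
  haveI := isGE_of_injAmplitude hab'
  haveI := isLE_RHomR ω' ω a' a b hab
  haveI := isLE_RHomR ω ω' a a' b' hab'
  obtain ⟨h⟩ := nonempty_ten_RHom_iso_unit hω hω'
  obtain ⟨n, -, ⟨eQ⟩⟩ := exists_shift_of_ten_iso_unit
    (finite_hd_RHom_of_finite_hd hω.finite_cohomology hω'.finite_cohomology ⟨a', b', hab'⟩)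
    (finite_hd_RHom_of_finite_hd hω'.finite_cohomology hω.finite_cohomology ⟨a, b, hab⟩)
    (b' - a) (b - a') h
  obtain ⟨e₁⟩ := nonempty_biduality hω hω'.finite_cohomology
  obtain ⟨e₃⟩ := nonempty_RHomR_unit_iso (A := A) (-n)
  exact ⟨n, ⟨e₁.symm ≪≫ ((DTen.RHom A).flip.obj ω).mapIso eQ.op.symm ≪≫ e₃.app ω ≪≫
    eqToIso (by rw [neg_neg])⟩⟩

end

end Groth.Agent.KFlatLib
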