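import Groth.Agent.KFlatLib.Ring.DualizingMatlis
import Groth.Agent.KFlatLib.Ring.RgammaHDI
import Groth.Agent.KFlatLib.Ring.RHomFinite
import Groth.Agent.KFlatLib.Ring.Dualizing
import Groth.Agent.LC.CanonCM
import Groth.Agent.LC.CohBasic
import Groth.Agent.LocalCrit.Completion
import Groth.Agent.S0332

/-!
# Vanishing of the top local cohomology through a dualizing complex
-/

set_option linter.style.haveILetI false
set_option backward.isDefEq.respectTransparency false

universe u

open CategoryTheory CategoryTheory.Limits Pretriangulated IsLocalRing Opposite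

attribute [local instance] HasDerivedCategory.standard

namespace Groth.Agent.KFlatLib.DualizingCd

variable {A : Type u} [CommRing A]

/-- A module sits in degree zero with finite cohomology. -/
lemma finite_hd_inD [IsNoetherianRing A] (M : Type u) [AddCommGroup M] [Module A M] [Module.Finite A M]
    (i : ℤ) : Module.Finite A (Dual.HD A (Dual.inD A M) i) := by
  by_cases hi : i = 0
  · subst hi
    haveI : Module.Finite A ((𝟭 (ModuleCat.{u} A)).obj (ModuleCat.of A M)) := inferInstanceAs (Module.Finite A M)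
    exact Module.Finite.equiv
      ((DerivedCategory.singleFunctorCompHomologyFunctorIso (ModuleCat.{u} A) 0).app (ModuleCat.of A M)).toLinearEquiv.symm
  · haveI : Subsingleton (Dual.HD A (Dual.inD A M) i) := by
      rcases lt_or_gt_of_ne hi with h | h
      · exact ModuleCat.subsingleton_of_isZero (DerivedCategory.isZero_of_isGE (Dual.inD A M) 0 i h)
      · exact ModuleCat.subsingleton_of_isZero (DerivedCategory.isZero_of_isLE (Dual.inD A M) 0 i h)
    exact Module.Finite.of_finite

/-- One transition kills everything at a stage when the limit vanishes. -/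
lemma exists_kill [IsNoetherianRing A] {ω : Dual.D A} (hω : Dual.IsDualizing A ω) (I : Ideal A)
    (h0 : Subsingleton (Dual2.HDI A I ω 0)) (n : ℕ) :
    ∃ l, ∃ h : n ≤ l,
      ∀ φ : (DerivedCategory.singleFunctor (ModuleCat.{u} A) 0).obj (RgammaHDI.qp I n) ⟶ ω⟦(0 : ℤ)⟧,
        (DerivedCategory.singleFunctor (ModuleCat.{u} A) 0).map (RgammaHDI.qpMap I h) ≫ φ = 0 := by
  classical
  haveI : Module.Finite A ((DerivedCategory.singleFunctor (ModuleCat.{u} A) 0).obj (RgammaHDI.qp I n) ⟶ ω⟦(0 : ℤ)⟧) :=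
    finite_hom_of_finite_hd (fun i => finite_hd_inD (A ⧸ I ^ n) i) hω.finite_cohomology
      (finiteInjDim_of_isDualizing hω) 0
  obtain ⟨s, hs⟩ := Module.Finite.fg_top (R := A)
    (M := (DerivedCategory.singleFunctor (ModuleCat.{u} A) 0).obj (RgammaHDI.qp I n) ⟶ ω⟦(0 : ℤ)⟧)
  have h1 : ∀ φ, ∃ l, ∃ h : n ≤ l,
      (DerivedCategory.singleFunctor (ModuleCat.{u} A) 0).map (RgammaHDI.qpMap I h) ≫ φ = 0 := fun φ =>
    RgammaHDI.inc_eq_zero I (ω⟦(0 : ℤ)⟧) φ (h0.elim _ _)
  choose lf hlf hlf0 using h1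
  refine ⟨max n (s.sup lf), le_max_left _ _, fun φ => ?_⟩
  have hmem : φ ∈ Submodule.span A (s : Set _) := hs ▸ Submodule.mem_top
  induction hmem using Submodule.span_induction with
  | mem x hx =>
    have hle : lf x ≤ max n (s.sup lf) := (Finset.le_sup (f := lf) hx).trans (le_max_right _ _)
    rw [show RgammaHDI.qpMap I (le_max_left n (s.sup lf)) = RgammaHDI.qpMap I hle ≫ RgammaHDI.qpMap I (hlf x) from
      ModuleCat.hom_ext (Submodule.linearMap_qext _ (LinearMap.ext_ring rfl)),
      Functor.map_comp, Category.assoc, hlf0 x, comp_zero]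
  | zero => exact comp_zero
  | add x y _ _ hx hy => rw [Preadditive.comp_add, hx, hy, add_zero]
  | smul a x _ hx => rw [Linear.comp_smul, hx, smul_zero]

section Satur

variable [IsLocalRing A]

/-- The saturation at the maximal ideal. -/
def satur (K : Ideal A) : Ideal A where
  carrier := {x | ∃ k : ℕ, ∀ a ∈ maximalIdeal A ^ k, a * x ∈ K}
  add_mem' := by
    rintro x y ⟨k, hk⟩ ⟨k', hk'⟩
    refine ⟨max k k', fun a ha => ?_⟩
    rw [mul_add]
    exact add_mem (hk a (Ideal.pow_le_pow_right (le_max_left _ _) ha))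
      (hk' a (Ideal.pow_le_pow_right (le_max_right _ _) ha))
  zero_mem' := ⟨0, fun a _ => by simp⟩
  smul_mem' r x := by
    rintro ⟨k, hk⟩
    refine ⟨k, fun a ha => ?_⟩
    rw [smul_eq_mul, mul_left_comm]
    exact K.mul_mem_left r (hk a ha)

lemma mem_satur {K : Ideal A} {x : A} : x ∈ satur K ↔ ∃ k : ℕ, ∀ a ∈ maximalIdeal A ^ k, a * x ∈ K :=
  Iff.rfl

lemma le_satur (K : Ideal A) : K ≤ satur K := fun _ hx => ⟨0, fun a _ => K.mul_mem_left a hx⟩

lemma satur_mono {K K' : Ideal A} (h : K ≤ K') : satur K ≤ satur K' := fun _ ⟨k, hk⟩ =>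
  ⟨k, fun a ha => h (hk a ha)⟩

variable [IsNoetherianRing A]

lemma exists_pow_mul_satur_le (K : Ideal A) : ∃ k : ℕ, ∀ a ∈ maximalIdeal A ^ k, ∀ x ∈ satur K, a * x ∈ K := by
  classical
  obtain ⟨s, hs⟩ := (isNoetherianRing_iff_ideal_fg A).1 inferInstance (satur K)
  have h1 : ∀ x : A, ∃ k : ℕ, x ∈ satur K → ∀ a ∈ maximalIdeal A ^ k, a * x ∈ K := fun x => by
    by_cases hx : x ∈ satur K
    · obtain ⟨k, hk⟩ := hx
      exact ⟨k, fun _ => hk⟩
    · exact ⟨0, fun h => absurd h hx⟩
  choose kf hkf using h1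
  refine ⟨s.sup kf, fun a ha x hx => ?_⟩
  rw [← hs] at hx
  induction hx using Submodule.span_induction with
  | mem x hx =>
    exact hkf x (hs ▸ Submodule.subset_span hx) a
      (Ideal.pow_le_pow_right (Finset.le_sup (f := kf) hx) ha)
  | zero => simp
  | add x y _ _ hx hy => rw [mul_add]; exact add_mem hx hy
  | smul r x _ hx => rw [smul_eq_mul, mul_left_comm]; exact K.mul_mem_left r hx

/-- A finite module killed by a power of the maximal ideal has finite length. -/
lemma isFiniteLength_of_pow_kill (M : Type u) [AddCommGroup M] [Module A M] [Module.Finite A M] (k : ℕ)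
    (h : ∀ a ∈ maximalIdeal A ^ k, ∀ z : M, a • z = 0) : IsFiniteLength A M := by
  haveI := (isFiniteLength_iff_isNoetherian_isArtinian.1 (LC.isFiniteLength_quot_pow (R := A) k)).2
  haveI : IsArtinianRing (A ⧸ maximalIdeal A ^ k) := isArtinian_of_tower A this
  exact isFiniteLength_iff_isNoetherian_isArtinian.2
    ⟨inferInstance, LC.isArtinian_of_kill (maximalIdeal A ^ k) _ h⟩

/-- The sections of finite length of the quotient. -/
abbrev fin (K : Ideal A) : Submodule A (A ⧸ K) := Submodule.map (Submodule.mkQ K) (satur K)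

/-- If the zeroth local cohomology of a normalized dualizing complex vanishes, the saturations of the
powers are small. -/
theorem exists_satur_le {ω : Dual.D A} (hω : Dual.IsDualizing A ω) (hn : Dual.IsNormalized A ω) (I : Ideal A)
    (h0 : Subsingleton (Dual2.HDI A I ω 0)) (n : ℕ) : ∃ l, satur (I ^ l) ≤ I ^ n := by
  obtain ⟨l, hnl, hl⟩ := exists_kill hω I h0 n
  refine ⟨l, fun x hx => ?_⟩
  obtain ⟨E, _, _, fE, hf⟩ := Groth.Agent.LC.exists_injectiveHull A (ResidueField A)
  obtain ⟨J, -, hJ⟩ := exists_trace hω hn hf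
  obtain ⟨kn, hkn⟩ := exists_pow_mul_satur_le (I ^ n)
  obtain ⟨kl, hkl⟩ := exists_pow_mul_satur_le (I ^ l)
  have hN : ∀ (K : Ideal A) (k : ℕ), (∀ a ∈ maximalIdeal A ^ k, ∀ y ∈ satur K, a * y ∈ K) →
      ∀ a ∈ maximalIdeal A ^ k, ∀ z : fin K, a • z = 0 := fun K k hk a ha z => by
    obtain ⟨y, hy, hyz⟩ := Submodule.mem_map.1 z.2
    refine Subtype.ext ?_
    rw [Submodule.coe_smul, ← hyz, Submodule.mkQ_apply, ← Submodule.Quotient.mk_smul]
    exact (Submodule.Quotient.mk_eq_zero _).2 (hk a ha y hy)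
  have hn' := hN (I ^ n) (max kn kl) fun a ha => hkn a (Ideal.pow_le_pow_right (le_max_left _ _) ha)
  have hl' := hN (I ^ l) (max kn kl) fun a ha => hkl a (Ideal.pow_le_pow_right (le_max_right _ _) ha)
  let p : (A ⧸ I ^ l) →ₗ[A] (A ⧸ I ^ n) := Submodule.mapQ _ _ LinearMap.id (Ideal.pow_le_pow_right hnl)
  have hp : ∀ z ∈ fin (I ^ l), p z ∈ fin (I ^ n) := by
    rintro _ ⟨y, hy, rfl⟩
    exact ⟨y, satur_mono (Ideal.pow_le_pow_right hnl) hy, rfl⟩
  let r : fin (I ^ l) →ₗ[A] fin (I ^ n) := p.restrict hp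
  let z₀ := (shiftFunctorZero (Dual.D A) ℤ).app ω
  have hr : ∀ φ : Dual.inD A (fin (I ^ n)) ⟶ ω, inDMap r ≫ φ = 0 := fun φ => by
    obtain ⟨δ, hδ⟩ := exists_extend_inD (f := (fin (I ^ n)).subtype) (g := (fin (I ^ n)).mkQ)
      Subtype.val_injective (Submodule.mkQ_surjective _) (LinearMap.exact_subtype_mkQ _) ω 0
    haveI : Subsingleton (Dual.inD A ((A ⧸ I ^ n) ⧸ fin (I ^ n)) ⟶ ω⟦(0 : ℤ) + 1⟧) :=
      subsingleton_hom_module_of_pos hω hn _ _ (by omega)
    obtain ⟨ψ, hψ⟩ := hδ (φ ≫ z₀.inv) (Subsingleton.elim _ _)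
    have h2 : inDMap r ≫ inDMap (fin (I ^ n)).subtype = inDMap (fin (I ^ l)).subtype ≫ inDMap p := by
      simp only [inDMap, ← Functor.map_comp]
      rfl
    rw [← cancel_mono z₀.inv, Category.assoc, ← hψ, zero_comp, ← Category.assoc, h2, Category.assoc,
      show inDMap p ≫ ψ = 0 from hl ψ, comp_zero]
  have hr0 : ∀ z : fin (I ^ l), r z = 0 := fun z => by
    refine LC.applyₗ_injective hf _ (LinearMap.ext fun g => ?_)
    obtain ⟨φ, rfl⟩ := (hJ (max kn kl) _ (isFiniteLength_of_pow_kill _ _ hn') hn').2 g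
    have h3 := gam_natural J (max kn kl) hl' hn' r φ
    rw [hr φ, map_zero] at h3
    show gam J (max kn kl) hn' φ (r z) = _
    rw [← LinearMap.comp_apply, ← h3]
    simp
  have h4 := congrArg Subtype.val (hr0 ⟨Submodule.mkQ _ x, Submodule.mem_map_of_mem hx⟩)
  exact (Submodule.Quotient.mk_eq_zero (I ^ n)).1 h4

/-- The saturation is saturated, also after a flat base change. -/
lemma mem_map_satur {B : Type u} [CommRing B] [Algebra A B] [Module.Flat A B] (K : Ideal A) (k : ℕ) (x : B)
    (hx : ∀ a ∈ maximalIdeal A ^ k, algebraMap A B a * x ∈ (satur K).map (algebraMap A B)) :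
    x ∈ (satur K).map (algebraMap A B) := by
  classical
  by_cases htop : satur K = ⊤
  · rw [htop, Ideal.map_top]
    exact Submodule.mem_top
  have hns : ¬ maximalIdeal A ∈ associatedPrimes A (A ⧸ satur K) := fun h => by
    obtain ⟨-, g, hg⟩ := (isAssociatedPrime_iff_exists_injective_linearMap _ _).1 h
    obtain ⟨y, hy⟩ := Submodule.Quotient.mk_surjective _ (g (Submodule.Quotient.mk 1))
    have h1 : ∀ a ∈ maximalIdeal A, a * y ∈ satur K := fun a ha => by
      refine (Submodule.Quotient.mk_eq_zero (satur K)).1 ?_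
      rw [← smul_eq_mul, Submodule.Quotient.mk_smul, hy, ← map_smul, ← Submodule.Quotient.mk_smul]
      rw [(Submodule.Quotient.mk_eq_zero _).2 (by simpa using ha), map_zero]
    obtain ⟨k', hk'⟩ := exists_pow_mul_satur_le K
    have hy' : y ∈ satur K := ⟨k' + 1, fun a ha => by
      rw [pow_succ] at ha
      refine Submodule.mul_induction_on ha (fun b hb c hc => ?_) (fun b c hb hc => ?_)
      · rw [mul_assoc]; exact hk' b hb _ (h1 c hc)
      · rw [add_mul]; exact add_mem hb hc⟩
    rw [(Submodule.Quotient.mk_eq_zero _).2 hy', ← map_zero g] at hy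
    exact (Ideal.ne_top_iff_one _).1 (maximalIdeal.isMaximal A).ne_top
      ((Submodule.Quotient.mk_eq_zero _).1 (hg hy).symm)
  obtain ⟨s, hs, hsr⟩ : ∃ s ∈ maximalIdeal A, IsSMulRegular (A ⧸ satur K) s := by
    by_contra hcon
    push Not at hcon
    have hsub : (maximalIdeal A : Set A) ⊆ ⋃ p ∈ associatedPrimes A (A ⧸ satur K), (p : Set A) := by
      rw [biUnion_associatedPrimes_eq_compl_regular]
      exact fun a ha => hcon a ha
    obtain ⟨p, hp, hle⟩ := (Ideal.subset_union_prime_finite (associatedPrimes.finite A (A ⧸ satur K)) ⊥ ⊥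
      (fun p hp _ _ => hp.isPrime)).1 hsub
    haveI := hp.isPrime
    rw [← (maximalIdeal.isMaximal A).eq_of_le Ideal.IsPrime.ne_top' hle] at hp
    exact hns hp
  have hinj : Function.Injective ((LinearMap.lsmul A (A ⧸ satur K) (s ^ k)).rTensor B) :=
    Module.Flat.rTensor_preserves_injective_linearMap _ (hsr.pow k)
  let e := TensorProduct.quotTensorEquivQuotSMul B (satur K)
  have h5 := hx (s ^ k) (Ideal.pow_mem_pow hs k)
  rw [← Submodule.restrictScalars_mem A, ← Ideal.smul_top_eq_map] at h5 ⊢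
  rw [← Submodule.Quotient.mk_eq_zero]
  apply e.symm.injective
  rw [map_zero]
  apply hinj
  rw [map_zero]
  have h6 : ∀ t, (LinearMap.lsmul A (A ⧸ satur K) (s ^ k)).rTensor B t = (s ^ k) • t := fun t => by
    induction t using TensorProduct.induction_on with
    | zero => simp
    | tmul a b => simp [TensorProduct.smul_tmul']
    | add a b ha hb => rw [map_add, ha, hb, smul_add]
  rw [h6, ← map_smul, ← Submodule.Quotient.mk_smul]
  refine (e.symm.map_eq_zero_iff).2 ((Submodule.Quotient.mk_eq_zero _).2 ?_)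
  rwa [Algebra.smul_def (s ^ k) x]

end Satur

/-- Local cohomology with support in the unit ideal vanishes. -/
lemma subsingleton_H_top (i : ℕ) (M : Type u) [AddCommGroup M] [Module A M] :
    Subsingleton (LocCoh.H (⊤ : Ideal A) i M) := by
  refine subsingleton_of_forall_eq 0 fun z => ?_
  obtain ⟨n, x, rfl⟩ := LC.exists_toH (⊤ : Ideal A) i z
  have hz : IsZero (LC.qObj (⊤ : Ideal A) n) := by
    haveI : Subsingleton (A ⧸ (⊤ : Ideal A) ^ n) :=
      Ideal.Quotient.subsingleton_iff.2 (by rw [← Ideal.one_eq_top, one_pow])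
    exact ModuleCat.isZero_of_subsingleton _
  rw [show x = 0 by
    rw [← Abelian.Ext.mk₀_id_comp x, hz.eq_of_src (𝟙 _) 0, Abelian.Ext.mk₀_zero, Abelian.Ext.zero_comp], map_zero]

/-- The Hartshorne–Lichtenbaum condition from a dualizing complex. -/
theorem one_le_dim_quotient [IsLocalRing A] [IsNoetherianRing A] {ω : Dual.D A} (hω : Dual.IsDualizing A ω)
    (hn : Dual.IsNormalized A ω) (I : Ideal A) (hI : I ≠ ⊤) (h0 : Subsingleton (Dual2.HDI A I ω 0))
    (p : Ideal (AdicCompletion (maximalIdeal A) A)) (hp : p ∈ minimalPrimes (AdicCompletion (maximalIdeal A) A)) :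
    1 ≤ ringKrullDim (AdicCompletion (maximalIdeal A) A ⧸
      (I.map (algebraMap A (AdicCompletion (maximalIdeal A) A)) ⊔ p)) := by
  let B := AdicCompletion (maximalIdeal A) A
  haveI : IsNoetherianRing B := LocalCrit.isNoetherianRing_completion (A := A) (C := A)
    (by rw [Algebra.algebraMap_self, Ideal.map_id])
  have hmB : maximalIdeal B = (maximalIdeal A).map (algebraMap A B) := AdicCompletion.maximalIdeal_eq_map
  let K := I.map (algebraMap A B)
  have hKm : K ≤ maximalIdeal B := hmB ▸ Ideal.map_mono (le_maximalIdeal hI)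
  haveI : p.IsPrime := hp.1.1
  by_contra hdim
  have hmax : ∀ Q : Ideal B, Q.IsPrime → K ⊔ p ≤ Q → maximalIdeal B ≤ Q := fun Q hQ hle => by
    by_contra hnot
    apply hdim
    rw [ringKrullDim_quotient]
    let a : PrimeSpectrum.zeroLocus (R := B) (K ⊔ p : Ideal B) := ⟨⟨Q, hQ⟩, hle⟩
    let b : PrimeSpectrum.zeroLocus (R := B) (K ⊔ p : Ideal B) :=
      ⟨IsLocalRing.closedPoint B, hle.trans (le_maximalIdeal hQ.ne_top)⟩
    have hab : a < b := lt_of_le_not_ge (le_maximalIdeal hQ.ne_top) hnot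
    exact Order.one_le_krullDim_iff.2 ⟨a, b, hab⟩
  obtain ⟨-, g, hg⟩ := (isAssociatedPrime_iff_exists_injective_linearMap _ _).1
    (Module.associatedPrimes.minimalPrimes_annihilator_subset_associatedPrimes B B
      (show p ∈ (Module.annihilator B B).minimalPrimes by
        rw [Module.annihilator_eq_bot.2 inferInstance]
        exact hp))
  let x : B := g (Submodule.Quotient.mk 1)
  have hpx : ∀ a ∈ p, a * x = 0 := fun a ha => by
    rw [← smul_eq_mul, ← map_smul, ← Submodule.Quotient.mk_smul, smul_eq_mul, mul_one,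
      (Submodule.Quotient.mk_eq_zero p).2 ha, map_zero]
  have hx : ∀ n : ℕ, x ∈ K ^ n := fun n => by
    obtain ⟨l, hl⟩ := exists_satur_le hω hn I h0 n
    have hrad : maximalIdeal B ≤ (K ^ l ⊔ p).radical := by
      rw [Ideal.radical_eq_sInf]
      refine le_sInf fun Q ⟨hle, hQ⟩ => ?_
      rw [sup_le_iff] at hle
      exact hmax Q hQ (sup_le (hQ.le_of_pow_le hle.1) hle.2)
    obtain ⟨k, hk⟩ := Ideal.exists_pow_le_of_le_radical_of_fg hrad (IsNoetherian.noetherian _)
    rw [← Ideal.map_pow]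
    refine Ideal.map_mono hl (mem_map_satur (I ^ l) k x fun a ha => Ideal.map_mono (le_satur _) ?_)
    have h1 : algebraMap A B a ∈ K ^ l ⊔ p := hk (by rw [hmB, ← Ideal.map_pow]; exact Ideal.mem_map_of_mem _ ha)
    obtain ⟨c, hc, d, hd, hcd⟩ := Submodule.mem_sup.1 h1
    rw [← hcd, add_mul, hpx d hd, add_zero, Ideal.map_pow]
    exact Ideal.mul_mem_right _ _ hc
  have hx0 : x = 0 := by
    have h2 : x ∈ (⊥ : Ideal B) := by
      rw [← Ideal.iInf_pow_eq_bot_of_isLocalRing K (ne_top_of_le_ne_top (maximalIdeal.isMaximal B).ne_top hKm)]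
      exact (Submodule.mem_iInf _).2 hx
    simpa using h2
  exact Ideal.IsPrime.ne_top' ((Ideal.eq_top_iff_one p).2
    ((Submodule.Quotient.mk_eq_zero p).1 (hg (hx0.trans (map_zero g).symm))))

end Groth.Agent.KFlatLib.DualizingCd
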