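import Groth.Agent.KFlatLib.Ring.RelSurj
import Groth.Agent.KFlatLib.Ring.EvalPseudoCoherent
import Groth.Agent.KFlatLib.Ring.DualizingFibre
import Mathlib.CategoryTheory.Shift.Adjunction
import Mathlib.RingTheory.AdjoinRoot

/-!
# Right adjoints of restriction along elementary ring maps
-/

set_option linter.style.haveILetI false
set_option backward.isDefEq.respectTransparency false

universe u

open CategoryTheory CategoryTheory.Limits Pretriangulated MonoidalCategory

open scoped TensorProduct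

attribute [local instance] HasDerivedCategory.standard

namespace Groth.Agent.KFlatLib

variable {A B C : Type u} [CommRing A] [CommRing B] [CommRing C]

/-- The mixed derived tensor product exists. -/
lemma hasLTenMix (φ : A →+* B) : DTen.HasLTenMix φ :=
  (mixRes φ).hasLeftDerivedFunctor (DTen.QMix A B)

/-- The right adjoint of restriction along a composite. -/
lemma nonempty_shriek_comp {φ : A →+* B} {ψ : B →+* C} {χ : A →+* C} (h : ψ.comp φ = χ)
    {R₁ : Dual.D A ⥤ Dual.D B} (a₁ : DRing.restrictD φ ⊣ R₁)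
    {R₂ : Dual.D B ⥤ Dual.D C} (a₂ : DRing.restrictD ψ ⊣ R₂)
    {R : Dual.D A ⥤ Dual.D C} (a : DRing.restrictD χ ⊣ R) : Nonempty (R₁ ⋙ R₂ ≅ R) := by
  subst h
  exact ⟨Adjunction.rightAdjointUniq
    ((a₂.comp a₁).ofNatIsoLeft (H9Misc.DRingRelPC.restrictDCompIso φ ψ).symm) a⟩

/-- The right adjoint of restriction commutes with shifts. -/
lemma nonempty_shriek_shift {φ : A →+* B} {R : Dual.D A ⥤ Dual.D B} (a : DRing.restrictD φ ⊣ R) (n : ℤ) :
    Nonempty (shiftFunctor (Dual.D A) n ⋙ R ≅ R ⋙ shiftFunctor (Dual.D B) n) := by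
  letI := a.rightAdjointCommShift ℤ
  exact ⟨R.commShiftIso n⟩

/-- Derived base change commutes with shifts. -/
lemma nonempty_LBase_shift (φ : A →+* B) [DTen.HasLBase φ] (n : ℤ) :
    Nonempty (shiftFunctor (Dual.D A) n ⋙ DTen.LBase φ ≅ DTen.LBase φ ⋙ shiftFunctor (Dual.D B) n) := by
  letI := (DTen.baseAdj φ).leftAdjointCommShift ℤ
  exact ⟨(DTen.LBase φ).commShiftIso n⟩

/-- Tensoring with a shift of the ring is the shift. -/
lemma nonempty_tensorRight_shift [DTen.HasLTen B] {N : Dual.D B} (n : ℤ) (e : N ≅ (DTen.unit B)⟦n⟧) :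
    Nonempty (DTen.tensorRightD B N ≅ shiftFunctor (Dual.D B) n) := by
  haveI := hasLTen₃ B
  haveI := isSymMonoidal B
  obtain ⟨i⟩ := nonempty_tensorLeft_shift_unit_iso (A := B) n
  exact ⟨((DTen.LTen B).flip.mapIso e) ≪≫ (tenFlipIso _).symm ≪≫ i⟩

/-- For a perfect algebra the right adjoint of restriction is base change followed by a tensor product. -/
theorem nonempty_shriek_iso_of_perfect {φ : A →+* B} [DTen.HasLBase φ] [DTen.HasLTen B]
    (hA : DRing.IsPerfect A ((DRing.restrictD φ).obj (DTen.unit B)))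
    {R : Dual.D A ⥤ Dual.D B} (a : DRing.restrictD φ ⊣ R) :
    Nonempty (R ≅ DTen.LBase φ ⋙ DTen.tensorRightD B (R.obj (DTen.unit A))) := by
  haveI : DTen.HasRHomRel φ := ⟨a.isLeftAdjoint⟩
  haveI := hasLTenMix φ
  let r : R ≅ DTen.RHomRel φ := Adjunction.rightAdjointUniq a (DTen.relAdj φ)
  obtain ⟨i⟩ := nonempty_RHomRel_iso φ hA
  refine ⟨r ≪≫ i ≪≫ (Functor.curry.obj (DTen.LTenMix φ)).flip.mapIso (r.app _).symm ≪≫
    (NatIso.ofComponents (fun E => @asIso _ _ _ _ ((DTen.split φ).app (E, R.obj (DTen.unit A)))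
      (isIso_split_app φ E _)) (fun {E E'} f =>
        (DTen.split φ).naturality (Prod.mkHom f (𝟙 (R.obj (DTen.unit A)))))).symm⟩

/-- A perfect algebra whose dual is a shift of itself. -/
theorem nonempty_shriek_iso_shift {φ : A →+* B} [DTen.HasLBase φ]
    (hA : DRing.IsPerfect A ((DRing.restrictD φ).obj (DTen.unit B)))
    {R : Dual.D A ⥤ Dual.D B} (a : DRing.restrictD φ ⊣ R) (n : ℤ)
    (e : R.obj (DTen.unit A) ≅ (DTen.unit B)⟦n⟧) :
    Nonempty (R ≅ DTen.LBase φ ⋙ shiftFunctor (Dual.D B) n) := by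
  haveI := hasLTen B
  obtain ⟨i⟩ := nonempty_shriek_iso_of_perfect hA a
  obtain ⟨j⟩ := nonempty_tensorRight_shift n e
  exact ⟨i ≪≫ Functor.isoWhiskerLeft _ j⟩

/-- The right adjoint of restriction along a quotient by a nonzerodivisor is shifted base change. -/
theorem nonempty_shriek_iso_of_principal [Algebra A B] (hs : Function.Surjective (algebraMap A B))
    (f : A) (hf : f ∈ nonZeroDivisors A) (hker : RingHom.ker (algebraMap A B) = Ideal.span {f})
    [DTen.HasLBase (algebraMap A B)]
    {R : Dual.D A ⥤ Dual.D B} (a : DRing.restrictD (algebraMap A B) ⊣ R) :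
    Nonempty (R ≅ DTen.LBase (algebraMap A B) ⋙ shiftFunctor (Dual.D B) (-1 : ℤ)) := by
  let I := RingHom.ker (algebraMap A B)
  have hfI : f ∈ I := by
    change f ∈ RingHom.ker (algebraMap A B)
    rw [hker]
    exact Ideal.mem_span_singleton_self f
  let g : A →ₗ[A] I := LinearMap.toSpanSingleton A I ⟨f, hfI⟩
  have hg : Function.Bijective g := by
    refine ⟨fun x y h => ?_, fun y => ?_⟩
    · exact mul_cancel_right_mem_nonZeroDivisors hf |>.1 (congrArg Subtype.val h)
    · obtain ⟨c, hc⟩ := Ideal.mem_span_singleton'.1 (show (y : A) ∈ Ideal.span {f} from hker ▸ y.2)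
      exact ⟨c, Subtype.ext hc⟩
  let gI : A ≃ₗ[A] I := LinearEquiv.ofBijective g hg
  haveI : Module.Invertible A (RingHom.ker (algebraMap A B)) := Module.Invertible.congr gI
  let eI : (B ⊗[A] I) ⊗[B] B ≃ₗ[B] B :=
    (TensorProduct.rid B _).trans ((TensorProduct.AlgebraTensorModule.congr (LinearEquiv.refl B B) gI.symm).trans
      (TensorProduct.AlgebraTensorModule.rid A B B))
  haveI : DTen.HasRHomRel (algebraMap A B) := ⟨a.isLeftAdjoint⟩
  obtain ⟨k⟩ := nonempty_RHomRel_unit_iso (R := A) (A := B) hs B (invConormalEquiv B eI)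
  exact nonempty_shriek_iso_shift (isPerfect_res_unit hs) a (-1)
    ((Adjunction.rightAdjointUniq a (DTen.relAdj _)).app _ ≪≫ k ≪≫ (shiftFunctor (Dual.D B) (-1 : ℤ)).mapIso
      ((DerivedCategory.singleFunctorIsoCompQ (ModuleCat.{u} B) 0).app (ModuleCat.of B B)))

/-- Restriction along the identity. -/
noncomputable def restrictDIdIso (A : Type u) [CommRing A] :
    DRing.restrictD (RingHom.id A) ≅ 𝟭 (Dual.D A) :=
  let F := ModuleCat.restrictScalars.{u} (RingHom.id A)
  letI : Localization.Lifting DerivedCategory.Q (HomologicalComplex.quasiIso (ModuleCat.{u} A) (ComplexShape.up ℤ))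
      (F.mapHomologicalComplex (ComplexShape.up ℤ) ⋙ DerivedCategory.Q) (DRing.restrictD (RingHom.id A)) :=
    ⟨F.mapDerivedCategoryFactors⟩
  letI : Localization.Lifting DerivedCategory.Q (HomologicalComplex.quasiIso (ModuleCat.{u} A) (ComplexShape.up ℤ))
      DerivedCategory.Q (𝟭 (Dual.D A)) := ⟨Functor.rightUnitor _⟩
  Localization.liftNatIso DerivedCategory.Q (HomologicalComplex.quasiIso (ModuleCat.{u} A) (ComplexShape.up ℤ))
    (F.mapHomologicalComplex (ComplexShape.up ℤ) ⋙ DerivedCategory.Q) DerivedCategory.Q _ _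
    (Functor.isoWhiskerRight (NatIso.mapHomologicalComplex (ModuleCat.restrictScalarsId'.{u} (RingHom.id A) rfl)
      (ComplexShape.up ℤ) ≪≫ Functor.mapHomologicalComplexIdIso _ _) _ ≪≫ Functor.leftUnitor _)

/-- Restrictions along mutually inverse maps are inverse. -/
lemma nonempty_restrict_of_id (φ : A →+* B) (ψ : B →+* A) (h : ψ.comp φ = RingHom.id A) :
    Nonempty (DRing.restrictD ψ ⋙ DRing.restrictD φ ≅ 𝟭 (Dual.D A)) := by
  let i := restrictDIdIso A
  have e : DRing.restrictD (ψ.comp φ) ≅ DRing.restrictD (RingHom.id A) := eqToIso (by rw [h])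
  exact ⟨(H9Misc.DRingRelPC.restrictDCompIso φ ψ).symm ≪≫ e ≪≫ i⟩

section Monogenic

variable [Algebra A B] (pb : PowerBasis A B)

/-- The top coefficient. -/
noncomputable def topCoord (h : 0 < pb.dim) : B →ₗ[A] A :=
  pb.basis.coord ⟨pb.dim - 1, by omega⟩

lemma topCoord_gen_pow (h : 0 < pb.dim) {k : ℕ} (hk : k < pb.dim) :
    topCoord pb h (pb.gen ^ k) = if k = pb.dim - 1 then 1 else 0 := by
  have : pb.gen ^ k = pb.basis ⟨k, hk⟩ := (pb.basis_eq_pow ⟨k, hk⟩).symm
  rw [this, topCoord, Module.Basis.coord_apply, Module.Basis.repr_self, Finsupp.single_apply]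
  simp [Fin.ext_iff]

/-- A monogenic algebra is its own dual. -/
theorem bijective_topCoord_mul (h : 0 < pb.dim) :
    Function.Bijective fun (b : B) => (topCoord pb h).comp (LinearMap.mulLeft A b) := by
  have hsurj : ∀ (f : B →ₗ[A] A) (k : ℕ), k ≤ pb.dim →
      ∃ b : B, ∀ j, j < k → topCoord pb h (b * pb.gen ^ j) = f (pb.gen ^ j) := by
    intro f k
    induction k with
    | zero => exact fun _ => ⟨0, fun j hj => absurd hj (by omega)⟩
    | succ k ih =>
      intro hk
      obtain ⟨b, hb⟩ := ih (by omega)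
      refine ⟨b + (f (pb.gen ^ k) - topCoord pb h (b * pb.gen ^ k)) • pb.gen ^ (pb.dim - 1 - k),
        fun j hj => ?_⟩
      rw [add_mul, smul_mul_assoc, ← pow_add, map_add, map_smul,
        topCoord_gen_pow pb h (by omega : pb.dim - 1 - k + j < pb.dim)]
      rcases Nat.lt_or_eq_of_le (Nat.le_of_lt_succ hj) with hlt | rfl
      · rw [if_neg (by omega), hb j hlt]; simp
      · rw [if_pos (by omega)]; simp
  constructor
  · intro b c hbc
    rw [← sub_eq_zero]
    have hz : ∀ j, j < pb.dim → topCoord pb h ((b - c) * pb.gen ^ j) = 0 := fun j _ => by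
      rw [sub_mul, map_sub, sub_eq_zero]
      exact LinearMap.congr_fun hbc (pb.gen ^ j)
    let x := pb.basis.repr (b - c)
    have hzero : ∀ k : ℕ, ∀ i : Fin pb.dim, pb.dim ≤ i.1 + k → x i = 0 := by
      intro k
      induction k with
      | zero => intro i hi; exact absurd i.2 (by omega)
      | succ k ih =>
        intro i hi
        by_cases hik : pb.dim ≤ i.1 + k
        · exact ih i hik
        have hexp := hz (pb.dim - 1 - i.1) (by omega)
        rw [← pb.basis.sum_repr (b - c), Finset.sum_mul, map_sum, Finset.sum_eq_single i] at hexp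
        · rwa [pb.basis_eq_pow, smul_mul_assoc, ← pow_add, map_smul,
            topCoord_gen_pow pb h (by omega), if_pos (by omega), smul_eq_mul, mul_one] at hexp
        · intro l _ hl
          by_cases hlk : pb.dim ≤ l.1 + k
          · rw [show pb.basis.repr (b - c) l = 0 from ih l hlk, zero_smul, zero_mul, map_zero]
          · have hli : l.1 ≠ i.1 := fun he => hl (Fin.ext he)
            rw [pb.basis_eq_pow, smul_mul_assoc, ← pow_add, map_smul,
              topCoord_gen_pow pb h (by omega), if_neg (by omega), smul_zero]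
        · exact fun h' => absurd (Finset.mem_univ i) h'
    exact pb.basis.repr.map_eq_zero_iff.1 (Finsupp.ext fun i => hzero pb.dim i (by omega))
  · intro f
    obtain ⟨b, hb⟩ := hsurj f pb.dim le_rfl
    refine ⟨b, pb.basis.ext fun i => ?_⟩
    change topCoord pb h (b * pb.basis i) = f (pb.basis i)
    rw [pb.basis_eq_pow]
    exact hb i i.2

/-- The right adjoint of restriction along a monogenic finite free extension is base change. -/
theorem nonempty_shriek_iso_of_powerBasis (pb : PowerBasis A B) (hd : 0 < pb.dim)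
    [DTen.HasLBase (algebraMap A B)]
    {R : Dual.D A ⥤ Dual.D B} (a : DRing.restrictD (algebraMap A B) ⊣ R) :
    Nonempty (R ≅ DTen.LBase (algebraMap A B)) := by
  haveI : Module.Finite A B := pb.finite
  let φ := algebraMap A B
  let eB : ((ModuleCat.restrictScalars φ).obj (ModuleCat.of B B) : Type u) ≃ₗ[A] B :=
    LinearEquiv.ofBijective
      ({ toFun := fun x => x
         map_add' := fun _ _ => rfl
         map_smul' := fun r (x : B) => (Algebra.smul_def r x).symm } :
        ((ModuleCat.restrictScalars φ).obj (ModuleCat.of B B) : Type u) →ₗ[A] B) Function.bijective_id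
  let u₁ := (DerivedCategory.singleFunctorIsoCompQ (ModuleCat.{u} B) 0).app (ModuleCat.of B B)
  let eres : (DRing.restrictD φ).obj ((sD B).obj (ModuleCat.of B B)) ≅ (sD A).obj (ModuleCat.of A B) :=
    H9Misc.DRingRestrict.restrictInDIso φ (ModuleCat.of B B) ≪≫ (sD A).mapIso eB.toModuleIso
  haveI : Module.Free A B := Module.Free.of_basis pb.basis
  haveI : Projective (ModuleCat.of A B) := ModuleCat.projective_of_free pb.basis
  have hA : DRing.IsPerfect A ((DRing.restrictD φ).obj (DTen.unit B)) :=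
    H9Misc.DRingPC.isPerfect_of_iso (eres.symm ≪≫ (DRing.restrictD φ).mapIso u₁)
      (isPerfect_inD_of_projective (ModuleCat.of A B))
  let u₀ := (DerivedCategory.singleFunctorIsoCompQ (ModuleCat.{u} A) 0).app (ModuleCat.of A A)
  let τ : (sD A).obj (ModuleCat.of A B) ⟶ DTen.unit A :=
    (sD A).map (ModuleCat.ofHom (topCoord pb hd)) ≫ u₀.hom
  let c : (DRing.restrictD φ).obj ((sD B).obj (ModuleCat.of B B)) ⟶ DTen.unit A := eres.hom ≫ τ
  let ζ := a.homEquiv _ _ c
  suffices IsIso ζ by
    obtain ⟨i⟩ := nonempty_shriek_iso_shift hA a 0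
      ((@asIso _ _ _ _ ζ this).symm ≪≫ u₁ ≪≫ ((shiftFunctorZero (Dual.D B) ℤ).app _).symm)
    exact ⟨i ≪≫ Functor.isoWhiskerLeft _ (shiftFunctorZero (Dual.D B) ℤ) ≪≫ Functor.rightUnitor _⟩
  refine isIso_of_bijective_unit _ fun j => ?_
  have hζ : ∀ g : (DTen.unit B)⟦j⟧ ⟶ (sD B).obj (ModuleCat.of B B),
      g ≫ ζ = a.homEquiv _ _ ((DRing.restrictD φ).map g ≫ c) := fun g =>
    (a.homEquiv_naturality_left g c).symm
  simp only [hζ]
  refine (a.homEquiv _ _).bijective.comp ?_
  let v : (DTen.unit B)⟦j⟧ ≅ ((sD B).obj (ModuleCat.of B B))⟦j⟧ := (shiftFunctor (Dual.D B) j).mapIso u₁.symm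
  by_cases hj : j = 0
  · subst hj
    let w : (DTen.unit B)⟦(0 : ℤ)⟧ ≅ (sD B).obj (ModuleCat.of B B) := (shiftFunctorZero (Dual.D B) ℤ).app _ ≪≫ u₁.symm
    let L : B → ((DRing.restrictD φ).obj ((DTen.unit B)⟦(0 : ℤ)⟧) ⟶ DTen.unit A) := fun b =>
      ((DRing.restrictD φ).map w.hom ≫ eres.hom) ≫
        (sD A).map (ModuleCat.ofHom ((topCoord pb hd).comp (LinearMap.mulLeft A b))) ≫ u₀.hom
    let mult : B → (ModuleCat.of B B ⟶ ModuleCat.of B B) := fun b => ModuleCat.ofHom (LinearMap.mulLeft B b)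
    have hnat : ∀ b : B, (DRing.restrictD φ).map (w.hom ≫ (sD B).map (mult b)) ≫ c = L b := by
      intro b
      have h1 : (DRing.restrictD φ).map ((sD B).map (mult b)) ≫ eres.hom =
          eres.hom ≫ (sD A).map (ModuleCat.ofHom (LinearMap.mulLeft A b)) := by
        have hn := ((ModuleCat.restrictScalars.{u} φ).mapDerivedCategorySingleFunctor 0).hom.naturality (mult b)
        have hm : (ModuleCat.restrictScalars φ).map (mult b) ≫ eB.toModuleIso.hom =
            eB.toModuleIso.hom ≫ ModuleCat.ofHom (LinearMap.mulLeft A b) := rfl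
        refine (Category.assoc _ _ _).symm.trans ?_
        refine (congrArg (· ≫ (sD A).map eB.toModuleIso.hom) hn).trans ?_
        refine (Category.assoc _ _ _).trans (Eq.trans ?_ (Category.assoc _ _ _).symm)
        refine congrArg (_ ≫ ·) (((sD A).map_comp _ _).symm.trans ?_)
        exact (congrArg (sD A).map hm).trans ((sD A).map_comp _ _)
      change (DRing.restrictD φ).map (w.hom ≫ (sD B).map (mult b)) ≫ eres.hom ≫
        (sD A).map (ModuleCat.ofHom (topCoord pb hd)) ≫ u₀.hom = _
      rw [Functor.map_comp, Category.assoc, reassoc_of% h1, ← Functor.map_comp_assoc]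
      exact (Category.assoc _ _ _).symm
    have hall : ∀ g : (DTen.unit B)⟦(0 : ℤ)⟧ ⟶ (sD B).obj (ModuleCat.of B B),
        ∃ b, w.hom ≫ (sD B).map (mult b) = g := fun g => by
      obtain ⟨m, hm⟩ := (sD B).map_surjective (w.inv ≫ g)
      refine ⟨m.hom 1, ?_⟩
      have : mult (m.hom 1) = m := ModuleCat.hom_ext (LinearMap.ext_ring (by simp [mult]))
      rw [this, hm, Iso.hom_inv_id_assoc]
    have hL : ∀ b b', L b = L b' → b = b' := fun b b' h => by
      have h1 := (cancel_epi ((DRing.restrictD φ).map w.hom ≫ eres.hom)).1 h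
      have h2 := (sD A).map_injective ((cancel_mono u₀.hom).1 h1)
      exact (bijective_topCoord_mul pb hd).1 (congrArg ModuleCat.Hom.hom h2)
    refine ⟨fun g g' h => ?_, fun y => ?_⟩
    · obtain ⟨b, rfl⟩ := hall g
      obtain ⟨b', rfl⟩ := hall g'
      rw [hL b b' ((hnat b).symm.trans (h.trans (hnat b')))]
    · obtain ⟨f, hf⟩ := (sD A).map_surjective
        (inv ((DRing.restrictD φ).map w.hom ≫ eres.hom) ≫ y ≫ u₀.inv)
      obtain ⟨b, hb⟩ := (bijective_topCoord_mul pb hd).2 f.hom
      refine ⟨w.hom ≫ (sD B).map (mult b), (hnat b).trans ?_⟩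
      change ((DRing.restrictD φ).map w.hom ≫ eres.hom) ≫
        (sD A).map (ModuleCat.ofHom ((topCoord pb hd).comp (LinearMap.mulLeft A b))) ≫ u₀.hom = y
      rw [show ModuleCat.ofHom ((topCoord pb hd).comp (LinearMap.mulLeft A b)) = f from ModuleCat.hom_ext hb, hf]
      simp
  · have h1 : ∀ g : (DTen.unit B)⟦j⟧ ⟶ (sD B).obj (ModuleCat.of B B), g = 0 := fun g => by
      refine (shiftFunctor (Dual.D B) (-j)).map_injective ?_
      rw [Functor.map_zero, ← cancel_epi ((shiftFunctorCompIsoId (Dual.D B) j (-j) (by omega)).inv.app _), comp_zero,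
        ← cancel_epi u₁.hom, comp_zero]
      exact eq_zero_sD_shift _ _ (by omega) _
    have h2 : ∀ y : (DRing.restrictD φ).obj ((DTen.unit B)⟦j⟧) ⟶ DTen.unit A, y = 0 := fun y => by
      let e := ((DRing.restrictD φ).map v.hom ≫ ((DRing.restrictD φ).commShiftIso j).hom.app _) ≫ eres.hom⟦j⟧'
      rw [← cancel_epi (inv e), comp_zero, ← cancel_mono u₀.inv, zero_comp]
      refine (shiftFunctor (Dual.D A) (-j)).map_injective ?_
      rw [Functor.map_zero, ← cancel_epi ((shiftFunctorCompIsoId (Dual.D A) j (-j) (by omega)).inv.app _), comp_zero]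
      exact eq_zero_sD_shift _ _ (by omega) _
    exact ⟨fun g g' _ => (h1 g).trans (h1 g').symm, fun y => ⟨0, (h2 _).trans (h2 y).symm⟩⟩

end Monogenic

end Groth.Agent.KFlatLib
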