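import Groth.Agent.KFlatLib.Ring.BaseChangeGen
import Mathlib.RingTheory.TensorProduct.MvPolynomial

/-!
# The shriek functor commutes with base change
-/

set_option linter.style.haveILetI false
set_option backward.isDefEq.respectTransparency false

universe u

open CategoryTheory CategoryTheory.Limits MonoidalCategory

open scoped TensorProduct

attribute [local instance] HasDerivedCategory.standard

namespace Groth.Agent.KFlatLib

attribute [local instance] MvPolynomial.algebraMvPolynomial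

variable (R' : Type u) {R A : Type u} [CommRing R] [CommRing R'] [CommRing A] [Algebra R R'] [Algebra R A]
  {n : ℕ}

/-- The base change of a presentation. -/
noncomputable def presBC (ψ : MvPolynomial (Fin n) R →+* A) :
    MvPolynomial (Fin n) R' →+* R' ⊗[R] A :=
  MvPolynomial.eval₂Hom (algebraMap R' (R' ⊗[R] A))
    fun i => (Algebra.TensorProduct.includeRight : A →ₐ[R] R' ⊗[R] A) (ψ (MvPolynomial.X i))

/-- The base change of an algebra. -/
noncomputable abbrev incRight (R R' A : Type u) [CommRing R] [CommRing R'] [CommRing A] [Algebra R R']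
    [Algebra R A] : A →+* R' ⊗[R] A :=
  (Algebra.TensorProduct.includeRight : A →ₐ[R] R' ⊗[R] A).toRingHom

variable {R'} (ψ : MvPolynomial (Fin n) R →+* A)

lemma presBC_comp (hR : ψ.comp MvPolynomial.C = algebraMap R A) :
    (incRight R R' A).comp ψ = (presBC R' ψ).comp (MvPolynomial.map (algebraMap R R')) := by
  refine MvPolynomial.ringHom_ext (fun r => ?_) fun i => ?_
  · change (Algebra.TensorProduct.includeRight : A →ₐ[R] R' ⊗[R] A) (ψ (MvPolynomial.C r)) = _
    rw [show ψ (MvPolynomial.C r) = algebraMap R A r from RingHom.congr_fun hR r, AlgHom.commutes,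
      IsScalarTower.algebraMap_apply R R' (R' ⊗[R] A)]
    simp [presBC]
  · simp [presBC]

lemma presBC_C : (presBC R' ψ).comp MvPolynomial.C = algebraMap R' (R' ⊗[R] A) :=
  RingHom.ext fun r => by simp [presBC]

lemma surjective_presBC (hψ : Function.Surjective ψ) (hR : ψ.comp MvPolynomial.C = algebraMap R A) :
    Function.Surjective (presBC R' ψ) := by
  intro z
  induction z using TensorProduct.induction_on with
  | zero => exact ⟨0, map_zero _⟩
  | add x y hx hy =>
    obtain ⟨p, rfl⟩ := hx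
    obtain ⟨q, rfl⟩ := hy
    exact ⟨p + q, map_add _ _ _⟩
  | tmul r a =>
    obtain ⟨p, rfl⟩ := hψ a
    refine ⟨MvPolynomial.C r * MvPolynomial.map (algebraMap R R') p, ?_⟩
    rw [map_mul, ← RingHom.comp_apply (presBC R' ψ) (MvPolynomial.map _), ← presBC_comp ψ hR,
      ← RingHom.comp_apply (presBC R' ψ) MvPolynomial.C, presBC_C]
    simp

/-- Along a presentation the comparison is invertible as soon as it is so over the base. -/
theorem isIso_cmpBC_presentation [DTen.HasLBase (algebraMap R R')]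
    [DTen.HasLBase (MvPolynomial.map (σ := Fin n) (algebraMap R R'))] [DTen.HasLBase (incRight R R' A)]
    (hR : ψ.comp MvPolynomial.C = algebraMap R A)
    (hgen : ∀ k : ℤ, IsIso ((DTen.baseCmp (algebraMap R R')).app ((DTen.resCx (algebraMap R A)).obj
      ((HomologicalComplex.single (ModuleCat.{u} A) (ComplexShape.up ℤ) k).obj (ModuleCat.of A A)))))
    (X : Dual.D A) : IsIso (cmpBC (presBC_comp (R' := R') ψ hR) X) := by
  let P := MvPolynomial (Fin n) R
  let P' := MvPolynomial (Fin n) R'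
  let A' := R' ⊗[R] A
  letI : Algebra P A := ψ.toAlgebra
  letI : Algebra A A' := (incRight R R' A).toAlgebra
  letI : Algebra P' A' := (presBC R' ψ).toAlgebra
  letI : Algebra P A' := ((incRight R R' A).comp ψ).toAlgebra
  haveI : IsScalarTower R P A := IsScalarTower.of_algebraMap_eq fun r => (RingHom.congr_fun hR r).symm
  haveI : IsScalarTower P A A' := IsScalarTower.of_algebraMap_eq fun _ => rfl
  haveI : IsScalarTower P P' A' :=
    IsScalarTower.of_algebraMap_eq fun p => RingHom.congr_fun (presBC_comp (R' := R') ψ hR) p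
  haveI : IsScalarTower R A A' := IsScalarTower.of_algebraMap_eq fun r =>
    ((Algebra.TensorProduct.includeRight : A →ₐ[R] A').commutes r).symm
  haveI : IsScalarTower R' P' A' := IsScalarTower.of_algebraMap_eq fun r =>
    (RingHom.congr_fun (presBC_C (R' := R') ψ) r).symm
  haveI : IsScalarTower R P' A' := IsScalarTower.of_algebraMap_eq fun r => by
    rw [IsScalarTower.algebraMap_apply R R' A', IsScalarTower.algebraMap_apply R R' P',
      ← IsScalarTower.algebraMap_apply R' P' A']
  haveI : Algebra.IsPushout R P R' P' := inferInstance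
  haveI : Algebra.IsPushout R R' A A' := TensorProduct.isPushout
  haveI : Algebra.IsPushout R A R' A' := Algebra.IsPushout.symm inferInstance
  haveI : Algebra.IsPushout P A P' A' :=
    (Algebra.IsPushout.comp_iff R P R' P').1 inferInstance
  haveI : Algebra.IsPushout P P' A A' := Algebra.IsPushout.symm inferInstance
  haveI : Algebra.IsPushout R R' P P' := Algebra.IsPushout.symm inferInstance
  let ι : R →+* P := algebraMap R P
  let ι' : R' →+* P' := algebraMap R' P'
  have hι : (MvPolynomial.map (σ := Fin n) (algebraMap R R')).comp ι = ι'.comp (algebraMap R R') :=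
    RingHom.ext fun r => MvPolynomial.map_C _ _
  haveI hι₁ : ∀ M, IsIso (sqMod hι M) := fun M => isIso_sqMod hι rfl rfl rfl rfl M
  haveI hι₂ : ∀ Y, IsIso (cmpBC hι Y) := fun Y => isIso_cmpBC hι
    (fun k => isIso_baseCmp_single_of_flat_left ι _ (RingHom.flat_algebraMap_iff.2 inferInstance) k) Y
  haveI := isIso_sqMod (presBC_comp (R' := R') ψ hR) rfl rfl rfl rfl (ModuleCat.of A A)
  refine isIso_cmpBC _ (fun k => ?_) X
  let S := (HomologicalComplex.single (ModuleCat.{u} A) (ComplexShape.up ℤ) k).obj (ModuleCat.of A A)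
  let T := (DTen.resCx ψ).obj S
  let e : (DTen.resCx ι).obj T ≅ (DTen.resCx (algebraMap R A)).obj S :=
    (Functor.mapHomologicalComplexCompIso
      (ModuleCat.restrictScalarsComp' ι ψ (algebraMap R A)
        (show algebraMap R A = ψ.comp ι from hR.symm)).symm (ComplexShape.up ℤ)).app S
  haveI : IsIso ((DTen.baseCmp (algebraMap R R')).app ((DTen.resCx ι).obj T)) :=
    (NatTrans.isIso_app_iff_of_iso (DTen.baseCmp (algebraMap R R')) e).2 (hgen k)
  haveI : ∀ i, IsIso ((sqCx hι T).f i) := fun i => hι₁ _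
  haveI : IsIso (sqCx hι T) := HomologicalComplex.Hom.isIso_of_components (sqCx hι T)
  exact isIso_baseCmp_of_cmpBC hι T

/-- The composite base change of a polynomial algebra. -/
lemma nonempty_LBase_poly (ι : R →+* MvPolynomial (Fin n) R) (hι : ι = MvPolynomial.C)
    (ι' : R' →+* MvPolynomial (Fin n) R') (hι' : ι' = MvPolynomial.C)
    [DTen.HasLBase (algebraMap R R')] [DTen.HasLBase (MvPolynomial.map (σ := Fin n) (algebraMap R R'))]
    [DTen.HasLBase ι] [DTen.HasLBase ι'] :
    Nonempty (DTen.LBase ι ⋙ DTen.LBase (MvPolynomial.map (algebraMap R R')) ≅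
      DTen.LBase (algebraMap R R') ⋙ DTen.LBase ι') := by
  haveI := hasLBase ((MvPolynomial.map (σ := Fin n) (algebraMap R R')).comp ι)
  obtain ⟨i⟩ := nonempty_LBase_comp ι (MvPolynomial.map (σ := Fin n) (algebraMap R R')) _ rfl
  obtain ⟨j⟩ := nonempty_LBase_comp (algebraMap R R') ι'
    ((MvPolynomial.map (σ := Fin n) (algebraMap R R')).comp ι) (by
      subst hι hι'
      exact RingHom.ext fun r => (MvPolynomial.map_C _ _).symm)
  exact ⟨i ≪≫ j.symm⟩

/-- The shriek of a flat algebra commutes with base change. -/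
theorem nonempty_shriek_baseChange_of_flat_left [IsNoetherianRing R] [Module.Flat R A]
    (hψ : Function.Surjective ψ) (hR : ψ.comp MvPolynomial.C = algebraMap R A)
    (ι : R →+* MvPolynomial (Fin n) R) (hι : ι = MvPolynomial.C) [DTen.HasLBase ι]
    {Rψ : Dual.D (MvPolynomial (Fin n) R) ⥤ Dual.D A} (a : DRing.restrictD ψ ⊣ Rψ)
    {m : ℕ} (ψ' : MvPolynomial (Fin m) R' →+* R' ⊗[R] A) (hψ' : Function.Surjective ψ')
    (hR' : ψ'.comp MvPolynomial.C = algebraMap R' (R' ⊗[R] A))
    (ι' : R' →+* MvPolynomial (Fin m) R') (hι' : ι' = MvPolynomial.C) [DTen.HasLBase ι']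
    {Rψ' : Dual.D (MvPolynomial (Fin m) R') ⥤ Dual.D (R' ⊗[R] A)} (a' : DRing.restrictD ψ' ⊣ Rψ')
    [DTen.HasLBase (algebraMap R R')] [DTen.HasLBase (incRight R R' A)] (K : Dual.D R) :
    Nonempty ((DTen.LBase (incRight R R' A)).obj ((Rψ.obj ((DTen.LBase ι).obj K))⟦(n : ℤ)⟧) ≅
      (Rψ'.obj ((DTen.LBase ι').obj ((DTen.LBase (algebraMap R R')).obj K)))⟦(m : ℤ)⟧) := by
  haveI := hasLBase (MvPolynomial.map (σ := Fin n) (algebraMap R R'))
  let ι'' : R' →+* MvPolynomial (Fin n) R' := MvPolynomial.C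
  haveI := hasLBase ι''
  obtain ⟨R'', ⟨a''⟩⟩ := exists_shriek (presBC R' ψ)
  have hc := isIso_cmpBC_presentation (R' := R') ψ hR fun k =>
    isIso_baseCmp_single_of_flat_left (algebraMap R A) _ (RingHom.flat_algebraMap_iff.2 inferInstance) k
  obtain ⟨θ⟩ := nonempty_shriek_baseChange_of_perfect (presBC_comp (R' := R') ψ hR) hc a a''
    (isPerfect_res_presentation n ψ hψ hR)
  obtain ⟨i₁⟩ := nonempty_LBase_shift (incRight R R' A) (n : ℤ)
  obtain ⟨i₂⟩ := nonempty_LBase_poly (R' := R') ι hι ι'' rfl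
  obtain ⟨i₃⟩ := nonempty_shriek_independent n m (presBC R' ψ) (surjective_presBC ψ hψ hR) ψ' hψ'
    ((presBC_C ψ).trans hR'.symm) ι'' rfl ι' hι' a'' a'
  exact ⟨i₁.app _ ≪≫ (shiftFunctor _ (n : ℤ)).mapIso (θ.app _ ≪≫ R''.mapIso (i₂.app K)) ≪≫ i₃.app _⟩

/-- The shriek commutes with flat base change on bounded below objects. -/
theorem nonempty_shriek_baseChange_of_flat_right [IsNoetherianRing R] [Module.Flat R R']
    (hψ : Function.Surjective ψ) (hR : ψ.comp MvPolynomial.C = algebraMap R A)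
    (ι : R →+* MvPolynomial (Fin n) R) (hι : ι = MvPolynomial.C) [DTen.HasLBase ι]
    {Rψ : Dual.D (MvPolynomial (Fin n) R) ⥤ Dual.D A} (a : DRing.restrictD ψ ⊣ Rψ)
    {m : ℕ} (ψ' : MvPolynomial (Fin m) R' →+* R' ⊗[R] A) (hψ' : Function.Surjective ψ')
    (hR' : ψ'.comp MvPolynomial.C = algebraMap R' (R' ⊗[R] A))
    (ι' : R' →+* MvPolynomial (Fin m) R') (hι' : ι' = MvPolynomial.C) [DTen.HasLBase ι']
    {Rψ' : Dual.D (MvPolynomial (Fin m) R') ⥤ Dual.D (R' ⊗[R] A)} (a' : DRing.restrictD ψ' ⊣ Rψ')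
    [DTen.HasLBase (algebraMap R R')] [DTen.HasLBase (incRight R R' A)]
    (K : Dual.D R) (c : ℤ) [K.IsGE c] :
    Nonempty ((DTen.LBase (incRight R R' A)).obj ((Rψ.obj ((DTen.LBase ι).obj K))⟦(n : ℤ)⟧) ≅
      (Rψ'.obj ((DTen.LBase ι').obj ((DTen.LBase (algebraMap R R')).obj K)))⟦(m : ℤ)⟧) := by
  haveI := hasLBase (MvPolynomial.map (σ := Fin n) (algebraMap R R'))
  let ι'' : R' →+* MvPolynomial (Fin n) R' := MvPolynomial.C
  haveI := hasLBase ι''
  obtain ⟨R'', ⟨a''⟩⟩ := exists_shriek (presBC R' ψ)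
  have hc := isIso_cmpBC_presentation (R' := R') ψ hR fun k =>
    isIso_baseCmp_of_flat (algebraMap R R') (RingHom.flat_algebraMap_iff.2 inferInstance) _
  have hmap : (MvPolynomial.map (σ := Fin n) (algebraMap R R')).Flat := by
    haveI : Algebra.IsPushout R (MvPolynomial (Fin n) R) R' (MvPolynomial (Fin n) R') := inferInstance
    haveI : Module.Flat (MvPolynomial (Fin n) R) (MvPolynomial (Fin n) R') :=
      Module.Flat.isBaseChange R (MvPolynomial (Fin n) R) R' (MvPolynomial (Fin n) R')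
        (Algebra.IsPushout.out (R := R) (S := MvPolynomial (Fin n) R) (R' := R')
          (S' := MvPolynomial (Fin n) R'))
    exact RingHom.flat_algebraMap_iff.2 inferInstance
  have hιflat : ι.Flat := by
    subst hι
    exact RingHom.flat_algebraMap_iff.2 (inferInstance : Module.Flat R (MvPolynomial (Fin n) R))
  haveI := hasLTen R
  haveI : ((DTen.LBase ι).obj K).IsGE (c + 0) := isGE_LBase (hasTorAmplitudeIn_resUnitCx ι hιflat) K c
  obtain ⟨θ⟩ := nonempty_shriek_baseChange_of_pseudoCoherent (presBC_comp (R' := R') ψ hR) hc a a''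
    (isPseudoCoherent_res_unit ψ (RingHom.Finite.of_surjective ψ hψ))
    (hasTorAmplitudeIn_resUnitCx _ hmap) ((DTen.LBase ι).obj K) (c + 0)
  obtain ⟨i₁⟩ := nonempty_LBase_shift (incRight R R' A) (n : ℤ)
  obtain ⟨i₂⟩ := nonempty_LBase_poly (R' := R') ι hι ι'' rfl
  obtain ⟨i₃⟩ := nonempty_shriek_independent n m (presBC R' ψ) (surjective_presBC ψ hψ hR) ψ' hψ'
    ((presBC_C ψ).trans hR'.symm) ι'' rfl ι' hι' a'' a'
  exact ⟨i₁.app _ ≪≫ (shiftFunctor _ (n : ℤ)).mapIso (θ ≪≫ R''.mapIso (i₂.app K)) ≪≫ i₃.app _⟩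

end Groth.Agent.KFlatLib
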