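import Groth.Agent.KFlatLib.Ring.ResLBase
import Groth.Agent.KFlatLib.Ring.DerivedInduction
import Groth.Agent.H9Misc.BrownGroth

/-!
# Base change for derived hom along an algebra which is perfect as a module
-/

set_option linter.style.haveILetI false
set_option backward.isDefEq.respectTransparency false

universe u v v'

open CategoryTheory CategoryTheory.Limits Pretriangulated MonoidalCategory Opposite

open Pretriangulated.Opposite

attribute [local instance] HasDerivedCategory.standard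

namespace Groth.Agent.KFlatLib

section Formal

variable {C : Type u} [Category.{v} C] [HasZeroObject C] [HasShift C ℤ] [Preadditive C]
  [∀ n : ℤ, (shiftFunctor C n).Additive] [Pretriangulated C]
  {D : Type u} [Category.{v'} D] [Preadditive D] {J : Type*}

/-- A family of maps out of `X` through which every map into `X` is determined, and every family lifts. -/
def FanBij {X : D} {Xs : J → D} (c : ∀ j, X ⟶ Xs j) (Z : D) : Prop :=
  Function.Bijective fun g : Z ⟶ X => fun j => g ≫ c j

/-- The five lemma for a family of natural transformations out of an exact functor. -/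
lemma fanBij₂_of_homExact {F : C ⥤ D} {Fs : J → C ⥤ D} [F.PreservesZeroMorphisms]
    [∀ j, (Fs j).PreservesZeroMorphisms] (hF : HomExact F) (hFs : ∀ j, HomExact (Fs j))
    (η : ∀ j, F ⟶ Fs j) (T : Triangle C) (hT : T ∈ distTriang C) (Z : D)
    (h₀ : FanBij (fun j => (η j).app (T.obj₃⟦(-1 : ℤ)⟧)) Z)
    (h₁ : FanBij (fun j => (η j).app T.obj₁) Z)
    (h₃ : FanBij (fun j => (η j).app T.obj₃) Z)
    (h₄ : FanBij (fun j => (η j).app (T.obj₁⟦(1 : ℤ)⟧)) Z) :
    FanBij (fun j => (η j).app T.obj₂) Z := by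
  have hT' := inv_rot_of_distTriang _ hT
  refine ⟨fun φ φ' e => sub_eq_zero.1 ?_, fun y => ?_⟩
  · have h0 : ∀ j, (φ - φ') ≫ (η j).app T.obj₂ = 0 := fun j => by
      rw [Preadditive.sub_comp]
      exact sub_eq_zero.2 (congrFun e j)
    generalize φ - φ' = φ at h0
    have h1 : φ ≫ F.map T.mor₂ = 0 := h₃.1 (funext fun j => by
      change (φ ≫ F.map T.mor₂) ≫ (η j).app T.obj₃ = 0 ≫ (η j).app T.obj₃
      rw [Category.assoc, (η j).naturality, ← Category.assoc, h0 j, zero_comp, zero_comp])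
    obtain ⟨ψ, rfl⟩ := hF T hT Z φ h1
    choose χ hχ using fun j => hFs j _ hT' Z (ψ ≫ (η j).app T.obj₁) (by
      change (ψ ≫ (η j).app T.obj₁) ≫ (Fs j).map T.mor₁ = 0
      rw [Category.assoc, ← (η j).naturality, ← Category.assoc]
      exact h0 j)
    obtain ⟨χ', hχ'⟩ := h₀.2 χ
    have hψ : χ' ≫ F.map T.invRotate.mor₁ = ψ := h₁.1 (funext fun j => by
      refine ((Category.assoc _ _ _).trans ((congrArg (_ ≫ ·)
        ((η j).naturality T.invRotate.mor₁)).trans ?_)).trans (hχ j)
      exact (Category.assoc _ _ _).symm.trans (congrArg (· ≫ _) (congrFun hχ' j)))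
    rw [← hψ]
    exact (Category.assoc _ _ _).trans ((congrArg (_ ≫ ·)
      ((F.map_comp _ _).symm.trans ((congrArg F.map (comp_distTriang_mor_zero₁₂ _ hT')).trans
        (F.map_zero _ _)))).trans comp_zero)
  · obtain ⟨z, hz⟩ := h₃.2 fun j => y j ≫ (Fs j).map T.mor₂
    obtain ⟨x, hx⟩ : ∃ x : Z ⟶ F.obj T.obj₂, x ≫ F.map T.mor₂ = z :=
      hF _ (rot_of_distTriang _ hT) Z z (by
        change z ≫ F.map T.mor₃ = 0
        refine h₄.1 (funext fun j => ?_)
        change (z ≫ F.map T.mor₃) ≫ (η j).app _ = 0 ≫ _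
        rw [Category.assoc, (η j).naturality, zero_comp, ← Category.assoc]
        refine (congrArg (· ≫ _) (congrFun hz j)).trans ?_
        exact (Category.assoc _ _ _).trans ((congrArg (y j ≫ ·)
          (((Fs j).map_comp _ _).symm.trans ((congrArg (Fs j).map
            (comp_distTriang_mor_zero₂₃ _ hT)).trans ((Fs j).map_zero _ _)))).trans comp_zero))
    choose w hw using fun j => hFs j T hT Z (y j - x ≫ (η j).app T.obj₂) (by
      rw [Preadditive.sub_comp, Category.assoc, ← (η j).naturality, ← Category.assoc, hx]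
      exact sub_eq_zero.2 (congrFun hz j).symm)
    obtain ⟨w', hw'⟩ := h₁.2 w
    refine ⟨x + w' ≫ F.map T.mor₁, funext fun j => ?_⟩
    change (x + w' ≫ F.map T.mor₁) ≫ (η j).app T.obj₂ = y j
    have h := congrFun hw' j
    dsimp only at h
    rw [Preadditive.add_comp, Category.assoc, (η j).naturality, ← Category.assoc, h, hw j]
    exact add_sub_cancel _ _

omit [Preadditive D] in
/-- Right adjoints preserve fans. -/
lemma fanBij_map_of_adjunction {E : Type u} [Category.{v'} E] [Preadditive E] {L : E ⥤ D} {R : D ⥤ E}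
    (adj : L ⊣ R) {X : D} {Xs : J → D} (c : ∀ j, X ⟶ Xs j) (W : E) (h : FanBij c (L.obj W)) :
    FanBij (fun j => R.map (c j)) W := by
  refine ⟨fun g g' e => (adj.homEquiv W X).symm.injective (h.1 (funext fun j => ?_)), fun y => ?_⟩
  · change (adj.homEquiv W X).symm g ≫ c j = (adj.homEquiv W X).symm g' ≫ c j
    rw [← adj.homEquiv_naturality_right_symm, ← adj.homEquiv_naturality_right_symm]
    exact congrArg _ (congrFun e j)
  · obtain ⟨g, hg⟩ := h.2 fun j => (adj.homEquiv W (Xs j)).symm (y j)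
    refine ⟨adj.homEquiv W X g, funext fun j => ?_⟩
    change adj.homEquiv W X g ≫ R.map (c j) = y j
    rw [← adj.homEquiv_naturality_right, show g ≫ c j = _ from congrFun hg j]
    exact Equiv.apply_symm_apply _ _

omit [Preadditive D] in
/-- Fans are transported along isomorphisms of the target. -/
lemma fanBij_of_iso {X X' : D} {Xs Xs' : J → D} {c : ∀ j, X ⟶ Xs j} {c' : ∀ j, X' ⟶ Xs' j}
    (e : X ≅ X') (es : ∀ j, Xs j ≅ Xs' j) (he : ∀ j, e.hom ≫ c' j = c j ≫ (es j).hom) {Z : D}
    (h : FanBij c Z) : FanBij c' Z := by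
  refine ⟨fun g g' ee => (cancel_mono e.inv).1 (h.1 (funext fun j => (cancel_mono (es j).hom).1 ?_)),
    fun y => ?_⟩
  · simp only [Category.assoc, ← he j, Iso.inv_hom_id_assoc]
    exact congrFun ee j
  · obtain ⟨g, hg⟩ := h.2 fun j => y j ≫ (es j).inv
    refine ⟨g ≫ e.hom, funext fun j => ?_⟩
    change (g ≫ e.hom) ≫ c' j = y j
    rw [Category.assoc, he j, ← Category.assoc, show g ≫ c j = _ from congrFun hg j, Category.assoc, Iso.inv_hom_id,
      Category.comp_id]

end Formal

variable {R A : Type u} [CommRing R] [CommRing A] {φ : R →+* A} [DTen.HasLTen R]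
  [DTen.HasRHom R]

omit [DTen.HasLTen R] [DTen.HasRHom R] in
/-- The shifts of the unit are perfect. -/
lemma isPerfect_unit_shift (m : ℤ) : DRing.IsPerfect R ((DTen.unit R)⟦m⟧) := by
  let S : DRing.Cx R :=
    (HomologicalComplex.single (ModuleCat.{u} R) (ComplexShape.up ℤ) 0).obj (ModuleCat.of R R)
  have h : DRing.TermwiseFiniteProjective S := fun i => by
    by_cases hi : i = 0
    · subst hi
      let e : R ≃ₗ[R] S.X 0 :=
        (HomologicalComplex.singleObjXSelf (ComplexShape.up ℤ) 0 (ModuleCat.of R R)).symm.toLinearEquiv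
      exact ⟨Module.Finite.equiv e, Module.Projective.of_equiv e⟩
    · haveI : Subsingleton (S.X i) := ModuleCat.subsingleton_of_isZero
        (HomologicalComplex.isZero_single_obj_X (ComplexShape.up ℤ) 0 _ i hi)
      exact ⟨inferInstance, inferInstance⟩
  exact ⟨S⟦m⟧, -m, -m,
    fun i hi => HomologicalComplex.isZero_single_obj_X (ComplexShape.up ℤ) 0 _ (i + m) (by omega),
    fun i => h (i + m),
    ⟨(DerivedCategory.Q.commShiftIso m).app S ≪≫
      (shiftFunctor (Dual.D R) m).mapIso (Iso.refl _)⟩⟩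

/-- Tensoring with a perfect object preserves fans. -/
theorem fanBij_tensorRightD {P : Dual.D R} (hP : DRing.IsPerfect R P) {J : Type u} {X : Dual.D R}
    {Xs : J → Dual.D R} (c : ∀ j, X ⟶ Xs j) (hc : ∀ W, FanBij c W) (W : Dual.D R) :
    FanBij (fun j => (DTen.tensorRightD R P).map (c j)) W := by
  haveI := hasLTen₃ R
  haveI := isSymMonoidal R
  let η := fun j => (DTen.LTen R).map (c j)
  suffices h : ∀ (n : ℤ) (W : Dual.D R), FanBij (fun j => (η j).app (P⟦n⟧)) W by
    refine fanBij_of_iso (((DTen.LTen R).obj X).mapIso ((shiftFunctorZero (Dual.D R) ℤ).app P))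
      (fun j => ((DTen.LTen R).obj (Xs j)).mapIso ((shiftFunctorZero (Dual.D R) ℤ).app P))
      (fun j => ?_) (h 0 W)
    exact (η j).naturality _
  have hex : ∀ Y : Dual.D R, HomExact ((DTen.LTen R).obj Y) := fun Y =>
    (homExact_tensorRightD Y).of_iso (tenFlipIso Y).symm
  haveI := fun Y : Dual.D R => preservesZeroMorphisms_LTen Y
  refine perfect_induction (fun K => ∀ (n : ℤ) (W : Dual.D R), FanBij (fun j => (η j).app (K⟦n⟧)) W)
    ?_ ?_ ?_ ?_ hP
  · intro K K' e h n W
    exact fanBij_of_iso (((DTen.LTen R).obj X).mapIso ((shiftFunctor _ n).mapIso e))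
      (fun j => ((DTen.LTen R).obj (Xs j)).mapIso ((shiftFunctor _ n).mapIso e))
      (fun j => (η j).naturality _) (h n W)
  · intro T hT h₁ h₃ n W
    have tr : ∀ {K : Dual.D R} {a b m : ℤ} (hm : a + b = m), FanBij (fun j => (η j).app (K⟦m⟧)) W →
        FanBij (fun j => (η j).app ((K⟦a⟧)⟦b⟧)) W := fun {K a b m} hm h =>
      fanBij_of_iso (((DTen.LTen R).obj X).mapIso ((shiftFunctorAdd' (Dual.D R) a b m hm).app K))
        (fun j => ((DTen.LTen R).obj (Xs j)).mapIso ((shiftFunctorAdd' (Dual.D R) a b m hm).app K))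
        (fun j => (η j).naturality _) h
    exact fanBij₂_of_homExact (hex X) (fun j => hex (Xs j)) η _
      (Triangle.shift_distinguished _ hT n) W (tr (a := n) (b := -1) (m := n - 1) (by omega) (h₃ _ W)) (h₁ n W) (h₃ n W)
      (tr (a := n) (b := 1) (m := n + 1) rfl (h₁ _ W))
  · intro K K' i r hir hK n W
    let iX := ((DTen.LTen R).obj X).map (i⟦n⟧')
    let rX := ((DTen.LTen R).obj X).map (r⟦n⟧')
    refine ⟨fun g g' e => ?_, fun y => ?_⟩
    · haveI : Mono iX := SplitMono.mono ⟨rX, by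
        dsimp only [iX, rX]
        rw [← Functor.map_comp, ← Functor.map_comp, hir, CategoryTheory.Functor.map_id,
          CategoryTheory.Functor.map_id]⟩
      refine (cancel_mono iX).1 ((hK n W).1 (funext fun j => ?_))
      simp only [Category.assoc, iX, (η j).naturality]
      exact (Category.assoc _ _ _).symm.trans
        ((congrArg (· ≫ _) (congrFun e j)).trans (Category.assoc _ _ _))
    · obtain ⟨g, hg⟩ := (hK n W).2 fun j => y j ≫ ((DTen.LTen R).obj (Xs j)).map (i⟦n⟧')
      refine ⟨g ≫ rX, funext fun j => ?_⟩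
      change (g ≫ rX) ≫ (η j).app _ = y j
      rw [Category.assoc, (η j).naturality, ← Category.assoc,
        show g ≫ (η j).app _ = _ from congrFun hg j, Category.assoc,
        ← Functor.map_comp, ← Functor.map_comp, hir, CategoryTheory.Functor.map_id,
        CategoryTheory.Functor.map_id, Category.comp_id]
  · intro m n W
    haveI := isEquivalence_tensorRightD_shift_unit (A := R) (m + n)
    let E := (DTen.tensorRightD R ((DTen.unit R)⟦m + n⟧)).asEquivalence
    refine fanBij_of_iso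
      (((DTen.LTen R).obj X).mapIso ((shiftFunctorAdd (Dual.D R) m n).app (DTen.unit R)))
      (fun j => ((DTen.LTen R).obj (Xs j)).mapIso ((shiftFunctorAdd (Dual.D R) m n).app (DTen.unit R)))
      (fun j => (η j).naturality _) ?_
    exact fanBij_map_of_adjunction E.symm.toAdjunction c W (hc _)

/-- A left adjoint turns a coproduct of complexes into a fan of derived homs. -/
lemma fanBij_RHomMap {B : Type u} [CommRing B] [DTen.HasLTen B] [DTen.HasRHom B] {J : Type u}
    (L : Dual.D R ⥤ Dual.D B) [L.IsLeftAdjoint] (K : J → DRing.Cx R) (M Z : Dual.D B) :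
    FanBij (fun j => DTen.RHomMap (L.map (DerivedCategory.Q.map (Sigma.ι K j))) M) Z
      (X := (DTen.RHomR B (L.obj (DerivedCategory.Q.obj (∐ K)))).obj M) := by
  haveI := hasLTen₃ B
  haveI := isSymMonoidal B
  haveI : (DTen.tensorRightD B Z).IsLeftAdjoint := (DTen.rhomAdj B Z).isLeftAdjoint
  haveI : ((DTen.LTen B).obj Z).IsLeftAdjoint := Functor.isLeftAdjoint_of_iso (tenFlipIso Z).symm
  haveI := H9Misc.BrownGroth.preservesColimit_Q K
  let S : DRing.Cx R ⥤ Dual.D B := DerivedCategory.Q ⋙ L ⋙ (DTen.LTen B).obj Z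
  have hc := (Cofan.isColimitMapCoconeEquiv S _ _) (isColimitOfPreserves S (coproductIsCoproduct K))
  have key : ∀ (g : Z ⟶ (DTen.RHomR B (L.obj (DerivedCategory.Q.obj (∐ K)))).obj M) (j : J),
      (DTen.rhomHomEquiv _ _ _).symm (g ≫ DTen.RHomMap (L.map (DerivedCategory.Q.map (Sigma.ι K j))) M) =
        S.map (Sigma.ι K j) ≫ (DTen.rhomHomEquiv _ _ _).symm g := fun g j => by
    let k := L.map (DerivedCategory.Q.map (Sigma.ι K j))
    refine ((DTen.rhomAdj B _).homEquiv_naturality_left_symm g _).trans ?_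
    refine Eq.trans ?_ (congrArg (_ ≫ ·) ((DTen.rhomAdj B _).homEquiv_counit ..).symm)
    refine (congrArg (_ ≫ ·) (((DTen.rhomAdj B (L.obj (DerivedCategory.Q.obj (K j)))).homEquiv_counit ..).trans
      (DTen.RHom_map_ev k M))).trans ?_
    change (DTen.LTen₂ B).map (Prod.mkHom g (𝟙 _)) ≫
        (DTen.LTen₂ B).map (Prod.mkHom (𝟙 _) k) ≫ DTen.ev _ M =
      (DTen.LTen₂ B).map (Prod.mkHom (𝟙 Z) k) ≫ (DTen.LTen₂ B).map (Prod.mkHom g (𝟙 _)) ≫ DTen.ev _ M
    rw [← Functor.map_comp_assoc, ← Functor.map_comp_assoc]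
    refine congrArg (fun z => (DTen.LTen₂ B).map z ≫ _) (Prod.ext ?_ ?_)
    · exact (Category.comp_id _).trans (Category.id_comp _).symm
    · exact (Category.id_comp _).trans (Category.comp_id _).symm
  refine ⟨fun g g' e => (DTen.rhomHomEquiv _ _ _).symm.injective
    (Cofan.IsColimit.hom_ext hc _ _ fun j => ?_), fun y => ?_⟩
  · exact (key g j).symm.trans ((congrArg _ (congrFun e j)).trans (key g' j))
  · obtain ⟨d, hd⟩ : ∃ d, ∀ j, S.map (Sigma.ι K j) ≫ d = (DTen.rhomHomEquiv _ _ _).symm (y j) :=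
      ⟨Cofan.IsColimit.desc hc fun j => (DTen.rhomHomEquiv _ _ _).symm (y j),
        fun j => Cofan.IsColimit.fac hc _ j⟩
    refine ⟨DTen.rhomHomEquiv _ _ _ d, funext fun j => (DTen.rhomHomEquiv _ _ _).symm.injective ?_⟩
    exact (key _ j).trans ((congrArg (_ ≫ ·) (Equiv.symm_apply_apply _ _)).trans (hd j))

variable [DTen.HasLBase φ]

/-- Derived base change along an algebra perfect as a module preserves fans. -/
theorem fanBij_LBase (hA : DRing.IsPerfect R (DerivedCategory.Q.obj (resUnitCx φ))) {J : Type u}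
    {X : Dual.D R} {Xs : J → Dual.D R} (c : ∀ j, X ⟶ Xs j) (hc : ∀ W, FanBij c W) (W : Dual.D R) :
    FanBij (fun j => (DTen.LBase φ).map (c j)) ((DTen.LBase φ).obj W) := by
  obtain ⟨β⟩ := nonempty_resLBase_iso φ
  have h : FanBij (fun j => (DRing.restrictD φ).map ((DTen.LBase φ).map (c j))) W :=
    fanBij_of_iso (β.app X).symm (fun j => (β.app (Xs j)).symm)
      (fun j => (β.inv.naturality (c j)).symm) (fanBij_tensorRightD hA c hc W)
  refine ⟨fun g g' e => ((DTen.baseAdj φ).homEquiv W _).injective (h.1 (funext fun j => ?_)),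
    fun y => ?_⟩
  · refine ((DTen.baseAdj φ).homEquiv_naturality_right g _).symm.trans
      ((congrArg _ (congrFun e j)).trans ((DTen.baseAdj φ).homEquiv_naturality_right g' _))
  · obtain ⟨g, hg⟩ := h.2 fun j => (DTen.baseAdj φ).homEquiv W _ (y j)
    refine ⟨((DTen.baseAdj φ).homEquiv W _).symm g, funext fun j => ?_⟩
    refine ((DTen.baseAdj φ).homEquiv W _).injective ?_
    refine ((DTen.baseAdj φ).homEquiv_naturality_right _ _).trans ?_
    exact (congrArg (· ≫ _) (Equiv.apply_symm_apply _ _)).trans (congrFun hg j)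

variable [DTen.HasLTen A] [DTen.HasRHom A] [DTen.HasResTen φ] [DTen.ResLegIso φ]

/-- Base change for derived hom along an algebra perfect as a module. -/
theorem isIso_bcRHom_of_isPerfect_algebra
    (hA : DRing.IsPerfect R (DerivedCategory.Q.obj (resUnitCx φ))) (K M : Dual.D R)
    [IsIso (DTen.rhomBC φ K ((DTen.LBase φ).obj M))] : IsIso (DTen.bcRHom φ K M) := by
  haveI := hasLTen₃ R
  haveI := hasLTen₃ A
  haveI := isSymMonoidal R
  haveI := isSymMonoidal A
  have hbc : ∀ K M, IsIso (DTen.rhomBC φ K M) := fun K M => isIso_rhomBC φ K M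
  haveI := hbc
  let N := (DTen.LBase φ).obj M
  let F := (DTen.RHom R).flip.obj M ⋙ DTen.LBase φ
  let G := (DTen.LBase φ).op ⋙ (DTen.RHom A).flip.obj N
  let η : F ⟶ G :=
    { app := fun K => DTen.bcRHom φ K.unop M
      naturality := fun K K' k => (rhom_map_bcRHom hbc M k.unop).symm }
  haveI := preservesZeroMorphisms_RHom M (A := R)
  haveI := preservesZeroMorphisms_RHom N
  haveI : (DTen.LBase φ).PreservesZeroMorphisms :=
    Functor.preservesZeroMorphisms_of_isLeftAdjoint _
  haveI : (DTen.LBase φ).op.PreservesZeroMorphisms := ⟨fun X Y => by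
    change ((DTen.LBase φ).map (0 : Y.unop ⟶ X.unop)).op = 0
    rw [Functor.map_zero]
    rfl⟩
  haveI : F.PreservesZeroMorphisms := by dsimp only [F]; infer_instance
  haveI : G.PreservesZeroMorphisms := by dsimp only [G]; infer_instance
  have hF : HomExact F := fun T hT Z ψ h => by
    obtain ⟨c, hc⟩ := exists_triangle_RHomMap _ ((mem_distTriang_op_iff T).1 hT) M
    obtain ⟨c', hc'⟩ := exists_triangle_LBase φ _ hc
    exact homExact_id _ hc' Z ψ h
  have hG : HomExact G := fun T hT Z ψ h => by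
    obtain ⟨c, hc⟩ := exists_triangle_LBase φ _ ((mem_distTriang_op_iff T).1 hT)
    obtain ⟨c', hc'⟩ := exists_triangle_RHomMap _ hc N
    exact homExact_id _ hc' Z ψ h
  let P : ObjectProperty (Dual.D R) := fun E => ∀ n : ℤ, IsIso (η.app ((op E)⟦n⟧))
  haveI : P.IsClosedUnderIsomorphisms := ⟨fun e h n =>
    (NatTrans.isIso_app_iff_of_iso η ((shiftFunctor (Dual.D R)ᵒᵖ n).mapIso e.op.symm)).1 (h n)⟩
  suffices h : P K from
    (NatTrans.isIso_app_iff_of_iso η ((shiftFunctorZero (Dual.D R)ᵒᵖ ℤ).app (op K))).1 (h 0)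
  refine derived_induction P ?_ ?_ ?_ K
  · intro T hT h₁ h₂ n
    have hT' := Triangle.shift_distinguished _ (op_distinguished _ (rot_of_distTriang _ hT)) n
    refine isIso₂_of_homExact hF hG η _ hT' ?_ ?_ (h₂ n) ?_
    · exact (NatTrans.isIso_app_iff_of_iso η ((shiftFunctorAdd' (Dual.D R)ᵒᵖ n (-1) (n - 1)
          (by omega)).app (op T.obj₂))).1 (h₂ (n - 1))
    · exact (NatTrans.isIso_app_iff_of_iso η ((shiftFunctor (Dual.D R)ᵒᵖ n).mapIso
        ((shiftFunctorOpIso (Dual.D R) (-1) 1 (by omega)).app (op T.obj₁)) ≪≫ Iso.refl _)).1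
        ((NatTrans.isIso_app_iff_of_iso η ((shiftFunctorAdd' (Dual.D R)ᵒᵖ (-1) n (n - 1)
          (by omega)).app (op T.obj₁))).1 (h₁ (n - 1)))
    · refine (NatTrans.isIso_app_iff_of_iso η ?_).1 (h₁ n)
      exact (shiftFunctorAdd' (Dual.D R)ᵒᵖ (n - 1) 1 n (by omega)).app (op T.obj₁) ≪≫
        (shiftFunctor (Dual.D R)ᵒᵖ (1 : ℤ)).mapIso
          ((shiftFunctorAdd' (Dual.D R)ᵒᵖ (-1) n (n - 1) (by omega)).app (op T.obj₁) ≪≫
            (shiftFunctor (Dual.D R)ᵒᵖ n).mapIso
              ((shiftFunctorOpIso (Dual.D R) (-1) 1 (by omega)).app (op T.obj₁)))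
  · intro J K h n
    let K' := fun j => (K j)⟦-n⟧
    let S := DerivedCategory.Q.obj (∐ K')
    suffices hS : IsIso (η.app (op S)) by
      refine (NatTrans.isIso_app_iff_of_iso η ?_).1 hS
      exact (((DerivedCategory.Q.commShiftIso (-n)).app (∐ K)).symm ≪≫ DerivedCategory.Q.mapIso
        (PreservesCoproduct.iso (shiftFunctor (DRing.Cx R) (-n)) K)).op ≪≫
          ((shiftFunctorOpIso (Dual.D R) n (-n) (by omega)).app (op _)).symm
    have hj : ∀ j, IsIso (η.app (op (DerivedCategory.Q.obj (K' j)))) := fun j => by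
      refine (NatTrans.isIso_app_iff_of_iso η ?_).1 (h j n)
      exact (shiftFunctorOpIso (Dual.D R) n (-n) (by omega)).app (op _) ≪≫
        ((DerivedCategory.Q.commShiftIso (-n)).app (K j)).op
    haveI := hj
    refine isIso_of_bijective_unit _ fun m => ?_
    obtain ⟨eU⟩ : Nonempty ((DTen.LBase φ).obj ((DTen.unit R)⟦m⟧) ≅ (DTen.unit A)⟦m⟧) := by
      haveI := isIso_baseCmp φ (kFlat_unitSh (A := R) m)
      exact ⟨(DTen.LBase φ).mapIso ((DerivedCategory.Q.commShiftIso m).app (𝟙_ (DRing.Cx R))).symm ≪≫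
        asIso ((DTen.baseCmp φ).app (unitSh R m)) ≪≫
        DerivedCategory.Q.mapIso (extUnitShIso φ m) ≪≫
        (DerivedCategory.Q.commShiftIso m).app (𝟙_ (DRing.Cx A))⟩
    suffices hb : Function.Bijective
        fun g : (DTen.LBase φ).obj ((DTen.unit R)⟦m⟧) ⟶ F.obj (op S) => g ≫ η.app (op S) by
      refine ⟨fun g g' e => (cancel_epi eU.hom).1 (hb.1 ?_), fun y => ?_⟩
      · simp only [Category.assoc]
        exact congrArg (_ ≫ ·) e
      · obtain ⟨g, hg⟩ := hb.2 (eU.hom ≫ y)
        refine ⟨eU.inv ≫ g, ?_⟩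
        refine (Category.assoc _ _ _).trans ((congrArg (_ ≫ ·) hg).trans ?_)
        exact eU.inv_hom_id_assoc y
    let c := fun j => DTen.RHomMap (DerivedCategory.Q.map (Sigma.ι K' j)) M
    have h₁ := fanBij_LBase hA c (fun W => fanBij_RHomMap (𝟭 (Dual.D R)) K' M W) ((DTen.unit R)⟦m⟧)
    have h₂ := fanBij_RHomMap (DTen.LBase φ) K' N ((DTen.LBase φ).obj ((DTen.unit R)⟦m⟧))
    have hn : ∀ j, η.app (op S) ≫
        DTen.RHomMap ((DTen.LBase φ).map (DerivedCategory.Q.map (Sigma.ι K' j))) N =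
        (DTen.LBase φ).map (c j) ≫ η.app (op (DerivedCategory.Q.obj (K' j))) := fun j =>
      rhom_map_bcRHom hbc M _
    refine ⟨fun g g' e => h₁.1 (funext fun j => (cancel_mono (η.app (op (DerivedCategory.Q.obj (K' j))))).1 ?_),
      fun y => ?_⟩
    · change (g ≫ _) ≫ _ = (g' ≫ _) ≫ _
      rw [Category.assoc, Category.assoc, ← hn j, ← Category.assoc, ← Category.assoc]
      exact congrArg (· ≫ _) e
    · obtain ⟨g, hg⟩ := h₁.2 fun j =>
        (y ≫ DTen.RHomMap ((DTen.LBase φ).map (DerivedCategory.Q.map (Sigma.ι K' j))) N) ≫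
          inv (η.app (op (DerivedCategory.Q.obj (K' j))))
      refine ⟨g, h₂.1 (funext fun j => ?_)⟩
      change (g ≫ η.app (op S)) ≫ _ = y ≫ _
      rw [Category.assoc, hn j, ← Category.assoc]
      refine (congrArg (· ≫ _) (congrFun hg j)).trans ?_
      rw [Category.assoc, IsIso.inv_hom_id, Category.comp_id]
  · intro k n
    let e : DerivedCategory.Q.obj (unitSh R (-k)) ≅ DerivedCategory.Q.obj
        ((HomologicalComplex.single (ModuleCat.{u} R) (ComplexShape.up ℤ) k).obj (ModuleCat.of R R)) :=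
      DerivedCategory.Q.mapIso (((CochainComplex.singleFunctors (ModuleCat.{u} R)).shiftIso (-k) k 0
        (by omega)).app _)
    let u : (DTen.unit R)⟦-k + -n⟧ ≅ (DerivedCategory.Q.obj
        ((HomologicalComplex.single (ModuleCat.{u} R) (ComplexShape.up ℤ) k).obj (ModuleCat.of R R)))⟦-n⟧ :=
      (shiftFunctorAdd' (Dual.D R) (-k) (-n) (-k + -n) rfl).app _ ≪≫
        (shiftFunctor (Dual.D R) (-n)).mapIso
          (((DerivedCategory.Q.commShiftIso (-k)).app (𝟙_ (DRing.Cx R))).symm ≪≫ e)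
    have hperf : DRing.IsPerfect R ((DTen.unit R)⟦-k + -n⟧) := isPerfect_unit_shift _
    refine (NatTrans.isIso_app_iff_of_iso η ?_).1 (isIso_bcRHom_of_isPerfect _ M hperf :
      IsIso (η.app (op ((DTen.unit R)⟦-k + -n⟧))))
    exact u.op.symm ≪≫ ((shiftFunctorOpIso (Dual.D R) n (-n) (by omega)).app (op _)).symm

end Groth.Agent.KFlatLib
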