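import Groth.Agent.KFlatLib.Ring.RelPerfectRows
import Groth.Agent.KFlatLib.Ring.TorPoly
import Groth.Agent.H9Misc.DRingPerfectModule
import Groth.Agent.H9Misc.DRingCompact
import Groth.Agent.KFlatLib.Ring.RHomFinite
import Groth.Agent.KFlatLib.Ring.BcRHomPerfect

/-!
# Relative perfection read off a presentation
-/

set_option linter.style.haveILetI false
set_option backward.isDefEq.respectTransparency false

universe u

open CategoryTheory CategoryTheory.Limits Pretriangulated Opposite

attribute [local instance] HasDerivedCategory.standard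

namespace Groth.Agent.KFlatLib

/-- Derived hom between perfect objects is perfect. -/
theorem isPerfect_RHomR {P : Type u} [CommRing P] [DTen.HasLTen P] [DTen.HasRHom P] {K : Dual.D P} (m : ℤ)
    (hK : DRing.IsPerfect P K) :
    DRing.IsPerfect P ((DTen.RHomR P K).obj ((DTen.unit P)⟦m⟧)) := by
  let M := (DTen.unit P)⟦m⟧
  refine perfect_induction (fun K => DRing.IsPerfect P ((DTen.RHomR P K).obj M)) ?_ ?_ ?_ ?_ hK
  · exact fun e h => H9Misc.DRingPC.isPerfect_of_iso (((DTen.RHom P).mapIso e.op).app M).symm h
  · intro T hT h₁ h₃
    obtain ⟨c, hc⟩ := exists_triangle_RHomMap T hT M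
    exact H9Misc.DRingPC.isPerfect₂ _ hc h₃ h₁
  · intro K K' i r h hK
    refine H9Misc.DRingCompact.isPerfect_retract ⟨DTen.RHomMap r M, DTen.RHomMap i M, ?_⟩ hK
    dsimp only [DTen.RHomMap]
    rw [← NatTrans.comp_app, ← Functor.map_comp, ← op_comp, h, op_id, CategoryTheory.Functor.map_id]
    rfl
  · intro n
    obtain ⟨e⟩ := nonempty_RHomR_unit_iso (A := P) n
    exact H9Misc.DRingPC.isPerfect_of_iso (e.app _).symm
      (H9Misc.DRingPC.isPerfect_shift (isPerfect_unit_shift m) _)

variable {R A : Type u} [CommRing R] [CommRing A] [Algebra R A] [Module.Flat R A]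
  [Algebra.FinitePresentation R A] {n : ℕ} (ψ : MvPolynomial (Fin n) R →+* A)
  (hψ : Function.Surjective ψ) (hR : ψ.comp MvPolynomial.C = algebraMap R A)

include hψ hR

omit [Module.Flat R A] in
/-- A finitely presented algebra is finitely presented as a module over a presenting polynomial ring. -/
lemma finitePresentation_of_presentation :
    letI := ψ.toAlgebra
    Module.FinitePresentation (MvPolynomial (Fin n) R) A := by
  letI := ψ.toAlgebra
  haveI : IsScalarTower R (MvPolynomial (Fin n) R) A :=
    IsScalarTower.of_algebraMap_eq fun r => (RingHom.congr_fun hR r).symm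
  refine Module.finitePresentation_of_surjective (Algebra.linearMap (MvPolynomial (Fin n) R) A) hψ ?_
  exact Algebra.FinitePresentation.ker_fG_of_surjective (IsScalarTower.toAlgHom R (MvPolynomial (Fin n) R) A) hψ

/-- A presented flat algebra is pseudo-coherent over the polynomial ring. -/
lemma pc'_presentation :
    DRing.IsPseudoCoherentModule' (MvPolynomial (Fin n) R)
      ((ModuleCat.restrictScalars ψ).obj (ModuleCat.of A A)) := by
  letI := ψ.toAlgebra
  haveI : IsScalarTower R (MvPolynomial (Fin n) R) A :=
    IsScalarTower.of_algebraMap_eq fun r => (RingHom.congr_fun hR r).symm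
  haveI := finitePresentation_of_presentation ψ hψ hR
  exact H9Misc.DRingRestrict.pc'_resB (FlatSyz5.pc' R (MvPolynomial (Fin n) R) A)

/-- A relatively perfect object is perfect over a presenting polynomial ring. -/
theorem isPerfect_res_of_isRelPerfect {K : Dual.D A} (hK : Dual2.IsRelPerfect R A K) :
    DRing.IsPerfect (MvPolynomial (Fin n) R) ((DRing.restrictD ψ).obj K) := by
  let P := MvPolynomial (Fin n) R
  obtain ⟨E, a, b, hz, hE, ⟨e⟩⟩ := exists_flat_fp_rep hK
  refine H9Misc.DRingPC.isPerfect_of_iso ((((DTen.resFactors ψ).app E).symm) ≪≫ (DRing.restrictD ψ).mapIso e) ?_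
  refine H9Misc.DRingPC.isPerfect_of_terms ((DTen.resCx ψ).obj E) a b
    (fun i hi => (ModuleCat.restrictScalars ψ).map_isZero (hz i hi)) fun i => ?_
  haveI := (hE i).1
  letI := ψ.toAlgebra
  haveI : IsScalarTower R P A := IsScalarTower.of_algebraMap_eq fun r => (RingHom.congr_fun hR r).symm
  haveI := finitePresentation_of_presentation ψ hψ hR
  let M := (E.X i : Type u)
  letI : Module P M := Module.compHom _ ψ
  haveI : IsScalarTower P A M := IsScalarTower.of_algebraMap_smul fun _ _ => rfl
  haveI : Module.FinitePresentation P M := Module.FinitePresentation.trans P M A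
  letI : Module R M := Module.compHom _ (algebraMap R A)
  haveI : IsScalarTower R P M := IsScalarTower.of_algebraMap_smul fun r x => by
    change ψ (algebraMap R P r) • (show E.X i from x) = algebraMap R A r • (show E.X i from x)
    rw [← RingHom.congr_fun hR r]
    rfl
  haveI : Module.Flat R M := (hE i).2
  exact (H9Misc.DRingPerfect.isPerfect_iff (Dual.inD P M)).2 ⟨FlatSyz5.pc' R P M, -(n : ℤ), 0,
    (H9Misc.DRingTor.torDimLE_iff n (ModuleCat.of P M)).1 (torDimLE_of_flat_base n P AlgEquiv.refl M)⟩

/-- The algebra is relatively perfect, hence perfect over the polynomial ring. -/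
theorem isPerfect_res_presentation' :
    DRing.IsPerfect (MvPolynomial (Fin n) R) ((DRing.restrictD ψ).obj (DTen.unit A)) := by
  refine isPerfect_res_of_isRelPerfect ψ hψ hR ?_
  let E := (HomologicalComplex.single (ModuleCat.{u} A) (ComplexShape.up ℤ) 0).obj (ModuleCat.of A A)
  refine isRelPerfect_of_rep E 0 0
    (fun i hi => HomologicalComplex.isZero_single_obj_X (ComplexShape.up ℤ) 0 _ i (by omega)) fun i => ?_
  by_cases hi : i = 0
  · subst hi
    let e := HomologicalComplex.singleObjXSelf (ComplexShape.up ℤ) (0 : ℤ) (ModuleCat.of A A)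
    letI : Module R ((ModuleCat.restrictScalars (algebraMap R A)).obj (ModuleCat.of A A) : Type u) :=
      inferInstance
    haveI : Module.Flat R ((ModuleCat.restrictScalars (algebraMap R A)).obj (ModuleCat.of A A) : Type u) :=
      Module.Flat.of_linearEquiv (M := A)
        (LinearEquiv.ofBijective
          ({ toFun := fun x => x
             map_add' := fun _ _ => rfl
             map_smul' := fun r (x : A) => (Algebra.smul_def r x).symm } :
            ((ModuleCat.restrictScalars (algebraMap R A)).obj (ModuleCat.of A A) : Type u) →ₗ[R] A)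
          Function.bijective_id)
    exact ⟨Module.FinitePresentation.of_equiv e.toLinearEquiv.symm,
      Module.Flat.of_linearEquiv ((ModuleCat.restrictScalars (algebraMap R A)).mapIso e).toLinearEquiv⟩
  · have hz := HomologicalComplex.isZero_single_obj_X (ComplexShape.up ℤ) 0 (ModuleCat.of A A) i hi
    haveI := ModuleCat.subsingleton_of_isZero hz
    haveI := ModuleCat.subsingleton_of_isZero ((ModuleCat.restrictScalars (algebraMap R A)).map_isZero hz)
    haveI : Module.Free A (E.X i) := Module.Free.of_subsingleton A _
    exact ⟨Module.finitePresentation_of_projective A _, inferInstance⟩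

end Groth.Agent.KFlatLib
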