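import Groth.Agent.KFlatLib.Ring.ShriekBasic
import Groth.Agent.KFlatLib.Ring.DualizingFibreRows
import Mathlib.Algebra.MvPolynomial.Equiv
import Mathlib.RingTheory.Polynomial.Basic

/-!
# The shriek through a presentation by a polynomial ring
-/

set_option linter.style.haveILetI false
set_option backward.isDefEq.respectTransparency false

universe u

open CategoryTheory CategoryTheory.Limits Pretriangulated

attribute [local instance] HasDerivedCategory.standard

namespace Groth.Agent.KFlatLib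

section

variable {A B C : Type u} [CommRing A] [CommRing B] [CommRing C]

/-- Base change along a map with a two-sided inverse is the shriek, is restriction along the inverse. -/
lemma nonempty_iso_of_inverse (φ : A →+* B) (ψ : B →+* A) (h₁ : ψ.comp φ = RingHom.id A)
    (h₂ : φ.comp ψ = RingHom.id B) {R : Dual.D A ⥤ Dual.D B} (a : DRing.restrictD φ ⊣ R) [DTen.HasLBase φ] :
    Nonempty (R ≅ DTen.LBase φ) := by
  obtain ⟨i⟩ := nonempty_restrict_of_id φ ψ h₁
  obtain ⟨j⟩ := nonempty_restrict_of_id ψ φ h₂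
  let E := CategoryTheory.Equivalence.mk (DRing.restrictD φ) (DRing.restrictD ψ) j.symm i
  exact ⟨Adjunction.rightAdjointUniq a E.toAdjunction ≪≫
    Adjunction.leftAdjointUniq E.symm.toAdjunction (DTen.baseAdj φ)⟩

/-- Base change along the identity. -/
lemma nonempty_LBase_id (φ : A →+* A) (h : φ = RingHom.id A) [DTen.HasLBase φ] :
    Nonempty (DTen.LBase φ ≅ 𝟭 (Dual.D A)) := by
  subst h
  exact ⟨Adjunction.leftAdjointUniq (DTen.baseAdj _) (Adjunction.id.ofNatIsoRight (restrictDIdIso A).symm)⟩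

/-- A polynomial ring over `B` followed by the shriek of a retraction. -/
theorem nonempty_LBase_shriek_retraction : ∀ (m : ℕ) {B C : Type u} [CommRing B] [CommRing C]
    (ι : B →+* C) (e : MvPolynomial (Fin m) B ≃+* C) (_ : e.toRingHom.comp MvPolynomial.C = ι)
    (π : C →+* B) (_ : π.comp ι = RingHom.id B) [DTen.HasLBase ι]
    (R : Dual.D C ⥤ Dual.D B) (_ : DRing.restrictD π ⊣ R),
    Nonempty (DTen.LBase ι ⋙ R ⋙ shiftFunctor (Dual.D B) (m : ℤ) ≅ 𝟭 (Dual.D B)) := by
  intro m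
  induction m with
  | zero =>
    intro B C _ _ ι e he π hπ _ R a
    have hι : Function.Surjective ι := fun c => by
      obtain ⟨p, rfl⟩ := e.surjective c
      obtain ⟨b, rfl⟩ := MvPolynomial.C_surjective (Fin 0) p
      exact ⟨b, (RingHom.congr_fun he b).symm⟩
    have hπ' : ι.comp π = RingHom.id C := RingHom.ext fun c => by
      obtain ⟨b, rfl⟩ := hι c
      exact congrArg ι (RingHom.congr_fun hπ b)
    haveI := hasLBase π
    obtain ⟨i⟩ := nonempty_iso_of_inverse π ι hπ' hπ a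
    haveI := hasLBase (π.comp ι)
    obtain ⟨j⟩ := nonempty_LBase_comp ι π (π.comp ι) rfl
    obtain ⟨k⟩ := nonempty_LBase_id (π.comp ι) hπ
    exact ⟨Functor.isoWhiskerLeft _ (Functor.isoWhiskerLeft R (shiftFunctorZero (Dual.D B) ℤ) ≪≫
      Functor.rightUnitor _ ≪≫ i) ≪≫ j ≪≫ k⟩
  | succ m ih =>
    intro B C _ _ ι e he π hπ _ R a
    let C₀ := MvPolynomial (Fin m) B
    let h : Polynomial C₀ ≃+* C := (MvPolynomial.finSuccEquiv B m).toRingEquiv.symm.trans e
    let ι₁ : C₀ →+* C := h.toRingHom.comp Polynomial.C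
    let π₀ : C₀ →+* B := π.comp ι₁
    let c : C₀ := MvPolynomial.C (π (h Polynomial.X))
    let ev : C →+* C₀ := (Polynomial.evalRingHom c).comp h.symm.toRingHom
    have hι : ι₁.comp MvPolynomial.C = ι := by
      refine RingHom.ext fun b => ?_
      rw [← he]
      change e ((MvPolynomial.finSuccEquiv B m).symm (Polynomial.C (MvPolynomial.C b))) = e (MvPolynomial.C b)
      refine congrArg e ((AlgEquiv.symm_apply_eq _).2 ?_)
      simp [MvPolynomial.finSuccEquiv_apply]
    have hev₁ : ev.comp ι₁ = RingHom.id C₀ := RingHom.ext fun x => by simp [ev, ι₁]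
    have hπ₀ : π₀.comp MvPolynomial.C = RingHom.id B := by
      rw [RingHom.comp_assoc, hι, hπ]
    have hπev : π₀.comp ev = π := by
      have key : (π₀.comp ev).comp h.toRingHom = π.comp h.toRingHom := by
        refine Polynomial.ringHom_ext (fun x => ?_) ?_
        · simp [ev, π₀, ι₁]
        · simp only [ev, π₀, RingHom.comp_apply, RingEquiv.toRingHom_eq_coe, RingHom.coe_coe,
            RingEquiv.symm_apply_apply, Polynomial.coe_evalRingHom, Polynomial.eval_X]
          exact RingHom.congr_fun hπ₀ _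
      refine RingHom.ext fun x => ?_
      obtain ⟨y, rfl⟩ := h.surjective x
      exact RingHom.congr_fun key y
    letI : Algebra C C₀ := ev.toAlgebra
    haveI : DTen.HasLBase (algebraMap C C₀) := hasLBase _
    haveI := hasLBase (MvPolynomial.C : B →+* C₀)
    haveI := hasLBase ι₁
    haveI := hasLBase (RingHom.id C₀)
    obtain ⟨R₁, ⟨a₁⟩⟩ := exists_shriek (algebraMap C C₀)
    obtain ⟨R₀, ⟨a₀⟩⟩ := exists_shriek π₀
    obtain ⟨cR⟩ := nonempty_shriek_comp (χ := π) hπev a₁ a₀ a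
    have hker : RingHom.ker (algebraMap C C₀) = Ideal.span {h (Polynomial.X - Polynomial.C c)} := by
      ext x
      obtain ⟨y, rfl⟩ := h.surjective x
      rw [RingHom.mem_ker, Ideal.mem_span_singleton, map_dvd_iff h, Polynomial.dvd_iff_isRoot]
      change Polynomial.eval c (h.symm (h y)) = 0 ↔ _
      rw [RingEquiv.symm_apply_apply]
      rfl
    obtain ⟨p⟩ := nonempty_shriek_iso_of_principal
      (fun x => ⟨ι₁ x, RingHom.congr_fun hev₁ x⟩) (h (Polynomial.X - Polynomial.C c))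
      (mem_nonZeroDivisors_iff_right.2 fun x hx => by
        obtain ⟨y, rfl⟩ := h.surjective x
        rw [← map_mul, map_eq_zero_iff _ h.injective] at hx
        rw [map_eq_zero_iff _ h.injective]
        exact mem_nonZeroDivisors_iff_right.1 (Polynomial.monic_X_sub_C c).mem_nonZeroDivisors _ hx)
      hker a₁
    obtain ⟨l⟩ := nonempty_LBase_comp (MvPolynomial.C : B →+* C₀) ι₁ ι hι
    obtain ⟨l₁⟩ := nonempty_LBase_comp ι₁ (algebraMap C C₀) (RingHom.id C₀) hev₁
    obtain ⟨l₂⟩ := nonempty_LBase_id (RingHom.id C₀) rfl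
    obtain ⟨s⟩ := nonempty_shriek_shift a₀ (-1 : ℤ)
    obtain ⟨r⟩ := ih (MvPolynomial.C : B →+* C₀) (RingEquiv.refl _) rfl π₀ hπ₀ R₀ a₀
    let step : DTen.LBase ι₁ ⋙ R₁ ≅ shiftFunctor (Dual.D C₀) (-1 : ℤ) :=
      Functor.isoWhiskerLeft _ p ≪≫ (Functor.associator _ _ _).symm ≪≫
        Functor.isoWhiskerRight (l₁ ≪≫ l₂) _ ≪≫ Functor.leftUnitor _
    let one : DTen.LBase ι ⋙ R ≅ (DTen.LBase (MvPolynomial.C : B →+* C₀) ⋙ R₀) ⋙
        shiftFunctor (Dual.D B) (-1 : ℤ) :=
      Functor.isoWhiskerRight l.symm R ≪≫ Functor.isoWhiskerLeft _ cR.symm ≪≫ Functor.associator _ _ _ ≪≫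
        Functor.isoWhiskerLeft _ ((Functor.associator _ _ _).symm ≪≫ Functor.isoWhiskerRight step R₀ ≪≫ s) ≪≫
          (Functor.associator _ _ _).symm
    exact ⟨(Functor.associator _ _ _).symm ≪≫ Functor.isoWhiskerRight one _ ≪≫ Functor.associator _ _ _ ≪≫
      Functor.isoWhiskerLeft _ (shiftFunctorAdd' (Dual.D B) (-1) ((m + 1 : ℕ) : ℤ) (m : ℤ) (by omega)).symm ≪≫
      Functor.associator _ _ _ ≪≫ r⟩

/-- The shriek through a presentation does not see a retracted polynomial extension of it. -/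
theorem nonempty_shriek_enlarge {P Q : Type u} [CommRing P] [CommRing Q] (φ : A →+* P) (ψ : P →+* B)
    {RP : Dual.D P ⥤ Dual.D B} (aP : DRing.restrictD ψ ⊣ RP)
    (m : ℕ) (ι : P →+* Q) (e : MvPolynomial (Fin m) P ≃+* Q) (he : e.toRingHom.comp MvPolynomial.C = ι)
    (π : Q →+* P) (hπ : π.comp ι = RingHom.id P) (φQ : A →+* Q) (hφ : ι.comp φ = φQ)
    (ψQ : Q →+* B) (hψ : ψ.comp π = ψQ) [DTen.HasLBase φ] [DTen.HasLBase φQ]
    {RQ : Dual.D Q ⥤ Dual.D B} (aQ : DRing.restrictD ψQ ⊣ RQ) (n k : ℤ) (hk : (m : ℤ) + n = k) :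
    Nonempty (DTen.LBase φQ ⋙ RQ ⋙ shiftFunctor (Dual.D B) k ≅
      DTen.LBase φ ⋙ RP ⋙ shiftFunctor (Dual.D B) n) := by
  haveI := hasLBase ι
  obtain ⟨Rπ, ⟨aπ⟩⟩ := exists_shriek π
  obtain ⟨cR⟩ := nonempty_shriek_comp (χ := ψQ) hψ aπ aP aQ
  obtain ⟨l⟩ := nonempty_LBase_comp φ ι φQ hφ
  obtain ⟨r⟩ := nonempty_LBase_shriek_retraction m ι e he π hπ Rπ aπ
  obtain ⟨s⟩ := nonempty_shriek_shift aP (m : ℤ)
  let one : DTen.LBase φQ ⋙ RQ ≅ DTen.LBase φ ⋙ (DTen.LBase ι ⋙ Rπ) ⋙ RP :=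
    Functor.isoWhiskerRight l.symm RQ ≪≫ Functor.isoWhiskerLeft _ cR.symm ≪≫ Functor.associator _ _ _
  exact ⟨(Functor.associator _ _ _).symm ≪≫ Functor.isoWhiskerRight one _ ≪≫ Functor.associator _ _ _ ≪≫
    Functor.isoWhiskerLeft _ (Functor.isoWhiskerLeft _ (shiftFunctorAdd' (Dual.D B) (m : ℤ) n k hk) ≪≫
      (Functor.associator _ _ _).symm ≪≫ Functor.isoWhiskerRight (Functor.associator _ _ _ ≪≫
        Functor.isoWhiskerLeft _ s.symm ≪≫ (Functor.associator _ _ _).symm ≪≫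
          Functor.isoWhiskerRight (Functor.associator _ _ _ ≪≫ r) RP ≪≫ Functor.leftUnitor _) _)⟩

end

open MvPolynomial in
/-- Independence of the presentation. -/
theorem nonempty_shriek_independent {R A : Type u} [CommRing R] [CommRing A] (n m : ℕ)
    (ψ : MvPolynomial (Fin n) R →+* A) (hψ : Function.Surjective ψ)
    (ψ' : MvPolynomial (Fin m) R →+* A) (hψ' : Function.Surjective ψ') (hR : ψ.comp C = ψ'.comp C)
    (ι₁ : R →+* MvPolynomial (Fin n) R) (h₁ : ι₁ = C) (ι₂ : R →+* MvPolynomial (Fin m) R) (h₂ : ι₂ = C)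
    [DTen.HasLBase ι₁] [DTen.HasLBase ι₂]
    {R₁ : Dual.D (MvPolynomial (Fin n) R) ⥤ Dual.D A} (a₁ : DRing.restrictD ψ ⊣ R₁)
    {R₂ : Dual.D (MvPolynomial (Fin m) R) ⥤ Dual.D A} (a₂ : DRing.restrictD ψ' ⊣ R₂) :
    Nonempty (DTen.LBase ι₁ ⋙ R₁ ⋙ shiftFunctor (Dual.D A) (n : ℤ) ≅
      DTen.LBase ι₂ ⋙ R₂ ⋙ shiftFunctor (Dual.D A) (m : ℤ)) := by
  choose p hp using fun j : Fin m => hψ (ψ' (X j))
  choose q hq using fun i : Fin n => hψ' (ψ (X i))
  let P₁ := MvPolynomial (Fin n) R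
  let Q := MvPolynomial (Fin m) P₁
  let σ : Q ≃+* MvPolynomial (Fin n) (MvPolynomial (Fin m) R) := (commAlgEquiv R (Fin m) (Fin n)).toRingEquiv
  let π₁ : Q →+* P₁ := eval₂Hom (RingHom.id _) p
  let π₂ : Q →+* MvPolynomial (Fin m) R := (eval₂Hom (RingHom.id _) q).comp σ.toRingHom
  let ι₂' : MvPolynomial (Fin m) R →+* Q := σ.symm.toRingHom.comp C
  let φQ : R →+* Q := C.comp C
  have hΦ : ψ.comp π₁ = ψ'.comp π₂ := by
    refine ringHom_ext (fun r => ?_) fun j => ?_
    · show ((ψ.comp π₁).comp C) r = ((ψ'.comp π₂).comp C) r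
      refine RingHom.congr_fun (ringHom_ext (fun s => ?_) fun i => ?_) r
      · simpa [π₁, π₂, σ, P₁, Q] using RingHom.congr_fun hR s
      · simp [π₁, π₂, σ, P₁, Q, hq]
    · simp [π₁, π₂, σ, P₁, Q, hp]
  obtain ⟨RQ, ⟨aQ⟩⟩ := exists_shriek (ψ.comp π₁)
  haveI := hasLBase φQ
  obtain ⟨i₁⟩ := nonempty_shriek_enlarge ι₁ ψ a₁ m C (RingEquiv.refl Q) rfl π₁
    (RingHom.ext fun r => eval₂Hom_C _ _ _) φQ (by rw [h₁]) (ψ.comp π₁) rfl aQ (n : ℤ) ((m : ℤ) + n) rfl
  obtain ⟨i₂⟩ := nonempty_shriek_enlarge ι₂ ψ' a₂ n ι₂' σ.symm rfl π₂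
    (RingHom.ext fun r => by simp [π₂, ι₂'])
    φQ (RingHom.ext fun r => σ.injective (by
      rw [h₂]
      change σ (σ.symm (C (C r))) = σ (C (C r))
      rw [RingEquiv.apply_symm_apply]
      simp [σ, P₁, Q])) (ψ.comp π₁) hΦ.symm aQ (m : ℤ) ((m : ℤ) + n) (by omega)
  exact ⟨i₁.symm ≪≫ i₂⟩

end Groth.Agent.KFlatLib

namespace Groth.Agent.KFlatLib

open MvPolynomial in
/-- For a finite algebra the shriek through any presentation is the right adjoint of restriction. -/
theorem nonempty_shriek_finite : ∀ (n : ℕ) {R A : Type u} [CommRing R] [CommRing A] [Algebra R A]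
    [Module.Finite R A] (ψ : MvPolynomial (Fin n) R →+* A) (_ : Function.Surjective ψ)
    (ι : R →+* MvPolynomial (Fin n) R) (_ : ι = C) (_ : ψ.comp C = algebraMap R A) [DTen.HasLBase ι]
    {Rψ : Dual.D (MvPolynomial (Fin n) R) ⥤ Dual.D A} (_ : DRing.restrictD ψ ⊣ Rψ)
    {R' : Dual.D R ⥤ Dual.D A} (_ : DRing.restrictD (algebraMap R A) ⊣ R'),
    Nonempty (DTen.LBase ι ⋙ Rψ ⋙ shiftFunctor (Dual.D A) (n : ℤ) ≅ R') := by
  intro n
  induction n with
  | zero =>
    intro R A _ _ _ _ ψ hψ ι hι hR _ Rψ a R' a'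
    let κ : MvPolynomial (Fin 0) R →+* R := (isEmptyRingEquiv R (Fin 0)).toRingHom
    have h₁ : κ.comp ι = RingHom.id R := by
      subst hι; exact RingHom.ext fun r => (isEmptyRingEquiv_eq_coeff_zero (x := C r)).trans (coeff_zero_C r)
    have h₂ : ι.comp κ = RingHom.id _ := RingHom.ext fun p => by
      obtain ⟨r, rfl⟩ := C_surjective (Fin 0) p
      subst hι
      exact congrArg C (RingHom.congr_fun h₁ r)
    obtain ⟨R₁, ⟨a₁⟩⟩ := exists_shriek ι
    obtain ⟨i⟩ := nonempty_iso_of_inverse ι κ h₁ h₂ a₁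
    obtain ⟨c⟩ := nonempty_shriek_comp (χ := algebraMap R A) (hι ▸ hR : ψ.comp ι = algebraMap R A) a₁ a a'
    exact ⟨Functor.isoWhiskerLeft _ (Functor.isoWhiskerLeft Rψ (shiftFunctorZero (Dual.D A) ℤ) ≪≫
      Functor.rightUnitor _) ≪≫ Functor.isoWhiskerRight i.symm Rψ ≪≫ c⟩
  | succ n ih =>
    intro R A _ _ _ _ ψ hψ ι hι hR _ Rψ a R' a'
    rcases subsingleton_or_nontrivial R with hR0 | hR0
    · haveI : Subsingleton A := Module.subsingleton R A
      have hz : ∀ X Y : Dual.D A, Subsingleton (X ⟶ Y) := fun X Y => subsingleton_of_forall_eq 0 fun f => by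
        haveI : ∀ i, Subsingleton (Dual.HD A X i) := fun i => Module.subsingleton A _
        have hX : IsZero X := isZero_of_forall_hd X fun i => @ModuleCat.isZero_of_subsingleton _ _ _ (inferInstanceAs (Subsingleton (Dual.HD A X i)))
        exact hX.eq_of_src _ _
      exact ⟨NatIso.ofComponents (fun X => ⟨0, 0, (hz _ _).elim _ _, (hz _ _).elim _ _⟩)
        fun _ => (hz _ _).elim _ _⟩
    let x₀ : A := ψ (X 0)
    obtain ⟨g₀, hg₀, hgx⟩ := (IsIntegral.of_finite R x₀ : IsIntegral R x₀)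
    let g : Polynomial R := g₀ * Polynomial.X
    have hg : g.Monic := hg₀.mul Polynomial.monic_X
    have hgd : 0 < g.natDegree := by
      rw [show g = g₀ * Polynomial.X from rfl, hg₀.natDegree_mul Polynomial.monic_X, Polynomial.natDegree_X]
      omega
    have hgx' : Polynomial.eval₂ (algebraMap R A) x₀ g = 0 := by
      rw [show g = g₀ * Polynomial.X from rfl, Polynomial.eval₂_mul, hgx, zero_mul]
    let F := AdjoinRoot g
    let ρ : F →+* A := AdjoinRoot.lift (algebraMap R A) x₀ hgx'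
    letI : Algebra F A := ρ.toAlgebra
    haveI : IsScalarTower R F A := IsScalarTower.of_algebraMap_eq fun r => (AdjoinRoot.lift_of hgx').symm
    haveI : Module.Finite F A := Module.Finite.of_restrictScalars_finite R F A
    -- the variables
    let sp : MvPolynomial (Fin (n + 1)) R ≃+* MvPolynomial (Fin n) (Polynomial R) :=
      ((renameEquiv R (finSuccEquiv n)).trans (optionEquivRight R (Fin n))).toRingEquiv
    let mp : MvPolynomial (Fin n) (Polynomial R) →+* MvPolynomial (Fin n) F := map (AdjoinRoot.mk g)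
    let θ : MvPolynomial (Fin (n + 1)) R →+* MvPolynomial (Fin n) F := mp.comp sp.toRingHom
    let ψ' : MvPolynomial (Fin n) F →+* A := eval₂Hom ρ fun i => ψ (X i.succ)
    have hθC : θ.comp C = (C : F →+* MvPolynomial (Fin n) F).comp (algebraMap R F) := by
      refine RingHom.ext fun r => ?_
      simp [θ, mp, sp, optionEquivRight_C, AdjoinRoot.algebraMap_eq, F]
    have hψθ : ψ'.comp θ = ψ := by
      refine ringHom_ext (fun r => ?_) fun i => ?_
      · have h1 := RingHom.congr_fun hθC r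
        simp only [RingHom.comp_apply] at h1 ⊢
        rw [h1, eval₂Hom_C]
        exact (IsScalarTower.algebraMap_apply R F A r).symm.trans (RingHom.congr_fun hR r).symm
      · induction i using Fin.cases with
        | zero =>
          simp [ψ', θ, mp, sp, optionEquivRight_X_none, ρ, x₀, F]
        | succ i => simp [ψ', θ, mp, sp, optionEquivRight_X_some, F]
    have hmps : Function.Surjective mp := map_surjective _ AdjoinRoot.mk_surjective
    have hθs : Function.Surjective θ := hmps.comp sp.surjective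
    have hker : RingHom.ker θ = Ideal.span {sp.symm (C g)} := by
      ext x
      rw [RingHom.mem_ker, Ideal.mem_span_singleton]
      change mp (sp x) = 0 ↔ _
      rw [← RingHom.mem_ker, MvPolynomial.ker_map, AdjoinRoot.mk, Ideal.mk_ker, Ideal.map_span, Set.image_singleton,
        Ideal.mem_span_singleton, ← map_dvd_iff sp.symm, RingEquiv.symm_apply_apply]
    have hreg : sp.symm (C g) ∈ nonZeroDivisors (MvPolynomial (Fin (n + 1)) R) := by
      refine mem_nonZeroDivisors_iff_right.2 fun x hx => ?_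
      obtain ⟨y, rfl⟩ := sp.symm.surjective x
      rw [← map_mul, map_eq_zero_iff _ sp.symm.injective] at hx
      rw [map_eq_zero_iff _ sp.symm.injective]
      refine MvPolynomial.ext _ _ fun d => ?_
      rw [coeff_zero]
      refine mem_nonZeroDivisors_iff_right.1 hg.mem_nonZeroDivisors _ ?_
      have := congrArg (coeff d) hx
      rwa [mul_comm, coeff_C_mul, coeff_zero, mul_comm] at this
    letI : Algebra (MvPolynomial (Fin (n + 1)) R) (MvPolynomial (Fin n) F) := θ.toAlgebra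
    haveI : DTen.HasLBase (algebraMap (MvPolynomial (Fin (n + 1)) R) (MvPolynomial (Fin n) F)) := hasLBase _
    haveI := hasLBase (C : F →+* MvPolynomial (Fin n) F)
    haveI := hasLBase (algebraMap R F)
    haveI := hasLBase ((C : F →+* MvPolynomial (Fin n) F).comp (algebraMap R F))
    obtain ⟨Rθ, ⟨aθ⟩⟩ := exists_shriek (algebraMap (MvPolynomial (Fin (n + 1)) R) (MvPolynomial (Fin n) F))
    obtain ⟨Rψ', ⟨aψ'⟩⟩ := exists_shriek ψ'
    obtain ⟨RF, ⟨aF⟩⟩ := exists_shriek (algebraMap R F)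
    obtain ⟨RFA, ⟨aFA⟩⟩ := exists_shriek (algebraMap F A)
    obtain ⟨p⟩ := nonempty_shriek_iso_of_principal hθs (sp.symm (C g)) hreg hker aθ
    obtain ⟨q⟩ := nonempty_shriek_iso_of_powerBasis (AdjoinRoot.powerBasis' hg) hgd aF
    obtain ⟨c₁⟩ := nonempty_shriek_comp (χ := ψ) hψθ aθ aψ' a
    obtain ⟨c₂⟩ := nonempty_shriek_comp (χ := algebraMap R A) (IsScalarTower.algebraMap_eq R F A).symm aF aFA a'
    obtain ⟨l₁⟩ := nonempty_LBase_comp ι θ ((C : F →+* MvPolynomial (Fin n) F).comp (algebraMap R F))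
      (by rw [hι]; exact hθC)
    obtain ⟨l₂⟩ := nonempty_LBase_comp (algebraMap R F) (C : F →+* MvPolynomial (Fin n) F) _ rfl
    obtain ⟨s⟩ := nonempty_shriek_shift aψ' (-1 : ℤ)
    obtain ⟨r⟩ := ih ψ' (fun y => by
      obtain ⟨x, hx⟩ := hψ y
      exact ⟨θ x, (RingHom.congr_fun hψθ x).trans hx⟩) (C : F →+* MvPolynomial (Fin n) F) rfl
      (RingHom.ext fun z => eval₂Hom_C _ _ _) aψ' aFA
    let one : DTen.LBase ι ⋙ Rψ ≅
        (DTen.LBase (algebraMap R F) ⋙ DTen.LBase (C : F →+* MvPolynomial (Fin n) F) ⋙ Rψ') ⋙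
          shiftFunctor (Dual.D A) (-1 : ℤ) :=
      Functor.isoWhiskerLeft _ (c₁.symm ≪≫ Functor.isoWhiskerRight p Rψ' ≪≫ Functor.associator _ _ _ ≪≫
        Functor.isoWhiskerLeft _ s ≪≫ (Functor.associator _ _ _).symm) ≪≫ (Functor.associator _ _ _).symm ≪≫
        Functor.isoWhiskerRight ((Functor.associator _ _ _).symm ≪≫
          Functor.isoWhiskerRight (l₁ ≪≫ l₂.symm) Rψ' ≪≫ Functor.associator _ _ _) _
    exact ⟨(Functor.associator _ _ _).symm ≪≫ Functor.isoWhiskerRight one _ ≪≫ Functor.associator _ _ _ ≪≫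
      Functor.isoWhiskerLeft _ (shiftFunctorAdd' (Dual.D A) (-1) ((n + 1 : ℕ) : ℤ) (n : ℤ) (by omega)).symm ≪≫
      Functor.associator _ _ _ ≪≫ Functor.isoWhiskerLeft _ ((Functor.associator _ _ _) ≪≫ r) ≪≫
      Functor.isoWhiskerRight q.symm RFA ≪≫ c₂⟩

/-- The shriek through a presentation preserves dualizing complexes. -/
theorem isDualizing_shriekVia {R A : Type u} [CommRing R] [CommRing A] [IsNoetherianRing A] (n : ℕ)
    (ψ : MvPolynomial (Fin n) R →+* A) (hψ : Function.Surjective ψ)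
    [DTen.HasLBase (algebraMap R (MvPolynomial (Fin n) R))]
    {Rψ : Dual.D (MvPolynomial (Fin n) R) ⥤ Dual.D A} (a : DRing.restrictD ψ ⊣ Rψ)
    {ω : Dual.D R} (hω : Dual.IsDualizing R ω) :
    Dual.IsDualizing A ((Rψ.obj ((DTen.LBase (algebraMap R (MvPolynomial (Fin n) R))).obj ω))⟦(n : ℤ)⟧) := by
  haveI := hω.isNoetherianRing
  letI := ψ.toAlgebra
  haveI : Module.Finite (MvPolynomial (Fin n) R) A := Module.Finite.of_surjective (Algebra.linearMap _ A) hψ
  refine isDualizing_shift (isDualizing_shriek Rψ a ?_) _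
  refine isDualizing_LBase_of_gorenstein_fibres hω
    (ringKrullDim_lt_top_of_finiteType (ringKrullDim_lt_top_of_isDualizing hω))
    fun q => LC.fibLoc_of_fiber q.asIdeal fun p _ => ?_
  haveI := LC.gorensteinRing_of_isRegularRing p.ResidueField
  haveI := LC.gorensteinRing_mvPolynomial_fin p.ResidueField n
  exact LC.gorensteinRing_of_ringEquiv
    (MvPolynomial.algebraTensorAlgEquiv (σ := Fin n) R p.ResidueField).toRingEquiv.symm inferInstance

end Groth.Agent.KFlatLib

namespace Groth.Agent.KFlatLib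

/-- The right adjoint of restriction preserves lower bounds. -/
lemma isGE_shriek {A B : Type u} [CommRing A] [CommRing B] (φ : A →+* B) (R : Dual.D A ⥤ Dual.D B)
    (adj : DRing.restrictD φ ⊣ R) (K : Dual.D A) (a : ℤ) [K.IsGE a] : (R.obj K).IsGE a := by
  refine (DerivedCategory.isGE_iff _ _).2 fun i hi => ?_
  obtain ⟨e₁⟩ := exists_homRingLEquiv (R.obj K) i
  obtain ⟨e₂, -, -⟩ := exists_shriekHomEquiv φ R adj (Dual.inD B B) K i
  let M := (ModuleCat.restrictScalars φ).obj (ModuleCat.of B B)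
  haveI : (K⟦i⟧).IsGE (a - i) := DerivedCategory.TStructure.t.isGE_shift K a i (a - i) (by omega)
  haveI : Subsingleton ((DRing.restrictD φ).obj (Dual.inD B B) ⟶ K⟦i⟧) := by
    haveI : Subsingleton (Dual.inD A M ⟶ K⟦i⟧) := subsingleton_of_forall_eq 0 fun f =>
      DerivedCategory.TStructure.t.zero f 0 (a - i) (by omega)
    exact (H9Misc.DRingRestrict.restrictInDIso φ (ModuleCat.of B B)).homFromEquiv.subsingleton
  haveI := e₂.subsingleton
  exact @ModuleCat.isZero_of_subsingleton _ _ _ e₁.symm.injective.subsingleton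

end Groth.Agent.KFlatLib
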