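import Groth.Agent.KFlatLib.Ring.ShriekBidual
import Groth.Agent.KFlatLib.Ring.ShriekVia
import Groth.Agent.KFlatLib.Ring.DualizingFlat

/-!
# The shriek of a derived hom
-/

set_option linter.style.haveILetI false
set_option backward.isDefEq.respectTransparency false

universe u

open CategoryTheory CategoryTheory.Limits Pretriangulated MonoidalCategory Opposite

attribute [local instance] HasDerivedCategory.standard

namespace Groth.Agent.KFlatLib

variable {B A : Type u} [CommRing B] [CommRing A] (φ : B →+* A)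
  [DTen.HasLTen B] [DTen.HasLTen A] [DTen.HasRHom B] [DTen.HasRHom A]
  [DTen.HasLBase φ] {Rφ : Dual.D B ⥤ Dual.D A}

/-- The shriek of derived hom is derived hom of the shrieks. -/
theorem nonempty_shriek_RHom (adj : DRing.restrictD φ ⊣ Rφ) (M : Dual.D B) :
    Nonempty (DTen.RHomR B M ⋙ Rφ ≅ Rφ ⋙ DTen.RHomR A ((DTen.LBase φ).obj M)) := by
  haveI := hasResTen φ
  haveI := resLegIso φ
  let L := (DTen.LBase φ).obj M
  haveI : ∀ E, IsIso (DTen.projPF φ E M) := fun E => isIso_projPF φ E M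
  let F₁ := DRing.restrictD φ ⋙ DTen.tensorRightD B M
  let F₂ := DTen.tensorRightD A L ⋙ DRing.restrictD φ
  let i : F₁ ≅ F₂ := NatIso.ofComponents (fun E => asIso (DTen.projPF φ E M)) fun {E E'} f => by
    have hn := (DTen.resPF φ).naturality (Prod.mkHom f (𝟙 L))
    simp only [Functor.comp_map] at hn
    change (DTen.LTen₂ B).map (Prod.mkHom ((DRing.restrictD φ).map f) (𝟙 M)) ≫ DTen.projPF φ E' M =
      DTen.projPF φ E M ≫ (DRing.restrictD φ).map ((DTen.LTen₂ A).map (Prod.mkHom f (𝟙 L)))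
    dsimp only [DTen.projPF]
    rw [Category.assoc]
    erw [← hn]
    rw [← Functor.map_comp_assoc]
    erw [← Functor.map_comp_assoc]
    congr 2
    refine Prod.ext ((Category.comp_id _).trans (Category.id_comp _).symm) ?_
    change 𝟙 M ≫ (DTen.baseAdj φ).unit.app M = (DTen.baseAdj φ).unit.app M ≫ (DRing.restrictD φ).map (𝟙 L)
    rw [CategoryTheory.Functor.map_id, Category.id_comp]
    exact (Category.comp_id _).symm
  exact ⟨Adjunction.rightAdjointUniq ((adj.comp (DTen.rhomAdj B M)).ofNatIsoLeft i)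
    ((DTen.rhomAdj A L).comp adj)⟩

omit φ [DTen.HasLTen B] [DTen.HasRHom B] [DTen.HasLBase φ] in
/-- Derived hom out of the unit. -/
lemma nonempty_RHomR_unit (M : Dual.D A) : Nonempty ((DTen.RHomR A (DTen.unit A)).obj M ≅ M) := by
  obtain ⟨e⟩ := nonempty_RHomR_unit_iso (A := A) 0
  exact ⟨((DTen.RHom A).mapIso ((shiftFunctorZero (Dual.D A) ℤ).app (DTen.unit A)).op).app M ≪≫ e.app M ≪≫
    (shiftFunctorZero' (Dual.D A) (-(0 : ℤ)) neg_zero).app M⟩

omit φ [DTen.HasLTen B] [DTen.HasRHom B] [DTen.HasLBase φ] in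
/-- An isomorphism `A ≅ RHom(D, A)` is induced by a map `D → A`. -/
lemma exists_map_unit_of_iso {D : Dual.D A} (e : DTen.unit A ≅ (DTen.RHomR A D).obj (DTen.unit A)) :
    ∃ δ : D ⟶ DTen.unit A, IsIso (DTen.RHomMap δ (DTen.unit A)) := by
  haveI := hasLTen₃ A
  haveI := isSymMonoidal A
  haveI hu : IsIso (DTen.unitL A) := DTen.IsSymMonoidal.isIso_unitL
  let u := DTen.unit A
  let l : ∀ X : Dual.D A, (DTen.LTen₂ A).obj (u, X) ⟶ X := fun X => (DTen.unitL A).app X
  have hl : ∀ {X Y : Dual.D A} (f : X ⟶ Y), (DTen.LTen₂ A).map (Prod.mkHom (𝟙 u) f) ≫ l Y = l X ≫ f :=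
    fun f => (DTen.unitL A).naturality f
  haveI : ∀ X, IsIso (l X) := fun X => inferInstanceAs (IsIso ((DTen.unitL A).app X))
  let d := (DTen.rhomHomEquiv u D u).symm e.hom
  let δ : D ⟶ u := inv (l D) ≫ d
  let α : u ⟶ (DTen.RHomR A u).obj u := DTen.rhomHomEquiv u u u (l u)
  haveI : IsIso α := by
    refine isIso_of_yoneda_map_bijective _ fun Z => ?_
    haveI := isEquivalence_tensorRightD_shift_unit (A := A) 0
    haveI : (DTen.tensorRightD A u).IsEquivalence :=
      Functor.isEquivalence_of_iso (F := DTen.tensorRightD A ((DTen.unit A)⟦(0 : ℤ)⟧))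
        (NatIso.ofComponents (fun X => (DTen.LTen₂ A).mapIso
          (Iso.prod (Iso.refl X) ((shiftFunctorZero (Dual.D A) ℤ).app (DTen.unit A))))
          fun {X X'} f => (ten_swap f ((shiftFunctorZero (Dual.D A) ℤ).hom.app (DTen.unit A))).symm)
    let F := DTen.tensorRightD A u
    have key : (fun z : Z ⟶ u => z ≫ α) = (DTen.rhomHomEquiv Z u u) ∘ (fun z => F.map z ≫ l u) :=
      funext fun z => ((DTen.rhomAdj A u).homEquiv_naturality_left z _).symm
    change Function.Bijective (fun z : Z ⟶ u => z ≫ α)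
    rw [key]
    exact (Equiv.bijective _).comp ((Functor.FullyFaithful.ofFullyFaithful F).homEquiv.trans
      (Iso.homToEquiv (asIso (l u)) (Z := F.obj Z))).bijective
  refine ⟨δ, ?_⟩
  have h : e.hom = α ≫ DTen.RHomMap δ u := by
    refine Eq.trans ?_ (rhomHomEquiv_comp_right (R := A) δ (l u))
    refine ((DTen.rhomHomEquiv u D u).apply_symm_apply e.hom).symm.trans (congrArg _ ?_)
    erw [hl δ]
    exact (IsIso.hom_inv_id_assoc (l D) d).symm
  haveI : IsIso (α ≫ DTen.RHomMap δ u) := h ▸ (inferInstance : IsIso e.hom)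
  exact IsIso.of_isIso_comp_left α _

end Groth.Agent.KFlatLib
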