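import Groth.Agent.KFlatLib.Ring.InnerHom

/-!
# `RHom(-, L)` is exact
-/

set_option linter.style.haveILetI false

universe u

open CategoryTheory CategoryTheory.Limits Pretriangulated MonoidalCategory

attribute [local instance] HasDerivedCategory.standard

namespace Groth.Agent.KFlatLib

variable {A : Type u} [CommRing A]

/-- Two consecutive maps of a distinguished triangle come from a degreewise split sequence of K-flat
complexes. -/
lemma exists_ses_rep (T : Triangle (Dual.D A)) (hT : T ∈ distTriang _) :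
    ∃ (K L : DRing.Cx A) (g : K ⟶ L) (u₁ : DerivedCategory.Q.obj L ≅ T.obj₁)
      (u₂ : DerivedCategory.Q.obj (CochainComplex.mappingCone g) ≅ T.obj₂)
      (u₃ : DerivedCategory.Q.obj (K⟦(1 : ℤ)⟧) ≅ T.obj₃),
      KFlat (curriedTensor (ModuleCat.{u} A)) K ∧ KFlat (curriedTensor (ModuleCat.{u} A)) L ∧
      DerivedCategory.Q.map (coneSeq g).f ≫ u₂.hom = u₁.hom ≫ T.mor₁ ∧
      DerivedCategory.Q.map (coneSeq g).g ≫ u₃.hom = u₂.hom ≫ T.mor₂ := by
  have hT' := inv_rot_of_distTriang _ hT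
  obtain ⟨K₀, L₀, g₀, ⟨e₀⟩⟩ := (DerivedCategory.mem_distTriang_iff T.invRotate).1 hT'
  let g := (ringCover A).P.map g₀
  let a := (ringCover A).ψ.app K₀
  let b := (ringCover A).ψ.app L₀
  haveI := (ringCover A).quasiIso_ψ K₀
  haveI := (ringCover A).quasiIso_ψ L₀
  have ha : IsIso (DerivedCategory.Q.map a) :=
    (DerivedCategory.isIso_Q_map_iff_quasiIso _ _).2 ‹_›
  have hb : IsIso (DerivedCategory.Q.map b) :=
    (DerivedCategory.isIso_Q_map_iff_quasiIso _ _).2 ‹_›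
  let T₀ := DerivedCategory.Q.mapTriangle.obj (CochainComplex.mappingCone.triangle g₀)
  let T₁ := DerivedCategory.Q.mapTriangle.obj (CochainComplex.mappingCone.triangle g)
  have d₀ : T₀ ∈ distTriang _ := (DerivedCategory.mem_distTriang_iff _).2 ⟨_, _, _, ⟨Iso.refl _⟩⟩
  have d₁ : T₁ ∈ distTriang _ := (DerivedCategory.mem_distTriang_iff _).2 ⟨_, _, _, ⟨Iso.refl _⟩⟩
  let e : T₁ ≅ T.invRotate := isoTriangleOfIso₁₂ T₁ T₀ d₁ d₀
      (@asIso _ _ _ _ (DerivedCategory.Q.map a) ha) (@asIso _ _ _ _ (DerivedCategory.Q.map b) hb)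
      ((DerivedCategory.Q.map_comp _ _).symm.trans
        ((congrArg DerivedCategory.Q.map ((ringCover A).ψ.naturality g₀)).trans
          (DerivedCategory.Q.map_comp _ _))) ≪≫ e₀.symm
  let cs := (DerivedCategory.Q.commShiftIso (1 : ℤ)).app ((ringCover A).P.obj K₀)
  let c := (shiftFunctorCompIsoId (Dual.D A) (-1 : ℤ) 1 (by omega)).app T.obj₃
  refine ⟨_, _, g, Triangle.π₂.mapIso e, Triangle.π₃.mapIso e,
    cs ≪≫ (shiftFunctor (Dual.D A) (1 : ℤ)).mapIso (Triangle.π₁.mapIso e) ≪≫ c,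
    kFlat_ringRes _, kFlat_ringRes _, e.hom.comm₂, ?_⟩
  have e₃ : (DerivedCategory.Q.map (coneSeq g).g ≫ cs.hom) ≫ e.hom.hom₁⟦(1 : ℤ)⟧' =
      e.hom.hom₃ ≫ T.mor₂ ≫ c.inv := e.hom.comm₃
  change DerivedCategory.Q.map (coneSeq g).g ≫ cs.hom ≫ e.hom.hom₁⟦(1 : ℤ)⟧' ≫ c.hom =
    e.hom.hom₃ ≫ T.mor₂
  refine ((Category.assoc _ _ _).symm.trans ((Category.assoc _ _ _).symm.trans
    (congrArg (· ≫ c.hom) e₃))).trans ?_
  refine (Category.assoc _ _ _).trans (congrArg (e.hom.hom₃ ≫ ·) ?_)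
  exact (Category.assoc _ _ _).trans ((congrArg (T.mor₂ ≫ ·) c.inv_hom_id).trans (Category.comp_id _))

variable [DTen.HasLTen A] [DTen.HasRHom A]

/-- `RHom(-, L)` sends two consecutive maps of a distinguished triangle to two consecutive maps of
one. -/
theorem exists_triangle_RHomMap (T : Triangle (Dual.D A)) (hT : T ∈ distTriang _) (L : Dual.D A) :
    ∃ c, Triangle.mk (DTen.RHomMap T.mor₂ L) (DTen.RHomMap T.mor₁ L) c ∈ distTriang _ := by
  obtain ⟨I, s, hI, hs, -, hinj⟩ :=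
    TriCat.exists_kInjective_resolution'.{u} (DerivedCategory.Q.objPreimage L)
  haveI := hI
  haveI := hinj
  haveI := hs
  let eL : DerivedCategory.Q.obj I ≅ L :=
    (@asIso _ _ _ _ (DerivedCategory.Q.map s)
      ((DerivedCategory.isIso_Q_map_iff_quasiIso _ _).2 hs)).symm ≪≫
      DerivedCategory.Q.objObjPreimageIso L
  obtain ⟨K, L', g, u₁, u₂, u₃, hK, hL', h₁, h₂⟩ := exists_ses_rep T hT
  let S := coneSeq g
  obtain ⟨hz, hH⟩ := innerHom_shortExact S (fun n => ⟨coneSeqSplitting g n⟩) I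
  have d := DerivedCategory.triangleOfSES_distinguished hH
  have k₁ := isIso_innerCmp (P := L') hL' I
  have k₂ := isIso_innerCmp (P := CochainComplex.mappingCone g) (kFlat_cone g hK hL') I
  have k₃ := isIso_innerCmp (P := K⟦(1 : ℤ)⟧) (hK.shift 1) I
  let v : ∀ {P : DRing.Cx A} {M : Dual.D A} (_ : DerivedCategory.Q.obj P ≅ M)
      (_ : IsIso (innerCmp P I)),
      DerivedCategory.Q.obj ((innerHom P).obj I) ≅ (DTen.RHomR A M).obj L := fun {P M} u h =>
    @asIso _ _ _ _ (innerCmp P I) h ≪≫ (DTen.RHomR A _).mapIso eL ≪≫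
      ((DTen.RHom A).mapIso u.symm.op).app L
  have key : ∀ {P P' : DRing.Cx A} (q : P ⟶ P') {M M' : Dual.D A} (φ : M ⟶ M')
      (u : DerivedCategory.Q.obj P ≅ M) (u' : DerivedCategory.Q.obj P' ≅ M')
      (h : IsIso (innerCmp P I)) (h' : IsIso (innerCmp P' I)),
      DerivedCategory.Q.map q ≫ u'.hom = u.hom ≫ φ →
      DerivedCategory.Q.map ((innerMap q).app I) ≫ (v u h).hom =
        (v u' h').hom ≫ DTen.RHomMap φ L := by
    intro P P' q M M' φ u u' h h' hq
    change DerivedCategory.Q.map ((innerMap q).app I) ≫ innerCmp P I ≫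
        (DTen.RHomR A _).map eL.hom ≫ DTen.RHomMap u.inv L =
      (innerCmp P' I ≫ (DTen.RHomR A _).map eL.hom ≫ DTen.RHomMap u'.inv L) ≫ DTen.RHomMap φ L
    rw [← Category.assoc, innerCmp_naturality, Category.assoc, Category.assoc, Category.assoc]
    refine congrArg (innerCmp P' I ≫ ·) ?_
    refine Eq.trans ((Category.assoc _ _ _).symm.trans
      ((congrArg (· ≫ DTen.RHomMap u.inv L)
        (((DTen.RHom A).map (DerivedCategory.Q.map q).op).naturality eL.hom).symm).trans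
          (Category.assoc _ _ _))) ?_
    refine congrArg (_ ≫ ·) ?_
    change ((DTen.RHom A).map (DerivedCategory.Q.map q).op).app L ≫
        ((DTen.RHom A).map u.inv.op).app L =
      ((DTen.RHom A).map u'.inv.op).app L ≫ ((DTen.RHom A).map φ.op).app L
    rw [← NatTrans.comp_app, ← NatTrans.comp_app, ← Functor.map_comp, ← Functor.map_comp,
      ← op_comp, ← op_comp]
    congr 3
    rw [Iso.inv_comp_eq, ← Category.assoc, Iso.eq_comp_inv]
    exact hq
  refine ⟨(v u₁ k₁).inv ≫ DerivedCategory.triangleOfSESδ hH ≫ (v u₃ k₃).hom⟦(1 : ℤ)⟧',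
    isomorphic_distinguished _ d _ (Iso.symm (Triangle.isoMk _ _ (v u₃ k₃) (v u₂ k₂) (v u₁ k₁)
      (key S.g T.mor₂ u₂ u₃ k₂ k₃ h₂) (key S.f T.mor₁ u₁ u₂ k₁ k₂ h₁) ?_))⟩
  change DerivedCategory.triangleOfSESδ hH ≫ (v u₃ k₃).hom⟦(1 : ℤ)⟧' =
    (v u₁ k₁).hom ≫ (v u₁ k₁).inv ≫ DerivedCategory.triangleOfSESδ hH ≫ (v u₃ k₃).hom⟦(1 : ℤ)⟧'
  rw [Iso.hom_inv_id_assoc]
  rfl

end Groth.Agent.KFlatLib
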