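import Groth.Agent.KFlatLib.Ring.EvalTen
import Groth.Agent.KFlatLib.Ring.RHomTriangle
import Mathlib.CategoryTheory.Triangulated.Opposite.Pretriangulated

/-!
# The evaluation maps for a perfect source
-/

set_option linter.style.haveILetI false

universe u

open CategoryTheory CategoryTheory.Limits Pretriangulated Opposite

open Pretriangulated.Opposite

attribute [local instance] HasDerivedCategory.standard

namespace Groth.Agent.KFlatLib

variable {A : Type u} [CommRing A] [DTen.HasLTen A] [DTen.HasLTen₃ A] [DTen.IsSymMonoidal A]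

/-- The symmetry as an isomorphism of functors in the free variable. -/
noncomputable def tenFlipIso (K : Dual.D A) : (DTen.LTen A).obj K ≅ DTen.tensorRightD A K :=
  (NatIso.ofComponents (fun X => DTen.braiding K X) fun {X X'} g => by
    exact (DTen.symm A).naturality (X := (K, X)) (Y := (K, X')) (Prod.mkHom (𝟙 K) g)).symm

omit [DTen.HasLTen₃ A] [DTen.IsSymMonoidal A] in
lemma homExact_id : HomExact (𝟭 (Dual.D A)) := fun T hT _ φ h => by
  obtain ⟨ψ, hψ⟩ := Triangle.coyoneda_exact₂ T hT φ h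
  exact ⟨ψ, hψ.symm⟩

variable [DTen.HasRHom A]

omit [DTen.HasLTen₃ A] [DTen.IsSymMonoidal A] in
/-- `RHom(-, L)` followed by an exact functor is exact. -/
lemma homExact_comp_RHom {F : Dual.D A ⥤ Dual.D A} (hF : HomExact F) (L : Dual.D A) :
    HomExact ((DTen.RHom A).flip.obj L ⋙ F) := by
  intro T hT Z φ h
  obtain ⟨c, hc⟩ := exists_triangle_RHomMap _ ((mem_distTriang_op_iff T).1 hT) L
  exact hF _ hc Z φ h

omit [DTen.HasLTen₃ A] [DTen.IsSymMonoidal A] in
/-- `RHom(RHom(-, L), M)` is exact. -/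
lemma homExact_RHom_RHom (L M : Dual.D A) :
    HomExact (((DTen.RHom A).flip.obj L).rightOp ⋙ (DTen.RHom A).flip.obj M) := by
  intro T hT Z φ h
  obtain ⟨c, hc⟩ := exists_triangle_RHomMap T hT L
  obtain ⟨c', hc'⟩ := exists_triangle_RHomMap _ hc M
  exact homExact_id _ hc' Z φ h

/-- The evaluation map is natural in the source `M`. -/
noncomputable def evalTenNatSrc (K L : Dual.D A) :
    (DTen.RHom A).flip.obj L ⋙ (DTen.LTen A).obj K ⟶
      (DTen.RHom A).flip.obj ((DTen.LTen₂ A).obj (K, L)) where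
  app M := DTen.evalTen K L M.unop
  naturality {M M'} m := by
    refine (DTen.rhomHomEquiv _ M'.unop _).symm.injective ?_
    let R := (DTen.RHomR A M.unop).obj L
    let R' := (DTen.RHomR A M'.unop).obj L
    let r : R ⟶ R' := DTen.RHomMap m.unop L
    refine ((DTen.rhomAdj A M'.unop).homEquiv_counit ..).trans (Eq.trans ?_
      ((DTen.rhomAdj A M'.unop).homEquiv_counit ..).symm)
    change (DTen.LTen₂ A).map (Prod.mkHom ((DTen.LTen₂ A).map (Prod.mkHom (𝟙 K) r) ≫
          DTen.evalTen K L M'.unop) (𝟙 M'.unop)) ≫ DTen.ev M'.unop _ =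
      (DTen.LTen₂ A).map (Prod.mkHom (DTen.evalTen K L M.unop ≫
          DTen.RHomMap m.unop ((DTen.LTen₂ A).obj (K, L))) (𝟙 M'.unop)) ≫ DTen.ev M'.unop _
    have hl : ∀ {a a' a'' : Dual.D A} (f : a ⟶ a') (f' : a' ⟶ a''),
        (DTen.LTen₂ A).map (Prod.mkHom (f ≫ f') (𝟙 M'.unop)) =
          (DTen.LTen₂ A).map (Prod.mkHom f (𝟙 _)) ≫ (DTen.LTen₂ A).map (Prod.mkHom f' (𝟙 _)) :=
      fun f f' => by rw [ten_map_comp, Category.comp_id]
    calc _ = (DTen.LTen₂ A).map (Prod.mkHom ((DTen.LTen₂ A).map (Prod.mkHom (𝟙 K) r)) (𝟙 M'.unop)) ≫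
          DTen.evalTenAux K L M'.unop := by
          rw [hl, Category.assoc, DTen.evalTen_fac]
      _ = (DTen.associator K R M'.unop).hom ≫ (DTen.LTen₂ A).map (Prod.mkHom (𝟙 K)
          ((DTen.LTen₂ A).map (Prod.mkHom (𝟙 R) m.unop) ≫ DTen.ev M.unop L)) := by
          rw [DTen.evalTenAux, ← Category.assoc, associator_naturality, Category.assoc, ten_map_comp,
            DTen.RHom_map_ev, Category.comp_id]
      _ = (DTen.LTen₂ A).map (Prod.mkHom (𝟙 ((DTen.LTen₂ A).obj (K, R))) m.unop) ≫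
          DTen.evalTenAux K L M.unop := by
          have := associator_naturality (𝟙 K) (𝟙 R) m.unop
          rw [show (DTen.LTen₂ A).map (Prod.mkHom (𝟙 K) (𝟙 R)) = 𝟙 _ from (DTen.LTen₂ A).map_id _]
            at this
          rw [DTen.evalTenAux, ← Category.assoc, this, Category.assoc, ten_map_comp, Category.comp_id]
      _ = _ := by
          rw [hl, Category.assoc, DTen.RHom_map_ev, ← Category.assoc, ← ten_swap, Category.assoc,
            DTen.evalTen_fac]

lemma isIso_evalTen_of_isEquivalence_right (K L M : Dual.D A)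
    [(DTen.tensorRightD A M).IsEquivalence] : IsIso (DTen.evalTen K L M) := by
  haveI : (DTen.RHomR A M).IsEquivalence :=
    (DTen.rhomAdj A M).isEquivalence_right_of_isEquivalence_left
  haveI h1 : IsIso (DTen.ev M L) := inferInstance
  haveI h2 : IsIso (DTen.evalTenAux K L M) := by
    haveI : IsIso (Prod.mkHom (𝟙 K) (DTen.ev M L)) :=
      (isIso_prod_iff _ _).2 ⟨inferInstanceAs (IsIso (𝟙 K)), h1⟩
    rw [DTen.evalTenAux]
    infer_instance
  rw [DTen.evalTen, DTen.rhomHomEquiv, Adjunction.homEquiv_unit]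
  infer_instance

lemma isEquivalence_tensorRightD_shift_unit (n : ℤ) :
    (DTen.tensorRightD A ((DTen.unit A)⟦n⟧)).IsEquivalence := by
  haveI := isEquivalence_tensorLeft_shift_unit (A := A) n
  exact Functor.isEquivalence_of_iso (tenFlipIso _)

lemma preservesZeroMorphisms_LTen (K : Dual.D A) :
    ((DTen.LTen A).obj K).PreservesZeroMorphisms :=
  Functor.preservesZeroMorphisms_of_iso (tenFlipIso K).symm

lemma preservesZeroMorphisms_RHom (L : Dual.D A) :
    ((DTen.RHom A).flip.obj L).PreservesZeroMorphisms where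
  map_zero X Y := by
    change DTen.RHomMap (0 : Y.unop ⟶ X.unop) L = 0
    refine (DTen.rhomHomEquiv _ _ _).symm.injective ?_
    refine ((DTen.rhomAdj A Y.unop).homEquiv_counit ..).trans
      (((DTen.RHom_map_ev (0 : Y.unop ⟶ X.unop) L).trans ?_).trans
        ((DTen.rhomAdj A Y.unop).homEquiv_counit ..).symm)
    haveI := preservesZeroMorphisms_LTen ((DTen.RHomR A X.unop).obj L)
    have h0 : (DTen.LTen₂ A).map (Prod.mkHom (𝟙 ((DTen.RHomR A X.unop).obj L))
        (0 : Y.unop ⟶ X.unop)) = 0 := ((DTen.LTen A).obj _).map_zero _ _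
    rw [h0, zero_comp, Functor.map_zero, zero_comp]

/-- A natural transformation between exact contravariant functors which is an isomorphism on the
shifts of the unit is one on perfect objects. -/
theorem isIso_app_op_of_isPerfect {F G : (Dual.D A)ᵒᵖ ⥤ Dual.D A} [F.PreservesZeroMorphisms]
    [G.PreservesZeroMorphisms] (hF : HomExact F) (hG : HomExact G) (η : F ⟶ G)
    (hbase : ∀ n : ℤ, IsIso (η.app (op ((DTen.unit A)⟦n⟧)))) {K : Dual.D A}
    (hK : DRing.IsPerfect A K) : IsIso (η.app (op K)) := by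
  have key : ∀ n : ℤ, IsIso (η.app ((op K)⟦n⟧)) := by
    refine perfect_induction (fun K => ∀ n : ℤ, IsIso (η.app ((op K)⟦n⟧))) ?_ ?_ ?_ ?_ hK
    · exact fun e h n => (NatTrans.isIso_app_iff_of_iso η
        ((shiftFunctor (Dual.D A)ᵒᵖ n).mapIso e.op.symm)).1 (h n)
    · intro T hT h₁ h₃ n
      exact isIso₂_of_homExact hF hG η _
        (Triangle.shift_distinguished _ (op_distinguished T hT) n)
        ((NatTrans.isIso_app_iff_of_iso η ((shiftFunctorAdd' (Dual.D A)ᵒᵖ n (-1) (n - 1)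
          (by omega)).app (op T.obj₁))).1 (h₁ (n - 1))) (h₃ n) (h₁ n)
        ((NatTrans.isIso_app_iff_of_iso η ((shiftFunctorAdd' (Dual.D A)ᵒᵖ n 1 (n + 1)
          rfl).app (op T.obj₃))).1 (h₃ (n + 1)))
    · intro K K' i r h hK n
      haveI := hK n
      exact isIso_of_retract η (r.op⟦n⟧') (i.op⟦n⟧') (by
        rw [← Functor.map_comp, ← op_comp, h, op_id, CategoryTheory.Functor.map_id])
    · intro m n
      refine (NatTrans.isIso_app_iff_of_iso η ?_).1 (hbase (m + -n))
      exact ((shiftFunctorAdd (Dual.D A) m (-n)).app (DTen.unit A)).op.symm ≪≫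
        ((shiftFunctorOpIso (Dual.D A) n (-n) (by omega)).app (op ((DTen.unit A)⟦m⟧))).symm
  exact (NatTrans.isIso_app_iff_of_iso η ((shiftFunctorZero (Dual.D A)ᵒᵖ ℤ).app (op K))).1 (key 0)

/-- `K ⊗^L RHom(M, L) ⟶ RHom(M, K ⊗^L L)` is invertible for perfect `M`. -/
theorem isIso_evalTen_of_isPerfect_source (K L M : Dual.D A) (hM : DRing.IsPerfect A M) :
    IsIso (DTen.evalTen K L M) := by
  haveI := preservesZeroMorphisms_RHom L
  haveI := preservesZeroMorphisms_RHom ((DTen.LTen₂ A).obj (K, L))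
  haveI := preservesZeroMorphisms_LTen K
  exact isIso_app_op_of_isPerfect
    (homExact_comp_RHom ((homExact_tensorRightD K).of_iso (tenFlipIso K).symm) L)
    ((homExact_comp_RHom homExact_id ((DTen.LTen₂ A).obj (K, L))).of_iso (Functor.rightUnitor _))
    (evalTenNatSrc K L) (fun n => by
      haveI := isEquivalence_tensorRightD_shift_unit (A := A) n
      exact isIso_evalTen_of_isEquivalence_right K L _) hM

/-- The map `K ⊗^L RHom(K, L) ⟶ L`. -/
noncomputable abbrev evSymm (K L : Dual.D A) :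
    (DTen.LTen₂ A).obj (K, (DTen.RHomR A K).obj L) ⟶ L :=
  (DTen.symm A).app ((DTen.RHomR A K).obj L, K) ≫ DTen.ev K L

lemma isIso_evalHom_of_isEquivalence (K L M : Dual.D A) [(DTen.tensorRightD A K).IsEquivalence] :
    IsIso (DTen.evalHom K L M) := by
  haveI : (DTen.RHomR A K).IsEquivalence :=
    (DTen.rhomAdj A K).isEquivalence_right_of_isEquivalence_left
  haveI h1 : IsIso (DTen.ev K L) := inferInstance
  haveI h2 : IsIso (evSymm K L) := inferInstance
  let J := DTen.tensorRightD A K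
  let X := (DTen.RHomR A K).obj L
  refine isIso_of_yoneda_map_bijective _ fun Z => ?_
  let e : J.obj (J.objPreimage Z) ≅ Z := J.objObjPreimageIso Z
  let Z' := J.objPreimage Z
  suffices h : Function.Bijective
      (fun z : J.obj Z' ⟶ (DTen.LTen₂ A).obj ((DTen.RHomR A L).obj M, K) => z ≫ DTen.evalHom K L M) by
    refine ⟨fun z z' hz => (cancel_epi e.hom).1 (h.1 ?_), fun y => ?_⟩
    · simp only [Category.assoc] at hz ⊢
      exact congrArg (e.hom ≫ ·) hz
    · obtain ⟨z, hz⟩ := h.2 (e.hom ≫ y)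
      refine ⟨e.inv ≫ z, ?_⟩
      change (e.inv ≫ z) ≫ _ = y
      simp only [Category.assoc] at hz ⊢
      exact (congrArg (e.inv ≫ ·) hz).trans (Iso.inv_hom_id_assoc e y)
  haveI h3 : IsIso (Prod.mkHom (𝟙 Z') (evSymm K L)) :=
    (isIso_prod_iff _ _).2 ⟨inferInstanceAs (IsIso (𝟙 Z')), h2⟩
  let q : (DTen.LTen₂ A).obj (J.obj Z', X) ≅ (DTen.LTen₂ A).obj (Z', L) :=
    DTen.associator Z' K X ≪≫ asIso ((DTen.LTen₂ A).map (Prod.mkHom (𝟙 Z') (evSymm K L)))
  let b : (J.obj Z' ⟶ (DTen.LTen₂ A).obj ((DTen.RHomR A L).obj M, K)) ≃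
      (J.obj Z' ⟶ (DTen.RHomR A X).obj M) :=
    ((Functor.FullyFaithful.ofFullyFaithful J).homEquiv).symm.trans
      ((DTen.rhomHomEquiv Z' L M).symm.trans
        ((Iso.homCongr q.symm (Iso.refl M)).trans (DTen.rhomHomEquiv (J.obj Z') X M)))
  convert b.bijective using 1
  funext z
  obtain ⟨φ, rfl⟩ := J.map_surjective z
  refine ((DTen.rhomAdj A X).homEquiv_naturality_left _ _).symm.trans ?_
  have hb : b (J.map φ) = DTen.rhomHomEquiv (J.obj Z') X M
      (q.hom ≫ (DTen.rhomHomEquiv Z' L M).symm φ) := by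
    simp [b, Iso.homCongr, Functor.FullyFaithful.homEquiv, Functor.FullyFaithful.preimage]
  rw [hb]
  refine congrArg (DTen.rhomHomEquiv (J.obj Z') X M) ?_
  change (DTen.LTen₂ A).map (Prod.mkHom ((DTen.LTen₂ A).map (Prod.mkHom φ (𝟙 K))) (𝟙 X)) ≫
      (DTen.associator ((DTen.RHomR A L).obj M) K X).hom ≫
        (DTen.LTen₂ A).map (Prod.mkHom (𝟙 _) (evSymm K L)) ≫ DTen.ev L M =
    ((DTen.associator Z' K X).hom ≫ (DTen.LTen₂ A).map (Prod.mkHom (𝟙 Z') (evSymm K L))) ≫ _
  rw [← Category.assoc, associator_naturality, Category.assoc, Category.assoc]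
  refine congrArg (_ ≫ ·) ?_
  rw [Adjunction.homEquiv_counit]
  change _ = _ ≫ (DTen.LTen₂ A).map (Prod.mkHom φ (𝟙 L)) ≫ DTen.ev L M
  rw [← Category.assoc, ← Category.assoc, ten_map_comp, ten_map_comp, Category.comp_id,
    Category.id_comp, Category.comp_id,
    show (DTen.LTen₂ A).map (Prod.mkHom (𝟙 K) (𝟙 X)) = 𝟙 _ from (DTen.LTen₂ A).map_id _,
    Category.id_comp]

/-- The evaluation map is natural in `K`. -/
noncomputable def evalHomNat (L M : Dual.D A) :
    (DTen.LTen A).obj ((DTen.RHomR A L).obj M) ⟶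
      ((DTen.RHom A).flip.obj L).rightOp ⋙ (DTen.RHom A).flip.obj M where
  app K := DTen.evalHom K L M
  naturality {K K'} k := by
    let R := (DTen.RHomR A L).obj M
    let X := (DTen.RHomR A K).obj L
    let X' := (DTen.RHomR A K').obj L
    let r : X' ⟶ X := DTen.RHomMap k L
    refine (DTen.rhomHomEquiv _ X' _).symm.injective ?_
    refine ((DTen.rhomAdj A X').homEquiv_counit ..).trans (Eq.trans ?_
      ((DTen.rhomAdj A X').homEquiv_counit ..).symm)
    change (DTen.LTen₂ A).map (Prod.mkHom ((DTen.LTen₂ A).map (Prod.mkHom (𝟙 R) k) ≫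
          DTen.evalHom K' L M) (𝟙 X')) ≫ DTen.ev X' M =
      (DTen.LTen₂ A).map (Prod.mkHom (DTen.evalHom K L M ≫ DTen.RHomMap r M) (𝟙 X')) ≫
        DTen.ev X' M
    have hl : ∀ {a a' a'' : Dual.D A} (f : a ⟶ a') (f' : a' ⟶ a''),
        (DTen.LTen₂ A).map (Prod.mkHom (f ≫ f') (𝟙 X')) =
          (DTen.LTen₂ A).map (Prod.mkHom f (𝟙 _)) ≫ (DTen.LTen₂ A).map (Prod.mkHom f' (𝟙 _)) :=
      fun f f' => by rw [ten_map_comp, Category.comp_id]
    have hsym : ∀ {a a' b b' : Dual.D A} (g : a ⟶ a') (h : b ⟶ b'),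
        (DTen.LTen₂ A).map (Prod.mkHom g h) ≫ (DTen.symm A).app (b', a') =
          (DTen.symm A).app (b, a) ≫ (DTen.LTen₂ A).map (Prod.mkHom h g) := fun {a a' b b'} g h =>
      (DTen.symm A).naturality (X := (b, a)) (Y := (b', a')) (Prod.mkHom h g)
    have inner : (DTen.LTen₂ A).map (Prod.mkHom k (𝟙 X')) ≫ evSymm K' L =
        (DTen.LTen₂ A).map (Prod.mkHom (𝟙 K) r) ≫ evSymm K L := by
      rw [← Category.assoc, ← Category.assoc, hsym, hsym, Category.assoc, Category.assoc,
        DTen.RHom_map_ev]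
    calc _ = (DTen.LTen₂ A).map (Prod.mkHom ((DTen.LTen₂ A).map (Prod.mkHom (𝟙 R) k)) (𝟙 X')) ≫
          DTen.evalHomAux K' L M := by
          rw [hl, Category.assoc, DTen.evalHom_fac]
      _ = (DTen.associator R K X').hom ≫ (DTen.LTen₂ A).map (Prod.mkHom (𝟙 R)
          ((DTen.LTen₂ A).map (Prod.mkHom (𝟙 K) r) ≫ evSymm K L)) ≫ DTen.ev L M := by
          rw [DTen.evalHomAux, ← Category.assoc, associator_naturality, Category.assoc,
            ← Category.assoc ((DTen.LTen₂ A).map _), ten_map_comp, inner, Category.comp_id]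
      _ = (DTen.LTen₂ A).map (Prod.mkHom (𝟙 ((DTen.LTen₂ A).obj (R, K))) r) ≫
          DTen.evalHomAux K L M := by
          have := associator_naturality (𝟙 R) (𝟙 K) r
          rw [show (DTen.LTen₂ A).map (Prod.mkHom (𝟙 R) (𝟙 K)) = 𝟙 _ from (DTen.LTen₂ A).map_id _]
            at this
          rw [DTen.evalHomAux]
          refine Eq.trans ?_ ((Category.assoc _ _ _).symm.trans
            ((congrArg (· ≫ _) this).trans (Category.assoc _ _ _))).symm
          refine congrArg (_ ≫ ·) (Eq.trans ?_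
            ((congrArg (· ≫ DTen.ev L M) (ten_map_comp _ _ _ _).symm).trans (Category.assoc _ _ _)))
          refine congrArg (· ≫ DTen.ev L M) (congrArg (DTen.LTen₂ A).map ?_)
          exact Prod.ext (Category.comp_id _).symm rfl
      _ = _ := by
          rw [hl, Category.assoc, DTen.RHom_map_ev, ← Category.assoc, ← ten_swap, Category.assoc,
            DTen.evalHom_fac]

/-- `RHom(L, M) ⊗^L K ⟶ RHom(RHom(K, L), M)` is invertible for perfect `K`. -/
theorem isIso_evalHom_of_isPerfect (K L M : Dual.D A) (hK : DRing.IsPerfect A K) :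
    IsIso (DTen.evalHom K L M) := by
  haveI := preservesZeroMorphisms_RHom L
  haveI := preservesZeroMorphisms_RHom M
  haveI := preservesZeroMorphisms_LTen ((DTen.RHomR A L).obj M)
  haveI : ((DTen.RHom A).flip.obj L).rightOp.PreservesZeroMorphisms :=
    ⟨fun _ _ => Quiver.Hom.unop_inj (((DTen.RHom A).flip.obj L).map_zero _ _)⟩
  exact isIso_app_of_isPerfect ((homExact_tensorRightD _).of_iso (tenFlipIso _).symm)
    (homExact_RHom_RHom L M) (evalHomNat L M) (fun n => by
      haveI := isEquivalence_tensorRightD_shift_unit (A := A) n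
      exact isIso_evalHom_of_isEquivalence _ L M) hK

end Groth.Agent.KFlatLib
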