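import Groth.Agent.KFlatLib.BaseChange
import Groth.Agent.KFlatLib.TotalMapFlip
import Groth.Prelude.Def_DTen4

/-!
# Restriction of the mixed tensor product of complexes
-/

set_option linter.style.haveILetI false
set_option backward.isDefEq.respectTransparency false

universe v₁ u₁ v₂ u₂ v u v₁' u₁' v₂' u₂' v' u'

open CategoryTheory CategoryTheory.Limits MonoidalCategory

namespace Groth.Agent.KFlatLib

section General

variable {A₁ : Type u₁} [Category.{v₁} A₁] [Preadditive A₁]
  {A₂ : Type u₂} [Category.{v₂} A₂] [Preadditive A₂]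
  {A : Type u} [Category.{v} A] [Abelian A] [∀ S : Type, HasColimitsOfShape (Discrete S) A]
  {B₁ : Type u₁'} [Category.{v₁'} B₁] [Preadditive B₁]
  {B₂ : Type u₂'} [Category.{v₂'} B₂] [Preadditive B₂]
  {B : Type u'} [Category.{v'} B] [Abelian B] [∀ S : Type, HasColimitsOfShape (Discrete S) B]
  {Φ₁ : A₁ ⥤ B₁} {Φ₂ : A₂ ⥤ B₂} {Ψ : A ⥤ B} [Φ₁.Additive] [Φ₂.Additive] [Ψ.Additive]
  {T : A₁ ⥤ A₂ ⥤ A} [T.Additive] [∀ X, (T.obj X).Additive]
  {T' : B₁ ⥤ B₂ ⥤ B} [T'.Additive] [∀ X, (T'.obj X).Additive]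
  (θ : T ⋙ (Functor.whiskeringRight A₂ A B).obj Ψ ≅
    Φ₁ ⋙ T' ⋙ (Functor.whiskeringLeft A₂ B₂ B).obj Φ₂)
  (L : CochainComplex A₁ ℤ) {K K' : CochainComplex A₂ ℤ} (β : K ⟶ K')
  [∀ J : Type, PreservesColimitsOfShape (Discrete J) Ψ]

/-- The comparison of total complexes is natural in the second variable. -/
theorem totalMapIso_hom_naturality_right :
    (T'.map₂CochainComplex.obj ((Φ₁.mapHomologicalComplex (ComplexShape.up ℤ)).obj L)).map
        ((Φ₂.mapHomologicalComplex (ComplexShape.up ℤ)).map β) ≫ (totalMapIso θ L K').hom =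
      (totalMapIso θ L K).hom ≫
        (Ψ.mapHomologicalComplex (ComplexShape.up ℤ)).map ((T.map₂CochainComplex.obj L).map β) := by
  ext n : 1
  refine HomologicalComplex.mapBifunctor.hom_ext (fun p q h => ?_)
  refine (HomologicalComplex.ι_mapBifunctorMap_assoc (𝟙 _) _ T' (ComplexShape.up ℤ) p q n h _).trans ?_
  rw [HomologicalComplex.id_f, CategoryTheory.Functor.map_id, NatTrans.id_app, Category.id_comp]
  rw [HomologicalComplex.comp_f,
    show (totalMapIso θ L K').hom = totalMapHom θ L K' from rfl,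
    show (totalMapIso θ L K).hom = totalMapHom θ L K from rfl]
  erw [ι_totalMapHom θ L K' p q n h, ι_totalMapHom_assoc θ L K p q n h]
  have hn : (T'.obj (Φ₁.obj (L.X p))).map (Φ₂.map (β.f q)) ≫ (θ.inv.app (L.X p)).app (K'.X q) =
      (θ.inv.app (L.X p)).app (K.X q) ≫ Ψ.map ((T.obj (L.X p)).map (β.f q)) :=
    (θ.inv.app (L.X p)).naturality (β.f q)
  show (T'.obj (Φ₁.obj (L.X p))).map (Φ₂.map (β.f q)) ≫ (_ ≫ _) = _
  refine (Category.assoc _ _ _).symm.trans ((congrArg (· ≫ _) hn).trans ?_)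
  refine (Category.assoc _ _ _).trans (Eq.trans ?_ (Category.assoc _ _ _).symm)
  refine congrArg (_ ≫ ·) ?_
  show Ψ.map _ ≫ Ψ.map _ = Ψ.map _ ≫ Ψ.map _
  refine (Ψ.map_comp _ _).symm.trans (Eq.trans ?_ (Ψ.map_comp _ _))
  refine congrArg Ψ.map ?_
  refine Eq.trans ?_ (HomologicalComplex.ι_mapBifunctorMap (𝟙 L) β T (ComplexShape.up ℤ) p q n h).symm
  rw [HomologicalComplex.id_f, CategoryTheory.Functor.map_id, NatTrans.id_app, Category.id_comp]

end General

universe w

variable {R A : Type w} [CommRing R] [CommRing A] (φ : R →+* A)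

/-- `(M, L) ↦ (M ⊗_R A) ⊗_A L`. -/
noncomputable abbrev mixMod : ModuleCat.{w} R ⥤ ModuleCat.{w} A ⥤ ModuleCat.{w} A :=
  ModuleCat.extendScalars φ ⋙ curriedTensor (ModuleCat.{w} A)

instance additive_mixMod_obj (M : ModuleCat.{w} R) : ((mixMod φ).obj M).Additive :=
  inferInstanceAs (tensorLeft _).Additive

instance additive_mixMod : (mixMod φ).Additive where
  map_add {M M' g h} := by
    ext L : 2
    exact (ModuleCat.extendScalars φ ⋙ tensorRight L).map_add (f := g) (g := h)

/-- `((M ⊗_R A) ⊗_A L)|_R = M ⊗_R L|_R`. -/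
noncomputable def mixModIso :
    mixMod φ ⋙ (Functor.whiskeringRight _ _ _).obj (ModuleCat.restrictScalars φ) ≅
      𝟭 (ModuleCat.{w} R) ⋙ curriedTensor (ModuleCat.{w} R) ⋙
        (Functor.whiskeringLeft _ _ _).obj (ModuleCat.restrictScalars φ) :=
  NatIso.ofComponents
    (fun M => NatIso.ofComponents
      (fun L => (ModuleCat.restrictScalars φ).mapIso (β_ ((ModuleCat.extendScalars φ).obj M) L) ≪≫
        ((extTIso φ).app L).app M ≪≫ β_ ((ModuleCat.restrictScalars φ).obj L) M)
      fun {L L'} g => by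
        have h₁ := congrArg (ModuleCat.restrictScalars φ).map
          (BraidedCategory.braiding_naturality_right ((ModuleCat.extendScalars φ).obj M) g)
        have h₂ := NatTrans.congr_app ((extTIso φ).hom.naturality g) M
        have h₃ := BraidedCategory.braiding_naturality_left ((ModuleCat.restrictScalars φ).map g) M
        simp only [Functor.map_comp] at h₁
        dsimp at h₁ h₂ h₃ ⊢
        simp only [Category.assoc]
        rw [reassoc_of% h₁]
        erw [reassoc_of% h₂]
        exact congrArg (fun z => _ ≫ _ ≫ z) h₃)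
    fun {M M'} g => by
      ext L : 2
      have h₁ := congrArg (ModuleCat.restrictScalars φ).map
        (BraidedCategory.braiding_naturality_left ((ModuleCat.extendScalars φ).map g) L)
      have h₂ := ((extTIso φ).hom.app L).naturality g
      have h₃ := BraidedCategory.braiding_naturality_right ((ModuleCat.restrictScalars φ).obj L) g
      simp only [Functor.map_comp] at h₁
      dsimp at h₁ h₂ h₃ ⊢
      simp only [Category.assoc]
      rw [reassoc_of% h₁]
      erw [reassoc_of% h₂]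
      exact congrArg (fun z => _ ≫ _ ≫ z) h₃

/-- `(K, N) ↦ (K ⊗_R A) ⊗_A N` as one total complex. -/
noncomputable def mixTIso (K : DRing.Cx R) (N : DRing.Cx A) :
    (DTen.mixT φ).obj (K, N) ≅ ((mixMod φ).map₂CochainComplex.obj K).obj N :=
  totalMapIso (Φ₁ := ModuleCat.extendScalars φ) (Φ₂ := 𝟭 (ModuleCat.{w} A))
    (Ψ := 𝟭 (ModuleCat.{w} A)) (T := mixMod φ) (T' := curriedTensor (ModuleCat.{w} A))
    (Iso.refl _) K N

/-- `((K ⊗_R A) ⊗_A N)|_R = K ⊗_R N|_R`. -/
noncomputable def mixResIso (K : DRing.Cx R) (N : DRing.Cx A) :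
    (DTen.resCx φ).obj ((DTen.mixT φ).obj (K, N)) ≅
      ((curriedTensor (ModuleCat.{w} R)).map₂CochainComplex.obj K).obj ((DTen.resCx φ).obj N) :=
  (DTen.resCx φ).mapIso (mixTIso φ K N) ≪≫ (totalMapIso (mixModIso φ) K N).symm

lemma mixResIso_natural_left {K K' : DRing.Cx R} (f : K ⟶ K') (N : DRing.Cx A) :
    (DTen.resCx φ).map ((DTen.mixT φ).map (Prod.mkHom f (𝟙 N))) ≫ (mixResIso φ K' N).hom =
      (mixResIso φ K N).hom ≫
        ((curriedTensor (ModuleCat.{w} R)).map₂CochainComplex.map f).app ((DTen.resCx φ).obj N) := by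
  have h₁ : (DTen.mixT φ).map (Prod.mkHom f (𝟙 N)) ≫ (mixTIso φ K' N).hom =
      (mixTIso φ K N).hom ≫ ((mixMod φ).map₂CochainComplex.map f).app N := by
    refine Eq.trans ?_ (H9Misc.TotalMapNat.totalMapIso_hom_naturality (Φ₁ := ModuleCat.extendScalars φ)
      (Φ₂ := 𝟭 (ModuleCat.{w} A)) (Ψ := 𝟭 (ModuleCat.{w} A)) (T := mixMod φ)
      (T' := curriedTensor (ModuleCat.{w} A)) (Iso.refl _) f N)
    refine congrArg (· ≫ (mixTIso φ K' N).hom) ?_
    change ((curriedTensor (ModuleCat.{w} A)).map₂CochainComplex.map ((DTen.extCx φ).map f)).app N ≫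
      ((curriedTensor (ModuleCat.{w} A)).map₂CochainComplex.obj _).map (𝟙 N) = _
    rw [CategoryTheory.Functor.map_id]
    exact Category.comp_id _
  have h₂ : (DTen.resCx φ).map (((mixMod φ).map₂CochainComplex.map f).app N) ≫
      (totalMapIso (mixModIso φ) K' N).inv = (totalMapIso (mixModIso φ) K N).inv ≫
        ((curriedTensor (ModuleCat.{w} R)).map₂CochainComplex.map f).app ((DTen.resCx φ).obj N) := by
    rw [Iso.comp_inv_eq, Category.assoc, Iso.eq_inv_comp]
    exact (H9Misc.TotalMapNat.totalMapIso_hom_naturality (mixModIso φ) f N).symm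
  simp only [mixResIso, Iso.trans_hom, Functor.mapIso_hom, Iso.symm_hom, Category.assoc]
  rw [← Functor.map_comp_assoc, h₁, Functor.map_comp_assoc]
  exact congrArg (_ ≫ ·) h₂

lemma mixResIso_natural_right (K : DRing.Cx R) {N N' : DRing.Cx A} (g : N ⟶ N') :
    (DTen.resCx φ).map ((DTen.mixT φ).map (Prod.mkHom (𝟙 K) g)) ≫ (mixResIso φ K N').hom =
      (mixResIso φ K N).hom ≫
        ((curriedTensor (ModuleCat.{w} R)).map₂CochainComplex.obj K).map ((DTen.resCx φ).map g) := by
  have h₁ : (DTen.mixT φ).map (Prod.mkHom (𝟙 K) g) ≫ (mixTIso φ K N').hom =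
      (mixTIso φ K N).hom ≫ ((mixMod φ).map₂CochainComplex.obj K).map g := by
    refine Eq.trans ?_ (totalMapIso_hom_naturality_right (Φ₁ := ModuleCat.extendScalars φ)
      (Φ₂ := 𝟭 (ModuleCat.{w} A)) (Ψ := 𝟭 (ModuleCat.{w} A)) (T := mixMod φ)
      (T' := curriedTensor (ModuleCat.{w} A)) (Iso.refl _) K g)
    refine congrArg (· ≫ (mixTIso φ K N').hom) ?_
    change ((curriedTensor (ModuleCat.{w} A)).map₂CochainComplex.map ((DTen.extCx φ).map (𝟙 K))).app N ≫
      ((curriedTensor (ModuleCat.{w} A)).map₂CochainComplex.obj _).map g = _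
    rw [CategoryTheory.Functor.map_id, CategoryTheory.Functor.map_id]
    exact Category.id_comp _
  have h₂ : (DTen.resCx φ).map (((mixMod φ).map₂CochainComplex.obj K).map g) ≫
      (totalMapIso (mixModIso φ) K N').inv = (totalMapIso (mixModIso φ) K N).inv ≫
        ((curriedTensor (ModuleCat.{w} R)).map₂CochainComplex.obj K).map ((DTen.resCx φ).map g) := by
    rw [Iso.comp_inv_eq, Category.assoc, Iso.eq_inv_comp]
    exact (totalMapIso_hom_naturality_right (mixModIso φ) K g).symm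
  simp only [mixResIso, Iso.trans_hom, Functor.mapIso_hom, Iso.symm_hom, Category.assoc]
  rw [← Functor.map_comp_assoc, h₁, Functor.map_comp_assoc]
  exact congrArg (_ ≫ ·) h₂

end Groth.Agent.KFlatLib
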