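import Groth.Agent.KFlatLib.Ring.CompactPerfect
import Groth.Agent.KFlatLib.Ring.MixRes
import Groth.Agent.KFlatLib.Ring.DerivedInduction
import Groth.Agent.KFlatLib.Ring.LTen
import Groth.Agent.KFlatLib.Ring.EvalPseudoCoherent

/-!
# The relative internal hom out of a perfect algebra
-/

set_option linter.style.haveILetI false
set_option backward.isDefEq.respectTransparency false

universe u

open CategoryTheory CategoryTheory.Limits Pretriangulated MonoidalCategory

attribute [local instance] HasDerivedCategory.standard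

namespace Groth.Agent.KFlatLib

section Unit

variable {A : Type u} [CommRing A] (n : ℤ)

/-- The shifted unit complex. -/
noncomputable abbrev unitSh (A : Type u) [CommRing A] (n : ℤ) : DRing.Cx A := (𝟙_ (DRing.Cx A))⟦n⟧

/-- `A[n] ⊗ L = L[n]`. -/
noncomputable def unitShTen :
    (curriedTensor (ModuleCat.{u} A)).map₂CochainComplex.obj (unitSh A n) ≅
      shiftFunctor (DRing.Cx A) n :=
  NatIso.ofComponents (fun L =>
      (((curriedTensor (ModuleCat.{u} A)).map₂CochainComplex.flip.obj L).commShiftIso n).app (𝟙_ _) ≪≫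
        (shiftFunctor (DRing.Cx A) n).mapIso (λ_ L)) fun {L L'} g => by
    let T := curriedTensor (ModuleCat.{u} A)
    let U : DRing.Cx A := 𝟙_ (DRing.Cx A)
    have h1 := NatTrans.shift_app_comm (T.map₂CochainComplex.flip.map g) n U
    have h2 : (T.map₂CochainComplex.flip.map g).app U ≫ (λ_ L').hom = (λ_ L).hom ≫ g := by
      refine Eq.trans (congrArg (· ≫ (λ_ L').hom) ?_) (leftUnitor_naturality g)
      rfl
    dsimp only [Iso.trans_hom, Iso.app_hom, Functor.mapIso_hom]
    refine (Category.assoc _ _ _).symm.trans ?_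
    erw [← h1]
    refine (Category.assoc _ _ _).trans (Eq.trans ?_ (Category.assoc _ _ _).symm)
    refine congrArg (((T.map₂CochainComplex.flip.obj L).commShiftIso n).hom.app U ≫ ·) ?_
    erw [← Functor.map_comp, ← Functor.map_comp, h2]

lemma kFlat_unitSh : KFlat (curriedTensor (ModuleCat.{u} A)) (unitSh A n) :=
  (show KFlat (curriedTensor (ModuleCat.{u} A)) (𝟙_ (DRing.Cx A)) from
    fun L hL i => (hL i).of_iso ((HomologicalComplex.homologyFunctor _ _ i).mapIso (ρ_ L))).shift n

end Unit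

variable {R A : Type u} [CommRing R] [CommRing A] (φ : R →+* A)

/-- `A ⊗_R R = A`. -/
noncomputable def extendUnitIso :
    (ModuleCat.extendScalars.{u, u, u} φ).obj (ModuleCat.of R R) ≅ ModuleCat.of A A :=
  letI : Algebra R A := φ.toAlgebra
  LinearEquiv.toModuleIso (m₁ := ((ModuleCat.extendScalars.{u, u, u} φ).obj (ModuleCat.of R R)).isModule)
    { toFun := fun z => TensorProduct.AlgebraTensorModule.rid R A A z
      invFun := fun z => (TensorProduct.AlgebraTensorModule.rid R A A).symm z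
      left_inv := LinearEquiv.symm_apply_apply _
      right_inv := LinearEquiv.apply_symm_apply _
      map_add' := map_add _
      map_smul' := fun a z => (TensorProduct.AlgebraTensorModule.rid R A A).map_smul a z }

/-- Base change of a shift of the unit. -/
noncomputable def extUnitShIso (n : ℤ) : (DTen.extCx φ).obj (unitSh R n) ≅ unitSh A n :=
  ((DTen.extCx φ).commShiftIso n).app _ ≪≫ (shiftFunctor (DRing.Cx A) n).mapIso
    ((HomologicalComplex.singleMapHomologicalComplex (ModuleCat.extendScalars.{u, u, u} φ)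
        (ComplexShape.up ℤ) 0).app (ModuleCat.of R R) ≪≫
      (HomologicalComplex.single (ModuleCat.{u} A) (ComplexShape.up ℤ) 0).mapIso (extendUnitIso φ))

/-- `K ↦ (K ⊗_R A) ⊗_A N`. -/
noncomputable def mixN (N : DRing.Cx A) : DRing.Cx R ⥤ DRing.Cx A :=
  DTen.extCx φ ⋙ (curriedTensor (ModuleCat.{u} A)).map₂CochainComplex.flip.obj N

/-- The right unitor, with its source written as a total complex. -/
noncomputable def rhoN (K : DRing.Cx R) :
    ((curriedTensor (ModuleCat.{u} R)).map₂CochainComplex.obj K).obj (𝟙_ (DRing.Cx R)) ≅ K :=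
  ρ_ K

lemma mixT_map_left {K K' : DRing.Cx R} (f : K ⟶ K') (N : DRing.Cx A) :
    (DTen.mixT φ).map (Prod.mkHom f (𝟙 N)) = (mixN φ N).map f := by
  change ((curriedTensor (ModuleCat.{u} A)).map₂CochainComplex.map ((DTen.extCx φ).map f)).app N ≫
    ((curriedTensor (ModuleCat.{u} A)).map₂CochainComplex.obj _).map (𝟙 N) = _
  rw [CategoryTheory.Functor.map_id]
  exact Category.comp_id _

lemma mixT_map_right (K : DRing.Cx R) {N N' : DRing.Cx A} (g : N ⟶ N') :
    (DTen.mixT φ).map (Prod.mkHom (𝟙 K) g) =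
      ((curriedTensor (ModuleCat.{u} A)).map₂CochainComplex.obj ((DTen.extCx φ).obj K)).map g := by
  change ((curriedTensor (ModuleCat.{u} A)).map₂CochainComplex.map
      ((DTen.extCx φ).map (𝟙 K))).app N ≫
    ((curriedTensor (ModuleCat.{u} A)).map₂CochainComplex.obj _).map g = _
  rw [CategoryTheory.Functor.map_id, CategoryTheory.Functor.map_id]
  exact Category.id_comp _

/-- `mixResIso` for `mixN`. -/
noncomputable def mixResN (K : DRing.Cx R) (N : DRing.Cx A) :
    (DTen.resCx φ).obj ((mixN φ N).obj K) ≅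
      ((curriedTensor (ModuleCat.{u} R)).map₂CochainComplex.obj K).obj ((DTen.resCx φ).obj N) :=
  mixResIso φ K N

lemma mixResN_natural_left {K K' : DRing.Cx R} (f : K ⟶ K') (N : DRing.Cx A) :
    (DTen.resCx φ).map ((mixN φ N).map f) ≫ (mixResN φ K' N).hom = (mixResN φ K N).hom ≫
      ((curriedTensor (ModuleCat.{u} R)).map₂CochainComplex.map f).app ((DTen.resCx φ).obj N) :=
  (congrArg (fun z => (DTen.resCx φ).map z ≫ (mixResIso φ K' N).hom)
    (mixT_map_left φ f N).symm).trans (mixResIso_natural_left φ f N)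

/-- `(K ⊗_R A) ⊗_A g`. -/
noncomputable abbrev mixRight (K : DRing.Cx R) {N N' : DRing.Cx A} (g : N ⟶ N') :
    (mixN φ N).obj K ⟶ (mixN φ N').obj K :=
  ((curriedTensor (ModuleCat.{u} A)).map₂CochainComplex.obj ((DTen.extCx φ).obj K)).map g

lemma mixResN_natural_right (K : DRing.Cx R) {N N' : DRing.Cx A} (g : N ⟶ N') :
    (DTen.resCx φ).map (mixRight φ K g) ≫ (mixResN φ K N').hom = (mixResN φ K N).hom ≫
      ((curriedTensor (ModuleCat.{u} R)).map₂CochainComplex.obj K).map ((DTen.resCx φ).map g) :=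
  (congrArg (fun z => (DTen.resCx φ).map z ≫ (mixResIso φ K N').hom)
    (mixT_map_right φ K g).symm).trans (mixResIso_natural_right φ K g)

/-- `(R[n] ⊗_R A) ⊗_A N = N[n]`. -/
noncomputable def mixShIso (n : ℤ) (N : DRing.Cx A) :
    (mixN φ N).obj (unitSh R n) ≅ N⟦n⟧ :=
  ((curriedTensor (ModuleCat.{u} A)).map₂CochainComplex.mapIso (extUnitShIso φ n)).app N ≪≫
    (unitShTen n).app N

lemma mixShIso_natural (n : ℤ) {N N' : DRing.Cx A} (g : N ⟶ N') :
    mixRight φ (unitSh R n) g ≫ (mixShIso φ n N').hom =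
      (mixShIso φ n N).hom ≫ g⟦n⟧' := by
  simp only [mixShIso, Iso.trans_hom, Iso.app_hom, Functor.mapIso_hom, Category.assoc]
  erw [← Category.assoc,
    ((curriedTensor (ModuleCat.{u} A)).map₂CochainComplex.map (extUnitShIso φ n).hom).naturality g,
    Category.assoc]
  exact congrArg (_ ≫ ·) ((unitShTen (A := A) n).hom.naturality g)

/-- Morphisms of restricted complexes commuting with scalars are restricted morphisms. -/
lemma exists_resCx_preimage {Y Y' : DRing.Cx A} (h : (DTen.resCx φ).obj Y ⟶ (DTen.resCx φ).obj Y')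
    (hlin : ∀ a : A, (DTen.resCx φ).map (a • 𝟙 Y) ≫ h = h ≫ (DTen.resCx φ).map (a • 𝟙 Y')) :
    ∃ H : Y ⟶ Y', (DTen.resCx φ).map H = h := by
  have hs : ∀ (i : ℤ) (a : A) (y : Y.X i),
      (h.f i).hom (show ((DTen.resCx φ).obj Y).X i from a • y) =
        (show ((DTen.resCx φ).obj Y').X i from a • (show Y'.X i from (h.f i).hom y)) := fun i a y =>
    ConcreteCategory.congr_hom (congrArg (fun z => HomologicalComplex.Hom.f z i) (hlin a)) y
  refine ⟨{ f := fun i => ModuleCat.ofHom
              { toFun := fun y => (show Y'.X i from (h.f i).hom y)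
                map_add' := fun x y => map_add (h.f i).hom x y
                map_smul' := hs i }
            comm' := fun i j hij => ModuleCat.hom_ext (LinearMap.ext fun y => ?_) }, rfl⟩
  exact ConcreteCategory.congr_hom (h.comm' i j hij) y

/-- The comparison of the two identifications of `((R[n] ⊗_R A) ⊗_A N)|_R`. -/
noncomputable def shDiscr (n : ℤ) (N : DRing.Cx A) :
    (DTen.resCx φ).obj (N⟦n⟧) ≅ (DTen.resCx φ).obj (N⟦n⟧) :=
  (DTen.resCx φ).mapIso (mixShIso φ n N).symm ≪≫ mixResN φ (unitSh R n) N ≪≫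
    (unitShTen n).app ((DTen.resCx φ).obj N) ≪≫ (((DTen.resCx φ).commShiftIso n).app N).symm

lemma shDiscr_natural (n : ℤ) {N N' : DRing.Cx A} (g : N ⟶ N') :
    (DTen.resCx φ).map (g⟦n⟧') ≫ (shDiscr φ n N').hom =
      (shDiscr φ n N).hom ≫ (DTen.resCx φ).map (g⟦n⟧') := by
  have h₁ : g⟦n⟧' ≫ (mixShIso φ n N').inv =
      (mixShIso φ n N).inv ≫ mixRight φ (unitSh R n) g := by
    rw [Iso.comp_inv_eq, Category.assoc, mixShIso_natural, Iso.inv_hom_id_assoc]
  have h₃ := (unitShTen (A := R) n).hom.naturality ((DTen.resCx φ).map g)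
  have h₄ := ((DTen.resCx φ).commShiftIso n).inv.naturality g
  simp only [Functor.comp_map] at h₄
  simp only [shDiscr, Iso.trans_hom, Functor.mapIso_hom, Iso.symm_hom, Iso.app_hom, Iso.app_inv,
    Category.assoc]
  rw [← Functor.map_comp_assoc, h₁, Functor.map_comp_assoc,
    reassoc_of% (mixResN_natural_right φ (unitSh R n) g)]
  erw [reassoc_of% h₃]
  exact congrArg (fun z => _ ≫ _ ≫ _ ≫ z) h₄

/-- The identification of `((R[n] ⊗_R A) ⊗_A N)|_R` is linear. -/
lemma exists_mixShift (n : ℤ) (N : DRing.Cx A) :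
    ∃ j : (mixN φ N).obj (unitSh R n) ≅ N⟦n⟧,
      (DTen.resCx φ).map j.hom ≫ ((DTen.resCx φ).commShiftIso n).hom.app N =
        (mixResN φ (unitSh R n) N).hom ≫ (unitShTen n).hom.app ((DTen.resCx φ).obj N) := by
  let d := shDiscr φ n N
  have hsm : ∀ a : A, (a • 𝟙 N)⟦n⟧' = a • 𝟙 (N⟦n⟧) := fun a => by
    ext i : 1
    rfl
  have hd : ∀ a : A, (DTen.resCx φ).map (a • 𝟙 (N⟦n⟧)) ≫ d.hom =
      d.hom ≫ (DTen.resCx φ).map (a • 𝟙 (N⟦n⟧)) := fun a => by
    rw [← hsm]
    exact shDiscr_natural φ n (a • 𝟙 N)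
  obtain ⟨H, hH⟩ := exists_resCx_preimage φ d.hom hd
  obtain ⟨H', hH'⟩ := exists_resCx_preimage φ d.inv fun a => by
    rw [Iso.comp_inv_eq, Category.assoc, hd a, Iso.inv_hom_id_assoc]
  have hinj : ∀ {Y Y' : DRing.Cx A} (f g : Y ⟶ Y'),
      (DTen.resCx φ).map f = (DTen.resCx φ).map g → f = g := fun f g hfg =>
    (DTen.resCx φ).map_injective hfg
  let eH : N⟦n⟧ ≅ N⟦n⟧ := ⟨H, H', hinj _ _ (by simp [hH, hH']), hinj _ _ (by simp [hH, hH'])⟩
  refine ⟨mixShIso φ n N ≪≫ eH, ?_⟩
  simp only [Iso.trans_hom, Functor.map_comp, Category.assoc, eH, hH, d, shDiscr, Functor.mapIso_hom,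
    Iso.symm_hom, Iso.app_hom, Iso.app_inv, Iso.inv_hom_id_app]
  rw [← Functor.map_comp_assoc, Iso.hom_inv_id, CategoryTheory.Functor.map_id, Category.id_comp]
  exact congrArg (_ ≫ ·) (Category.comp_id _)

/-- The data of the adjoint map: a complex `N` over `A` with a map `N|_R ⟶ R`. -/
structure EvData where
  /-- the complex -/
  N : DRing.Cx A
  /-- a K-injective model of the unit -/
  M : DRing.Cx R
  /-- the evaluation -/
  a : (DTen.resCx φ).obj N ⟶ M
  /-- the resolution -/
  b : 𝟙_ (DRing.Cx R) ⟶ M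
  hb : QuasiIso b

variable {φ} (D : EvData φ)

/-- The class of the evaluation. -/
noncomputable def EvData.ev : (DRing.restrictD φ).obj (DerivedCategory.Q.obj D.N) ⟶ DTen.unit R :=
  haveI := D.hb
  (DTen.resFactors φ).hom.app D.N ≫ DerivedCategory.Q.map D.a ≫ inv (DerivedCategory.Q.map D.b)

/-- `((K ⊗_R A) ⊗_A N)|_R ⟶ K` for K-flat `K`. -/
noncomputable def EvData.γ (K : DRing.Cx R) (hK : KFlat (curriedTensor (ModuleCat.{u} R)) K) :
    (DRing.restrictD φ).obj (DerivedCategory.Q.obj ((mixN φ D.N).obj K)) ⟶ DerivedCategory.Q.obj K :=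
  haveI := D.hb
  haveI := quasiIso_tensorHom_id D.b hK
  (DTen.resFactors φ).hom.app _ ≫
    DerivedCategory.Q.map ((mixResN φ K D.N).hom ≫
      ((curriedTensor (ModuleCat.{u} R)).map₂CochainComplex.obj K).map D.a) ≫
    inv (DerivedCategory.Q.map (((curriedTensor (ModuleCat.{u} R)).map₂CochainComplex.obj K).map D.b)) ≫
    DerivedCategory.Q.map (rhoN K).hom

lemma EvData.γ_natural {K K' : DRing.Cx R} (hK : KFlat (curriedTensor (ModuleCat.{u} R)) K)
    (hK' : KFlat (curriedTensor (ModuleCat.{u} R)) K') (f : K ⟶ K') :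
    (DRing.restrictD φ).map (DerivedCategory.Q.map ((mixN φ D.N).map f)) ≫ D.γ K' hK' =
      D.γ K hK ≫ DerivedCategory.Q.map f := by
  haveI := D.hb
  haveI := quasiIso_tensorHom_id D.b hK
  haveI := quasiIso_tensorHom_id D.b hK'
  let T := (curriedTensor (ModuleCat.{u} R)).map₂CochainComplex
  have h₁ : (DTen.resCx φ).map ((mixN φ D.N).map f) ≫ (mixResN φ K' D.N).hom ≫ (T.obj K').map D.a =
      ((mixResN φ K D.N).hom ≫ (T.obj K).map D.a) ≫ (T.map f).app D.M := by
    rw [reassoc_of% (mixResN_natural_left φ f D.N), Category.assoc]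
    exact congrArg (_ ≫ ·) ((T.map f).naturality D.a).symm
  have h₂ : DerivedCategory.Q.map ((T.map f).app D.M) ≫ inv (DerivedCategory.Q.map ((T.obj K').map D.b)) =
      inv (DerivedCategory.Q.map ((T.obj K).map D.b)) ≫ DerivedCategory.Q.map ((T.map f).app (𝟙_ _)) := by
    rw [IsIso.comp_inv_eq, Category.assoc, IsIso.eq_inv_comp, ← Functor.map_comp, ← Functor.map_comp]
    exact congrArg _ ((T.map f).naturality D.b)
  have h₃ : (T.map f).app (𝟙_ _) ≫ (rhoN K').hom = (rhoN K).hom ≫ f := by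
    refine Eq.trans (congrArg (· ≫ (ρ_ K').hom) ?_) (rightUnitor_naturality f)
    rfl
  have h₀ := (DTen.resFactors φ).hom.naturality ((mixN φ D.N).map f)
  simp only [Functor.comp_map] at h₀
  simp only [EvData.γ, Category.assoc]
  erw [reassoc_of% h₀]
  rw [← Functor.map_comp_assoc, h₁, Functor.map_comp_assoc, reassoc_of% h₂,
    ← Functor.map_comp, h₃, ← Functor.map_comp]

/-- The evaluation at a shift of the unit is the shift of the evaluation. -/
lemma EvData.bijective_γ_unitSh
    (hD : ∀ Z : Dual.D A, Function.Bijective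
      fun g : Z ⟶ DerivedCategory.Q.obj D.N => (DRing.restrictD φ).map g ≫ D.ev)
    (n : ℤ) (Z : Dual.D A) :
    Function.Bijective fun g : Z ⟶ DerivedCategory.Q.obj ((mixN φ D.N).obj (unitSh R n)) =>
      (DRing.restrictD φ).map g ≫ D.γ (unitSh R n) (kFlat_unitSh n) := by
  haveI := D.hb
  haveI := quasiIso_tensorHom_id D.b (kFlat_unitSh (A := R) n)
  let T := (curriedTensor (ModuleCat.{u} R)).map₂CochainComplex
  let Q' := (DerivedCategory.Q : DRing.Cx R ⥤ Dual.D R)
  obtain ⟨j, hj⟩ := exists_mixShift φ n D.N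
  let e₁ : DerivedCategory.Q.obj ((mixN φ D.N).obj (unitSh R n)) ≅
      (DerivedCategory.Q.obj D.N)⟦n⟧ :=
    DerivedCategory.Q.mapIso j ≪≫ (DerivedCategory.Q.commShiftIso n).app D.N
  let e' : (DTen.unit R)⟦n⟧ ≅ DerivedCategory.Q.obj (unitSh R n) :=
    ((DerivedCategory.Q.commShiftIso n).app (𝟙_ (DRing.Cx R))).symm ≪≫
      DerivedCategory.Q.mapIso ((unitShTen n).app (𝟙_ (DRing.Cx R))).symm ≪≫
      DerivedCategory.Q.mapIso (rhoN (unitSh R n))
  let Zc := shiftEquiv (Dual.D A) n
  have key : D.γ (unitSh R n) (kFlat_unitSh n) = (DRing.restrictD φ).map e₁.hom ≫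
      ((DRing.restrictD φ).commShiftIso n).hom.app (DerivedCategory.Q.obj D.N) ≫ D.ev⟦n⟧' ≫ e'.hom := by
    have f₁ := (DTen.resFactors φ).hom.naturality j.hom
    simp only [Functor.comp_map] at f₁
    have f₂ := NatTrans.shift_app_comm (DTen.resFactors φ).hom n D.N
    simp only [Functor.commShiftIso_comp_hom_app, Category.assoc] at f₂
    have f₃ : (DRing.restrictD φ).map ((DerivedCategory.Q.commShiftIso n).hom.app D.N) ≫
        ((DRing.restrictD φ).commShiftIso n).hom.app (DerivedCategory.Q.obj D.N) ≫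
          ((DTen.resFactors φ).hom.app D.N)⟦n⟧' =
        (DTen.resFactors φ).hom.app (D.N⟦n⟧) ≫
          DerivedCategory.Q.map (((DTen.resCx φ).commShiftIso n).hom.app D.N) ≫
            (DerivedCategory.Q.commShiftIso n).hom.app ((DTen.resCx φ).obj D.N) := f₂
    have f₄ : DerivedCategory.Q.map (((curriedTensor (ModuleCat.{u} R)).map₂CochainComplex.obj (unitSh R n)).map D.a) =
        DerivedCategory.Q.map ((unitShTen n).hom.app ((DTen.resCx φ).obj D.N)) ≫
          DerivedCategory.Q.map (D.a⟦n⟧') ≫ DerivedCategory.Q.map ((unitShTen n).inv.app D.M) := by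
      rw [← Functor.map_comp, ← Functor.map_comp]
      exact congrArg _ (((Category.assoc _ _ _).symm.trans ((congrArg (· ≫ (unitShTen n).inv.app D.M)
        ((unitShTen n).hom.naturality D.a).symm).trans ((Category.assoc _ _ _).trans
          ((congrArg (_ ≫ ·) ((unitShTen n).hom_inv_id_app D.M)).trans (Category.comp_id _))))).symm)
    have f₅ : inv (DerivedCategory.Q.map (((curriedTensor (ModuleCat.{u} R)).map₂CochainComplex.obj (unitSh R n)).map D.b)) =
        DerivedCategory.Q.map ((unitShTen n).hom.app D.M) ≫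
          (DerivedCategory.Q.commShiftIso n).hom.app D.M ≫ (inv (DerivedCategory.Q.map D.b))⟦n⟧' ≫
            (DerivedCategory.Q.commShiftIso n).inv.app (𝟙_ (DRing.Cx R)) ≫
              DerivedCategory.Q.map ((unitShTen n).inv.app (𝟙_ (DRing.Cx R))) := by
      refine IsIso.inv_eq_of_hom_inv_id ?_
      rw [← Functor.map_comp_assoc, (unitShTen n).hom.naturality D.b, Functor.map_comp, Category.assoc]
      have := (DerivedCategory.Q.commShiftIso n).hom.naturality D.b
      simp only [Functor.comp_map] at this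
      erw [reassoc_of% this, ← Functor.map_comp_assoc, IsIso.hom_inv_id, CategoryTheory.Functor.map_id,
        Category.id_comp, Iso.hom_inv_id_app_assoc, ← Functor.map_comp, Iso.hom_inv_id_app,
        CategoryTheory.Functor.map_id]
    have f₆ : DerivedCategory.Q.map ((unitShTen n).inv.app D.M) ≫
        DerivedCategory.Q.map ((unitShTen n).hom.app D.M) = 𝟙 _ := by
      rw [← Functor.map_comp, Iso.inv_hom_id_app]
      exact DerivedCategory.Q.map_id _
    have f₇ := (DerivedCategory.Q.commShiftIso n).hom.naturality D.a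
    simp only [Functor.comp_map] at f₇
    simp only [EvData.γ, Functor.map_comp, f₄, f₅, Category.assoc, e₁, e', Iso.trans_hom,
      Functor.mapIso_hom, Iso.app_hom, Iso.symm_hom, Iso.app_inv, EvData.ev]
    rw [reassoc_of% f₆, reassoc_of% f₇]
    erw [reassoc_of% f₃, reassoc_of% f₁]
    rw [← Functor.map_comp_assoc, ← hj, Functor.map_comp, Category.assoc]
  have hb₂ : ∀ W : Dual.D A, Function.Bijective fun g : W ⟶ (DerivedCategory.Q.obj D.N)⟦n⟧ =>
      (DRing.restrictD φ).map g ≫ ((DRing.restrictD φ).commShiftIso n).hom.app _ ≫ D.ev⟦n⟧' := by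
    intro W
    let c := (shiftFunctorCompIsoId (Dual.D A) (-n) n (by omega)).app W
    have hn : ∀ g' : W⟦-n⟧ ⟶ DerivedCategory.Q.obj D.N,
        (DRing.restrictD φ).map (c.inv ≫ g'⟦n⟧') ≫ ((DRing.restrictD φ).commShiftIso n).hom.app _ ≫
          D.ev⟦n⟧' = ((DRing.restrictD φ).map c.inv ≫
            ((DRing.restrictD φ).commShiftIso n).hom.app _) ≫ ((DRing.restrictD φ).map g' ≫ D.ev)⟦n⟧' := by
      intro g'
      simp only [Functor.map_comp, Category.assoc]
      exact congrArg (_ ≫ ·) (((DRing.restrictD φ).commShiftIso n).hom.naturality_assoc g' _)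
    have hsurj : ∀ g : W ⟶ (DerivedCategory.Q.obj D.N)⟦n⟧, ∃ g', c.inv ≫ g'⟦n⟧' = g := fun g => by
      obtain ⟨g', hg'⟩ := (shiftFunctor (Dual.D A) n).map_surjective (c.hom ≫ g)
      exact ⟨g', by rw [hg', Iso.inv_hom_id_assoc]⟩
    refine ⟨fun g₁ g₂ h => ?_, fun y => ?_⟩
    · obtain ⟨g₁, rfl⟩ := hsurj g₁
      obtain ⟨g₂, rfl⟩ := hsurj g₂
      simp only [hn] at h
      rw [(hD _).1 ((shiftFunctor (Dual.D R) n).map_injective ((cancel_epi _).1 h))]
    · obtain ⟨z, hz⟩ := (shiftFunctor (Dual.D R) n).map_surjective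
        (inv ((DRing.restrictD φ).map c.inv ≫ ((DRing.restrictD φ).commShiftIso n).hom.app _) ≫ y)
      obtain ⟨g', hg'⟩ := (hD _).2 z
      exact ⟨c.inv ≫ g'⟦n⟧', by
        simp only at hg' ⊢
        rw [hn, hg', hz, IsIso.hom_inv_id_assoc]⟩
  refine ⟨fun g₁ g₂ h => (cancel_mono e₁.hom).1 ((hb₂ Z).1 ((cancel_mono e'.hom).1 ?_)), fun y => ?_⟩
  · simp only [key] at h
    simpa only [Functor.map_comp, Category.assoc] using h
  · obtain ⟨g, hg⟩ := (hb₂ Z).2 (y ≫ e'.inv)
    refine ⟨g ≫ e₁.inv, ?_⟩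
    simp only [key, Functor.map_comp, Category.assoc] at hg ⊢
    have hc : (DRing.restrictD φ).map e₁.inv ≫ (DRing.restrictD φ).map e₁.hom = 𝟙 _ :=
      ((DRing.restrictD φ).mapIso e₁).inv_hom_id
    rw [reassoc_of% hc]
    erw [reassoc_of% hg, Iso.inv_hom_id, Category.comp_id]

end Groth.Agent.KFlatLib
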