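import Groth.Agent.KFlatLib.Ring.RhomBC
import Groth.Agent.KFlatLib.Ring.RelPerfect
import Groth.Agent.KFlatLib.Ring.SymMonoidal
import Groth.Agent.KFlatLib.Ring.EvalPerfect
import Mathlib.CategoryTheory.Triangulated.Adjunction

/-!
# Base change for derived hom out of a perfect object
-/

set_option linter.style.haveILetI false
set_option backward.isDefEq.respectTransparency false

universe u

open CategoryTheory CategoryTheory.Limits Pretriangulated MonoidalCategory Opposite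

open Pretriangulated.Opposite

attribute [local instance] HasDerivedCategory.standard

namespace Groth.Agent.KFlatLib

variable {R A : Type u} [CommRing R] [CommRing A] (φ : R →+* A)
  [DTen.HasLTen R] [DTen.HasLTen A] [DTen.HasRHom R] [DTen.HasRHom A] [DTen.HasLBase φ]
  [DTen.HasResTen φ] [DTen.ResLegIso φ]

omit [DTen.HasLTen R] [DTen.HasLTen A] [DTen.HasRHom R] [DTen.HasRHom A] [DTen.HasResTen φ]
  [DTen.ResLegIso φ] in
/-- Derived base change preserves distinguished triangles. -/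
lemma exists_triangle_LBase (T : Triangle (Dual.D R)) (hT : T ∈ distTriang _) :
    ∃ c, Triangle.mk ((DTen.LBase φ).map T.mor₁) ((DTen.LBase φ).map T.mor₂) c ∈ distTriang _ := by
  letI := (DTen.baseAdj φ).leftAdjointCommShift ℤ
  haveI : (DTen.baseAdj φ).CommShift ℤ := (DTen.baseAdj φ).commShift_of_rightAdjoint ℤ
  haveI : (DRing.restrictD φ).IsTriangulated := inferInstance
  haveI := (DTen.baseAdj φ).isTriangulated_leftAdjoint
  exact ⟨_, (DTen.LBase φ).map_distinguished T hT⟩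

variable {φ}

/-- The characterisation of `bcRHom` by the evaluations. -/
lemma lbaseTenCmp_bcRHom (K M : Dual.D R) [IsIso (DTen.rhomBC φ K ((DTen.LBase φ).obj M))] :
    lbaseTenCmp φ ((DTen.RHomR R K).obj M) K ≫
        (DTen.rhomHomEquiv _ _ _).symm (DTen.bcRHom φ K M) =
      (DTen.LBase φ).map (DTen.ev K M) := by
  refine ((DTen.baseAdj φ).homEquiv _ _).injective ?_
  refine (DTen.rhomHomEquiv _ _ _).injective ?_
  rw [← rhomBC_comp φ K _ _ (DTen.bcRHom φ K M), (DTen.baseAdj φ).homEquiv_unit, DTen.bcRHom_fac,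
    Category.assoc, IsIso.inv_hom_id, Category.comp_id]
  refine Eq.trans ?_ (congrArg _ ((DTen.baseAdj φ).homEquiv_unit ..).symm)
  have h : (DTen.baseAdj φ).unit.app ((DTen.LTen₂ R).obj ((DTen.RHomR R K).obj M, K)) ≫
      (DRing.restrictD φ).map ((DTen.LBase φ).map (DTen.ev K M)) =
      DTen.ev K M ≫ (DTen.baseAdj φ).unit.app M :=
    ((DTen.baseAdj φ).unit.naturality (DTen.ev K M)).symm
  refine Eq.trans ?_ (congrArg _ h).symm
  refine Eq.trans ?_ ((DTen.rhomAdj R K).homEquiv_naturality_right _ _).symm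
  have h1 : (DTen.rhomAdj R K).homEquiv _ M (DTen.ev K M) = 𝟙 _ :=
    ((DTen.rhomAdj R K).homEquiv_unit ..).trans ((DTen.rhomAdj R K).right_triangle_components M)
  exact (Category.id_comp _).symm.trans (congrArg (· ≫ _) h1.symm)

/-- `bcRHom` is invertible where both tensor functors are equivalences. -/
lemma isIso_bcRHom_of_isEquivalence (K M : Dual.D R) [(DTen.tensorRightD R K).IsEquivalence]
    [(DTen.tensorRightD A ((DTen.LBase φ).obj K)).IsEquivalence]
    [IsIso (DTen.rhomBC φ K ((DTen.LBase φ).obj M))] : IsIso (DTen.bcRHom φ K M) := by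
  haveI : (DTen.RHomR R K).IsEquivalence :=
    (DTen.rhomAdj R K).isEquivalence_right_of_isEquivalence_left
  haveI : (DTen.RHomR A ((DTen.LBase φ).obj K)).IsEquivalence :=
    (DTen.rhomAdj A ((DTen.LBase φ).obj K)).isEquivalence_right_of_isEquivalence_left
  haveI h1 : IsIso (DTen.ev K M) := inferInstance
  haveI := isIso_lbaseTenCmp φ ((DTen.RHomR R K).obj M) K
  haveI : IsIso (lbaseTenCmp φ ((DTen.RHomR R K).obj M) K ≫
      (DTen.rhomHomEquiv _ _ _).symm (DTen.bcRHom φ K M)) := by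
    rw [lbaseTenCmp_bcRHom]
    infer_instance
  haveI := IsIso.of_isIso_comp_left (lbaseTenCmp φ ((DTen.RHomR R K).obj M) K)
    ((DTen.rhomHomEquiv _ _ _).symm (DTen.bcRHom φ K M))
  rw [← (DTen.rhomHomEquiv _ _ _).apply_symm_apply (DTen.bcRHom φ K M)]
  erw [(DTen.rhomAdj A ((DTen.LBase φ).obj K)).homEquiv_unit]
  exact IsIso.comp_isIso' inferInstance inferInstance

lemma rhom_map_bcRHom (hbc : ∀ K M, IsIso (DTen.rhomBC φ K M)) (M : Dual.D R) {K K' : Dual.D R}
    (k : K' ⟶ K) :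
    haveI := hbc
    DTen.bcRHom φ K M ≫ DTen.RHomMap ((DTen.LBase φ).map k) ((DTen.LBase φ).obj M) =
      (DTen.LBase φ).map (DTen.RHomMap k M) ≫ DTen.bcRHom φ K' M := by
  haveI := hbc
  let X := (DTen.RHomR R K).obj M
  let X' := (DTen.RHomR R K').obj M
  let r : X ⟶ X' := DTen.RHomMap k M
  haveI := isIso_lbaseTenCmp φ X K'
  refine (DTen.rhomHomEquiv _ _ _).symm.injective ((cancel_epi (lbaseTenCmp φ X K')).1 ?_)
  dsimp only [DTen.rhomHomEquiv]
  refine (congrArg (_ ≫ ·) ((DTen.rhomAdj A ((DTen.LBase φ).obj K')).homEquiv_counit ..)).trans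
    (Eq.trans ?_ (congrArg (_ ≫ ·) ((DTen.rhomAdj A ((DTen.LBase φ).obj K')).homEquiv_counit ..)).symm)
  change lbaseTenCmp φ X K' ≫ (DTen.LTen₂ A).map (Prod.mkHom (DTen.bcRHom φ K M ≫
      DTen.RHomMap ((DTen.LBase φ).map k) ((DTen.LBase φ).obj M)) (𝟙 ((DTen.LBase φ).obj K'))) ≫ DTen.ev ((DTen.LBase φ).obj K') ((DTen.LBase φ).obj M) =
    lbaseTenCmp φ X K' ≫ (DTen.LTen₂ A).map (Prod.mkHom ((DTen.LBase φ).map r ≫
      DTen.bcRHom φ K' M) (𝟙 ((DTen.LBase φ).obj K'))) ≫ DTen.ev ((DTen.LBase φ).obj K') ((DTen.LBase φ).obj M)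
  have hl : ∀ {a a' a'' : Dual.D A} (f : a ⟶ a') (f' : a' ⟶ a'') (b : Dual.D A),
      (DTen.LTen₂ A).map (Prod.mkHom (f ≫ f') (𝟙 b)) =
        (DTen.LTen₂ A).map (Prod.mkHom f (𝟙 b)) ≫ (DTen.LTen₂ A).map (Prod.mkHom f' (𝟙 b)) :=
    fun f f' b => by
      rw [← Functor.map_comp]
      exact congrArg _ (Prod.ext rfl (Category.comp_id _).symm)
  have hswap : (DTen.LTen₂ A).map (Prod.mkHom (DTen.bcRHom φ K M) (𝟙 ((DTen.LBase φ).obj K'))) ≫
      (DTen.LTen₂ A).map (Prod.mkHom (𝟙 ((DTen.RHomR A ((DTen.LBase φ).obj K)).obj ((DTen.LBase φ).obj M))) ((DTen.LBase φ).map k)) =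
      (DTen.LTen₂ A).map (Prod.mkHom ((DTen.LBase φ).map (𝟙 X)) ((DTen.LBase φ).map k)) ≫
      (DTen.LTen₂ A).map (Prod.mkHom (DTen.bcRHom φ K M) (𝟙 ((DTen.LBase φ).obj K))) := by
    rw [← Functor.map_comp, ← Functor.map_comp]
    refine congrArg _ (Prod.ext ?_ ?_)
    · exact (Category.comp_id _).trans
        ((congrArg (· ≫ _) ((DTen.LBase φ).map_id X)).trans (Category.id_comp _)).symm
    · exact (Category.id_comp _).trans (Category.comp_id _).symm
  have e₁ := lbaseTenCmp_bcRHom K M (φ := φ)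
  have e₂ := lbaseTenCmp_bcRHom K' M (φ := φ)
  dsimp only [DTen.rhomHomEquiv] at e₁ e₂
  erw [(DTen.rhomAdj A ((DTen.LBase φ).obj K)).homEquiv_counit] at e₁
  erw [(DTen.rhomAdj A ((DTen.LBase φ).obj K')).homEquiv_counit] at e₂
  rw [hl, hl, Category.assoc, Category.assoc, DTen.RHom_map_ev, reassoc_of% hswap,
    ← reassoc_of% (lbaseTenCmp_natural φ (𝟙 X) k)]
  refine (congrArg (_ ≫ ·) e₁).trans ?_
  have h₃ : (DTen.LTen₂ A).map (Prod.mkHom ((DTen.LBase φ).map r) (𝟙 ((DTen.LBase φ).obj K'))) =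
      (DTen.LTen₂ A).map (Prod.mkHom ((DTen.LBase φ).map r) ((DTen.LBase φ).map (𝟙 K'))) := by
    rw [(DTen.LBase φ).map_id]
  rw [h₃, ← reassoc_of% (lbaseTenCmp_natural φ r (𝟙 K'))]
  refine Eq.trans ?_ (congrArg (_ ≫ ·) e₂).symm
  rw [← Functor.map_comp, ← Functor.map_comp]
  exact congrArg _ (DTen.RHom_map_ev k M).symm

omit [DTen.HasLTen A] [DTen.HasRHom A] [DTen.HasLBase φ] [DTen.HasResTen φ] [DTen.ResLegIso φ] in
/-- A natural transformation between exact contravariant functors which is an isomorphism on the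
shifts of the unit is one on perfect objects. -/
theorem isIso_app_op_of_isPerfect' {F G : (Dual.D R)ᵒᵖ ⥤ Dual.D A} [F.PreservesZeroMorphisms]
    [G.PreservesZeroMorphisms] (hF : HomExact F) (hG : HomExact G) (η : F ⟶ G)
    (hbase : ∀ n : ℤ, IsIso (η.app (op ((DTen.unit R)⟦n⟧)))) {K : Dual.D R}
    (hK : DRing.IsPerfect R K) : IsIso (η.app (op K)) := by
  have key : ∀ n : ℤ, IsIso (η.app ((op K)⟦n⟧)) := by
    refine perfect_induction (fun K => ∀ n : ℤ, IsIso (η.app ((op K)⟦n⟧))) ?_ ?_ ?_ ?_ hK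
    · exact fun e h n => (NatTrans.isIso_app_iff_of_iso η
        ((shiftFunctor (Dual.D R)ᵒᵖ n).mapIso e.op.symm)).1 (h n)
    · intro T hT h₁ h₃ n
      exact isIso₂_of_homExact hF hG η _
        (Triangle.shift_distinguished _ (op_distinguished T hT) n)
        ((NatTrans.isIso_app_iff_of_iso η ((shiftFunctorAdd' (Dual.D R)ᵒᵖ n (-1) (n - 1)
          (by omega)).app (op T.obj₁))).1 (h₁ (n - 1))) (h₃ n) (h₁ n)
        ((NatTrans.isIso_app_iff_of_iso η ((shiftFunctorAdd' (Dual.D R)ᵒᵖ n 1 (n + 1)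
          rfl).app (op T.obj₃))).1 (h₃ (n + 1)))
    · intro K K' i r h hK n
      haveI := hK n
      exact isIso_of_retract η (r.op⟦n⟧') (i.op⟦n⟧') (by
        rw [← Functor.map_comp, ← op_comp, h, op_id, CategoryTheory.Functor.map_id])
    · intro m n
      refine (NatTrans.isIso_app_iff_of_iso η ?_).1 (hbase (m + -n))
      exact ((shiftFunctorAdd (Dual.D R) m (-n)).app (DTen.unit R)).op.symm ≪≫
        ((shiftFunctorOpIso (Dual.D R) n (-n) (by omega)).app (op ((DTen.unit R)⟦m⟧))).symm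
  exact (NatTrans.isIso_app_iff_of_iso η ((shiftFunctorZero (Dual.D R)ᵒᵖ ℤ).app (op K))).1 (key 0)

/-- Base change for derived hom out of a perfect object. -/
theorem isIso_bcRHom_of_isPerfect (K M : Dual.D R)
    [IsIso (DTen.rhomBC φ K ((DTen.LBase φ).obj M))] (hK : DRing.IsPerfect R K) :
    IsIso (DTen.bcRHom φ K M) := by
  haveI := hasLTen₃ R
  haveI := hasLTen₃ A
  haveI := isSymMonoidal R
  haveI := isSymMonoidal A
  have hbc : ∀ K M, IsIso (DTen.rhomBC φ K M) := fun K M => isIso_rhomBC φ K M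
  haveI := hbc
  let N := (DTen.LBase φ).obj M
  let F := (DTen.RHom R).flip.obj M ⋙ DTen.LBase φ
  let G := (DTen.LBase φ).op ⋙ (DTen.RHom A).flip.obj N
  let η : F ⟶ G :=
    { app := fun K => DTen.bcRHom φ K.unop M
      naturality := fun K K' k => (rhom_map_bcRHom hbc M k.unop).symm }
  haveI := preservesZeroMorphisms_RHom M (A := R)
  haveI := preservesZeroMorphisms_RHom N
  haveI : (DTen.LBase φ).PreservesZeroMorphisms :=
    Functor.preservesZeroMorphisms_of_isLeftAdjoint _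
  haveI : (DTen.LBase φ).op.PreservesZeroMorphisms := ⟨fun X Y => by
    change ((DTen.LBase φ).map (0 : Y.unop ⟶ X.unop)).op = 0
    rw [Functor.map_zero]
    rfl⟩
  haveI : F.PreservesZeroMorphisms := by dsimp only [F]; infer_instance
  haveI : G.PreservesZeroMorphisms := by dsimp only [G]; infer_instance
  have hF : HomExact F := fun T hT Z ψ h => by
    obtain ⟨c, hc⟩ := exists_triangle_RHomMap _ ((mem_distTriang_op_iff T).1 hT) M
    obtain ⟨c', hc'⟩ := exists_triangle_LBase φ _ hc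
    exact homExact_id _ hc' Z ψ h
  have hG : HomExact G := fun T hT Z ψ h => by
    obtain ⟨c, hc⟩ := exists_triangle_LBase φ _ ((mem_distTriang_op_iff T).1 hT)
    obtain ⟨c', hc'⟩ := exists_triangle_RHomMap _ hc N
    exact homExact_id _ hc' Z ψ h
  refine isIso_app_op_of_isPerfect' hF hG η (fun n => ?_) hK
  haveI := isEquivalence_tensorRightD_shift_unit (A := R) n
  haveI := isIso_baseCmp φ (kFlat_unitSh (A := R) n)
  let e : (DTen.LBase φ).obj ((DTen.unit R)⟦n⟧) ≅ (DTen.unit A)⟦n⟧ :=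
    (DTen.LBase φ).mapIso ((DerivedCategory.Q.commShiftIso n).app (𝟙_ (DRing.Cx R))).symm ≪≫
      asIso ((DTen.baseCmp φ).app (unitSh R n)) ≪≫
      DerivedCategory.Q.mapIso (extUnitShIso φ n) ≪≫
      (DerivedCategory.Q.commShiftIso n).app (𝟙_ (DRing.Cx A))
  haveI := isEquivalence_tensorRightD_shift_unit (A := A) n
  haveI : (DTen.tensorRightD A ((DTen.LBase φ).obj ((DTen.unit R)⟦n⟧))).IsEquivalence :=
    Functor.isEquivalence_of_iso ((DTen.LTen A).flip.mapIso e).symm
  exact isIso_bcRHom_of_isEquivalence _ M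

end Groth.Agent.KFlatLib
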