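import Groth.Agent.KFlatLib.Ring.FiniteShriek
import Groth.Agent.KFlatLib.Ring.DualizingCriterion
import Groth.Agent.KFlatLib.Ring.DualizingDimension
import Mathlib.RingTheory.Ideal.GoingUp
import Mathlib.RingTheory.Artinian.Module

/-!
# The right adjoint of restriction along a finite map preserves dualizing complexes
-/

set_option linter.style.haveILetI false
set_option backward.isDefEq.respectTransparency false

universe u

open CategoryTheory CategoryTheory.Limits Pretriangulated MonoidalCategory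

open scoped TensorProduct

attribute [local instance] HasDerivedCategory.standard

namespace Groth.Agent.KFlatLib

variable {A B : Type u} [CommRing A] [CommRing B]

/-- Restriction carries scalars to scalars. -/
lemma restrictD_map_smul (φ : A →+* B) (a : A) {X Y : Dual.D B} (f : X ⟶ Y) :
    (DRing.restrictD φ).map (φ a • f) = a • (DRing.restrictD φ).map f := by
  have h1 : ∀ Z : Dual.D B, (DRing.restrictD φ).map (φ a • 𝟙 Z) = a • 𝟙 _ := by
    intro Z
    let F := ModuleCat.restrictScalars.{u} φ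
    let K := DerivedCategory.Q.objPreimage Z
    let eZ : DerivedCategory.Q.obj K ≅ Z := DerivedCategory.Q.objObjPreimageIso Z
    let c := F.mapDerivedCategoryFactors
    have hK : (F.mapHomologicalComplex (ComplexShape.up ℤ)).map (φ a • 𝟙 K) = a • 𝟙 _ :=
      HomologicalComplex.hom_ext _ _ fun n => ModuleCat.hom_ext (LinearMap.ext fun x => rfl)
    have hQ : (DRing.restrictD φ).map (φ a • 𝟙 (DerivedCategory.Q.obj K)) = a • 𝟙 _ := by
      have hn := c.hom.naturality (φ a • 𝟙 K)
      simp only [Functor.comp_map] at hn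
      rw [hK] at hn
      have h5 : DerivedCategory.Q.map (a • 𝟙 ((F.mapHomologicalComplex (ComplexShape.up ℤ)).obj K)) = a • 𝟙 _ := by
        rw [Functor.map_smul, CategoryTheory.Functor.map_id]
      have h6 : DerivedCategory.Q.map (φ a • 𝟙 K) = φ a • 𝟙 (DerivedCategory.Q.obj K) := by
        rw [Functor.map_smul, CategoryTheory.Functor.map_id]
      refine (cancel_mono (c.hom.app K)).1 ?_
      refine ((congrArg (fun z => (DRing.restrictD φ).map z ≫ c.hom.app K) h6.symm).trans
        (hn.trans ((congrArg (c.hom.app K ≫ ·) h5).trans ?_)))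
      exact ((Linear.comp_smul _ _ _ _ _ _).trans (congrArg (a • ·) (Category.comp_id _))).trans
        ((Linear.smul_comp _ _ _ _ _ _).trans (congrArg (a • ·) (Category.id_comp _))).symm
    have h2 : φ a • 𝟙 Z = eZ.inv ≫ (φ a • 𝟙 (DerivedCategory.Q.obj K)) ≫ eZ.hom := by
      rw [Linear.smul_comp, Category.id_comp, Linear.comp_smul, eZ.inv_hom_id]
    rw [h2, Functor.map_comp, Functor.map_comp, hQ, Linear.smul_comp, Category.id_comp, Linear.comp_smul,
      ← Functor.map_comp, eZ.inv_hom_id, CategoryTheory.Functor.map_id]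
  have h3 : φ a • f = f ≫ (φ a • 𝟙 Y) := by rw [Linear.comp_smul, Category.comp_id]
  rw [h3, Functor.map_comp, h1, Linear.comp_smul, Category.comp_id]

/-- Maps into the right adjoint of restriction, with a shift. -/
lemma exists_shriekHomEquiv (φ : A →+* B) (R : Dual.D A ⥤ Dual.D B) (adj : DRing.restrictD φ ⊣ R)
    (X : Dual.D B) (K : Dual.D A) (i : ℤ) :
    ∃ e : (X ⟶ (R.obj K)⟦i⟧) ≃ ((DRing.restrictD φ).obj X ⟶ K⟦i⟧),
      (∀ f g, e (f + g) = e f + e g) ∧ ∀ a f, e (φ a • f) = a • e f := by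
  obtain ⟨e₁⟩ := exists_shiftHomLEquiv X (R.obj K) i
  obtain ⟨e₃⟩ := exists_shiftHomLEquiv ((DRing.restrictD φ).obj X) K i
  let c : (DRing.restrictD φ).obj (X⟦-i⟧) ≅ ((DRing.restrictD φ).obj X)⟦-i⟧ :=
    ((DRing.restrictD φ).commShiftIso (-i)).app X
  refine ⟨e₁.toEquiv.trans ((adj.homEquiv _ _).symm.trans
    ((Linear.homCongr A c (Iso.refl K)).trans e₃.symm).toEquiv), fun f g => ?_, fun a f => ?_⟩
  · simp only [Equiv.trans_apply, LinearEquiv.coe_toEquiv, Adjunction.homEquiv_counit, map_add,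
      Functor.map_add, Preadditive.add_comp]
  · simp only [Equiv.trans_apply, LinearEquiv.coe_toEquiv, Adjunction.homEquiv_counit, map_smul]
    rw [restrictD_map_smul, Linear.smul_comp, map_smul]

/-- Maps out of a finite sum of copies of one module. -/
lemma exists_homPiLEquiv (M : Type u) [AddCommGroup M] [Module A M] (d : ℕ) (Y : Dual.D A) :
    Nonempty ((Dual.inD A (Fin d → M) ⟶ Y) ≃ₗ[A] (Fin d → (Dual.inD A M ⟶ Y))) := by
  classical
  let S := DerivedCategory.singleFunctor (ModuleCat.{u} A) 0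
  let ι : Fin d → (ModuleCat.of A M ⟶ ModuleCat.of A (Fin d → M)) :=
    fun j => ModuleCat.ofHom (LinearMap.single A (fun _ => M) j)
  let π : Fin d → (ModuleCat.of A (Fin d → M) ⟶ ModuleCat.of A M) :=
    fun j => ModuleCat.ofHom (LinearMap.proj j)
  have hsum : ∑ j, π j ≫ ι j = 𝟙 _ := by
    refine ModuleCat.hom_ext (LinearMap.ext fun x => ?_)
    simp only [ModuleCat.hom_sum, LinearMap.sum_apply, ModuleCat.hom_comp, LinearMap.comp_apply,
      ModuleCat.hom_id, LinearMap.id_apply, π, ι, ModuleCat.hom_ofHom, LinearMap.proj_apply]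
    exact Finset.univ_sum_single x
  have hιπ : ∀ j k, ι j ≫ π k = if j = k then 𝟙 _ else 0 := by
    intro j k
    refine ModuleCat.hom_ext (LinearMap.ext fun x => ?_)
    split_ifs with h
    · subst h; simp [ι, π]
    · simp [ι, π, Pi.single_apply, Ne.symm h]
  exact ⟨{ toFun := fun f j => S.map (ι j) ≫ f
           map_add' := fun f g => funext fun j => Preadditive.comp_add _ _ _ _ _ _
           map_smul' := fun r f => funext fun j => Linear.comp_smul _ _ _ _ _ _
           invFun := fun g => ∑ j, S.map (π j) ≫ g j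
           left_inv := fun f => by
             simp only [← Category.assoc, ← Functor.map_comp]
             rw [← Preadditive.sum_comp, ← Functor.map_sum, hsum, CategoryTheory.Functor.map_id]
             exact Category.id_comp f
           right_inv := fun g => funext fun k => by
             simp only [Preadditive.comp_sum, ← Category.assoc, ← Functor.map_comp, hιπ]
             rw [Finset.sum_eq_single k (fun j _ hj => by rw [if_neg (Ne.symm hj), Functor.map_zero, zero_comp])
               (fun h => absurd (Finset.mem_univ k) h), if_pos rfl, CategoryTheory.Functor.map_id]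
             exact Category.id_comp _ }⟩

section Finite

variable [Algebra A B] [IsNoetherianRing A] [Module.Finite A B]

/-- At a maximal ideal the shriek of a dualizing complex has one Ext, of dimension one. -/
theorem exists_shriek_ext_point (R : Dual.D A ⥤ Dual.D B) (adj : DRing.restrictD (algebraMap A B) ⊣ R)
    {ω : Dual.D A} (hω : Dual.IsDualizing A ω) (n : Ideal B) [n.IsMaximal] (m : Ideal A) [m.IsMaximal]
    (hm : n.comap (algebraMap A B) = m) {i₀ : ℤ}
    (hvan : ∀ i : ℤ, i ≠ i₀ → Subsingleton (Dual.inD A (A ⧸ m) ⟶ ω⟦i⟧))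
    (hd : Nonempty ((Dual.inD A (A ⧸ m) ⟶ ω⟦i₀⟧) ≃ₗ[A] (A ⧸ m))) :
    (∀ i : ℤ, i ≠ i₀ → Subsingleton (Dual.inD B (B ⧸ n) ⟶ (R.obj ω)⟦i⟧)) ∧
      Nonempty ((Dual.inD B (B ⧸ n) ⟶ (R.obj ω)⟦i₀⟧) ≃ₗ[B] (B ⧸ n)) := by
  letI := Ideal.Quotient.field m
  letI := Ideal.Quotient.field n
  -- `B ⧸ n` is a finite vector space over `A ⧸ m`
  have htor : Module.IsTorsionBySet A (B ⧸ n) m := fun x r => by
    obtain ⟨b, rfl⟩ := Ideal.Quotient.mk_surjective x
    have hr : algebraMap A B r ∈ n := Ideal.mem_comap.1 (by rw [hm]; exact r.2)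
    refine Ideal.Quotient.eq_zero_iff_mem.2 ?_
    change (r : A) • b ∈ n
    rw [Algebra.smul_def]
    exact n.mul_mem_right b hr
  letI := htor.module
  haveI : IsScalarTower A (A ⧸ m) (B ⧸ n) := htor.isScalarTower
  haveI : Module.Finite A (B ⧸ n) := Module.Finite.of_surjective (Ideal.Quotient.mkₐ A n).toLinearMap
    Ideal.Quotient.mk_surjective
  haveI : Module.Finite (A ⧸ m) (B ⧸ n) := Module.Finite.of_restrictScalars_finite A _ _
  let d := Module.finrank (A ⧸ m) (B ⧸ n)
  let eb : (B ⧸ n) ≃ₗ[A] (Fin d → A ⧸ m) :=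
    ((Module.finBasis (A ⧸ m) (B ⧸ n)).equivFun).restrictScalars A
  let N : ModuleCat.{u} B := ModuleCat.of B (B ⧸ n)
  let eN : (ModuleCat.restrictScalars (algebraMap A B)).obj N ≅ ModuleCat.of A (Fin d → A ⧸ m) :=
    (LinearEquiv.ofBijective
      ({ toFun := fun x => eb x
         map_add' := fun x y => eb.map_add x y
         map_smul' := fun r x => by
           exact (congrArg eb (algebraMap_smul (A := B) (M := B ⧸ n) r x)).trans (eb.map_smul r x) } :
        ((ModuleCat.restrictScalars (algebraMap A B)).obj N : Type u) →ₗ[A] (Fin d → A ⧸ m))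
      eb.bijective).toModuleIso
  let eD : (DRing.restrictD (algebraMap A B)).obj (Dual.inD B (B ⧸ n)) ≅ Dual.inD A (Fin d → A ⧸ m) :=
    H9Misc.DRingRestrict.restrictInDIso (algebraMap A B) N ≪≫
      (DerivedCategory.singleFunctor (ModuleCat.{u} A) 0).mapIso eN
  have key : ∀ i : ℤ, ∃ e : (Dual.inD B (B ⧸ n) ⟶ (R.obj ω)⟦i⟧) ≃ (Fin d → (Dual.inD A (A ⧸ m) ⟶ ω⟦i⟧)),
      (∀ f g, e (f + g) = e f + e g) ∧ ∀ a f, e (algebraMap A B a • f) = a • e f := by
    intro i
    obtain ⟨e, hadd, hsmul⟩ := exists_shriekHomEquiv (algebraMap A B) R adj (Dual.inD B (B ⧸ n)) ω i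
    obtain ⟨p⟩ := exists_homPiLEquiv (A ⧸ m) d (ω⟦i⟧)
    exact ⟨e.trans ((Linear.homCongr A eD (Iso.refl _)).trans p).toEquiv,
      fun f g => by simp only [Equiv.trans_apply, LinearEquiv.coe_toEquiv, hadd, map_add],
      fun a f => by simp only [Equiv.trans_apply, LinearEquiv.coe_toEquiv, hsmul, map_smul]⟩
  refine ⟨fun i hi => ?_, ?_⟩
  · obtain ⟨e, -, -⟩ := key i
    haveI := hvan i hi
    exact e.subsingleton
  obtain ⟨e, hadd, hsmul⟩ := key i₀
  obtain ⟨eκ⟩ := hd
  let V := Dual.inD B (B ⧸ n) ⟶ (R.obj ω)⟦i₀⟧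
  letI : Module A V := Module.compHom V (algebraMap A B)
  haveI : IsScalarTower A B V := IsScalarTower.of_algebraMap_smul fun _ _ => rfl
  let eV : V ≃ₗ[A] (B ⧸ n) :=
    ({ e with map_add' := hadd, map_smul' := hsmul } : V ≃ₗ[A] (Fin d → (Dual.inD A (A ⧸ m) ⟶ ω⟦i₀⟧))).trans
      ((LinearEquiv.piCongrRight fun _ => eκ).trans eb.symm)
  let v : V := eV.symm 1
  have hv : v ≠ 0 := fun h => one_ne_zero (α := B ⧸ n) (by rw [← eV.apply_symm_apply 1]; exact (congrArg eV h).trans eV.map_zero)
  have hker : ∀ b ∈ n, b • v = 0 := fun b hb => smul_hom_inD_eq_zero (fun z => by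
    obtain ⟨c, rfl⟩ := Ideal.Quotient.mk_surjective z
    exact Ideal.Quotient.eq_zero_iff_mem.2 (n.mul_mem_right c hb)) v
  let g : (B ⧸ n) →ₗ[B] V := Submodule.liftQ n (LinearMap.toSpanSingleton B V v) hker
  haveI : IsSimpleModule B (B ⧸ n) := isSimpleModule_iff_isCoatom.2 Ideal.IsMaximal.out
  have hg : Function.Injective g := by
    refine (LinearMap.injective_or_eq_zero g).resolve_right fun h => hv ?_
    have := LinearMap.congr_fun h (Submodule.Quotient.mk 1)
    exact (one_smul B v).symm.trans this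
  haveI : IsArtinian A (Fin d → A ⧸ m) := by
    haveI : IsSimpleModule A (A ⧸ m) := isSimpleModule_iff_isCoatom.2 Ideal.IsMaximal.out
    infer_instance
  haveI : IsArtinian A (B ⧸ n) := isArtinian_of_linearEquiv eb.symm
  let t : (B ⧸ n) →ₗ[A] (B ⧸ n) := eV.toLinearMap.comp (g.restrictScalars A)
  have ht : Function.Surjective t :=
    IsArtinian.surjective_of_injective_endomorphism t (eV.injective.comp hg)
  refine ⟨(LinearEquiv.ofBijective g ⟨hg, fun y => ?_⟩).symm⟩
  obtain ⟨x, hx⟩ := ht (eV y)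
  exact ⟨x, eV.injective hx⟩

/-- The right adjoint of restriction along a finite map preserves dualizing complexes. -/
theorem isDualizing_shriek [IsNoetherianRing B] (R : Dual.D A ⥤ Dual.D B)
    (adj : DRing.restrictD (algebraMap A B) ⊣ R) {ω : Dual.D A} (hω : Dual.IsDualizing A ω) :
    Dual.IsDualizing B (R.obj ω) := by
  haveI : Algebra.IsIntegral A B := inferInstance
  haveI := hasLTen A
  haveI := hasRHom (A := A)
  obtain ⟨a, b, hab⟩ := hω.finite_injective_dimension
  obtain ⟨a₀, b₀, -, _, _⟩ := exists_bounds_of_isDualizing hω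
  have hfin : ∀ i, Module.Finite B (Dual.HD B (R.obj ω) i) :=
    fun i => finite_hd_shriek R adj ω a₀ hω.finite_cohomology i
  have hinj : ∀ (M : Type u) [AddCommGroup M] [Module B M] (i : ℤ),
      (i < a ∨ b < i) → Subsingleton (Dual.inD B M ⟶ (R.obj ω)⟦i⟧) := by
    intro M _ _ i hi
    obtain ⟨e, -, -⟩ := exists_shriekHomEquiv (algebraMap A B) R adj (Dual.inD B M) ω i
    haveI := hab ((ModuleCat.restrictScalars (algebraMap A B)).obj (ModuleCat.of B M)) i hi
    haveI : Subsingleton ((DRing.restrictD (algebraMap A B)).obj (Dual.inD B M) ⟶ ω⟦i⟧) :=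
      (H9Misc.DRingRestrict.restrictInDIso (algebraMap A B) (ModuleCat.of B M)).homFromEquiv.subsingleton
    exact e.subsingleton
  have hamp : DRing.HasInjAmplitudeIn B a b (R.obj ω) :=
    ((H9Misc.DRingInjAmp.tfae (R.obj ω) a b).out 1 0).1 (by intro N _ _ i hi; exact hinj N i hi)
  haveI := isGE_of_injAmplitude hamp
  haveI : (R.obj ω).IsLE b := by
    obtain ⟨E, hz, -, ⟨e⟩⟩ := hamp
    haveI : CochainComplex.IsStrictlyLE E b :=
      (CochainComplex.isStrictlyLE_iff _ _).2 fun i hi => hz i (Or.inr hi)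
    haveI : (DRing.toD E).IsLE b := (DerivedCategory.isLE_Q_obj_iff _ _).2 inferInstance
    exact DerivedCategory.TStructure.t.isLE_of_iso e b
  haveI : ∀ n : {n : Ideal B // n.IsMaximal}, n.1.IsPrime := fun n => n.2.isPrime
  haveI : ∀ n : {n : Ideal B // n.IsMaximal}, Module.Flat B (Localization.AtPrime n.1) :=
    fun n => IsLocalization.flat _ n.1.primeCompl
  haveI : ∀ n : {n : Ideal B // n.IsMaximal}, DTen.HasLBase (algebraMap B (Localization.AtPrime n.1)) :=
    fun n => hasLBase _
  refine isDualizing_of_family (B := fun n : {n : Ideal B // n.IsMaximal} => Localization.AtPrime n.1)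
    (fun n hn => ⟨⟨n, hn⟩, ?_⟩) a b hfin ⟨a, b, hinj⟩ fun n => ?_
  · exact (IsLocalization.map_algebraMap_ne_top_iff_disjoint n.primeCompl _ n).2
      (Set.disjoint_left.2 fun x hx hx' => hx hx')
  obtain ⟨n, hn⟩ := n
  haveI : (n.comap (algebraMap A B)).IsMaximal := Ideal.isMaximal_comap_of_isIntegral_of_isMaximal n
  obtain ⟨i₀, hvan, hd⟩ := exists_unique_ext_point (n.comap (algebraMap A B)) hω
  obtain ⟨h1, ⟨h2⟩⟩ := exists_shriek_ext_point R adj hω n _ rfl hvan hd
  let C := Localization.AtPrime n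
  haveI := hasLTen C
  haveI := hasLBase (algebraMap B C)
  haveI : Module.Flat B C := IsLocalization.flat _ n.primeCompl
  haveI := hasRHom (A := C)
  let W := (DTen.LBase (algebraMap B C)).obj (R.obj ω)
  haveI := isGE_LBase_flat (B := C) (R.obj ω) a
  have hmap : n.map (algebraMap B C) = IsLocalRing.maximalIdeal C := Localization.AtPrime.map_eq_maximalIdeal
  obtain ⟨eI⟩ := nonempty_LBase_inD_quotient (B := C) n
  rw [hmap] at eI
  obtain ⟨e0⟩ := nonempty_LBase_inD_quotient (B := C) n
  have hpc := (Groth.Agent.S6942.result B 0 (R.obj ω) (B ⧸ n)).2.2 inferInstance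
  refine isDualizing_of_residueField W (fun j => finite_hd_LBase (B := C) _ j (hfin j)) a i₀ (fun i hi => ?_) ?_
  · obtain ⟨e⟩ := exists_homBaseChangeLEquiv (B := C) (X := Dual.inD B (B ⧸ n)) (Y := R.obj ω) hpc a i
    haveI := h1 i hi
    haveI := e.injective.subsingleton
    exact eI.homFromEquiv.symm.subsingleton
  · obtain ⟨e⟩ := exists_homBaseChangeLEquiv (B := C) (X := Dual.inD B (B ⧸ n)) (Y := R.obj ω) hpc a i₀
    exact ⟨(Linear.homCongr C eI.symm (Iso.refl _)).trans (e.trans
      ((TensorProduct.AlgebraTensorModule.congr (LinearEquiv.refl C C) h2).trans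
        ((Algebra.TensorProduct.quotIdealMapEquivTensorQuot C n).symm.toLinearEquiv.trans
          (Submodule.quotEquivOfEq _ _ hmap))))⟩

end Finite

end Groth.Agent.KFlatLib
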