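import Groth.Agent.KFlatLib.Ring.EvalPseudoCoherent
import Groth.Agent.KFlatLib.Ring.DualizingShriek
import Groth.Agent.KFlatLib.Ring.BcRHom
import Groth.Agent.KFlatLib.Ring.HasLBase
import Groth.Agent.H9Misc.DRingRestrict

/-!
# Base change along a surjection detects vanishing of shrieks
-/

set_option linter.style.haveILetI false
set_option backward.isDefEq.respectTransparency false

universe u

open CategoryTheory CategoryTheory.Limits Pretriangulated

attribute [local instance] HasDerivedCategory.standard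

namespace Groth.Agent.KFlatLib

variable {B A : Type u} [CommRing B] [CommRing A]

/-- If `x ^ k` kills an object then `x ^ (2 * k)` kills the cone of any scalar on it. -/
lemma pow_smul_cone {Z C : Dual.D B} (t : Z ⟶ Z) (g : Z ⟶ C) (δ : C ⟶ Z⟦(1 : ℤ)⟧)
    (hT : Triangle.mk t g δ ∈ distTriang _) (x : B) (k : ℕ) (h : x ^ k • 𝟙 Z = 0) :
    x ^ (2 * k) • 𝟙 C = 0 := by
  have h1 : g ≫ (x ^ k • 𝟙 C) = 0 := by
    rw [Linear.comp_smul, Category.comp_id, ← Category.id_comp g, ← Linear.smul_comp, h, zero_comp]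
  obtain ⟨a, ha⟩ := Triangle.yoneda_exact₃ _ hT (x ^ k • 𝟙 C) h1
  have h2 : x ^ k • δ = 0 := by
    rw [← Category.comp_id δ, ← Linear.comp_smul, ← (shiftFunctor (Dual.D B) (1 : ℤ)).map_id,
      ← Functor.map_smul, h, Functor.map_zero, comp_zero]
  calc x ^ (2 * k) • 𝟙 C = (x ^ k • 𝟙 C) ≫ (x ^ k • 𝟙 C) := by
        rw [Linear.comp_smul, Category.comp_id, smul_smul, two_mul, pow_add]
    _ = x ^ k • (δ ≫ a) := by
        rw [Linear.comp_smul, Category.comp_id]
        exact congrArg _ ha
    _ = 0 := by rw [← Linear.smul_comp, h2, zero_comp]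

/-- The cone of a scalar is killed by the square of the scalar. -/
lemma sq_smul_cone {Z C : Dual.D B} (x : B) (g : Z ⟶ C) (δ : C ⟶ Z⟦(1 : ℤ)⟧)
    (hT : Triangle.mk (x • 𝟙 Z) g δ ∈ distTriang _) : x ^ 2 • 𝟙 C = 0 := by
  have h1 : g ≫ (x • 𝟙 C) = 0 := by
    have h0 : (x • 𝟙 Z) ≫ g = 0 := comp_distTriang_mor_zero₁₂ _ hT
    rw [Linear.smul_comp, Category.id_comp] at h0
    rwa [Linear.comp_smul, Category.comp_id]
  obtain ⟨a, ha⟩ := Triangle.yoneda_exact₃ _ hT (x • 𝟙 C) h1
  have h2 : x • δ = 0 := by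
    have h0 : δ ≫ (x • 𝟙 Z)⟦(1 : ℤ)⟧' = 0 := comp_distTriang_mor_zero₃₁ _ hT
    rwa [Functor.map_smul, CategoryTheory.Functor.map_id, Linear.comp_smul, Category.comp_id] at h0
  calc x ^ 2 • 𝟙 C = (x • 𝟙 C) ≫ (x • 𝟙 C) := by
        rw [Linear.comp_smul, Category.comp_id, smul_smul, pow_two]
    _ = x • (δ ≫ a) := by
        rw [Linear.comp_smul, Category.comp_id]
        exact congrArg _ ha
    _ = 0 := by rw [← Linear.smul_comp, h2, zero_comp]

section Kill

variable {M : Type*} [AddCommGroup M] [Module B M]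

/-- A nonzero element has a nonzero multiple killed by a finite set of nilpotently acting scalars. -/
lemma exists_smul_killed (s : Finset B) {m : M} (hm : m ≠ 0) (h : ∀ x ∈ s, ∃ k : ℕ, x ^ k • m = 0) :
    ∃ b : B, b • m ≠ 0 ∧ ∀ x ∈ s, x • (b • m) = 0 := by
  classical
  induction s using Finset.induction_on with
  | empty => exact ⟨1, by rwa [one_smul], fun x hx => absurd hx (Finset.notMem_empty x)⟩
  | insert y s hy ih =>
    obtain ⟨b, hb, hbs⟩ := ih fun x hx => h x (Finset.mem_insert_of_mem hx)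
    obtain ⟨k, hk⟩ := h y (Finset.mem_insert_self y s)
    have hk' : y ^ k • (b • m) = 0 := by rw [smul_comm, hk, smul_zero]
    let l := Nat.find (p := fun l => y ^ l • (b • m) = 0) ⟨k, hk'⟩
    have hl : y ^ l • (b • m) = 0 := Nat.find_spec (p := fun l => y ^ l • (b • m) = 0) ⟨k, hk'⟩
    have hl0 : l ≠ 0 := fun e => hb (by simpa [e] using hl)
    refine ⟨y ^ (l - 1) * b, ?_, fun x hx => ?_⟩
    · rw [mul_smul]
      exact Nat.find_min (p := fun l => y ^ l • (b • m) = 0) ⟨k, hk'⟩ (m := l - 1) (by omega)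
    · rw [mul_smul]
      rcases Finset.mem_insert.1 hx with rfl | hx
      · rw [smul_smul, ← pow_succ', Nat.sub_add_cancel (by omega), hl]
      · rw [smul_comm, hbs x hx, smul_zero]

end Kill

variable (φ : B →+* A)

/-- The quotient map, as a map of modules. -/
noncomputable def quotHom : ModuleCat.of B B ⟶ (ModuleCat.restrictScalars φ).obj (ModuleCat.of A A) :=
  ModuleCat.ofHom (Y := (ModuleCat.restrictScalars φ).obj (ModuleCat.of A A))
    { toFun := fun x => (φ x : A)
      map_add' := fun x y => φ.map_add x y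
      map_smul' := fun c x => φ.map_mul c x }

omit [CommRing A] in
/-- Factorisation through a surjection. -/
lemma exists_factor_surj {L M N : ModuleCat.{u} B} (π : L ⟶ M) (hπ : Function.Surjective π.hom) (f : L ⟶ N)
    (h : ∀ x, π.hom x = 0 → f.hom x = 0) : ∃ l : M ⟶ N, π ≫ l = f := by
  refine ⟨ModuleCat.ofHom ((LinearMap.ker π.hom).liftQ f.hom h ∘ₗ
    (π.hom.quotKerEquivOfSurjective hπ).symm.toLinearMap), ModuleCat.hom_ext (LinearMap.ext fun x => ?_)⟩
  have : (π.hom.quotKerEquivOfSurjective hπ).symm (π.hom x) = Submodule.Quotient.mk x :=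
    (LinearEquiv.symm_apply_eq _).2 rfl
  simp [this]

/-- With the generators of the kernel acting nilpotently, no cohomology at the bottom survives. -/
theorem isGE_succ_of_orth (hφ : Function.Surjective φ) (s : Finset B)
    (hs : Ideal.span (s : Set B) = RingHom.ker φ) (Z : Dual.D B) (i : ℤ) [Z.IsGE i]
    (hnil : ∀ x ∈ s, ∃ k : ℕ, x ^ k • 𝟙 Z = 0)
    (h : ∀ (j : ℤ) (f : (DRing.restrictD φ).obj (Dual.inD A A) ⟶ Z⟦j⟧), f = 0) :
    Z.IsGE (i + 1) := by
  refine (DerivedCategory.isGE_iff _ _).2 fun n hn => ?_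
  rcases lt_or_ge n i with hni | hni
  · exact DerivedCategory.isZero_of_isGE Z i n hni
  obtain rfl : n = i := by omega
  have := isZero_hd_of_unit Z (-n) fun ψ => by
    by_contra hψ
    obtain ⟨b, hb, hbs⟩ := exists_smul_killed (B := B) (m := ψ) s hψ fun x hx => by
      obtain ⟨k, hk⟩ := hnil x hx
      exact ⟨k, by rw [← Category.comp_id ψ, ← Linear.comp_smul, hk, comp_zero]⟩
    apply hb
    obtain ⟨eU⟩ := nonempty_unit_shift_iso (A := B) (-n)
    rw [neg_neg] at eU
    obtain ⟨K, hK, ⟨eK⟩⟩ := DerivedCategory.exists_iso_Q_obj_of_isGE Z n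
    obtain ⟨g, hg⟩ := exists_unit_map n K (eU.inv ≫ (b • ψ) ≫ eK.hom)
    let sx := HomologicalComplex.singleObjXSelf (ComplexShape.up ℤ) n (ModuleCat.of B B)
    -- an element of the bottom cycles
    let xg : ModuleCat.of B B ⟶ K.X n := sx.inv ≫ g.f n
    have hzero : ∀ g' : H9Misc.BrownGroth.gen B n ⟶ K, DerivedCategory.Q.map g' = 0 → g' = 0 := by
      intro g' hg'
      have h0 : DerivedCategory.Qh.map ((HomotopyCategory.quotient _ _).map g') =
          DerivedCategory.Qh.map 0 := by
        have nat := (DerivedCategory.quotientCompQhIso (ModuleCat.{u} B)).hom.naturality g'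
        rw [hg', comp_zero] at nat
        rw [Functor.map_zero]
        exact (cancel_mono ((DerivedCategory.quotientCompQhIso (ModuleCat.{u} B)).hom.app K)).1
          (nat.trans zero_comp.symm)
      have h1 := (CochainComplex.IsKProjective.Qh_map_bijective (H9Misc.BrownGroth.gen B n)
        ((HomotopyCategory.quotient _ _).obj K)).1 h0
      rw [← (HomotopyCategory.quotient (ModuleCat.{u} B) (ComplexShape.up ℤ)).map_zero] at h1
      obtain H := HomotopyCategory.homotopyOfEq _ _ h1
      refine HomologicalComplex.from_single_hom_ext ?_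
      rw [H.comm n, dNext_eq _ (show (ComplexShape.up ℤ).Rel n (n + 1) from rfl),
        prevD_eq _ (show (ComplexShape.up ℤ).Rel (n - 1) n by simp)]
      rw [(HomologicalComplex.isZero_single_obj_X (ComplexShape.up ℤ) n (ModuleCat.of B B) (n + 1)
          (by omega)).eq_of_src (H.hom (n + 1) n) 0, comp_zero,
        (K.isZero_of_isStrictlyGE n (n - 1) (by omega)).eq_of_tgt (H.hom n (n - 1)) 0, zero_comp,
        add_zero, zero_add]
    have hx : ∀ x ∈ s, x • g = 0 := fun x hx => hzero _ (by
      rw [Functor.map_smul, hg, ← Linear.comp_smul, ← Linear.smul_comp, hbs x hx, zero_comp, comp_zero])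
    let v : K.X n := xg.hom (1 : B)
    have hv : ∀ x : B, φ x = 0 → x • v = 0 := by
      have hle : Ideal.span (s : Set B) ≤ LinearMap.ker (LinearMap.toSpanSingleton B (K.X n) v) := by
        refine Ideal.span_le.2 fun x hxs => ?_
        change x • v = 0
        have h2 : (sx.inv ≫ (x • g).f n).hom (1 : B) = 0 := by rw [hx x hxs]; simp
        rw [HomologicalComplex.smul_f_apply, Linear.comp_smul] at h2
        exact h2
      intro x hxk
      exact hle (hs ▸ hxk : x ∈ Ideal.span (s : Set B))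
    let MA := (ModuleCat.restrictScalars φ).obj (ModuleCat.of A A)
    let π : ModuleCat.of B B ⟶ MA := quotHom φ
    obtain ⟨l, hl⟩ := exists_factor_surj π hφ xg fun x (hx' : φ x = 0) => by
      rw [← mul_one x, ← smul_eq_mul, map_smul]
      exact hv x hx'
    have hld : l ≫ K.d n (n + 1) = 0 := by
      haveI : Epi π := (ModuleCat.epi_iff_surjective _).2 hφ
      rw [← cancel_epi π, comp_zero, ← Category.assoc, hl, Category.assoc, g.comm n (n + 1),
        (HomologicalComplex.isZero_single_obj_X (ComplexShape.up ℤ) n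
          (ModuleCat.of B B) (n + 1) (by omega)).eq_of_tgt ((H9Misc.BrownGroth.gen B n).d n (n + 1)) 0,
        zero_comp, comp_zero]
    let g' : (HomologicalComplex.single (ModuleCat.{u} B) (ComplexShape.up ℤ) n).obj MA ⟶ K :=
      HomologicalComplex.mkHomFromSingle l (fun j hj => by
        obtain rfl : n + 1 = j := hj
        exact hld)
    have hfac : g = (HomologicalComplex.single _ _ n).map π ≫ g' := by
      refine HomologicalComplex.from_single_hom_ext ?_
      rw [HomologicalComplex.comp_f, HomologicalComplex.single_map_f_self,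
        HomologicalComplex.mkHomFromSingle_f]
      simp only [Category.assoc, Iso.inv_hom_id_assoc, hl, xg, sx]
      exact (Iso.hom_inv_id_assoc _ _).symm
    have hg' : DerivedCategory.Q.map g' = 0 := by
      let S := DerivedCategory.singleFunctors (ModuleCat.{u} B)
      let e : (DRing.restrictD φ).obj (Dual.inD A A) ≅
          (DerivedCategory.Q.obj ((HomologicalComplex.single (ModuleCat.{u} B) (ComplexShape.up ℤ) n).obj MA))⟦n⟧ :=
        H9Misc.DRingRestrict.restrictInDIso φ (ModuleCat.of A A) ≪≫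
          ((S.shiftIso n 0 n (by omega)).app MA).symm ≪≫
          (shiftFunctor _ n).mapIso ((DerivedCategory.singleFunctorIsoCompQ (ModuleCat.{u} B) n).app MA)
      have h0 := h n (e.hom ≫ (DerivedCategory.Q.map g' ≫ eK.inv)⟦n⟧')
      rw [← comp_zero (f := e.hom), cancel_epi] at h0
      rw [← (shiftFunctor (Dual.D B) n).map_zero] at h0
      have h1 := (shiftFunctor (Dual.D B) n).map_injective h0
      rwa [← zero_comp (f := eK.inv), cancel_mono] at h1
    have : eU.inv ≫ (b • ψ) ≫ eK.hom = 0 := by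
      rw [← hg, hfac, Functor.map_comp, hg', comp_zero]
    rwa [← comp_zero (f := eU.inv), cancel_epi, ← zero_comp (f := eK.hom), cancel_mono] at this
  rwa [neg_neg] at this

variable [DTen.HasLBase φ]

/-- Derived base change kills scalars in the kernel. -/
lemma lbase_map_smul_id (Z : Dual.D B) (x : B) (hx : φ x = 0) :
    (DTen.LBase φ).map (x • 𝟙 Z) = 0 := by
  refine ((DTen.baseAdj φ).homEquiv _ _).injective ?_
  rw [(DTen.baseAdj φ).homEquiv_unit, (DTen.baseAdj φ).homEquiv_unit]
  have h := ((DTen.baseAdj φ).unit.naturality (x • 𝟙 Z)).symm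
  simp only [Functor.id_map, Functor.comp_map] at h
  rw [h, Functor.map_zero, comp_zero]
  erw [Linear.smul_comp, Category.id_comp]
  rw [← Category.comp_id ((DTen.baseAdj φ).unit.app Z)]
  erw [← Linear.comp_smul]
  have h0 : x • 𝟙 ((DRing.restrictD φ).obj ((DTen.LBase φ).obj Z)) = 0 := by
    rw [← CategoryTheory.Functor.map_id, ← restrictD_map_smul, hx, zero_smul, Functor.map_zero]
  exact (congrArg (_ ≫ ·) h0).trans comp_zero

/-- An object receiving no map from the quotient ring has no base change to it. -/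
theorem isZero_LBase_of_orth (hφ : Function.Surjective φ) (hfg : (RingHom.ker φ).FG) (X : Dual.D B) (c : ℤ)
    [X.IsGE c] (h : ∀ (j : ℤ) (f : (DRing.restrictD φ).obj (Dual.inD A A) ⟶ X⟦j⟧), f = 0) :
    IsZero ((DTen.LBase φ).obj X) := by
  classical
  obtain ⟨s, hs⟩ := hfg
  suffices key : ∀ t : Finset B, t ⊆ s → ∀ (Z : Dual.D B) (c : ℤ), Z.IsGE c →
      (∀ x ∈ s, x ∉ t → ∃ k : ℕ, x ^ k • 𝟙 Z = 0) →
      (∀ (j : ℤ) (f : (DRing.restrictD φ).obj (Dual.inD A A) ⟶ Z⟦j⟧), f = 0) →
      IsZero ((DTen.LBase φ).obj Z) from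
    key s (Finset.Subset.refl _) X c inferInstance (fun x h1 h2 => absurd h1 h2) h
  intro t
  induction t using Finset.induction_on with
  | empty =>
    intro _ Z c hZ hnil hZh
    haveI : (DTen.LBase φ).PreservesZeroMorphisms := Functor.preservesZeroMorphisms_of_isLeftAdjoint _
    refine (DTen.LBase φ).map_isZero (isZero_of_forall_hd Z fun i => ?_)
    have hall : ∀ k : ℕ, Z.IsGE (c + k) := by
      intro k
      induction k with
      | zero => simpa using hZ
      | succ k ih =>
        haveI := ih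
        have := isGE_succ_of_orth φ hφ s hs Z (c + k) (fun x hx => hnil x hx (Finset.notMem_empty x)) hZh
        rw [Nat.cast_succ, ← add_assoc]
        exact this
    haveI := hall (i + 1 - c).toNat
    exact DerivedCategory.isZero_of_isGE Z (c + (i + 1 - c).toNat) i (by omega)
  | insert y t hy ih =>
    intro hts Z c hZ hnil hZh
    obtain ⟨C, g, δ, hT⟩ := distinguished_cocone_triangle (y • 𝟙 Z)
    have hC : C.IsGE (c - 1) := by
      haveI := hZ
      haveI : Z.IsGE (c - 1) := DerivedCategory.TStructure.t.isGE_of_ge Z (c - 1) c (by omega)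
      haveI : (Z⟦(1 : ℤ)⟧).IsGE (c - 1) := DerivedCategory.TStructure.t.isGE_shift Z c 1 (c - 1) (by omega)
      exact DerivedCategory.TStructure.t.isGE₂ _ (rot_of_distTriang _ hT) (c - 1) ‹Z.IsGE (c - 1)› ‹(Z⟦(1 : ℤ)⟧).IsGE (c - 1)›
    have hz := ih (fun x hx => hts (Finset.mem_insert_of_mem hx)) C (c - 1) hC (fun x hx hxt => ?_) fun j f => ?_
    · obtain ⟨e, he⟩ := exists_triangle_LBase φ _ hT
      have hiso := (Triangle.isZero₃_iff_isIso₁ _ he).1 hz
      have h0 : (DTen.LBase φ).map (y • 𝟙 Z) = 0 := lbase_map_smul_id φ Z y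
        (RingHom.mem_ker.1 (hs ▸ Ideal.subset_span (hts (Finset.mem_insert_self y t))))
      haveI : IsIso (0 : (DTen.LBase φ).obj Z ⟶ (DTen.LBase φ).obj Z) := h0 ▸ hiso
      exact (IsZero.iff_id_eq_zero _).2 ((cancel_epi (0 : (DTen.LBase φ).obj Z ⟶ _)).1
        (zero_comp.trans zero_comp.symm))
    · rcases em (x = y) with rfl | hxy
      · exact ⟨2, sq_smul_cone x g δ hT⟩
      · obtain ⟨k, hk⟩ := hnil x hx (by simp [hxy, hxt])
        exact ⟨2 * k, pow_smul_cone _ g δ hT x k hk⟩
    · have hT' := Triangle.shift_distinguished _ hT j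
      have h3 : f ≫ ((Triangle.shiftFunctor (Dual.D B) j).obj (Triangle.mk (y • 𝟙 Z) g δ)).mor₃ = 0 := by
        let c' := (shiftFunctorAdd' (Dual.D B) j 1 (j + 1) rfl).app Z
        exact (cancel_mono c'.inv).1 ((hZh _ _).trans zero_comp.symm)
      obtain ⟨f', hf'⟩ := Triangle.coyoneda_exact₃ _ hT' f h3
      rw [hf', hZh j f']
      exact zero_comp

end Groth.Agent.KFlatLib
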