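import Groth.Agent.KFlatLib.Ring.RelDualizing
import Groth.Agent.KFlatLib.Ring.BaseChangeShriekVia
import Groth.Agent.KFlatLib.Ring.RelPerfectPresentation
import Groth.Agent.KFlatLib.Ring.ShriekRHom
import Groth.Agent.KFlatLib.Ring.SurjBaseDetect
import Groth.Prelude.Def_DualSh

/-!
# The relative dualizing complex over an arbitrary base
-/

set_option linter.style.haveILetI false
set_option backward.isDefEq.respectTransparency false

universe u

open CategoryTheory CategoryTheory.Limits Pretriangulated Opposite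
open scoped TensorProduct

attribute [local instance] HasDerivedCategory.standard

namespace Groth.Agent.KFlatLib

/-- An object perfect downstairs is bounded below. -/
lemma exists_isGE_of_res {P A : Type u} [CommRing P] [CommRing A] (φ : P →+* A) (W : Dual.D A)
    (h : DRing.IsPerfect P ((DRing.restrictD φ).obj W)) : ∃ p : ℤ, W.IsGE p := by
  obtain ⟨⟨p, q, hb⟩, -⟩ : (∃ p q : ℤ, ∀ i, (i < p ∨ q < i) → Subsingleton (Dual.HD P ((DRing.restrictD φ).obj W) i)) ∧ True := by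
    obtain ⟨E, p, q, hz, -, ⟨eE⟩⟩ := h
    exact ⟨⟨p, q, fun i hi => ModuleCat.subsingleton_of_isZero (IsZero.of_iso
      (((DerivedCategory.homologyFunctorFactors _ i).app E).isZero_iff.2
        (ShortComplex.isZero_homology_of_isZero_X₂ _ (hz i hi)))
      ((DerivedCategory.homologyFunctor _ i).mapIso eE).symm)⟩, trivial⟩
  refine ⟨p, (DerivedCategory.isGE_iff _ _).2 fun i hi => ?_⟩
  haveI := hb i (Or.inl hi)
  haveI h1 : Subsingleton (Dual.HD A W i) :=
    (H9Misc.DRingRestrict.HDRestrictIso φ W i).toLinearEquiv.symm.toEquiv.subsingleton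
  exact @ModuleCat.isZero_of_subsingleton _ _ _ h1

variable {R A : Type u} [CommRing R] [CommRing A] [Algebra R A] [Module.Flat R A]
  [Algebra.FinitePresentation R A] {n : ℕ} (ψ : MvPolynomial (Fin n) R →+* A)
  (hψ : Function.Surjective ψ) (hR : ψ.comp MvPolynomial.C = algebraMap R A)

include hψ hR

/-- The shriek of a flat algebra commutes with base change, over any base. -/
theorem nonempty_shriek_baseChange_of_flat_left' {R' : Type u} [CommRing R'] [Algebra R R']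
    (ι : R →+* MvPolynomial (Fin n) R) (hι : ι = MvPolynomial.C) [DTen.HasLBase ι]
    {Rψ : Dual.D (MvPolynomial (Fin n) R) ⥤ Dual.D A} (a : DRing.restrictD ψ ⊣ Rψ)
    (ι' : R' →+* MvPolynomial (Fin n) R') (hι' : ι' = MvPolynomial.C) [DTen.HasLBase ι']
    {Rψ' : Dual.D (MvPolynomial (Fin n) R') ⥤ Dual.D (R' ⊗[R] A)} (a' : DRing.restrictD (presBC R' ψ) ⊣ Rψ')
    [DTen.HasLBase (algebraMap R R')] [DTen.HasLBase (incRight R R' A)] (K : Dual.D R) :
    Nonempty ((DTen.LBase (incRight R R' A)).obj ((Rψ.obj ((DTen.LBase ι).obj K))⟦(n : ℤ)⟧) ≅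
      (Rψ'.obj ((DTen.LBase ι').obj ((DTen.LBase (algebraMap R R')).obj K)))⟦(n : ℤ)⟧) := by
  haveI := hasLBase (MvPolynomial.map (σ := Fin n) (algebraMap R R'))
  have hc := isIso_cmpBC_presentation (R' := R') ψ hR fun k =>
    isIso_baseCmp_single_of_flat_left (algebraMap R A) _ (RingHom.flat_algebraMap_iff.2 inferInstance) k
  obtain ⟨θ⟩ := nonempty_shriek_baseChange_of_perfect (presBC_comp (R' := R') ψ hR) hc a a'
    (isPerfect_res_presentation' ψ hψ hR)
  obtain ⟨i₁⟩ := nonempty_LBase_shift (incRight R R' A) (n : ℤ)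
  obtain ⟨i₂⟩ := nonempty_LBase_poly (R' := R') ι hι ι' hι'
  exact ⟨i₁.app _ ≪≫ (shiftFunctor _ (n : ℤ)).mapIso (θ.app _ ≪≫ Rψ'.mapIso (i₂.app K))⟩

variable {Rψ : Dual.D (MvPolynomial (Fin n) R) ⥤ Dual.D A} (a : DRing.restrictD ψ ⊣ Rψ)

include a

/-- The derived hom of a relatively perfect object into the shriek of the ring is pseudo-coherent and
recovers the object. -/
theorem exists_dual_of_isRelPerfect [DTen.HasLTen A] [DTen.HasRHom A] {K : Dual.D A}
    (hK : Dual2.IsRelPerfect R A K) :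
    ∃ D : Dual.D A, DRing.IsPseudoCoherent' A D ∧
      Nonempty (K ≅ (DTen.RHomR A D).obj (Rψ.obj ((DTen.unit _)⟦(n : ℤ)⟧))) := by
  let P := MvPolynomial (Fin n) R
  haveI := hasLTen P
  haveI := hasRHom (A := P)
  haveI := hasLBase ψ
  haveI := hasResTen ψ
  haveI := resLegIso ψ
  have hp := isPerfect_res_of_isRelPerfect ψ hψ hR hK
  let Y := (DTen.unit P)⟦(n : ℤ)⟧
  let D := (DTen.RHomR A K).obj (Rψ.obj Y)
  haveI := isIso_shriekPair ψ a K Y
  haveI := isIso_bidualMap_shriek ψ a K (n : ℤ) hp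
  have hD : DRing.IsPerfect P ((DRing.restrictD ψ).obj D) :=
    H9Misc.DRingPC.isPerfect_of_iso (asIso (shriekPair ψ a K Y)).symm (isPerfect_RHomR (n : ℤ) hp)
  refine ⟨D, (H9Misc.DRingPC.pc'_iff _).2 fun m => ?_, ⟨asIso (bidualMap K (Rψ.obj Y))⟩⟩
  exact (H9Misc.DRingRestrict.pc_restrict_iff ψ (pc'_presentation ψ hψ hR) m D).2
    ((H9Misc.DRingPC.pc'_iff _).1 ((H9Misc.DRingPerfect.isPerfect_iff _).1 hD).1 m)

/-- The shriek of the ring is perfect over the polynomial ring. -/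
theorem isPerfect_res_shriek_unit' :
    DRing.IsPerfect (MvPolynomial (Fin n) R) ((DRing.restrictD ψ).obj (Rψ.obj ((DTen.unit _)⟦(n : ℤ)⟧))) := by
  let P := MvPolynomial (Fin n) R
  haveI := hasLTen P
  haveI := hasLTen A
  haveI := hasRHom (A := P)
  haveI := hasRHom (A := A)
  haveI := hasLBase ψ
  haveI := hasResTen ψ
  haveI := resLegIso ψ
  let Y := (DTen.unit P)⟦(n : ℤ)⟧
  haveI := isIso_shriekPair ψ a (DTen.unit A) Y
  obtain ⟨e⟩ := nonempty_RHomR_unit (Rψ.obj Y)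
  exact H9Misc.DRingPC.isPerfect_of_iso
    ((asIso (shriekPair ψ a (DTen.unit A) Y)).symm ≪≫ (DRing.restrictD ψ).mapIso e)
    (isPerfect_RHomR (n : ℤ) (isPerfect_res_presentation' ψ hψ hR))

/-- The shriek of the ring is relatively perfect. -/
theorem isRelPerfect_shriek_unit' : Dual2.IsRelPerfect R A (Rψ.obj ((DTen.unit _)⟦(n : ℤ)⟧)) := by
  let P := MvPolynomial (Fin n) R
  have hW := isPerfect_res_shriek_unit' ψ hψ hR a
  refine ⟨(H9Misc.DRingPC.pc'_iff _).2 fun m => ?_, ?_⟩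
  · exact (H9Misc.DRingRestrict.pc_restrict_iff ψ (pc'_presentation ψ hψ hR) m _).2
      ((H9Misc.DRingPC.pc'_iff _).1 ((H9Misc.DRingPerfect.isPerfect_iff _).1 hW).1 m)
  obtain ⟨E, p, q, hz, hE, ⟨e⟩⟩ := hW
  let ι : R →+* P := MvPolynomial.C
  refine ⟨p, q, (DTen.resCx ι).obj E,
    fun i hi => (ModuleCat.restrictScalars ι).map_isZero (hz i hi), fun i => ?_, ⟨?_⟩⟩
  · haveI := (hE i).2
    letI : Module R (E.X i) := Module.compHom _ ι
    haveI : IsScalarTower R P (E.X i) := IsScalarTower.of_algebraMap_smul fun _ _ => rfl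
    exact Module.Flat.trans R P (E.X i)
  · rw [← hR]
    exact ((DTen.resFactors ι).app E).symm ≪≫ (DRing.restrictD ι).mapIso e ≪≫
      ((H9Misc.DRingRelPC.restrictDCompIso ι ψ).app _).symm

/-- The endomorphisms and self-extensions of the shriek of the ring. -/
theorem bijective_smul_shriek_unit' :
    (Function.Bijective fun x : A => x • 𝟙 (Rψ.obj ((DTen.unit _)⟦(n : ℤ)⟧))) ∧
      ∀ i : ℤ, i ≠ 0 → Subsingleton (Rψ.obj ((DTen.unit _)⟦(n : ℤ)⟧) ⟶
        (Rψ.obj ((DTen.unit _)⟦(n : ℤ)⟧))⟦i⟧) := by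
  let P := MvPolynomial (Fin n) R
  haveI := hasLTen P
  haveI := hasLTen A
  haveI := hasRHom (A := P)
  haveI := hasRHom (A := A)
  haveI := hasLBase ψ
  haveI := hasResTen ψ
  haveI := resLegIso ψ
  let W := Rψ.obj ((DTen.unit P)⟦(n : ℤ)⟧)
  haveI := isIso_bidualMap_shriek ψ a (DTen.unit A) (n : ℤ) (isPerfect_res_presentation' ψ hψ hR)
  obtain ⟨e⟩ := nonempty_RHomR_unit W
  let f : DTen.unit A ≅ (DTen.RHomR A W).obj W :=
    asIso (bidualMap (DTen.unit A) W) ≪≫ ((DTen.RHom A).mapIso e.symm.op).app W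
  let iU : DTen.unit A ≅ Dual.inD A A :=
    ((DerivedCategory.singleFunctorIsoCompQ (ModuleCat.{u} A) 0).app (ModuleCat.of A A)).symm
  refine ⟨?_, fun i hi => ?_⟩
  · obtain ⟨l⟩ := exists_hdRHomShiftLEquiv W W (0 : ℤ)
    let h0 : Dual.HD A ((DTen.RHomR A W).obj W) 0 ≃ₗ[A] A :=
      (((DerivedCategory.homologyFunctor (ModuleCat.{u} A) 0).mapIso (f.symm ≪≫ iU)).toLinearEquiv).trans
        ((DerivedCategory.singleFunctorCompHomologyFunctorIso (ModuleCat.{u} A) 0).app (ModuleCat.of A A)).toLinearEquiv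
    let z : (W ⟶ W) ≃ₗ[A] (W ⟶ W⟦(0 : ℤ)⟧) :=
      Linear.homCongr A (Iso.refl W) ((shiftFunctorZero (Dual.D A) ℤ).app W).symm
    exact toEnd_bijective_of_linearEquiv W ((z.trans l.symm).trans h0)
  · obtain ⟨l⟩ := exists_hdRHomShiftLEquiv W W i
    have h0 : Subsingleton (Dual.HD A (Dual.inD A A) i) := ModuleCat.subsingleton_of_isZero (by
      rcases lt_or_gt_of_ne hi with h | h
      · exact DerivedCategory.isZero_of_isGE _ 0 i h
      · exact DerivedCategory.isZero_of_isLE _ 0 i h)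
    haveI := subsingleton_hd_of_iso (iU.symm ≪≫ f) i h0
    exact l.symm.toEquiv.subsingleton

variable [DRing.HasLBaseChange (Algebra.TensorProduct.includeLeftRingHom : A →+* A ⊗[R] A)]
  (Rμ : Dual.D (A ⊗[R] A) ⥤ Dual.D A)
  (adjμ : DRing.restrictD (Algebra.TensorProduct.lmul' R (S := A)).toRingHom ⊣ Rμ)

include adjμ

/-- The diagonal shriek of the shriek of the ring is the ring. -/
theorem nonempty_diagonal_shriek' :
    Nonempty (Rμ.obj ((DRing.LBaseChange (Algebra.TensorProduct.includeLeftRingHom : A →+* A ⊗[R] A)).obj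
      (Rψ.obj ((DTen.unit _)⟦(n : ℤ)⟧))) ≅ DTen.unit A) := by
  let incL : A →+* A ⊗[R] A := Algebra.TensorProduct.includeLeftRingHom
  let μ : A ⊗[R] A →+* A := (Algebra.TensorProduct.lmul' R (S := A)).toRingHom
  let τ : A ⊗[R] A →+* A ⊗[R] A := (Algebra.TensorProduct.comm R A A).toRingHom
  haveI := hasLTen A
  haveI := hasLBase incL
  haveI := hasLBase (incRight R A A)
  haveI := hasLBase τ
  obtain ⟨eB⟩ := nonempty_LBaseChange_iso incL
  let W := Rψ.obj ((DTen.unit (MvPolynomial (Fin n) R))⟦(n : ℤ)⟧)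
  have hτ : τ.comp (incRight R A A) = incL := RingHom.ext fun x => by simp [τ, incL]
  obtain ⟨iτ⟩ := nonempty_LBase_comp (incRight R A A) τ incL hτ
  obtain ⟨Rτ, ⟨aτ⟩⟩ := exists_shriek τ
  have hττ : τ.comp τ = RingHom.id (A ⊗[R] A) := RingHom.ext fun x => by
    induction x with
    | zero => simp
    | tmul x y => simp [τ]
    | add x y hx hy => simp [map_add, hx, hy]
  obtain ⟨iR⟩ := nonempty_iso_of_inverse τ τ hττ hττ aτ
  have hμτ : μ.comp τ = μ := RingHom.ext fun x => by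
    induction x with
    | zero => simp
    | tmul x y => simp [τ, μ, mul_comm]
    | add x y hx hy => simp [map_add, hx, hy]
  let iμ : Rτ ⋙ Rμ ≅ Rμ := Adjunction.rightAdjointUniq
    ((adjμ.comp aτ).ofNatIsoLeft ((H9Misc.DRingRelPC.restrictDCompIso τ μ).symm ≪≫ eqToIso (by rw [hμτ]))) adjμ
  let e₁ : Rμ.obj ((DRing.LBaseChange incL).obj W) ≅ Rμ.obj ((DTen.LBase (incRight R A A)).obj W) :=
    Rμ.mapIso (eB.app W ≪≫ (iτ.app W).symm ≪≫ (iR.app _).symm) ≪≫ iμ.app _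
  haveI := hasLBase (algebraMap R (MvPolynomial (Fin n) R))
  haveI := hasLBase (algebraMap A (MvPolynomial (Fin n) A))
  haveI := hasLBase (algebraMap R A)
  obtain ⟨R'', ⟨a''⟩⟩ := exists_shriek (presBC A ψ)
  obtain ⟨t⟩ := nonempty_shriek_baseChange_of_flat_left' ψ hψ hR (R' := A) (algebraMap R _) rfl a
    (algebraMap A _) rfl a'' (DTen.unit R)
  obtain ⟨u₁⟩ := nonempty_LBase_unit (algebraMap R (MvPolynomial (Fin n) R))
  obtain ⟨u₂⟩ := nonempty_LBase_unit (algebraMap R A)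
  obtain ⟨s₁⟩ := nonempty_shriek_shift a (n : ℤ)
  obtain ⟨s₂⟩ := nonempty_shriek_shift adjμ (n : ℤ)
  obtain ⟨Rθ, ⟨aθ⟩⟩ := exists_shriek (μ.comp (presBC A ψ))
  obtain ⟨c⟩ := nonempty_shriek_comp (χ := μ.comp (presBC A ψ)) rfl a'' adjμ aθ
  have hπ : (μ.comp (presBC A ψ)).comp (algebraMap A (MvPolynomial (Fin n) A)) = RingHom.id A := by
    rw [RingHom.comp_assoc]
    refine (congrArg μ.comp (presBC_C ψ)).trans (RingHom.ext fun x => ?_)
    simp [μ]
  obtain ⟨r⟩ := nonempty_LBase_shriek_retraction n (algebraMap A (MvPolynomial (Fin n) A))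
    (RingEquiv.refl _) rfl (μ.comp (presBC A ψ)) hπ Rθ aθ
  exact ⟨e₁ ≪≫ Rμ.mapIso ((DTen.LBase _).mapIso (s₁.app _ ≪≫
      (shiftFunctor _ (n : ℤ)).mapIso (Rψ.mapIso u₁.symm)) ≪≫ t ≪≫
      (shiftFunctor _ (n : ℤ)).mapIso (R''.mapIso ((DTen.LBase _).mapIso u₂))) ≪≫
    s₂.app _ ≪≫ (shiftFunctor _ (n : ℤ)).mapIso (c.app _) ≪≫ r.app (DTen.unit A)⟩

/-- The shriek of the ring is a relative dualizing complex. -/
theorem isRelDualizing_shriek_unit' :
    Dual2.IsRelDualizing R A Rμ (Rψ.obj ((DTen.unit _)⟦(n : ℤ)⟧)) := by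
  obtain ⟨e⟩ := nonempty_diagonal_shriek' ψ hψ hR a Rμ adjμ
  exact ⟨isRelPerfect_shriek_unit' ψ hψ hR a,
    ⟨e ≪≫ ((DerivedCategory.singleFunctorIsoCompQ (ModuleCat.{u} A) 0).app (ModuleCat.of A A)).symm⟩⟩

/-- The diagonal shriek of a dual is the dual. -/
theorem nonempty_diagonal_shriek_RHom [DTen.HasLTen A] [DTen.HasRHom A] (C : Dual.D A)
    (hC : DRing.IsPseudoCoherent' A C) :
    Nonempty (Rμ.obj ((DRing.LBaseChange (Algebra.TensorProduct.includeLeftRingHom : A →+* A ⊗[R] A)).obj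
      ((DTen.RHomR A C).obj (Rψ.obj ((DTen.unit _)⟦(n : ℤ)⟧)))) ≅ (DTen.RHomR A C).obj (DTen.unit A)) := by
  let incL : A →+* A ⊗[R] A := Algebra.TensorProduct.includeLeftRingHom
  let μ : A ⊗[R] A →+* A := (Algebra.TensorProduct.lmul' R (S := A)).toRingHom
  haveI := hasLTen (A ⊗[R] A)
  haveI := hasRHom (A := A ⊗[R] A)
  haveI := hasLBase incL
  haveI := hasLBase μ
  haveI := hasResTen incL
  haveI := resLegIso incL
  obtain ⟨eB⟩ := nonempty_LBaseChange_iso incL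
  let W := Rψ.obj ((DTen.unit (MvPolynomial (Fin n) R))⟦(n : ℤ)⟧)
  obtain ⟨d⟩ := nonempty_diagonal_shriek' ψ hψ hR a Rμ adjμ
  obtain ⟨p, hW⟩ := exists_isGE_of_res ψ W (isPerfect_res_shriek_unit' ψ hψ hR a)
  have hflat : incL.Flat := RingHom.flat_algebraMap_iff.2 (inferInstance : Module.Flat A (A ⊗[R] A))
  haveI := isIso_rhomBC incL C ((DTen.LBase incL).obj W)
  haveI := isIso_bcRHom_of_pseudoCoherent (φ := incL) (hasTorAmplitudeIn_resUnitCx incL hflat) C W hC p hW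
  obtain ⟨i⟩ := nonempty_shriek_RHom μ adjμ ((DTen.LBase incL).obj C)
  have hμ : μ.comp incL = RingHom.id A := RingHom.ext fun x => by simp [μ, incL]
  haveI := hasLBase (μ.comp incL)
  obtain ⟨j⟩ := nonempty_LBase_comp incL μ (μ.comp incL) rfl
  obtain ⟨k⟩ := nonempty_LBase_id (μ.comp incL) hμ
  exact ⟨Rμ.mapIso (eB.app _ ≪≫ asIso (DTen.bcRHom incL C W)) ≪≫ i.app _ ≪≫
    ((DTen.RHom A).mapIso ((j ≪≫ k).app C).symm.op).app _ ≪≫
    (DTen.RHomR A C).mapIso (Rμ.mapIso (eB.app W).symm ≪≫ d)⟩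

/-- A relative dualizing complex is the shriek of the ring. -/
theorem nonempty_iso_shriek_unit {K : Dual.D A} (hK : Dual2.IsRelDualizing R A Rμ K) :
    Nonempty (K ≅ Rψ.obj ((DTen.unit _)⟦(n : ℤ)⟧)) := by
  let incL : A →+* A ⊗[R] A := Algebra.TensorProduct.includeLeftRingHom
  let μ : A ⊗[R] A →+* A := (Algebra.TensorProduct.lmul' R (S := A)).toRingHom
  haveI := hasLTen A
  haveI := hasRHom (A := A)
  haveI := hasLBase incL
  haveI := hasLBase μ
  let u := DTen.unit A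
  let W := Rψ.obj ((DTen.unit (MvPolynomial (Fin n) R))⟦(n : ℤ)⟧)
  obtain ⟨hKp, ⟨d⟩⟩ := hK
  obtain ⟨D, hD, ⟨b⟩⟩ := exists_dual_of_isRelPerfect ψ hψ hR a hKp
  obtain ⟨ΦD⟩ := nonempty_diagonal_shriek_RHom ψ hψ hR a Rμ adjμ D hD
  let iU : u ≅ Dual.inD A A :=
    ((DerivedCategory.singleFunctorIsoCompQ (ModuleCat.{u} A) 0).app (ModuleCat.of A A)).symm
  let e : u ≅ (DTen.RHomR A D).obj u :=
    iU ≪≫ d.symm ≪≫ Rμ.mapIso ((DRing.LBaseChange incL).mapIso b) ≪≫ ΦD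
  obtain ⟨δ, hδ⟩ := exists_map_unit_of_iso e
  obtain ⟨C, g, t, hT⟩ := distinguished_cocone_triangle δ
  have hu : DRing.IsPseudoCoherent' A u :=
    ((H9Misc.DRingPerfect.isPerfect_iff _).1 (H9Misc.DRingPC.isPerfect_of_iso
      ((shiftFunctorZero (Dual.D A) ℤ).app u) (isPerfect_unit_shift (R := A) 0))).1
  have hC : DRing.IsPseudoCoherent' A C := H9Misc.DRingPC.obj₃' _ hT hD hu
  obtain ⟨c₁, hc₁⟩ := exists_triangle_RHomMap _ hT u
  have hz : IsZero ((DTen.RHomR A C).obj u) := Triangle.isZero₁_of_isIso₂ _ hc₁ hδ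
  obtain ⟨ΦC⟩ := nonempty_diagonal_shriek_RHom ψ hψ hR a Rμ adjμ C hC
  let X := (DTen.RHomR A C).obj W
  -- the cone maps to zero
  obtain ⟨bC, hbC⟩ := H9Misc.DRingPC.exists_bound ((H9Misc.DRingPC.pc'_iff _).1 hC 0)
  haveI : C.IsLE bC := (DerivedCategory.isLE_iff _ _).2 fun i hi => hbC i hi
  obtain ⟨p, hW⟩ := exists_isGE_of_res ψ W (isPerfect_res_shriek_unit' ψ hψ hR a)
  haveI := hW
  haveI : X.IsGE (p - bC) := isGE_RHomR C W bC p
  have hflat : incL.Flat := RingHom.flat_algebraMap_iff.2 (inferInstance : Module.Flat A (A ⊗[R] A))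
  haveI : ((DTen.LBase incL).obj X).IsGE (p - bC + 0) :=
    isGE_LBase (hasTorAmplitudeIn_resUnitCx incL hflat) X _
  obtain ⟨eB⟩ := nonempty_LBaseChange_iso incL
  have hX : IsZero X := by
    have h0 : IsZero (Rμ.obj ((DTen.LBase incL).obj X)) :=
      hz.of_iso (Rμ.mapIso (eB.app X).symm ≪≫ ΦC)
    have h1 : IsZero ((DTen.LBase μ).obj ((DTen.LBase incL).obj X)) := by
      refine isZero_LBase_of_orth μ (fun x => ⟨x ⊗ₜ 1, by simp [μ]⟩) ?_ _ (p - bC + 0) fun j f => ?_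
      · haveI : Algebra.FinitePresentation A (A ⊗[R] A) := inferInstance
        exact Algebra.FinitePresentation.ker_fG_of_surjective (R := A)
          (Algebra.TensorProduct.lmul'' R (S := A)) (fun x => ⟨x ⊗ₜ 1, mul_one x⟩)
      · obtain ⟨s⟩ := nonempty_shriek_shift adjμ j
        refine (adjμ.homEquiv _ _).injective ((IsZero.of_iso ?_ (s.app _)).eq_of_tgt _ _)
        exact (shiftFunctor (Dual.D A) j).map_isZero h0
    have hμ : μ.comp incL = RingHom.id A := RingHom.ext fun x => by simp [μ, incL]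
    haveI := hasLBase (μ.comp incL)
    obtain ⟨j⟩ := nonempty_LBase_comp incL μ (μ.comp incL) rfl
    obtain ⟨k⟩ := nonempty_LBase_id (μ.comp incL) hμ
    exact h1.of_iso ((j ≪≫ k).app X).symm
  obtain ⟨c₂, hc₂⟩ := exists_triangle_RHomMap _ hT W
  haveI : IsIso (DTen.RHomMap δ W) := (Triangle.isZero₁_iff_isIso₂ _ hc₂).1 hX
  obtain ⟨eu⟩ := nonempty_RHomR_unit W
  exact ⟨b ≪≫ (asIso (DTen.RHomMap δ W)).symm ≪≫ eu⟩

end Groth.Agent.KFlatLib
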