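import Groth.Agent.KFlatLib.Ring.DualizingNormalizedShriek
import Groth.Agent.KFlatLib.Ring.RelDualizingGeneral
import Groth.Agent.KFlatLib.Ring.ShriekRHom
import Groth.Agent.KFlatLib.Ring.EvalTen

/-!
# The shriek and duality
-/

set_option linter.style.haveILetI false
set_option backward.isDefEq.respectTransparency false

universe u

open CategoryTheory CategoryTheory.Limits Pretriangulated MonoidalCategory Opposite
open Pretriangulated.Opposite

attribute [local instance] HasDerivedCategory.standard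

namespace Groth.Agent.KFlatLib

section

variable {A : Type u} [CommRing A] [DTen.HasLTen A] [DTen.HasRHom A]

/-- Derived hom commutes with shifts of the target. -/
lemma nonempty_RHomR_shift (X : Dual.D A) (n : ℤ) :
    Nonempty (DTen.RHomR A X ⋙ shiftFunctor (Dual.D A) n ≅
      shiftFunctor (Dual.D A) n ⋙ DTen.RHomR A X) := by
  haveI := hasLTen₃ A
  haveI := isSymMonoidal A
  obtain ⟨s⟩ := nonempty_tensorRight_shift (B := A) (-n) (Iso.refl ((DTen.unit A)⟦-n⟧))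
  let U := (DTen.unit A)⟦-n⟧
  let T := DTen.tensorRightD A
  let c : T U ⋙ T X ≅ T X ⋙ T U := NatIso.ofComponents
    (fun Z => DTen.associator Z U X ≪≫
      (DTen.LTen₂ A).mapIso (Iso.prod (Iso.refl Z) (DTen.braiding X U)) ≪≫ (DTen.associator Z X U).symm)
    fun {Z Z'} f => by
      have h₁ := associator_naturality f (𝟙 U) (𝟙 X)
      have h₂ := associator_naturality f (𝟙 X) (𝟙 U)
      have hid : ∀ a b : Dual.D A, (DTen.LTen₂ A).map (Prod.mkHom (𝟙 a) (𝟙 b)) = 𝟙 _ :=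
        fun a b => (DTen.LTen₂ A).map_id (a, b)
      rw [hid] at h₁ h₂
      dsimp [T]
      rw [Category.assoc, Category.assoc]
      erw [reassoc_of% h₁]
      congr 1
      rw [← cancel_mono (DTen.associator Z' X U).hom]
      simp only [Category.assoc, Iso.inv_hom_id, Category.comp_id]
      erw [h₂, Iso.inv_hom_id_assoc]
      rw [← Functor.map_comp, ← Functor.map_comp]
      exact congrArg _ (Prod.ext ((Category.comp_id _).trans (Category.id_comp _).symm)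
        ((Category.id_comp _).trans (Category.comp_id _).symm))
  let c' : shiftFunctor (Dual.D A) (-n) ⋙ T X ≅ T X ⋙ shiftFunctor (Dual.D A) (-n) :=
    Functor.isoWhiskerRight s.symm _ ≪≫ c ≪≫ Functor.isoWhiskerLeft _ s
  let adjS := (shiftEquiv' (Dual.D A) (-n) n (neg_add_cancel n)).toAdjunction
  exact ⟨Adjunction.rightAdjointUniq ((adjS.comp (DTen.rhomAdj A X)).ofNatIsoLeft c')
    ((DTen.rhomAdj A X).comp adjS)⟩

end

section

variable {R A : Type u} [CommRing R] [CommRing A] {φ : R →+* A} [DTen.HasLBase φ]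
  [DTen.HasLTen R] [DTen.HasLTen A] [DTen.HasRHom R] [DTen.HasRHom A]
  [DTen.HasResTen φ] [DTen.ResLegIso φ]

/-- Base change for derived hom out of finite cohomology into finite injective dimension. -/
theorem isIso_bcRHom_of_finite [IsNoetherianRing R] {a : ℤ}
    (hA : DRing.HasTorAmplitudeIn R a 0 (DerivedCategory.Q.obj (resUnitCx φ)))
    (K M : Dual.D R) [IsIso (DTen.rhomBC φ K ((DTen.LBase φ).obj M))]
    (hK : ∀ i : ℤ, Module.Finite R (Dual.HD R K i)) (n : ℤ) (hM : DerivedCategory.IsGE M n)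
    (hMi : DRing.HasFiniteInjDim R M) (hNi : DRing.HasFiniteInjDim A ((DTen.LBase φ).obj M)) :
    IsIso (DTen.bcRHom φ K M) := by
  haveI := hM
  obtain ⟨c, b, hb⟩ := hMi
  obtain ⟨c', b', hb'⟩ := hNi
  haveI := hasLTen₃ R
  haveI := hasLTen₃ A
  haveI := isSymMonoidal R
  haveI := isSymMonoidal A
  have hbc : ∀ K M, IsIso (DTen.rhomBC φ K M) := fun K M => isIso_rhomBC φ K M
  haveI := hbc
  let N := (DTen.LBase φ).obj M
  let F := (DTen.RHom R).flip.obj M ⋙ DTen.LBase φ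
  let G := (DTen.LBase φ).op ⋙ (DTen.RHom A).flip.obj N
  refine isIso_of_bijective_unit _ fun j => ?_
  let m : ℤ := max (b + j) (b' + j - a) + 1
  obtain ⟨T, hT, hpc, -, h₂, hB, -⟩ := exists_trunc hK m
  subst h₂
  haveI := hB
  haveI hη : IsIso (DTen.bcRHom φ T.obj₁ M) := isIso_bcRHom_of_pseudoCoherent hA T.obj₁ M hpc n hM
  -- maps from the unit into bounded above objects
  have hz : ∀ (Y : Dual.D A) (k : ℤ), Y.IsLE k → k < -j → ∀ f : (DTen.unit A)⟦j⟧ ⟶ Y, f = 0 :=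
    fun Y k hY hk f => haveI := hY; eq_zero_of_isLE_unit Y j k hk f
  haveI hB1 : DerivedCategory.IsGE (T.obj₃⟦(-1 : ℤ)⟧) (m + 1 + 1) :=
    DerivedCategory.TStructure.t.isGE_shift T.obj₃ (m + 1) (-1 : ℤ) (m + 1 + 1) (by omega)
  have hF : ∀ (C : Dual.D R) (k : ℤ), C.IsGE k → m < k → ∀ f : (DTen.unit A)⟦j⟧ ⟶ F.obj (op C), f = 0 := by
    intro C k hC hk f
    haveI := hC
    haveI := isLE_RHomR C M k c b hb
    exact hz _ _ (isLE_LBase (φ := φ) ((DTen.RHomR R C).obj M) (b - k)) (by omega) f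
  have hG : ∀ (C : Dual.D R) (k : ℤ), C.IsGE k → m < k → ∀ f : (DTen.unit A)⟦j⟧ ⟶ G.obj (op C), f = 0 := by
    intro C k hC hk f
    haveI := hC
    haveI := isGE_LBase hA C k
    exact hz _ _ (isLE_RHomR ((DTen.LBase φ).obj C) N (k + a) c' b' hb') (by omega) f
  obtain ⟨c₁, hc₁⟩ := exists_triangle_RHomMap T hT M
  obtain ⟨c₂, hc₂⟩ := exists_triangle_LBase φ _ hc₁
  obtain ⟨c₃, hc₃⟩ := exists_triangle_RHomMap _ (inv_rot_of_distTriang _ hT) M
  obtain ⟨c₄, hc₄⟩ := exists_triangle_LBase φ _ hc₃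
  obtain ⟨d₁, hd₁⟩ := exists_triangle_LBase φ _ hT
  obtain ⟨d₂, hd₂⟩ := exists_triangle_RHomMap _ hd₁ N
  let a₁ : F.obj (op T.obj₂) ⟶ F.obj (op T.obj₁) := (DTen.LBase φ).map (DTen.RHomMap T.mor₁ M)
  let a₂ : G.obj (op T.obj₂) ⟶ G.obj (op T.obj₁) := DTen.RHomMap ((DTen.LBase φ).map T.mor₁) N
  have hn : DTen.bcRHom φ T.obj₂ M ≫ a₂ = a₁ ≫ DTen.bcRHom φ T.obj₁ M :=
    rhom_map_bcRHom hbc M T.mor₁
  refine ⟨fun f f' hff => sub_eq_zero.1 ?_, fun y => ?_⟩
  · have h0 : (f - f') ≫ DTen.bcRHom φ T.obj₂ M = 0 := by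
      rw [Preadditive.sub_comp]; exact sub_eq_zero.2 hff
    generalize f - f' = f at h0
    have h1 : f ≫ a₁ = 0 := (cancel_mono (DTen.bcRHom φ T.obj₁ M)).1 (by
      rw [Category.assoc, ← hn, ← Category.assoc, h0, zero_comp, zero_comp])
    obtain ⟨x, hx⟩ := Triangle.coyoneda_exact₂ _ hc₂ f h1
    rw [hx, hF T.obj₃ (m + 1) hB (by omega) x]
    exact zero_comp
  · obtain ⟨x, hx⟩ : ∃ x : (DTen.unit A)⟦j⟧ ⟶ F.obj (op T.obj₂),
        x ≫ a₁ = (y ≫ a₂) ≫ inv (DTen.bcRHom φ T.obj₁ M) := by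
      obtain ⟨x, hx⟩ := Triangle.coyoneda_exact₂ _ hc₄
        ((y ≫ a₂) ≫ inv (DTen.bcRHom φ T.obj₁ M)) (hF _ _ hB1 (by omega) _)
      exact ⟨x, hx.symm⟩
    refine ⟨x, sub_eq_zero.1 ?_⟩
    have h1 : (x ≫ DTen.bcRHom φ T.obj₂ M - y) ≫ a₂ = 0 := by
      rw [Preadditive.sub_comp, Category.assoc, hn, ← Category.assoc, hx, Category.assoc _ (inv _),
        IsIso.inv_hom_id, Category.comp_id, sub_self]
    obtain ⟨z, hz'⟩ := Triangle.coyoneda_exact₂ _ hd₂ _ h1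
    change x ≫ DTen.bcRHom φ T.obj₂ M - y = 0
    rw [hz', hG T.obj₃ (m + 1) hB (by omega) z]
    exact zero_comp

end

/-- The shriek through a presentation turns duality into duality. -/
theorem nonempty_shriekVia_RHom {A B : Type u} [CommRing A] [CommRing B] [IsNoetherianRing A]
    [DTen.HasLTen A] [DTen.HasRHom A] [DTen.HasLTen B] [DTen.HasRHom B] {n : ℕ}
    [DRing.HasLBaseChange (algebraMap A (MvPolynomial (Fin n) A))]
    {ψ : MvPolynomial (Fin n) A →+* B} {Rψ : Dual.D (MvPolynomial (Fin n) A) ⥤ Dual.D B}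
    (adj : DRing.restrictD ψ ⊣ Rψ) (χ : A →+* B)
    (hχ : ψ.comp (algebraMap A (MvPolynomial (Fin n) A)) = χ) [DRing.HasLBaseChange χ]
    {ω : Dual.D A} (hω : Dual.IsDualizing A ω) (K : Dual.D A)
    (hK : ∀ i : ℤ, Module.Finite A (Dual.HD A K i)) :
    Nonempty (Dual2.shriekVia n Rψ K ≅
      (DTen.RHomR B ((DRing.LBaseChange χ).obj ((DTen.RHomR A K).obj ω))).obj
        (Dual2.shriekVia n Rψ ω)) := by
  let ι := algebraMap A (MvPolynomial (Fin n) A)
  haveI := hasLTen (MvPolynomial (Fin n) A)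
  haveI := hasRHom (A := MvPolynomial (Fin n) A)
  haveI := hasLBase ι
  haveI := hasLBase ψ
  haveI := hasLBase χ
  haveI := hasResTen ι
  haveI := resLegIso ι
  let M := (DTen.RHomR A K).obj ω
  have hM : ∀ i : ℤ, Module.Finite A (Dual.HD A M i) :=
    finite_hd_RHom_of_finite_hd hK hω.finite_cohomology (finiteInjDim_of_isDualizing hω)
  obtain ⟨eK⟩ := nonempty_biduality hω hK
  obtain ⟨eι⟩ := nonempty_LBaseChange_iso ι
  obtain ⟨eχ⟩ := nonempty_LBaseChange_iso χ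
  obtain ⟨ec⟩ := nonempty_LBase_comp ι ψ χ hχ
  obtain ⟨eS⟩ := nonempty_shriek_RHom ψ adj ((DTen.LBase ι).obj M)
  obtain ⟨es⟩ := nonempty_RHomR_shift ((DTen.LBase ψ).obj ((DTen.LBase ι).obj M)) (n : ℤ)
  haveI := isIso_rhomBC ι M ((DTen.LBase ι).obj ω)
  obtain ⟨a, b, hab, hge, -⟩ := exists_bounds_of_isDualizing hω
  have hflat : ι.Flat := RingHom.flat_algebraMap_iff.2 inferInstance
  haveI := isIso_bcRHom_of_finite (φ := ι) (hasTorAmplitudeIn_resUnitCx ι hflat) M ω hM a hge ⟨a, b, hab⟩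
    (finiteInjDim_of_isDualizing (isDualizing_LBase_mvPolynomial n hω))
  exact ⟨(shiftFunctor (Dual.D B) (n : ℤ)).mapIso
      (Rψ.mapIso (eι.app K ≪≫ (DTen.LBase ι).mapIso eK.symm ≪≫ asIso (DTen.bcRHom ι M ω)) ≪≫
        eS.app ((DTen.LBase ι).obj ω) ≪≫
        (DTen.RHomR B _).mapIso (Rψ.mapIso (eι.app ω).symm)) ≪≫
    es.app _ ≪≫ ((DTen.RHom B).mapIso (ec.app M ≪≫ (eχ.app M).symm).symm.op).app _⟩

end Groth.Agent.KFlatLib
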