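import Groth.Agent.KFlatLib.Ring.DualizingLocalDuality
import Groth.Agent.LC.MatlisExtra
import Mathlib.RingTheory.AdicCompletion.AsTensorProduct

/-!
# Double duals of finite modules and the completed forms of local duality
-/

set_option linter.style.haveILetI false
set_option backward.isDefEq.respectTransparency false

universe u w

open CategoryTheory CategoryTheory.Limits IsLocalRing TensorProduct

attribute [local instance] HasDerivedCategory.standard

namespace Groth.Agent.KFlatLib

variable {A : Type u} [CommRing A]

/-- A finite module has a copy in the universe of the ring. -/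
lemma exists_small_copy (X : Type w) [AddCommGroup X] [Module A X] [Module.Finite A X] :
    ∃ (X' : Type u) (_ : AddCommGroup X') (_ : Module A X') (_ : Module.Finite A X'), Nonempty (X ≃ₗ[A] X') := by
  obtain ⟨n, π, hπ⟩ := Module.Finite.exists_fin' A X
  exact ⟨(Fin n → A) ⧸ LinearMap.ker π, inferInstance, inferInstance, inferInstance,
    ⟨(π.quotKerEquivOfSurjective hπ).symm⟩⟩

section Bidual

variable (E : Type u) [AddCommGroup E] [Module A E]

/-- The map to the double dual twisted by endomorphisms. -/
noncomputable def endTensor (M : Type u) [AddCommGroup M] [Module A M] :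
    Module.End A E ⊗[A] M →ₗ[A] ((M →ₗ[A] E) →ₗ[A] E) :=
  TensorProduct.lift <| LinearMap.mk₂ A (fun φ m => φ ∘ₗ LinearMap.applyₗ m)
    (fun a b m => by rw [LinearMap.add_comp])
    (fun r a m => by rw [LinearMap.smul_comp])
    (fun h a b => by ext g; simp)
    (fun r h a => by ext g; simp)

lemma endTensor_tmul (M : Type u) [AddCommGroup M] [Module A M] (φ : Module.End A E) (m : M) (g : M →ₗ[A] E) :
    endTensor (A := A) E M (φ ⊗ₜ m) g = φ (g m) := rfl

lemma endTensor_natural {M N : Type u} [AddCommGroup M] [Module A M] [AddCommGroup N] [Module A N]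
    (f : M →ₗ[A] N) (t : Module.End A E ⊗[A] M) :
    endTensor (A := A) E N (f.lTensor _ t) = endTensor (A := A) E M t ∘ₗ LinearMap.lcomp A E f := by
  induction t with
  | zero => simp
  | add a b ha hb => simp only [map_add, ha, hb, LinearMap.add_comp]
  | tmul h m => rfl

lemma endTensor_bijective_pi (n : ℕ) : Function.Bijective (endTensor (A := A) E (Fin n → A)) := by
  let e : Fin n → (Fin n → A) := fun k => Pi.single k 1
  let c : Fin n → (E →ₗ[A] ((Fin n → A) →ₗ[A] E)) := fun k =>
    LinearMap.smulRightₗ (LinearMap.proj k)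
  have hc : ∀ k y v, c k y v = v k • y := fun k y v => rfl
  refine Function.bijective_iff_has_inverse.2 ⟨fun θ => ∑ k, (θ ∘ₗ c k) ⊗ₜ[A] e k, fun t => ?_, fun θ => ?_⟩
  · induction t with
    | zero => simp
    | add a b ha hb =>
      simp only [map_add, LinearMap.add_comp, TensorProduct.add_tmul, Finset.sum_add_distrib]
      exact congrArg₂ (· + ·) ha hb
    | tmul h m =>
      have hk : ∀ k, endTensor (A := A) E (Fin n → A) (h ⊗ₜ m) ∘ₗ c k = m k • h := fun k =>
        LinearMap.ext fun y => (map_smul h (m k) y : _)
      simp only [hk, TensorProduct.smul_tmul]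
      rw [← TensorProduct.tmul_sum]
      congr 1
      exact funext fun j => by simp [e, Finset.sum_apply, Pi.single_apply]
  · refine LinearMap.ext fun g => ?_
    simp only [map_sum, LinearMap.sum_apply, endTensor_tmul, LinearMap.comp_apply]
    rw [← map_sum]
    congr 1
    refine LinearMap.ext fun v => ?_
    simp only [LinearMap.sum_apply, hc]
    conv_rhs => rw [show v = ∑ k, v k • e k from funext fun j => by
      simp [e, Finset.sum_apply, Pi.single_apply]]
    simp only [map_sum, map_smul]

variable [IsNoetherianRing A] [Module.Injective A E]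

lemma endTensor_surjective (M : Type u) [AddCommGroup M] [Module A M] [Module.Finite A M] :
    Function.Surjective (endTensor (A := A) E M) := by
  intro θ
  obtain ⟨n, π, hπ⟩ := Module.Finite.exists_fin' A M
  have hinj : Function.Injective (LinearMap.lcomp A E π) := fun a b hab =>
    LinearMap.ext fun m => by obtain ⟨v, rfl⟩ := hπ m; exact LinearMap.congr_fun hab v
  obtain ⟨θ', hθ'⟩ := Module.Injective.out (LinearMap.lcomp A E π) hinj θ
  obtain ⟨t, ht⟩ := (endTensor_bijective_pi (A := A) E n).2 θ'
  refine ⟨π.lTensor _ t, ?_⟩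
  rw [endTensor_natural, ht]
  exact LinearMap.ext hθ'

/-- The twisted double dual of a finite module. -/
theorem endTensor_bijective (M : Type u) [AddCommGroup M] [Module A M] [Module.Finite A M] :
    Function.Bijective (endTensor (A := A) E M) := by
  refine ⟨(injective_iff_map_eq_zero _).2 fun t ht => ?_, endTensor_surjective (A := A) E M⟩
  obtain ⟨n, π, hπ⟩ := Module.Finite.exists_fin' A M
  obtain ⟨s, rfl⟩ := LinearMap.lTensor_surjective (Module.End A E) hπ t
  let P := LinearMap.ker π
  let θ := endTensor (A := A) E (Fin n → A) s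
  let res : ((Fin n → A) →ₗ[A] E) →ₗ[A] (P →ₗ[A] E) := LinearMap.lcomp A E P.subtype
  have hker : LinearMap.ker res ≤ LinearMap.ker θ := by
    intro g hg
    have hle : LinearMap.ker π ≤ LinearMap.ker g := fun z hz =>
      LinearMap.congr_fun (LinearMap.mem_ker.1 hg) ⟨z, hz⟩
    obtain ⟨g', rfl⟩ : ∃ g' : M →ₗ[A] E, g = g' ∘ₗ π := by
      refine ⟨(LinearMap.ker π).liftQ g hle ∘ₗ (π.quotKerEquivOfSurjective hπ).symm.toLinearMap,
        LinearMap.ext fun v => ?_⟩
      have : (π.quotKerEquivOfSurjective hπ).symm (π v) = Submodule.Quotient.mk v :=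
        (LinearEquiv.symm_apply_eq _).2 rfl
      simp [this]
    exact LinearMap.congr_fun ((endTensor_natural (A := A) E π s).symm.trans ht) g'
  obtain ⟨θ'', hθ''⟩ := Module.Injective.out ((LinearMap.ker res).liftQ res le_rfl)
    (LinearMap.ker_eq_bot.1 (Submodule.ker_liftQ_eq_bot _ _ _ le_rfl))
    ((LinearMap.ker res).liftQ θ hker)
  obtain ⟨v, hv⟩ := endTensor_surjective (A := A) E P θ''
  have heq : P.subtype.lTensor _ v = s := by
    refine (endTensor_bijective_pi (A := A) E n).1 ?_
    rw [endTensor_natural, hv]
    exact LinearMap.ext fun g => hθ'' (Submodule.Quotient.mk g)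
  rw [← heq, ← LinearMap.comp_apply, ← LinearMap.lTensor_comp]
  rw [show π ∘ₗ P.subtype = 0 from LinearMap.ext fun z => z.2, LinearMap.lTensor_zero, LinearMap.zero_apply]

end Bidual

variable [IsLocalRing A] [IsNoetherianRing A] {ω : Dual.D A} {E : Type u} [AddCommGroup E] [Module A E]
  {f : ResidueField A →ₗ[A] E}

/-- The double dual of a finite module is its completion. -/
theorem exists_bidual_completion (hf : InjHull.IsInjectiveHull f) (X : Type w) [AddCommGroup X] [Module A X]
    [Module.Finite A X] :
    Nonempty (AdicCompletion (maximalIdeal A) X ≃ₗ[A] ((X →ₗ[A] E) →ₗ[A] E)) := by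
  haveI := hf.isInjective
  obtain ⟨X', _, _, _, ⟨e⟩⟩ := exists_small_copy (A := A) X
  obtain ⟨ee, -⟩ := LC.endEquiv hf
  exact ⟨((AdicCompletion.congr (maximalIdeal A) e).restrictScalars A).trans
    (((AdicCompletion.ofTensorProductEquivOfFiniteNoetherian (maximalIdeal A) X').restrictScalars A).symm.trans
      ((TensorProduct.congr ee.toLinearEquiv.symm (LinearEquiv.refl A X')).trans
        ((LinearEquiv.ofBijective _ (endTensor_bijective (A := A) E X')).trans
          (LinearEquiv.congrLeft E A (LinearEquiv.congrLeft E A e.symm)))))⟩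

/-- Finiteness of Ext into the dualizing complex. -/
lemma finite_hom_dualizing (hω : Dual.IsDualizing A ω) (M : Type u) [AddCommGroup M] [Module A M]
    [Module.Finite A M] (i : ℤ) : Module.Finite A (Dual.inD A M ⟶ ω⟦i⟧) := by
  obtain ⟨a, b, -, ha, -⟩ := exists_bounds_of_isDualizing hω
  haveI := ha
  exact finite_hom_module ω a hω.finite_cohomology M i

end Groth.Agent.KFlatLib
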