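import Groth.Agent.KFlatLib.Ring.DualizingEquidim
import Groth.Agent.LC.PuncturedConn

/-!
# Local rings with a dualizing complex and `(S₂)` are equidimensional
-/

set_option linter.style.haveILetI false
set_option backward.isDefEq.respectTransparency false

universe u

open CategoryTheory CategoryTheory.Limits Pretriangulated IsLocalRing

attribute [local instance] HasDerivedCategory.standard

namespace Groth.Agent.KFlatLib

variable {A : Type u} [CommRing A] [IsNoetherianRing A] [IsLocalRing A] {ω : Dual.D A}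

omit [IsLocalRing A] in
/-- In height one there is nothing strictly between. -/
lemma covBy_of_ringKrullDim_le_one {Q q : PrimeSpectrum A} (hQq : Q < q)
    (h : ringKrullDim (Localization.AtPrime q.asIdeal) ≤ 1) : Q ⋖ q := by
  refine ⟨hQq, fun r hQr hrq => ?_⟩
  have h1 := IsLocalization.AtPrime.ringKrullDim_eq_height q.asIdeal (Localization.AtPrime q.asIdeal)
  rw [h1] at h
  have h2 : q.asIdeal.height ≤ 1 := WithBot.coe_le_coe.1 h
  have h3 : Q.asIdeal.height < r.asIdeal.height := Ideal.height_strict_mono_of_isPrime hQr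
  have h4 : r.asIdeal.height < q.asIdeal.height := Ideal.height_strict_mono_of_isPrime hrq
  have h6 : r.asIdeal.height < 1 := h4.trans_le h2
  rw [Order.lt_one_iff] at h6
  rw [h6] at h3
  exact absurd h3 (not_lt.2 bot_le)

/-- A local ring with a dualizing complex satisfying `(S₂)` is equidimensional: all minimal primes have the
lowest degree. -/
theorem degree_minimalPrime_of_S2 (hω : Dual.IsDualizing A ω) (hN : Dual.IsNormalized A ω) (d : ℕ)
    (hd : ringKrullDim A = d) (hS : LocCoh.HasSk 2 A A) (n : PrimeSpectrum A → ℤ) (hdeg : IsExtDegree ω n)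
    (Q : PrimeSpectrum A) (hQ : Q.asIdeal ∈ minimalPrimes A) : n Q = -(d : ℤ) := by
  classical
  obtain ⟨n', hn', hcov, hmono, -⟩ := exists_extDegree hω
  have he : n = n' := funext fun p => extDegree_unique hdeg hn' p
  subst he
  have h0 : n (closedPoint A) = 0 := extDegree_closedPoint hN hdeg
  have hdim := fun P => ringKrullDim_quotient_eq hcov hmono P
  by_contra hQne
  have hAd : Module.supportDim A A = d := by rw [Module.supportDim_self_eq_ringKrullDim, hd]
  obtain ⟨Q1, -, hmin1, hQ1d⟩ := exists_mem_support_dim A d hAd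
  have hsupp : ∀ p : PrimeSpectrum A, p ∈ Module.support A A := fun p => by
    rw [Module.support_eq_zeroLocus, Module.annihilator_eq_bot.2 inferInstance]
    simp
  have hQ1min : Q1.asIdeal ∈ minimalPrimes A :=
    ⟨⟨Q1.isPrime, bot_le⟩, fun r hr hrQ =>
      (congrArg PrimeSpectrum.asIdeal (hmin1 ⟨r, hr.1⟩ (hsupp _) hrQ)).ge⟩
  have hQ1n : n Q1 = -(d : ℤ) := by
    obtain ⟨e, he, he'⟩ := hdim Q1
    have h1 : ringKrullDim (A ⧸ Q1.asIdeal) ≤ ringKrullDim A :=
      ringKrullDim_le_of_surjective (Ideal.Quotient.mk Q1.asIdeal) Ideal.Quotient.mk_surjective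
    rw [he, hd] at h1
    rw [he] at hQ1d
    have : e ≤ d := by exact_mod_cast h1
    have : d ≤ e := by exact_mod_cast hQ1d
    omega
  let Z : Set (PrimeSpectrum A) := {p | ∃ P1 P2 : PrimeSpectrum A, P1.asIdeal ∈ minimalPrimes A ∧
    P2.asIdeal ∈ minimalPrimes A ∧ P1 ≤ p ∧ P2 ≤ p ∧ n P1 = -(d : ℤ) ∧ n P2 ≠ -(d : ℤ)}
  have hZ : Z.Nonempty := ⟨closedPoint A, Q1, Q, hQ1min, hQ,
    IsLocalRing.le_maximalIdeal Q1.isPrime.ne_top, IsLocalRing.le_maximalIdeal Q.isPrime.ne_top, hQ1n, hQne⟩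
  obtain ⟨_, ⟨q, hq, rfl⟩, hqmin⟩ := (wellFounded_lt (α := ℕ∞)).has_min
    ((fun p : PrimeSpectrum A => p.asIdeal.height) '' Z) (hZ.image _)
  have hqmin' : ∀ r ∈ Z, ¬ r < q := fun r hr hlt =>
    hqmin _ ⟨r, hr, rfl⟩ (Ideal.height_strict_mono_of_isPrime hlt)
  obtain ⟨P1, P2, hP1, hP2, hP1q, hP2q, hn1, hn2⟩ := hq
  have hlt1 : P1 < q := lt_of_le_of_ne hP1q fun e => hn2 (by
    rw [← hn1]
    exact congrArg n (PrimeSpectrum.ext (le_antisymm (e.symm ▸ hP2q : P2 ≤ P1)
      (hP1.2 ⟨P2.isPrime, bot_le⟩ (e.symm ▸ hP2q : P2 ≤ P1)))))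
  have hlt2 : P2 < q := lt_of_le_of_ne hP2q fun e => hn2 (by
    rw [← hn1]
    exact congrArg n (PrimeSpectrum.ext (le_antisymm (hP2.2 ⟨P1.isPrime, bot_le⟩ (e.symm ▸ hP1q : P1 ≤ P2))
      (e.symm ▸ hP1q : P1 ≤ P2))))
  let B := Localization.AtPrime q.asIdeal
  haveI : IsNoetherianRing B := IsLocalization.isNoetherianRing q.asIdeal.primeCompl _ inferInstance
  haveI : Module.Finite B (LocalizedModule q.asIdeal.primeCompl A) :=
    Module.Finite.of_isLocalizedModule q.asIdeal.primeCompl (LocalizedModule.mkLinearMap _ _)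
  obtain ⟨δ, D, hδ, hD⟩ := exists_depth_dim q A (hsupp q)
  have hD' : ringKrullDim B = D := by
    rw [← Module.supportDim_self_eq_ringKrullDim, ← Module.supportDim_eq_of_equiv (LC.selfLoc q.asIdeal.primeCompl)]
    exact hD
  rcases le_or_gt D 1 with hD1 | hD1
  · have hle : ringKrullDim B ≤ 1 := by rw [hD']; exact_mod_cast hD1
    have e1 := hcov P1 q (covBy_of_ringKrullDim_le_one hlt1 hle)
    have e2 := hcov P2 q (covBy_of_ringKrullDim_le_one hlt2 hle)
    exact hn2 (by omega)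
  have hdepth : (2 : ℕ∞) ≤ LocCoh.depth B B := by
    have h1 := (min_le_depth_iff 2 q A δ D hδ hD).1 (hS q.asIdeal)
    have hδD := depth_le_dim_of_range hω hdeg q A δ D hδ hD
    rw [show LocCoh.depth B B = LocCoh.depth B (LocalizedModule q.asIdeal.primeCompl A) from
      (LC.idealDepth_congr _ (LC.selfLoc q.asIdeal.primeCompl)).symm]
    rw [show LocCoh.depth B (LocalizedModule q.asIdeal.primeCompl A) = δ from hδ]
    exact_mod_cast (show 2 ≤ δ by omega)
  have hconn := LC.isConnected_punctured (R := B) hdepth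
  let g : PrimeSpectrum B → PrimeSpectrum A := PrimeSpectrum.comap (algebraMap A B)
  let U : (Prop → Prop) → Set (PrimeSpectrum B) := fun φ =>
    g ⁻¹' ⋃ P ∈ {P : PrimeSpectrum A | P.asIdeal ∈ minimalPrimes A ∧ φ (n P = -(d : ℤ))},
      PrimeSpectrum.zeroLocus (P.asIdeal : Set A)
  have hclosed : ∀ φ, IsClosed (U φ) := fun φ => by
    refine IsClosed.preimage (PrimeSpectrum.continuous_comap _) (Set.Finite.isClosed_biUnion ?_
      fun P _ => PrimeSpectrum.isClosed_zeroLocus _)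
    exact (((minimalPrimes.finite_of_isNoetherianRing A)).preimage (f := PrimeSpectrum.asIdeal)
      fun x _ y _ h => PrimeSpectrum.ext h).subset fun P hP => hP.1
  have hmem : ∀ (φ : Prop → Prop) (x : PrimeSpectrum B), x ∈ U φ ↔
      ∃ P : PrimeSpectrum A, P.asIdeal ∈ minimalPrimes A ∧ φ (n P = -(d : ℤ)) ∧ P ≤ g x := fun φ x => by
    simp only [U, Set.mem_preimage, Set.mem_iUnion, Set.mem_setOf_eq, PrimeSpectrum.mem_zeroLocus,
      SetLike.coe_subset_coe, exists_prop, and_assoc]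
    rfl
  have hlift : ∀ P : PrimeSpectrum A, P < q → ∃ x : PrimeSpectrum B, x.asIdeal ≠ maximalIdeal B ∧ g x = P := by
    intro P hP
    have hdisj : Disjoint (q.asIdeal.primeCompl : Set A) (P.asIdeal : Set A) :=
      Set.disjoint_left.2 fun a ha haP => ha (hP.le haP)
    have hpr := IsLocalization.isPrime_of_isPrime_disjoint q.asIdeal.primeCompl B P.asIdeal P.isPrime hdisj
    have hc := IsLocalization.comap_map_of_isPrime_disjoint q.asIdeal.primeCompl B P.isPrime hdisj
    refine ⟨⟨_, hpr⟩, fun e => hP.ne (PrimeSpectrum.ext ?_), PrimeSpectrum.ext hc⟩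
    rw [← hc]
    exact (congrArg (Ideal.comap (algebraMap A B)) e).trans (IsLocalization.AtPrime.comap_maximalIdeal B q.asIdeal)
  obtain ⟨x1, hx1, hg1⟩ := hlift P1 hlt1
  obtain ⟨x2, hx2, hg2⟩ := hlift P2 hlt2
  obtain ⟨x, hx, hxU, hxV⟩ := isPreconnected_closed_iff.1 hconn.isPreconnected (U id) (U Not)
    (hclosed _) (hclosed _) (fun x _ => by
      obtain ⟨P, hP, hPle⟩ := Ideal.exists_minimalPrimes_le (show (⊥ : Ideal A) ≤ (g x).asIdeal from bot_le)
      by_cases h : n ⟨P, hP.1.1⟩ = -(d : ℤ)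
      · exact Or.inl ((hmem _ _).2 ⟨⟨P, hP.1.1⟩, hP, h, hPle⟩)
      · exact Or.inr ((hmem _ _).2 ⟨⟨P, hP.1.1⟩, hP, h, hPle⟩))
    ⟨x1, hx1, (hmem _ _).2 ⟨P1, hP1, hn1, hg1.ge⟩⟩ ⟨x2, hx2, (hmem _ _).2 ⟨P2, hP2, hn2, hg2.ge⟩⟩
  obtain ⟨R1, hR1, hR1n, hR1x⟩ := (hmem _ _).1 hxU
  obtain ⟨R2, hR2, hR2n, hR2x⟩ := (hmem _ _).1 hxV
  refine hqmin' (g x) ⟨R1, R2, hR1, hR2, hR1x, hR2x, hR1n, hR2n⟩ (lt_of_le_of_ne ?_ ?_)
  · exact (Ideal.comap_mono (IsLocalRing.le_maximalIdeal x.isPrime.ne_top)).trans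
      (IsLocalization.AtPrime.comap_maximalIdeal B q.asIdeal).le
  · intro e
    apply hx
    have h1 : x.asIdeal.comap (algebraMap A B) = q.asIdeal := congrArg PrimeSpectrum.asIdeal e
    exact (IsLocalization.map_comap q.asIdeal.primeCompl B x.asIdeal).symm.trans
      ((congrArg (Ideal.map (algebraMap A B)) h1).trans Localization.AtPrime.map_eq_maximalIdeal)

end Groth.Agent.KFlatLib
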