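import Groth.Agent.KFlatLib.Ring.DualizingBottom
import Groth.Agent.KFlatLib.Ring.DualizingS2

/-!
# Endomorphisms of the bottom cohomology module of a dualizing complex
-/

set_option linter.style.haveILetI false
set_option backward.isDefEq.respectTransparency false

universe u

open CategoryTheory CategoryTheory.Limits Pretriangulated DerivedCategory.TStructure

attribute [local instance] HasDerivedCategory.standard

namespace Groth.Agent.KFlatLib

variable {A : Type u} [CommRing A]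

/-- Away from the bottom the third object has the same cohomology. -/
lemma nonempty_hd_obj₃_equiv {T : Triangle (Dual.D A)} (hT : T ∈ distTriang (Dual.D A)) (c : ℤ)
    [DerivedCategory.IsLE T.obj₁ c] (j : ℤ) (hj : c < j) :
    Nonempty (Dual.HD A T.obj₂ j ≃ₗ[A] Dual.HD A T.obj₃ j) := by
  have hiso : IsIso ((DerivedCategory.homologyFunctor (ModuleCat.{u} A) j).map T.mor₂) := by
    haveI : Mono ((DerivedCategory.homologyFunctor (ModuleCat.{u} A) j).map T.mor₂) :=
      (DerivedCategory.HomologySequence.exact₂ _ hT j).mono_g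
        ((DerivedCategory.isZero_of_isLE T.obj₁ c j hj).eq_of_src _ _)
    haveI : Epi ((DerivedCategory.homologyFunctor (ModuleCat.{u} A) j).map T.mor₂) :=
      (DerivedCategory.HomologySequence.exact₃ _ hT j (j + 1)).epi_f
        ((DerivedCategory.isZero_of_isLE T.obj₁ c (j + 1) (by omega)).eq_of_tgt _ _)
    exact isIso_of_mono_of_epi _
  exact ⟨(asIso ((DerivedCategory.homologyFunctor (ModuleCat.{u} A) j).map T.mor₂)).toLinearEquiv⟩

lemma isLE_shift_inD (M : ModuleCat.{u} A) (c : ℤ) : DerivedCategory.IsLE ((Dual.inD A M)⟦-c⟧) c := by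
  haveI : DerivedCategory.IsLE (Dual.inD A M) 0 :=
    inferInstanceAs (DerivedCategory.IsLE ((DerivedCategory.singleFunctor (ModuleCat.{u} A) 0).obj _) 0)
  exact t.isLE_shift (Dual.inD A M) 0 (-c) c (by omega)

/-- Maps out of a shifted module. -/
lemma subsingleton_shift_inD_hom (M : ModuleCat.{u} A) (Y : Dual.D A) (c s : ℤ)
    (h : Subsingleton (Dual.inD A M ⟶ Y⟦s + c⟧)) : Subsingleton ((Dual.inD A M)⟦-c⟧ ⟶ Y⟦s⟧) := by
  let F := shiftFunctor (Dual.D A) c
  refine subsingleton_of_forall_eq 0 fun φ => F.map_injective ?_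
  rw [F.map_zero]
  let i : (Dual.inD A M)⟦-c⟧⟦c⟧ ≅ Dual.inD A M :=
    ((shiftFunctorCompIsoId (Dual.D A) (-c) c (by omega)).app _)
  let j : Y⟦s⟧⟦c⟧ ≅ Y⟦s + c⟧ := ((shiftFunctorAdd' (Dual.D A) s c (s + c) rfl).app Y).symm
  have h0 : i.inv ≫ F.map φ ≫ j.hom = 0 := h.elim _ _
  rw [← cancel_epi i.inv, ← cancel_mono j.hom, Category.assoc, h0, comp_zero, zero_comp]

/-- Maps out of a bounded object vanish when they do out of its cohomology. -/
theorem subsingleton_hom_of_cohomology (Y : Dual.D A) (s : ℤ) :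
    ∀ (k : ℕ) (Z : Dual.D A) (a : ℤ), Z.IsGE a → Z.IsLE (a + k - 1) →
      (∀ j, a ≤ j → Subsingleton (Dual.inD A (Dual.HD A Z j) ⟶ Y⟦s + j⟧)) → Subsingleton (Z ⟶ Y⟦s⟧) := by
  intro k
  induction k with
  | zero =>
    intro Z a hG hL _
    refine subsingleton_of_forall_eq 0 fun f => ?_
    have hz : (𝟙 Z : Z ⟶ Z) = 0 := t.zero_of_isLE_of_isGE _ (a + (0 : ℕ) - 1) a (by omega) hL hG
    rw [← Category.id_comp f, hz, zero_comp]
  | succ k ih =>
    intro Z a hG hL h
    haveI := hG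
    haveI := hL
    obtain ⟨M, T, hT, hT1, hT2, hT3, ⟨e⟩⟩ := exists_bottom_triangle Z a
    subst hT2
    haveI : DerivedCategory.IsLE T.obj₁ a := hT1 ▸ isLE_shift_inD M a
    haveI := hT3
    have h3 : Subsingleton (T.obj₃ ⟶ Y⟦s⟧) := by
      refine ih T.obj₃ (a + 1) hT3 ((DerivedCategory.isLE_iff _ _).2 fun i hi => ?_) fun j hj => ?_
      · obtain ⟨e'⟩ := nonempty_hd_obj₃_equiv hT a i (by omega)
        haveI : Subsingleton (Dual.HD A T.obj₂ i) :=
          ModuleCat.subsingleton_of_isZero (DerivedCategory.isZero_of_isLE T.obj₂ (a + (k + 1 : ℕ) - 1) i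
            (by push_cast at hi ⊢; omega))
        exact @ModuleCat.isZero_of_subsingleton _ _ _ e'.symm.injective.subsingleton
      · obtain ⟨e'⟩ := nonempty_hd_obj₃_equiv hT a j (by omega)
        haveI := h j (by omega)
        exact (((DerivedCategory.singleFunctor (ModuleCat.{u} A) 0).mapIso e'.toModuleIso).homFromEquiv
          (Z := Y⟦s + j⟧)).symm.subsingleton
    have h1 : Subsingleton (T.obj₁ ⟶ Y⟦s⟧) := by
      rw [hT1]
      refine subsingleton_shift_inD_hom M Y a s ?_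
      haveI := h a le_rfl
      exact (((DerivedCategory.singleFunctor (ModuleCat.{u} A) 0).mapIso e.toModuleIso).homFromEquiv
        (Z := Y⟦s + a⟧)).symm.subsingleton
    refine subsingleton_of_forall_eq 0 fun f => ?_
    obtain ⟨g, rfl⟩ := Triangle.yoneda_exact₂ T hT f (h1.elim _ _)
    rw [h3.elim g 0, comp_zero]

variable [IsNoetherianRing A] [IsLocalRing A] {ω : Dual.D A}

/-- Endomorphisms and self-extensions of the bottom cohomology. -/
theorem dualizingModule_endo (hω : Dual.IsDualizing A ω) (hN : Dual.IsNormalized A ω) (d : ℕ)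
    (hd : ringKrullDim A = d) (k : ℕ) (hk : 2 ≤ k) (hS : LocCoh.HasSk k A A) :
    Function.Bijective (fun r : A => r • (LinearMap.id : Dual.HD A ω (-(d : ℤ)) →ₗ[A] Dual.HD A ω (-(d : ℤ)))) ∧
    (3 ≤ k → Subsingleton (Dual.inD A (Dual.HD A ω (-(d : ℤ))) ⟶
      (Dual.inD A (Dual.HD A ω (-(d : ℤ))))⟦(1 : ℤ)⟧)) := by
  obtain ⟨n, hdeg, -, hmono, hle0, hdim⟩ := exists_normalized_degree hω hN
  have hS2 : LocCoh.HasSk 2 A A := fun p hp => le_trans (min_le_min (Nat.cast_le.2 hk) le_rfl) (hS p)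
  have hmin : ∀ P : PrimeSpectrum A, P.asIdeal ∈ (Module.annihilator A A).minimalPrimes → n P = -(d : ℤ) := by
    intro P hP
    rw [Module.annihilator_eq_bot.2 inferInstance] at hP
    exact degree_minimalPrime_of_S2 hω hN d hd hS2 n hdeg P hP
  have hcond := (hasSk_iff_of_degree hω hdeg hmono hdim A d hmin k).1 hS
  have hlow : ∀ P : PrimeSpectrum A, -(d : ℤ) ≤ n P := fun P => by
    obtain ⟨Q, hQ, hQP⟩ := Ideal.exists_minimalPrimes_le (I := Module.annihilator A A) (J := P.asIdeal)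
      (by rw [Module.annihilator_eq_bot.2 inferInstance]; exact bot_le)
    have h1 := hmono.monotone (show (⟨Q, hQ.1.1⟩ : PrimeSpectrum A) ≤ P from hQP)
    rw [hmin ⟨Q, hQ.1.1⟩ hQ] at h1
    exact h1
  haveI : ω.IsGE (-(d : ℤ)) := by
    refine (DerivedCategory.isGE_iff _ _).2 fun i hi => ?_
    haveI := subsingleton_hom_module_of_lt hdeg A i fun P _ => by
      have := hlow P
      omega
    obtain ⟨e⟩ := exists_homRingLEquiv ω i
    exact @ModuleCat.isZero_of_subsingleton _ _ _ e.symm.injective.subsingleton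
  obtain ⟨M, T, hT, hT1, hT2, hT3, ⟨e⟩⟩ := exists_bottom_triangle ω (-(d : ℤ))
  subst hT2
  haveI := hT3
  haveI hM1 : DerivedCategory.IsLE T.obj₁ (-(d : ℤ)) := hT1 ▸ isLE_shift_inD M _
  obtain ⟨a, b, -, hGa, hLb⟩ := exists_bounds_of_isDualizing hω
  -- maps out of the upper truncation
  have hτ : ∀ s : ℤ, s < k → Subsingleton (T.obj₃ ⟶ T.obj₂⟦s⟧) := by
    intro s hs
    have hτle : T.obj₃.IsLE 0 := by
      refine (DerivedCategory.isLE_iff _ _).2 fun i hi => ?_
      obtain ⟨e'⟩ := nonempty_hd_obj₃_equiv hT (-(d : ℤ)) i (by omega)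
      haveI := subsingleton_hom_module_of_pos hω hN A i hi
      obtain ⟨eU⟩ := exists_homRingLEquiv T.obj₂ i
      haveI : Subsingleton (Dual.HD A T.obj₂ i) := eU.symm.injective.subsingleton
      exact @ModuleCat.isZero_of_subsingleton _ _ _ e'.symm.injective.subsingleton
    refine subsingleton_hom_of_cohomology T.obj₂ s d T.obj₃ (-(d : ℤ) + 1) hT3
      (t.isLE_of_le T.obj₃ 0 (-(d : ℤ) + 1 + d - 1) (by omega)) fun j hj => ?_
    obtain ⟨e'⟩ := nonempty_hd_obj₃_equiv hT (-(d : ℤ)) j (by omega)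
    obtain ⟨eU⟩ := exists_homRingLEquiv T.obj₂ j
    haveI : Module.Finite A (Dual.HD A T.obj₂ j) := hω.finite_cohomology j
    haveI : Module.Finite A (Dual.HD A T.obj₃ j) := Module.Finite.equiv e'
    rcases subsingleton_or_nontrivial (Dual.HD A T.obj₃ j) with hE | hE
    · exact subsingleton_of_forall_eq 0 fun f => ((DerivedCategory.singleFunctor (ModuleCat.{u} A) 0).map_isZero
        (ModuleCat.isZero_of_subsingleton _)).eq_of_src f 0
    obtain ⟨h1, h2⟩ := hcond j (by omega)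
    have hnt : Nontrivial (Dual.inD A A ⟶ T.obj₂⟦j⟧) := (eU.trans e').toEquiv.nontrivial
    have hpos : 0 ≤ -j - (k : ℤ) := by
      by_contra hcon
      exact not_subsingleton _ (h1 (by omega))
    have hsd : Module.supportDim A (Dual.HD A T.obj₃ j) ≤ ((-j - (k : ℤ)).toNat : WithBot ℕ∞) := by
      have h3 := h2 hpos
      rw [Module.supportDim, (eU.trans e').support_eq] at h3
      exact h3
    obtain ⟨D, hD⟩ := LC.exists_supportDim_eq_nat (R := A) (M := Dual.HD A T.obj₃ j)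
    rw [hD] at hsd
    have hD' : D ≤ (-j - (k : ℤ)).toNat := Nat.cast_le.1 hsd
    by_contra hcon
    rw [not_subsingleton_iff_nontrivial] at hcon
    have := ((ext_amplitude_and_support hω hN (Dual.HD A T.obj₃ j) D hD (s + j)).1 hcon).1
    omega
  let ι := T.mor₁
  have hzero3 : ∀ f : T.obj₂ ⟶ T.obj₂, ι ≫ f = 0 → f = 0 := by
    intro f hf
    obtain ⟨g, rfl⟩ := Triangle.yoneda_exact₂ T hT f hf
    haveI := hτ 0 (by omega)
    let z := (shiftFunctorZero (Dual.D A) ℤ).app T.obj₂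
    have : g ≫ z.inv = 0 := Subsingleton.elim (α := T.obj₃ ⟶ T.obj₂⟦(0 : ℤ)⟧) _ _
    rw [show g = 0 from (cancel_mono z.inv).1 (by rw [this, zero_comp]), comp_zero]
  have hext : ∀ φ : T.obj₁ ⟶ T.obj₂, ∃ f : T.obj₂ ⟶ T.obj₂, ι ≫ f = φ := by
    intro φ
    haveI := hτ 1 (by omega)
    obtain ⟨ψ, hψ⟩ := Triangle.yoneda_exact₂ _ (rot_of_distTriang _ (rot_of_distTriang _ hT))
      ((shiftFunctor (Dual.D A) (1 : ℤ)).map φ) (Subsingleton.elim (α := T.obj₃ ⟶ T.obj₂⟦(1 : ℤ)⟧) _ _)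
    obtain ⟨ψ', rfl⟩ := (shiftFunctor (Dual.D A) (1 : ℤ)).map_surjective ψ
    refine ⟨-ψ', (shiftFunctor (Dual.D A) (1 : ℤ)).map_injective ?_⟩
    rw [Functor.map_comp, Functor.map_neg, Preadditive.comp_neg]
    exact ((Preadditive.neg_comp _ _).symm.trans hψ.symm)
  have hinj : ∀ χ : T.obj₁ ⟶ T.obj₁, χ ≫ ι = 0 → χ = 0 := by
    intro χ hχ
    obtain ⟨g, rfl⟩ := Triangle.coyoneda_exact₂ _ (inv_rot_of_distTriang _ hT) χ hχ
    haveI : DerivedCategory.IsGE (T.obj₃⟦(-1 : ℤ)⟧) (-(d : ℤ) + 2) :=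
      t.isGE_shift T.obj₃ (-(d : ℤ) + 1) (-1) (-(d : ℤ) + 2) (by omega)
    have hg : g = 0 := t.zero_of_isLE_of_isGE g (-(d : ℤ)) (-(d : ℤ) + 2) (by omega) hM1
      (inferInstanceAs (DerivedCategory.IsGE (T.obj₃⟦(-1 : ℤ)⟧) (-(d : ℤ) + 2)))
    rw [hg, zero_comp]
  let G : ModuleCat.{u} A ⥤ Dual.D A :=
    DerivedCategory.singleFunctor (ModuleCat.{u} A) 0 ⋙ shiftFunctor (Dual.D A) (-(-(d : ℤ)))
  have hGobj : T.obj₁ = G.obj M := hT1
  let c := eqToIso hGobj
  have hG0 : ∀ f : M ⟶ M, G.map f = 0 → f = 0 := fun f hf => by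
    refine (DerivedCategory.singleFunctor (ModuleCat.{u} A) 0).map_injective ?_
    refine (shiftFunctor (Dual.D A) (-(-(d : ℤ)))).map_injective ?_
    rw [Functor.map_zero, Functor.map_zero]
    exact hf
  have hGsmul : ∀ (r : A), G.map (r • 𝟙 M) = r • 𝟙 (G.obj M) := fun r => by
    show (shiftFunctor (Dual.D A) _).map ((DerivedCategory.singleFunctor (ModuleCat.{u} A) 0).map (r • 𝟙 M)) = _
    rw [Functor.map_smul, Functor.map_smul, CategoryTheory.Functor.map_id, CategoryTheory.Functor.map_id]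
    rfl
  refine ⟨⟨fun r r' hrr => ?_, fun φ => ?_⟩, fun hk3 => ?_⟩
  · have hr0 : (r - r') • (LinearMap.id : Dual.HD A T.obj₂ (-(d : ℤ)) →ₗ[A] _) = 0 := by
      rw [sub_smul]
      exact sub_eq_zero.2 hrr
    have hrM : (r - r') • 𝟙 M = 0 := by
      ext x
      have := LinearMap.congr_fun hr0 (e.symm x)
      simp only [LinearMap.smul_apply, LinearMap.id_apply, LinearMap.zero_apply] at this
      show (r - r') • x = 0
      rw [← e.apply_symm_apply x, ← map_smul, this, map_zero]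
    have h1 : (r - r') • 𝟙 T.obj₁ = 0 := by
      have h2 : (r - r') • 𝟙 (G.obj M) = 0 := by rw [← hGsmul, hrM, Functor.map_zero]
      calc (r - r') • 𝟙 T.obj₁ = c.hom ≫ ((r - r') • 𝟙 (G.obj M)) ≫ c.inv := by
            rw [Linear.smul_comp, Category.id_comp, Linear.comp_smul, Iso.hom_inv_id]
        _ = 0 := by rw [h2, zero_comp, comp_zero]
    have h3 := hzero3 ((r - r') • 𝟙 T.obj₂) (by
      rw [Linear.comp_smul, Category.comp_id, ← Category.id_comp ι, ← Linear.smul_comp, h1, zero_comp])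
    exact sub_eq_zero.1 (hω.toEnd_bijective.1 (h3.trans (zero_smul A (𝟙 T.obj₂)).symm))
  · let f : M ⟶ M := ModuleCat.ofHom (e.toLinearMap ∘ₗ φ ∘ₗ e.symm.toLinearMap)
    obtain ⟨χ, hχ⟩ := hext (c.hom ≫ G.map f ≫ c.inv ≫ ι)
    obtain ⟨r, hr⟩ := hω.toEnd_bijective.2 χ
    change r • 𝟙 T.obj₂ = χ at hr
    subst hr
    have h1 : c.hom ≫ G.map f ≫ c.inv = r • 𝟙 T.obj₁ := by
      rw [← sub_eq_zero]
      refine hinj _ ?_
      rw [Preadditive.sub_comp, Category.assoc, Category.assoc, ← hχ, Linear.comp_smul, Category.comp_id,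
        Linear.smul_comp, Category.id_comp, sub_self]
    have h2 : G.map f = G.map (r • 𝟙 M) := by
      rw [hGsmul]
      calc G.map f = c.inv ≫ (c.hom ≫ G.map f ≫ c.inv) ≫ c.hom := by simp
        _ = _ := by rw [h1, Linear.smul_comp, Category.id_comp, Linear.comp_smul, Iso.inv_hom_id]
    have h3 : f = r • 𝟙 M := sub_eq_zero.1 (hG0 _ (by rw [Functor.map_sub, h2, sub_self]))
    refine ⟨r, LinearMap.ext fun y => e.injective ?_⟩
    have h4 := congrArg (fun g : M ⟶ M => g.hom (e y)) h3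
    change e (φ (e.symm (e y))) = r • e y at h4
    rw [e.symm_apply_apply] at h4
    show e (r • y) = e (φ y)
    rw [map_smul, h4]
  · haveI h2 := hτ 2 (by omega)
    haveI hωω := hω.ext_self_subsingleton 1 one_ne_zero
    have h1 : Subsingleton (T.obj₁ ⟶ T.obj₂⟦(1 : ℤ)⟧) := by
      refine subsingleton_of_forall_eq 0 fun φ => ?_
      let F := shiftFunctor (Dual.D A) (1 : ℤ)
      let z := ((shiftFunctorAdd' (Dual.D A) (1 : ℤ) (1 : ℤ) (2 : ℤ) rfl).app T.obj₂).symm
      have h0 : T.mor₃ ≫ F.map φ = 0 :=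
        (cancel_mono z.hom).1 (by rw [zero_comp]; exact Subsingleton.elim (α := T.obj₃ ⟶ T.obj₂⟦(2 : ℤ)⟧) _ _)
      obtain ⟨ψ, hψ⟩ := Triangle.yoneda_exact₂ _ (rot_of_distTriang _ (rot_of_distTriang _ hT)) (F.map φ) h0
      obtain ⟨ψ', rfl⟩ := F.map_surjective ψ
      have : ψ' = 0 := Subsingleton.elim (α := T.obj₂ ⟶ T.obj₂⟦(1 : ℤ)⟧) _ _
      subst this
      apply F.map_injective
      rw [F.map_zero, hψ, F.map_zero, comp_zero]
    rw [hT1] at h1
    have h4 : Subsingleton (Dual.inD A M ⟶ T.obj₂⟦-(d : ℤ) + ((1 : ℕ) : ℤ)⟧) := by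
      let F := shiftFunctor (Dual.D A) (-(-(d : ℤ)))
      refine subsingleton_of_forall_eq 0 fun φ => F.map_injective ?_
      rw [F.map_zero]
      let j : T.obj₂⟦-(d : ℤ) + ((1 : ℕ) : ℤ)⟧⟦-(-(d : ℤ))⟧ ≅ T.obj₂⟦(1 : ℤ)⟧ :=
        ((shiftFunctorAdd' (Dual.D A) (-(d : ℤ) + ((1 : ℕ) : ℤ)) (-(-(d : ℤ))) 1 (by omega)).app _).symm
      exact (cancel_mono j.hom).1 (by rw [zero_comp]; exact h1.elim _ _)
    have h5 := subsingleton_ext_bottom T.obj₂ (-(d : ℤ)) M 1 le_rfl h4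
    haveI : Subsingleton (Dual.inD A M ⟶ (Dual.inD A (Dual.HD A T.obj₂ (-(d : ℤ))))⟦(1 : ℤ)⟧) :=
      (Abelian.Ext.homEquiv (X := ModuleCat.of A M) (Y := ModuleCat.of A (Dual.HD A T.obj₂ (-(d : ℤ))))
        (n := 1)).symm.injective.subsingleton
    exact (((DerivedCategory.singleFunctor (ModuleCat.{u} A) 0).mapIso e.toModuleIso).homFromEquiv
      (Z := (Dual.inD A (Dual.HD A T.obj₂ (-(d : ℤ))))⟦(1 : ℤ)⟧)).subsingleton

end Groth.Agent.KFlatLib
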