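import Groth.Prelude.Def_DualLC
import Groth.Agent.KFlatLib.Ring.DualizingLocalExt
import Groth.Agent.KFlatLib.Ring.DualizingPoint
import Groth.Agent.KFlatLib.Ring.DualizingEndo
import Groth.Agent.KFlatLib.Ring.HasRHom
import Groth.Agent.LC.Matlis
import Mathlib.Algebra.Category.ModuleCat.Colimits
import Mathlib.Algebra.Category.Grp.FilteredColimits
import Mathlib.Algebra.Category.Grp.Colimits
import Mathlib.CategoryTheory.Limits.Preserves.Filtered
import Mathlib.CategoryTheory.Limits.ConcreteCategory.Basic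

/-!
# Maps from modules of finite length into a normalized dualizing complex
-/

set_option linter.style.haveILetI false
set_option backward.isDefEq.respectTransparency false

universe u

open CategoryTheory CategoryTheory.Limits Pretriangulated IsLocalRing Opposite

attribute [local instance] HasDerivedCategory.standard

namespace Groth.Agent.KFlatLib

variable {A : Type u} [CommRing A] [IsLocalRing A]

omit [IsLocalRing A] in
/-- Elements of sequential colimits of modules in a higher universe are represented. -/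
lemma preservesColimitsOfShape_nat :
    PreservesColimitsOfShape ℕᵒᵖᵒᵖ (forget (ModuleCat.{u + 1} A)) := by
  haveI : PreservesFilteredColimitsOfSize.{0, 0} (forget AddCommGrpCat.{u + 1}) :=
    preservesFilteredColimitsOfSize_shrink.{0, u + 1} _
  exact comp_preservesColimitsOfShape (forget₂ (ModuleCat.{u + 1} A) AddCommGrpCat) (forget AddCommGrpCat.{u + 1})

/-- The diagram of the quotients by the powers of the maximal ideal in `D(A)`. -/
noncomputable abbrev powDiag (A : Type u) [CommRing A] [IsLocalRing A] : ℕᵒᵖᵒᵖ ⥤ (Dual.D A)ᵒᵖ :=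
  (localCohomology.ringModIdeals (localCohomology.idealPowersDiagram (maximalIdeal A)) ⋙
    DerivedCategory.singleFunctor (ModuleCat.{u} A) 0).op

/-- The colimit of the maps out of the quotients by the powers of the maximal ideal. -/
noncomputable abbrev Tm (K : Dual.D A) : ModuleCat.{u + 1} A :=
  colimit (powDiag A ⋙ (linearYoneda A (Dual.D A)).obj K)

/-- The map from one stage. -/
noncomputable def toTm (K : Dual.D A) (n : ℕ) :
    (Dual.inD A (A ⧸ maximalIdeal A ^ n) ⟶ K) →ₗ[A] Tm K :=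
  (colimit.ι (powDiag A ⋙ (linearYoneda A (Dual.D A)).obj K) (op (op n))).hom

/-- The projection between the quotients. -/
noncomputable abbrev quotPow {n l : ℕ} (h : n ≤ l) : (A ⧸ maximalIdeal A ^ l) →ₗ[A] (A ⧸ maximalIdeal A ^ n) :=
  Submodule.mapQ _ _ LinearMap.id (Ideal.pow_le_pow_right h)

/-- The stages are compatible. -/
lemma toTm_quotPow (K : Dual.D A) {n l : ℕ} (h : n ≤ l) (u : Dual.inD A (A ⧸ maximalIdeal A ^ n) ⟶ K) :
    toTm K l (inDMap (quotPow h) ≫ u) = toTm K n u :=
  ConcreteCategory.congr_hom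
    (colimit.w (powDiag A ⋙ (linearYoneda A (Dual.D A)).obj K)
      ((homOfLE h).op.op : (op (op n) : ℕᵒᵖᵒᵖ) ⟶ op (op l))) u

lemma exists_toTm (K : Dual.D A) (w : Tm K) : ∃ n u, toTm K n u = w := by
  haveI := preservesColimitsOfShape_nat (A := A)
  obtain ⟨⟨⟨n⟩⟩, u, hu⟩ := Concrete.colimit_exists_rep (powDiag A ⋙ (linearYoneda A (Dual.D A)).obj K) w
  exact ⟨n, u, hu⟩

lemma toTm_eq_iff (K : Dual.D A) {n n' : ℕ} (u : Dual.inD A (A ⧸ maximalIdeal A ^ n) ⟶ K)
    (u' : Dual.inD A (A ⧸ maximalIdeal A ^ n') ⟶ K) :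
    toTm K n u = toTm K n' u' ↔
      ∃ l, ∃ h : n ≤ l, ∃ h' : n' ≤ l, inDMap (quotPow h) ≫ u = inDMap (quotPow h') ≫ u' := by
  constructor
  · intro he
    haveI := preservesColimitsOfShape_nat (A := A)
    let F := powDiag A ⋙ (linearYoneda A (Dual.D A)).obj K
    have he' : (colimit.cocone F).ι.app (op (op n)) u = (colimit.cocone F).ι.app (op (op n')) u' := he
    obtain ⟨k, f, g, hk⟩ := Concrete.isColimit_exists_of_rep_eq F (colimit.isColimit F)
      (i := op (op n)) (j := op (op n')) u u' he'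
    obtain ⟨⟨l⟩⟩ := k
    have h1 : n ≤ l := f.unop.unop.down.down
    have h2 : n' ≤ l := g.unop.unop.down.down
    rw [show f = (homOfLE h1).op.op from Subsingleton.elim _ _,
      show g = (homOfLE h2).op.op from Subsingleton.elim _ _] at hk
    exact ⟨l, h1, h2, hk⟩
  · rintro ⟨l, h, h', he⟩
    rw [← toTm_quotPow K h, ← toTm_quotPow K h', he]

/-- Functoriality. -/
noncomputable def tmMap {K L : Dual.D A} (g : K ⟶ L) : Tm K →ₗ[A] Tm L :=
  (colimMap (Functor.whiskerLeft (powDiag A) ((linearYoneda A (Dual.D A)).map g))).hom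

lemma tmMap_toTm {K L : Dual.D A} (g : K ⟶ L) (n : ℕ) (u : Dual.inD A (A ⧸ maximalIdeal A ^ n) ⟶ K) :
    tmMap g (toTm K n u) = toTm L n (u ≫ g) :=
  ConcreteCategory.congr_hom
    (ι_colimMap (Functor.whiskerLeft (powDiag A) ((linearYoneda A (Dual.D A)).map g)) (op (op n))) u

variable {ω : Dual.D A}

/-- Precomposition with a surjection is injective when the kernel has no maps of degree minus one. -/
lemma eq_zero_of_inDMap_comp_eq_zero {N₁ N₂ N₃ : Type u} [AddCommGroup N₁] [Module A N₁] [AddCommGroup N₂]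
    [Module A N₂] [AddCommGroup N₃] [Module A N₃] {f : N₁ →ₗ[A] N₂} {g : N₂ →ₗ[A] N₃}
    (hf : Function.Injective f) (hg : Function.Surjective g) (h : Function.Exact f g)
    (h1 : Subsingleton (Dual.inD A N₁ ⟶ ω⟦(-1 : ℤ)⟧)) (ψ : Dual.inD A N₃ ⟶ ω) (hψ : inDMap g ≫ ψ = 0) :
    ψ = 0 := by
  obtain ⟨w, hS⟩ := exists_ses_of_exact hf hg h
  obtain ⟨χ, rfl⟩ := Triangle.yoneda_exact₂ _ (rot_of_distTriang _ hS.singleTriangle_distinguished) ψ hψ
  let j : (Dual.inD A N₁)⟦(1 : ℤ)⟧ ≅ (Dual.inD A N₁)⟦-(-1 : ℤ)⟧ := eqToIso (by rw [neg_neg])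
  haveI : Subsingleton ((Dual.inD A N₁)⟦-(-1 : ℤ)⟧ ⟶ ω⟦(0 : ℤ)⟧) :=
    subsingleton_shift_inD_hom (ModuleCat.of A N₁) ω (-1) 0 (by rwa [zero_add])
  haveI : Subsingleton ((Dual.inD A N₁)⟦(1 : ℤ)⟧ ⟶ ω) :=
    (j.homCongr ((shiftFunctorZero (Dual.D A) ℤ).app ω).symm).subsingleton
  exact (congrArg (hS.singleTriangle.rotate.mor₂ ≫ ·)
    (@Subsingleton.elim _ ‹Subsingleton ((Dual.inD A N₁)⟦(1 : ℤ)⟧ ⟶ ω)› χ 0)).trans comp_zero

variable [IsNoetherianRing A]

/-- A simple module is the residue field. -/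
lemma nonempty_linearEquiv_quot_of_isSimpleModule (N : Type u) [AddCommGroup N] [Module A N]
    [IsSimpleModule A N] : Nonempty ((A ⧸ maximalIdeal A) ≃ₗ[A] N) := by
  obtain ⟨I, hI, ⟨e⟩⟩ := isSimpleModule_iff_quot_maximal.1 ‹IsSimpleModule A N›
  obtain rfl := eq_maximalIdeal hI
  exact ⟨e.symm⟩

/-- Ext from a module of finite length into a normalized complex is concentrated in degree zero. -/
theorem subsingleton_hom_of_isFiniteLength (hn : Dual.IsNormalized A ω) (N : Type u) [AddCommGroup N]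
    [Module A N] (hN : IsFiniteLength A N) (i : ℤ) (hi : i ≠ 0) : Subsingleton (Dual.inD A N ⟶ ω⟦i⟧) := by
  induction hN with
  | @of_subsingleton M _ _ _ =>
    exact subsingleton_of_forall_eq 0 fun f => ((DerivedCategory.singleFunctor (ModuleCat.{u} A) 0).map_isZero
      (ModuleCat.isZero_of_subsingleton _)).eq_of_src f 0
  | @of_simple_quotient M _ _ S _ _ ih =>
    obtain ⟨e⟩ : Nonempty ((A ⧸ maximalIdeal A) ≃ₗ[A] (M ⧸ S)) := nonempty_linearEquiv_quot_of_isSimpleModule _
    haveI : Subsingleton (Dual.inD A (A ⧸ maximalIdeal A) ⟶ ω⟦i⟧) := hn i hi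
    exact subsingleton_hom_inD_mid (f := S.subtype) (g := S.mkQ) Subtype.val_injective
      (Submodule.mkQ_surjective S) (LinearMap.exact_subtype_mkQ S) (ω⟦i⟧) ih
      (((DerivedCategory.singleFunctor (ModuleCat.{u} A) 0).mapIso e.toModuleIso).homFromEquiv).symm.subsingleton

/-- The quotients by the powers have finite length. -/
lemma isFiniteLength_submodule_quot_pow (n : ℕ) (S : Submodule A (A ⧸ maximalIdeal A ^ n)) :
    IsFiniteLength A S := by
  obtain ⟨h1, h2⟩ := isFiniteLength_iff_isNoetherian_isArtinian.1 (LC.isFiniteLength_quot_pow (R := A) n)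
  exact isFiniteLength_iff_isNoetherian_isArtinian.2 ⟨inferInstance, inferInstance⟩

/-- The first stage injects. -/
lemma toTm_injective (hn : Dual.IsNormalized A ω) (n : ℕ) : Function.Injective (toTm ω n) := by
  rw [injective_iff_map_eq_zero]
  intro u hu
  obtain ⟨l, h, h', he⟩ := (toTm_eq_iff ω u (0 : Dual.inD A (A ⧸ maximalIdeal A ^ n) ⟶ ω)).1
    (by rw [hu, map_zero])
  rw [comp_zero] at he
  exact eq_zero_of_inDMap_comp_eq_zero (f := (LinearMap.ker (quotPow h)).subtype) Subtype.val_injective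
    (fun y => by
      obtain ⟨a, rfl⟩ := Submodule.Quotient.mk_surjective _ y
      exact ⟨Submodule.Quotient.mk a, rfl⟩)
    (LinearMap.exact_subtype_ker_map _)
    (subsingleton_hom_of_isFiniteLength hn _ (isFiniteLength_submodule_quot_pow l _) (-1) (by omega)) u he

section Gamma

variable {E : Type u} [AddCommGroup E] [Module A E] (J : Tm ω →ₗ[A] E) (n : ℕ)

/-- The map of a module killed by a power attached to an element. -/
noncomputable def genPow {N : Type u} [AddCommGroup N] [Module A N]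
    (hN : ∀ a ∈ maximalIdeal A ^ n, ∀ x : N, a • x = 0) (x : N) : (A ⧸ maximalIdeal A ^ n) →ₗ[A] N :=
  (maximalIdeal A ^ n).liftQ (LinearMap.toSpanSingleton A N x) fun a ha => hN a ha x

omit [IsNoetherianRing A] in
@[simp] lemma genPow_mk {N : Type u} [AddCommGroup N] [Module A N]
    (hN : ∀ a ∈ maximalIdeal A ^ n, ∀ x : N, a • x = 0) (x : N) (a : A) :
    genPow n hN x (Submodule.Quotient.mk a) = a • x := rfl

omit [IsNoetherianRing A] in
lemma genPow_one {N : Type u} [AddCommGroup N] [Module A N]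
    (hN : ∀ a ∈ maximalIdeal A ^ n, ∀ x : N, a • x = 0) (x : N) :
    genPow n hN x 1 = x := one_smul A x

/-- The pairing of maps into the complex with elements. -/
noncomputable def gam {N : Type u} [AddCommGroup N] [Module A N]
    (hN : ∀ a ∈ maximalIdeal A ^ n, ∀ x : N, a • x = 0) : (Dual.inD A N ⟶ ω) →ₗ[A] (N →ₗ[A] E) where
  toFun φ :=
    { toFun := fun x => J (toTm ω n (inDMap (genPow n hN x) ≫ φ))
      map_add' := fun x y => by
        rw [show genPow n hN (x + y) = genPow n hN x + genPow n hN y from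
          Submodule.linearMap_qext _ (LinearMap.ext_ring (by simp [genPow_one]))]
        simp only [inDMap, ModuleCat.ofHom_add, Functor.map_add, Preadditive.add_comp, map_add]
      map_smul' := fun r x => by
        rw [show genPow n hN (r • x) = r • genPow n hN x from
          Submodule.linearMap_qext _ (LinearMap.ext_ring (by simp [genPow_one]))]
        rw [RingHom.id_apply, show inDMap (r • genPow n hN x) = r • inDMap (genPow n hN x) from
          ((DerivedCategory.singleFunctor (ModuleCat.{u} A) 0).map_smul r (ModuleCat.ofHom (genPow n hN x))),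
          Linear.smul_comp, map_smul, map_smul] }
  map_add' φ ψ := LinearMap.ext fun x => by simp [Preadditive.comp_add]
  map_smul' r φ := LinearMap.ext fun x => by simp [Linear.comp_smul]

omit [IsNoetherianRing A] in
lemma gam_apply {N : Type u} [AddCommGroup N] [Module A N]
    (hN : ∀ a ∈ maximalIdeal A ^ n, ∀ x : N, a • x = 0) (φ : Dual.inD A N ⟶ ω) (x : N) :
    gam J n hN φ x = J (toTm ω n (inDMap (genPow n hN x) ≫ φ)) := rfl

omit [IsNoetherianRing A] in
/-- Naturality. -/
lemma gam_natural {N N' : Type u} [AddCommGroup N] [Module A N] [AddCommGroup N'] [Module A N']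
    (hN : ∀ a ∈ maximalIdeal A ^ n, ∀ x : N, a • x = 0) (hN' : ∀ a ∈ maximalIdeal A ^ n, ∀ x : N', a • x = 0)
    (f : N →ₗ[A] N') (φ : Dual.inD A N' ⟶ ω) : gam J n hN (inDMap f ≫ φ) = gam J n hN' φ ∘ₗ f := by
  refine LinearMap.ext fun x => ?_
  rw [LinearMap.comp_apply, gam_apply, gam_apply, ← Category.assoc]
  congr 3
  rw [show genPow n hN' (f x) = f ∘ₗ genPow n hN x from
    Submodule.linearMap_qext _ (LinearMap.ext_ring (by simp [genPow_one]))]
  exact ((DerivedCategory.singleFunctor (ModuleCat.{u} A) 0).map_comp _ _).symm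

variable {f : ResidueField A →ₗ[A] E}

/-- Duality on modules of finite length. -/
theorem gam_bijective (hn : Dual.IsNormalized A ω) (hf : InjHull.IsInjectiveHull f)
    (hJ : ∀ u : Dual.inD A (A ⧸ maximalIdeal A ^ 1) ⟶ ω, J (toTm ω 1 u) = 0 → u = 0)
    (hJs : ∀ x ∈ LinearMap.range f, ∃ u : Dual.inD A (A ⧸ maximalIdeal A ^ 1) ⟶ ω, J (toTm ω 1 u) = x)
    (N : Type u) [AddCommGroup N] [Module A N] (hfl : IsFiniteLength A N) :
    ∀ (hN : ∀ a ∈ maximalIdeal A ^ n, ∀ x : N, a • x = 0), Function.Bijective (gam J n hN) := by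
  haveI := hf.isInjective
  induction hfl with
  | @of_subsingleton M _ _ _ =>
    intro hN
    haveI : Subsingleton (Dual.inD A M ⟶ ω) := subsingleton_of_forall_eq 0 fun φ =>
      ((DerivedCategory.singleFunctor (ModuleCat.{u} A) 0).map_isZero
        (ModuleCat.isZero_of_subsingleton _)).eq_of_src φ 0
    exact ⟨fun a b _ => Subsingleton.elim a b, fun h => ⟨0, Subsingleton.elim _ _⟩⟩
  | @of_simple_quotient M _ _ S _ hS ih =>
    intro hN
    have hNS : ∀ a ∈ maximalIdeal A ^ n, ∀ x : S, a • x = 0 := fun a ha x => Subtype.ext (hN a ha x)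
    have hNQ : ∀ a ∈ maximalIdeal A ^ n, ∀ x : M ⧸ S, a • x = 0 := fun a ha x => by
      obtain ⟨x, rfl⟩ := Submodule.Quotient.mk_surjective _ x
      rw [← Submodule.Quotient.mk_smul, hN a ha x, Submodule.Quotient.mk_zero]
    obtain ⟨hi1, hs1⟩ := ih hNS
    obtain ⟨e⟩ : Nonempty ((A ⧸ maximalIdeal A) ≃ₗ[A] (M ⧸ S)) := nonempty_linearEquiv_quot_of_isSimpleModule _
    have hn1 : 1 ≤ n := by
      by_contra hlt
      haveI : Nontrivial (M ⧸ S) := IsSimpleModule.nontrivial A _
      obtain ⟨x, hx⟩ := exists_ne (0 : M ⧸ S)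
      refine hx ?_
      rw [← one_smul A x]
      exact hNQ 1 (by rw [show n = 0 by omega, pow_zero]; simp) x
    let q : (A ⧸ maximalIdeal A ^ 1) →ₗ[A] (M ⧸ S) :=
      e.toLinearMap ∘ₗ (Submodule.quotEquivOfEq (maximalIdeal A ^ 1) (maximalIdeal A) (pow_one (maximalIdeal A))).toLinearMap
    have hq : Function.Bijective q := e.bijective.comp (Submodule.quotEquivOfEq (maximalIdeal A ^ 1) (maximalIdeal A) (pow_one (maximalIdeal A))).bijective
    let x₀ : M ⧸ S := q (Submodule.Quotient.mk 1)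
    haveI hiso : IsIso (inDMap q) := by
      haveI : IsIso (ModuleCat.ofHom q) := (LinearEquiv.ofBijective q hq).toModuleIso.isIso_hom
      infer_instance
    have hx0 : ∀ φ : Dual.inD A (M ⧸ S) ⟶ ω, gam J n hNQ φ x₀ = J (toTm ω 1 (inDMap q ≫ φ)) := fun φ => by
      rw [gam_apply, ← toTm_quotPow ω hn1 (inDMap q ≫ φ), ← Category.assoc]
      congr 3
      rw [show genPow n hNQ x₀ = q ∘ₗ quotPow hn1 from
        Submodule.linearMap_qext _ (LinearMap.ext_ring (by simp [genPow_one, x₀]))]
      exact ((DerivedCategory.singleFunctor (ModuleCat.{u} A) 0).map_comp (ModuleCat.ofHom (quotPow hn1)) (ModuleCat.ofHom q))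
    have hgen : ∀ g h : (M ⧸ S) →ₗ[A] E, g x₀ = h x₀ → g = h := fun g h hgh => by
      refine LinearMap.ext fun y => ?_
      obtain ⟨z, rfl⟩ := hq.2 y
      obtain ⟨a, rfl⟩ := Submodule.Quotient.mk_surjective _ z
      rw [← mul_one a, ← smul_eq_mul, Submodule.Quotient.mk_smul, map_smul, map_smul, map_smul]
      exact congrArg (a • ·) hgh
    have hi2 : ∀ φ, gam J n hNQ φ = 0 → φ = 0 := fun φ hφ => by
      have h0 := hJ _ ((hx0 φ).symm.trans (LinearMap.congr_fun hφ x₀))
      rwa [← comp_zero (f := inDMap q), cancel_epi] at h0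
    have hs2 : Function.Surjective (gam J n hNQ) := fun h => by
      have hsoc : h x₀ ∈ LinearMap.range f := by
        rw [← LC.hull_socle hf]
        refine (Submodule.mem_torsionBySet_iff _ _).2 fun a => ?_
        have h1 : (a : A) • x₀ = 0 := by
          show (a : A) • q (Submodule.Quotient.mk 1) = 0
          rw [← map_smul, ← Submodule.Quotient.mk_smul, (Submodule.Quotient.mk_eq_zero _).2, map_zero]
          rw [smul_eq_mul, mul_one, pow_one]
          exact a.2
        rw [← map_smul, h1, map_zero]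
      obtain ⟨u, hu⟩ := hJs _ hsoc
      exact ⟨inv (inDMap q) ≫ u, hgen _ _ (by rw [hx0, IsIso.hom_inv_id_assoc, hu])⟩
    constructor
    · rw [injective_iff_map_eq_zero]
      intro φ hφ
      have h1 : inDMap S.subtype ≫ φ = 0 := hi1 (by
        rw [gam_natural J n hNS hN, hφ, LinearMap.zero_comp, map_zero])
      obtain ⟨ψ, rfl⟩ := exists_factor_inD (f := S.subtype) (g := S.mkQ) Subtype.val_injective
        (Submodule.mkQ_surjective S) (LinearMap.exact_subtype_mkQ S) ω φ h1
      rw [gam_natural J n hN hNQ] at hφ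
      rw [hi2 ψ (LinearMap.ext fun y => by
        obtain ⟨x, rfl⟩ := Submodule.mkQ_surjective S y
        exact LinearMap.congr_fun hφ x), comp_zero]
    · intro h
      obtain ⟨φ₁, hφ₁⟩ := hs1 (h ∘ₗ S.subtype)
      obtain ⟨δ, hδ⟩ := exists_extend_inD (f := S.subtype) (g := S.mkQ) Subtype.val_injective
        (Submodule.mkQ_surjective S) (LinearMap.exact_subtype_mkQ S) ω 0
      let z := (shiftFunctorZero (Dual.D A) ℤ).app ω
      haveI : Subsingleton (Dual.inD A (M ⧸ S) ⟶ ω⟦(0 : ℤ) + 1⟧) :=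
        subsingleton_hom_of_isFiniteLength hn _
          (isFiniteLength_iff_isNoetherian_isArtinian.2 ⟨inferInstance, inferInstance⟩) _ (by omega)
      obtain ⟨ψ, hψ⟩ := hδ (φ₁ ≫ z.inv) (Subsingleton.elim _ _)
      have hψ' : inDMap S.subtype ≫ (ψ ≫ z.hom) = φ₁ := by
        rw [← Category.assoc, hψ, Category.assoc, Iso.inv_hom_id, Category.comp_id]
      let r := h - gam J n hN (ψ ≫ z.hom)
      have hr : S ≤ LinearMap.ker r := fun x hx => by
        have h1 := LinearMap.congr_fun hφ₁ ⟨x, hx⟩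
        rw [← hψ', gam_natural J n hNS hN] at h1
        rw [LinearMap.mem_ker, LinearMap.sub_apply, sub_eq_zero]
        exact h1.symm
      obtain ⟨χ, hχ⟩ := hs2 (S.liftQ r hr)
      refine ⟨(show Dual.inD A M ⟶ ω from ψ ≫ z.hom) + inDMap S.mkQ ≫ χ, ?_⟩
      rw [map_add, gam_natural J n hN hNQ S.mkQ χ, hχ, Submodule.liftQ_mkQ]
      exact add_sub_cancel _ _

end Gamma

/-- The trace into the hull of the residue field. -/
theorem exists_trace (hω : Dual.IsDualizing A ω) (hn : Dual.IsNormalized A ω) {E : Type u} [AddCommGroup E]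
    [Module A E] {f : ResidueField A →ₗ[A] E} (hf : InjHull.IsInjectiveHull f) :
    ∃ J : Tm ω →ₗ[A] E, Function.Bijective J ∧
      ∀ (n : ℕ) (N : Type u) [AddCommGroup N] [Module A N], IsFiniteLength A N →
        ∀ hN : ∀ a ∈ maximalIdeal A ^ n, ∀ x : N, a • x = 0, Function.Bijective (gam J n hN) := by
  haveI := hf.isInjective
  haveI := hasLTen A
  haveI := hasRHom (A := A)
  obtain ⟨c, -, ⟨ec⟩⟩ := exists_unique_ext_point (maximalIdeal A) hω
  have hc : c = 0 := by
    by_contra hne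
    haveI : Subsingleton (Dual.inD A (A ⧸ maximalIdeal A) ⟶ ω⟦c⟧) := hn c hne
    haveI : Subsingleton (A ⧸ maximalIdeal A) := ec.symm.injective.subsingleton
    exact not_subsingleton (ResidueField A) ‹_›
  subst hc
  let e1 : Dual.inD A (A ⧸ maximalIdeal A ^ 1) ≅ Dual.inD A (A ⧸ maximalIdeal A) :=
    (DerivedCategory.singleFunctor (ModuleCat.{u} A) 0).mapIso
      (Submodule.quotEquivOfEq (maximalIdeal A ^ 1) (maximalIdeal A) (pow_one (maximalIdeal A))).toModuleIso
  let e : (Dual.inD A (A ⧸ maximalIdeal A ^ 1) ⟶ ω) ≃ₗ[A] ResidueField A :=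
    (Linear.homCongr A e1 ((shiftFunctorZero (Dual.D A) ℤ).app ω).symm).trans ec
  obtain ⟨J, hJ⟩ := Module.Injective.extension_property A E _ _ (toTm ω 1) (toTm_injective hn 1)
    (f ∘ₗ e.toLinearMap)
  have hJu : ∀ u, J (toTm ω 1 u) = f (e u) := fun u => LinearMap.congr_fun hJ u
  have hJ0 : ∀ u, J (toTm ω 1 u) = 0 → u = 0 := fun u hu => by
    rw [hJu, ← map_zero f] at hu
    exact e.map_eq_zero_iff.1 (hf.injective hu)
  have hJs : ∀ x ∈ LinearMap.range f, ∃ u, J (toTm ω 1 u) = x := by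
    rintro x ⟨y, rfl⟩
    exact ⟨e.symm y, by rw [hJu, e.apply_symm_apply]⟩
  refine ⟨J, ⟨?_, fun x => ?_⟩, fun n N _ _ hfl hN => gam_bijective J n hn hf hJ0 hJs N hfl hN⟩
  · rw [injective_iff_map_eq_zero]
    intro w hw
    obtain ⟨n, u, rfl⟩ := exists_toTm ω w
    have hN : ∀ a ∈ maximalIdeal A ^ n, ∀ x : A ⧸ maximalIdeal A ^ n, a • x = 0 := fun a ha x => by
      obtain ⟨x, rfl⟩ := Submodule.Quotient.mk_surjective _ x
      exact (Submodule.Quotient.mk_eq_zero _).2 (Ideal.mul_mem_right x _ ha)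
    have h1 : gam J n hN u (Submodule.Quotient.mk 1) = 0 := by
      rw [gam_apply, show genPow n hN (Submodule.Quotient.mk 1) = LinearMap.id from
        Submodule.linearMap_qext _ (LinearMap.ext_ring (by simp [genPow_one]))]
      rw [show inDMap (LinearMap.id : (A ⧸ maximalIdeal A ^ n) →ₗ[A] _) = 𝟙 _ from
        (DerivedCategory.singleFunctor (ModuleCat.{u} A) 0).map_id _, Category.id_comp]
      exact hw
    have h2 : gam J n hN u = 0 := Submodule.linearMap_qext _ (LinearMap.ext_ring (by simpa using h1))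
    rw [(gam_bijective J n hn hf hJ0 hJs _ (LC.isFiniteLength_quot_pow (R := A) n) hN).1
      (h2.trans (map_zero _).symm), map_zero]
  · obtain ⟨n, hx⟩ := LC.hull_isPowerTorsion hf x
    have hN : ∀ a ∈ maximalIdeal A ^ n, ∀ y : A ⧸ maximalIdeal A ^ n, a • y = 0 := fun a ha y => by
      obtain ⟨y, rfl⟩ := Submodule.Quotient.mk_surjective _ y
      exact (Submodule.Quotient.mk_eq_zero _).2 (Ideal.mul_mem_right y _ ha)
    obtain ⟨u, hu⟩ := (gam_bijective J n hn hf hJ0 hJs _ (LC.isFiniteLength_quot_pow (R := A) n) hN).2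
      ((maximalIdeal A ^ n).liftQ (LinearMap.toSpanSingleton A E x) hx)
    refine ⟨toTm ω n (inDMap (genPow n hN (Submodule.Quotient.mk 1)) ≫ u), ?_⟩
    refine (gam_apply J n hN u _).symm.trans ((LinearMap.congr_fun hu _).trans ?_)
    exact one_smul A x

end Groth.Agent.KFlatLib

namespace Groth.Agent.KFlatLib

variable {A : Type u} [CommRing A] [IsLocalRing A]

/-- A module of finite length is killed by a power of the maximal ideal. -/
lemma exists_pow_smul_eq_zero [IsNoetherianRing A] (N : Type u) [AddCommGroup N] [Module A N]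
    (h : IsFiniteLength A N) : ∃ n : ℕ, ∀ a ∈ maximalIdeal A ^ n, ∀ x : N, a • x = 0 := by
  induction h with
  | of_subsingleton => exact ⟨0, fun a _ x => Subsingleton.elim _ _⟩
  | @of_simple_quotient M _ _ S _ _ ih =>
    obtain ⟨n, hn⟩ := ih
    obtain ⟨e⟩ : Nonempty ((A ⧸ maximalIdeal A) ≃ₗ[A] (M ⧸ S)) := nonempty_linearEquiv_quot_of_isSimpleModule _
    refine ⟨n + 1, fun a ha x => ?_⟩
    rw [pow_succ] at ha
    refine Submodule.mul_induction_on ha (fun b hb c hc => ?_) (fun b c hb hc => by rw [add_smul, hb, hc, add_zero])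
    have hcx : c • x ∈ S := by
      rw [← Submodule.Quotient.mk_eq_zero, Submodule.Quotient.mk_smul]
      refine e.symm.injective ?_
      rw [map_smul, map_zero]
      obtain ⟨t, ht⟩ := Ideal.Quotient.mk_surjective (e.symm (Submodule.Quotient.mk x))
      rw [← ht]
      exact Ideal.Quotient.eq_zero_iff_mem.2 (Ideal.mul_mem_right t _ hc)
    rw [mul_smul]
    exact congrArg Subtype.val (hn b hb ⟨c • x, hcx⟩)

end Groth.Agent.KFlatLib
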