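import Groth.Agent.KFlatLib.Ring.ShriekRange
import Groth.Agent.KFlatLib.Ring.ShriekPerfect
import Groth.Agent.H9Misc.DRingTorLTensor
import Groth.Agent.FlatSyz5.Dim
import Groth.Agent.FlatLoc6.NormFlat
import Mathlib.LinearAlgebra.TensorProduct.Finiteness

/-!
# The relative tor amplitude of the relative dualizing complex
-/

set_option linter.style.haveILetI false
set_option backward.isDefEq.respectTransparency false

universe u

open CategoryTheory CategoryTheory.Limits MonoidalCategory
open scoped TensorProduct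

attribute [local instance] HasDerivedCategory.standard

namespace Groth.Agent.KFlatLib

section Homology

variable {P A : Type u} [CommRing P] [CommRing A] [Algebra P A]
  {Rψ : Dual.D P ⥤ Dual.D A} (a : DRing.restrictD (algebraMap P A) ⊣ Rψ)

include a

/-- Cohomology of the shriek of a module is computed by maps out of the algebra. -/
theorem subsingleton_hd_shriek_inD (N : Type u) [AddCommGroup N] [Module P N] (i : ℤ)
    (h : Subsingleton (Dual.inD P A ⟶ (Dual.inD P N)⟦i⟧)) :
    Subsingleton (Dual.HD A (Rψ.obj (Dual.inD P N)) i) := by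
  haveI := hasLTen P
  haveI := hasRHom (A := P)
  obtain ⟨γ⟩ := nonempty_res_shriek_iso (algebraMap P A) Rψ a
  obtain ⟨r⟩ := nonempty_resUnit_iso (R := P) (A := A)
  obtain ⟨e⟩ := exists_hdRHomShiftLEquiv (DerivedCategory.Q.obj (resUnitCx (algebraMap P A))) (Dual.inD P N) i
  haveI : Subsingleton (DerivedCategory.Q.obj (resUnitCx (algebraMap P A)) ⟶ (Dual.inD P N)⟦i⟧) :=
    (Linear.homCongr P r (Iso.refl ((Dual.inD P N)⟦i⟧))).symm.injective.subsingleton
  haveI := e.injective.subsingleton
  have h' := subsingleton_hd_of_iso (γ.app (Dual.inD P N)).symm i ‹_›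
  exact @Equiv.subsingleton _ _ ((H9Misc.DRingRestrict.HDRestrictIso (algebraMap P A) _ i).toLinearEquiv.symm).toEquiv h'

end Homology

section Depth

variable {R : Type u} [CommRing R] [IsNoetherianRing R] {n : ℕ}

/-- The depth of the fibre of a polynomial ring at a prime, from the dimension function. -/
theorem le_fibDepth_mvPolynomial (Q : Ideal (MvPolynomial (Fin n) R)) [Q.IsPrime] (d : ℕ)
    (hd : DimFormula.fd R Q ≤ d) :
    ((n - d : ℕ) : ℕ∞) ≤ FlatLoc6.fibDepth R Q (MvPolynomial (Fin n) R) := by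
  let P := MvPolynomial (Fin n) R
  let p := Q.comap (algebraMap R P)
  let Fib := EGA4.FibLocRing R P Q
  haveI := FlatLoc6.isLocalRing_fibLocRing (A := R) Q
  haveI : LocCoh.IsGorensteinLocalRing Fib := LC.fibLoc_of_fiber Q fun p' _ => by
    haveI := LC.gorensteinRing_of_isRegularRing p'.ResidueField
    haveI := LC.gorensteinRing_mvPolynomial_fin p'.ResidueField n
    exact LC.gorensteinRing_of_ringEquiv
      (MvPolynomial.algebraTensorAlgEquiv (σ := Fin n) R p'.ResidueField).toRingEquiv.symm inferInstance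
  haveI : LocCoh.IsCohenMacaulayLocalRing Fib := LC.isCohenMacaulayLocalRing_of_gorenstein (R := Fib)
  have hsuppP : (⟨Q, ‹_›⟩ : PrimeSpectrum P) ∈ Module.support P P :=
    Module.mem_support_iff'.2 ⟨1, fun r hr h0 => hr (by rw [smul_eq_mul, mul_one] at h0; rw [h0]; exact Q.zero_mem)⟩
  have hsuppR : (⟨p, inferInstance⟩ : PrimeSpectrum R) ∈ Module.support R R :=
    Module.mem_support_iff'.2 ⟨1, fun r hr h0 => hr (by rw [smul_eq_mul, mul_one] at h0; rw [h0]; exact p.zero_mem)⟩
  obtain ⟨-, hdim⟩ := FlatLoc6.formulas_atPrime (A := R) P R p Q rfl hsuppP hsuppR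
  let e : LocalizedModule Q.primeCompl (P ⊗[R] R) ≃ₗ[Localization.AtPrime Q] LocalizedModule Q.primeCompl P :=
    IsLocalizedModule.mapEquiv Q.primeCompl (LocalizedModule.mkLinearMap _ _)
      (LocalizedModule.mkLinearMap _ _) (Localization.AtPrime Q) (TensorProduct.AlgebraTensorModule.rid R P P)
  have hcm : ringKrullDim Fib = ((LocCoh.depth Fib Fib : ℕ∞) : WithBot ℕ∞) := by
    rw [← Module.supportDim_self_eq_ringKrullDim]
    exact LocCoh.IsCohenMacaulayLocalRing.supportDim_eq_depth
  rw [FlatLoc6.fibDim_self, hcm, Module.supportDim_eq_of_equiv (by exact e),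
    Module.supportDim_eq_of_equiv (LC.selfLoc Q.primeCompl),
    Module.supportDim_eq_of_equiv (LC.selfLoc p.primeCompl),
    Module.supportDim_self_eq_ringKrullDim, Module.supportDim_self_eq_ringKrullDim,
    IsLocalization.AtPrime.ringKrullDim_eq_height Q (Localization.AtPrime Q),
    IsLocalization.AtPrime.ringKrullDim_eq_height p (Localization.AtPrime p)] at hdim
  have hdim' : Q.height = p.height + LocCoh.depth Fib Fib := by exact_mod_cast hdim
  have hf := DimFormula.height_add_fd_mvPolynomial (A := R) (⟨Q, ‹_›⟩ : PrimeSpectrum P)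
  rw [← PrimeSpectrum.height_eq_orderHeight, ← PrimeSpectrum.height_eq_orderHeight] at hf
  change Q.height + (DimFormula.fd R Q : ℕ∞) = p.height + n at hf
  obtain ⟨a, ha⟩ := ENat.ne_top_iff_exists.1 (Ideal.height_ne_top (I := p) (Ideal.IsPrime.ne_top inferInstance))
  obtain ⟨b, hb⟩ := ENat.ne_top_iff_exists.1 (Ideal.height_ne_top (I := Q) (Ideal.IsPrime.ne_top inferInstance))
  rw [FlatLoc6.fibDepth_self]
  rw [← ha, ← hb] at hdim' hf
  generalize LocCoh.depth Fib Fib = c at hdim' ⊢
  induction c using ENat.recTopCoe with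
  | top => simp at hdim'
  | coe c =>
    norm_cast at hdim' hf ⊢
    omega

/-- The depth of a base change to a polynomial ring at a prime. -/
theorem le_depth_tensor_atPrime (M : Type u) [AddCommGroup M] [Module R M] [Module.Finite R M]
    (Q : Ideal (MvPolynomial (Fin n) R)) [Q.IsPrime] (d : ℕ) (hd : DimFormula.fd R Q ≤ d) :
    ((n - d : ℕ) : ℕ∞) ≤ LocCoh.depth (Localization.AtPrime Q)
      (LocalizedModule Q.primeCompl (MvPolynomial (Fin n) R ⊗[R] M)) := by
  let P := MvPolynomial (Fin n) R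
  let p := Q.comap (algebraMap R P)
  by_cases hE : (⟨p, inferInstance⟩ : PrimeSpectrum R) ∈ Module.support R M
  swap
  · refine le_trans le_top (le_of_eq ?_)
    haveI : Subsingleton (LocalizedModule Q.primeCompl (P ⊗[R] M)) := by
      refine (Module.notMem_support_iff (p := (⟨Q, ‹_›⟩ : PrimeSpectrum P))).1 fun h => hE ?_
      exact ((FlatLoc6.mem_support_tensor_iff (A := R) (B := P) _).1 h).2
    exact (FlatLoc6.depth_top_of_subsingleton _).symm
  have hsuppP : (⟨Q, ‹_›⟩ : PrimeSpectrum P) ∈ Module.support P P :=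
    Module.mem_support_iff'.2 ⟨1, fun r hr h0 => hr (by rw [smul_eq_mul, mul_one] at h0; rw [h0]; exact Q.zero_mem)⟩
  obtain ⟨hdepth, -⟩ := FlatLoc6.formulas_atPrime (A := R) P M p Q rfl hsuppP hE
  rw [hdepth]
  exact le_trans (le_fibDepth_mvPolynomial Q d hd) le_add_self

end Depth

section Ext

variable {R A : Type u} [CommRing R] [CommRing A] [IsNoetherianRing R] [Algebra R A]
  {n : ℕ} [Algebra (MvPolynomial (Fin n) R) A] [IsScalarTower R (MvPolynomial (Fin n) R) A]
  (hψ : Function.Surjective (algebraMap (MvPolynomial (Fin n) R) A))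

include hψ

/-- `Ext` from a flat algebra into base changed modules vanishes above the number of variables. -/
theorem subsingleton_hom_shift_of_gt [Module.Flat R A] (N : Type u) [AddCommGroup N]
    [Module (MvPolynomial (Fin n) R) N] (i : ℤ) (hi : (n : ℤ) < i) :
    Subsingleton (Dual.inD (MvPolynomial (Fin n) R) A ⟶ (Dual.inD (MvPolynomial (Fin n) R) N)⟦i⟧) := by
  obtain ⟨k, rfl⟩ := Int.eq_ofNat_of_zero_le (by omega : 0 ≤ i)
  rw [LC.subsingleton_hom_shift_nat_iff]
  haveI : Module.Finite (MvPolynomial (Fin n) R) A := Module.Finite.of_surjective (Algebra.linearMap _ A) hψ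
  haveI : Module.FinitePresentation (MvPolynomial (Fin n) R) A := Module.finitePresentation_of_finite _ _
  haveI : Algebra.FiniteType R A :=
    Algebra.FiniteType.of_surjective (IsScalarTower.toAlgHom R (MvPolynomial (Fin n) R) A) hψ
  haveI : HasProjectiveDimensionLT (ModuleCat.of (MvPolynomial (Fin n) R) A) (n + 1) :=
    (FlatSyz5.torDimLE_iff_projDimLT R (MvPolynomial (Fin n) R) n A).1
      (torDimLE_of_flat_base n _ AlgEquiv.refl A)
  exact ⟨fun x y => by rw [Abelian.Ext.eq_zero_of_hasProjectiveDimensionLT x (n + 1) (by omega),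
    Abelian.Ext.eq_zero_of_hasProjectiveDimensionLT y (n + 1) (by omega)]⟩

/-- `Ext` from the algebra into base changed finite modules vanishes below the relative codimension. -/
theorem subsingleton_hom_shift_of_lt (M : Type u) [AddCommGroup M] [Module R M] [Module.Finite R M] (d : ℕ)
    (hd : ∀ q : PrimeSpectrum A, DimFormula.fd R q.asIdeal ≤ d) (i : ℤ) (hi : i < (n : ℤ) - d) :
    Subsingleton (Dual.inD (MvPolynomial (Fin n) R) A ⟶
      (Dual.inD (MvPolynomial (Fin n) R) (MvPolynomial (Fin n) R ⊗[R] M))⟦i⟧) := by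
  let P := MvPolynomial (Fin n) R
  by_cases h0 : i < 0
  · exact LC.subsingleton_hom_shift_neg P _ _ i h0
  obtain ⟨k, rfl⟩ := Int.eq_ofNat_of_zero_le (not_lt.1 h0)
  rw [LC.subsingleton_hom_shift_nat_iff]
  let I := RingHom.ker (algebraMap P A)
  let e : (P ⧸ I) ≃ₗ[P] A := (Ideal.quotientKerAlgEquivOfSurjective (f := Algebra.ofId P A) hψ).toLinearEquiv
  haveI : Subsingleton (Abelian.Ext.{u} (ModuleCat.of P (P ⧸ I)) (ModuleCat.of P (P ⊗[R] M)) k) := by
    refine (LC.le_idealDepth_iff_ext I (P ⊗[R] M) (n - d)).1 ?_ k (by omega)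
    rw [LC.idealDepth_eq_iInf_depth]
    refine le_iInf₂ fun Q hQ => le_depth_tensor_atPrime M Q.asIdeal d ?_
    obtain ⟨q, hq⟩ : Q ∈ Set.range (PrimeSpectrum.comap (algebraMap P A)) := by
      rw [_root_.range_comap_of_surjective _ _ hψ]
      exact hQ
    subst hq
    haveI : Algebra.FiniteType R A := Algebra.FiniteType.of_surjective (IsScalarTower.toAlgHom R P A) hψ
    refine le_trans (le_of_eq ?_) (hd q)
    exact DimFormula.fd_comap_of_surjective R (IsScalarTower.toAlgHom R P A) hψ q.asIdeal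
  exact ⟨fun x y => by
    have h1 := Subsingleton.elim ((Abelian.Ext.mk₀ e.toModuleIso.hom).comp x (zero_add k))
      ((Abelian.Ext.mk₀ e.toModuleIso.hom).comp y (zero_add k))
    have h2 := congrArg (fun z => (Abelian.Ext.mk₀ e.toModuleIso.inv).comp z (zero_add k)) h1
    simpa only [Abelian.Ext.mk₀_comp_mk₀_assoc, Iso.inv_hom_id, Abelian.Ext.mk₀_id_comp] using h2⟩

end Ext

section Main

variable {R A : Type u} [CommRing R] [CommRing A] [Algebra R A] [IsNoetherianRing R] [Module.Flat R A]
  {n : ℕ} (ψ : MvPolynomial (Fin n) R →ₐ[R] A) (hψ : Function.Surjective ψ)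
  {Rψ : Dual.D (MvPolynomial (Fin n) R) ⥤ Dual.D A} (a : DRing.restrictD ψ.toRingHom ⊣ Rψ)

/-- Derived base change of a module to a polynomial ring. -/
lemma nonempty_LBase_inD_poly [DTen.HasLBase (algebraMap R (MvPolynomial (Fin n) R))] (M : Type u)
    [AddCommGroup M] [Module R M] :
    Nonempty ((DTen.LBase (algebraMap R (MvPolynomial (Fin n) R))).obj (Dual.inD R M) ≅
      Dual.inD (MvPolynomial (Fin n) R) (MvPolynomial (Fin n) R ⊗[R] M)) := by
  let ι := algebraMap R (MvPolynomial (Fin n) R)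
  haveI := isIso_baseCmp_of_flat ι (RingHom.flat_algebraMap_iff.2 inferInstance)
    ((CochainComplex.singleFunctor (ModuleCat.{u} R) 0).obj (ModuleCat.of R M))
  let j : (ModuleCat.extendScalars ι).obj (ModuleCat.of R M) ≅
      ModuleCat.of (MvPolynomial (Fin n) R) (MvPolynomial (Fin n) R ⊗[R] M) :=
    by
    let P := MvPolynomial (Fin n) R
    let P₀ := (ModuleCat.restrictScalars ι).obj (ModuleCat.of P P)
    let eP : (P₀ : Type u) ≃ₗ[R] P :=
      { toFun := fun x => x
        invFun := fun x => x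
        map_add' := fun _ _ => rfl
        left_inv := fun _ => rfl
        right_inv := fun _ => rfl
        map_smul' := fun r (x : P) => (Algebra.smul_def r x).symm }
    let c : (P₀ : Type u) ⊗[R] M ≃ₗ[R] P ⊗[R] M := TensorProduct.congr eP (LinearEquiv.refl R M)
    refine LinearEquiv.toModuleIso (X₁ := ((ModuleCat.extendScalars ι).obj (ModuleCat.of R M) : Type u))
      (m₁ := ((ModuleCat.extendScalars ι).obj (ModuleCat.of R M)).isModule)
      { c.toAddEquiv with map_smul' := fun p z => ?_ }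
    induction z using TensorProduct.induction_on with
    | zero =>
      erw [smul_zero]
      change c 0 = p • c 0
      rw [map_zero, smul_zero]
    | tmul q m => rfl
    | add x y hx hy =>
      erw [smul_add]
      change c (_ + _) = p • c (x + y)
      rw [map_add, map_add, smul_add]
      exact congrArg₂ (· + ·) hx hy
  exact ⟨(DTen.LBase ι).mapIso ((DerivedCategory.singleFunctorIsoCompQ (ModuleCat.{u} R) 0).app _) ≪≫
    asIso ((DTen.baseCmp ι).app _) ≪≫
    DerivedCategory.Q.mapIso (((HomologicalComplex.singleMapHomologicalComplex _ _ 0).app _) ≪≫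
      (CochainComplex.singleFunctor _ 0).mapIso j) ≪≫
    ((DerivedCategory.singleFunctorIsoCompQ (ModuleCat.{u} _) 0).app _).symm⟩

include hψ a

/-- The relative dualizing complex vanishes in positive degrees. -/
theorem subsingleton_hd_shriek_unit_of_pos (i : ℤ) (hi : 0 < i) :
    Subsingleton (Dual.HD A ((Rψ.obj (DTen.unit _))⟦(n : ℤ)⟧) i) := by
  letI : Algebra (MvPolynomial (Fin n) R) A := ψ.toRingHom.toAlgebra
  haveI : IsScalarTower R (MvPolynomial (Fin n) R) A :=
    IsScalarTower.of_algebraMap_eq fun r => (ψ.commutes r).symm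
  obtain ⟨c⟩ := exists_hdShiftLEquiv (Rψ.obj (DTen.unit _)) (n : ℤ) i ((n : ℤ) + i) rfl
  obtain ⟨u⟩ := nonempty_unit_iso_inD (MvPolynomial (Fin n) R)
  haveI := subsingleton_hd_of_iso (Rψ.mapIso u).symm ((n : ℤ) + i)
    (subsingleton_hd_shriek_inD a (MvPolynomial (Fin n) R) ((n : ℤ) + i)
      (subsingleton_hom_shift_of_gt hψ _ _ (by omega)))
  exact c.injective.subsingleton

/-- Tensor products with finite modules keep the relative dualizing complex in its range. -/
theorem subsingleton_hd_ten_shriek_unit [DTen.HasLBase (algebraMap R A)] [DTen.HasLTen A] (M : Type u)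
    [AddCommGroup M] [Module R M] (i : ℤ)
    (hi : 0 < i ∨ ∃ d : ℕ, Module.Finite R M ∧ (∀ q : PrimeSpectrum A, DimFormula.fd R q.asIdeal ≤ d) ∧
      i < -(d : ℤ)) :
    Subsingleton (Dual.HD A ((DTen.LTen₂ A).obj ((DTen.LBase (algebraMap R A)).obj (Dual.inD R M),
      (Rψ.obj (DTen.unit _))⟦(n : ℤ)⟧)) i) := by
  letI : Algebra (MvPolynomial (Fin n) R) A := ψ.toRingHom.toAlgebra
  haveI : IsScalarTower R (MvPolynomial (Fin n) R) A :=
    IsScalarTower.of_algebraMap_eq fun r => (ψ.commutes r).symm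
  haveI := hasLBase (algebraMap R (MvPolynomial (Fin n) R))
  obtain ⟨t⟩ := nonempty_shriekVia_iso_ten n ψ.toRingHom hψ (RingHom.ext ψ.commutes)
    (algebraMap R (MvPolynomial (Fin n) R)) rfl a (Iso.refl _) (Dual.inD R M)
  obtain ⟨b⟩ := nonempty_LBase_inD_poly (R := R) (n := n) M
  obtain ⟨c⟩ := exists_hdShiftLEquiv (Rψ.obj (Dual.inD (MvPolynomial (Fin n) R) (MvPolynomial (Fin n) R ⊗[R] M)))
    (n : ℤ) i ((n : ℤ) + i) rfl
  haveI : Subsingleton (Dual.HD A (Rψ.obj (Dual.inD (MvPolynomial (Fin n) R)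
      (MvPolynomial (Fin n) R ⊗[R] M))) ((n : ℤ) + i)) := by
    refine subsingleton_hd_shriek_inD a _ _ ?_
    rcases hi with hi | ⟨d, hM, hd, hi⟩
    · exact subsingleton_hom_shift_of_gt hψ _ _ (by omega)
    · exact subsingleton_hom_shift_of_lt hψ M d hd _ (by omega)
  exact subsingleton_hd_of_iso (((shiftFunctor _ (n : ℤ)).mapIso (Rψ.mapIso b.symm)) ≪≫ t) i
    c.injective.subsingleton

/-- The relative dualizing complex has tor amplitude in minus the fibre dimension. -/
theorem hasTorAmplitudeIn_shriek_unit (d : ℕ) (hd : ∀ q : PrimeSpectrum A, DimFormula.fd R q.asIdeal ≤ d) :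
    DRing.HasTorAmplitudeIn R (-(d : ℤ)) 0
      ((DRing.restrictD (algebraMap R A)).obj ((Rψ.obj (DTen.unit _))⟦(n : ℤ)⟧)) := by
  let φ := algebraMap R A
  haveI := hasLBase φ
  haveI := hasLTen A
  let W := (Rψ.obj (DTen.unit (MvPolynomial (Fin n) R)))⟦(n : ℤ)⟧
  obtain ⟨p, q, E, hz, hf, ⟨eE⟩⟩ := hasFiniteTorDimCx_shriek_unit ψ.toRingHom hψ (RingHom.ext ψ.commutes) a
  have hE : H9Misc.DRingLTensor.IsKF E := H9Misc.DRingTor.isKF_of_flat hf fun j hj => hz j (Or.inr hj)
  let L := flatRep W
  let XL := ((ModuleCat.restrictScalars φ).mapHomologicalComplex (ComplexShape.up ℤ)).obj L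
  haveI := (ringCover R).quasiIso_ψ XL
  haveI : IsIso (DerivedCategory.Q.map ((ringCover R).ψ.app XL)) :=
    (DerivedCategory.isIso_Q_map_iff_quasiIso _ _).2 inferInstance
  have hXL : H9Misc.DRingLTensor.IsKF ((ringCover R).P.obj XL) := kFlat_ringRes XL
  let eX : DerivedCategory.Q.obj ((ringCover R).P.obj XL) ≅ DerivedCategory.Q.obj E :=
    asIso (DerivedCategory.Q.map ((ringCover R).ψ.app XL)) ≪≫ ((DTen.resFactors φ).app L).symm ≪≫
      (DRing.restrictD φ).mapIso (flatRepIso W) ≪≫ eE.symm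
  have key : ∀ (M : ModuleCat.{u} R) (i : ℤ),
      (0 < i ∨ ∃ d : ℕ, Module.Finite R M ∧ (∀ q : PrimeSpectrum A, DimFormula.fd R q.asIdeal ≤ d) ∧
        i < -(d : ℤ)) → ((H9Misc.DRingLTensor.tensC M).obj E).ExactAt i := by
    intro M i hi
    haveI := H9Misc.DRingTor.hasLTensor M
    refine (H9Misc.DRingTor.exactAt_tensC_iff M hE (Iso.refl _) i).1 ?_
    refine (H9Misc.DRingTor.exactAt_tensC_iff M hXL eX i).2 ?_
    obtain ⟨F, f, hqf, hF⟩ := H9Misc.DRingTorLTensor.exists_resolution M
    haveI := hqf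
    refine (H9Misc.DRingTorLTensor.exactAt_balance ((ringCover R).ψ.app XL) hXL hF f i).1 ?_
    refine (H9Misc.DRingTorLTensor.exactAt_projection φ L F i).1 ?_
    rw [HomologicalComplex.exactAt_iff_isZero_homology]
    haveI : IsIso (DerivedCategory.Q.map f) := (DerivedCategory.isIso_Q_map_iff_quasiIso _ _).2 inferInstance
    haveI := isIso_baseCmp φ hF
    haveI := isIso_ε (A := A) (kFlat_extendScalars φ hF) L
    haveI := isIso_ε_right (A := A) (kFlat_extendScalars φ hF) L
    haveI := isIso_symm_app (DerivedCategory.Q.obj L) (DerivedCategory.Q.obj ((H9Misc.DRingLTensor.extC' φ).obj F))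
    have h : Subsingleton (Dual.HD A ((DTen.LTen₂ A).obj ((DTen.LBase φ).obj (Dual.inD R M), W)) i) :=
      subsingleton_hd_ten_shriek_unit ψ hψ a M i hi
    let e : (DTen.LTen₂ A).obj ((DTen.LBase φ).obj (Dual.inD R M), W) ≅
        DerivedCategory.Q.obj (L ⊗ (H9Misc.DRingLTensor.extC' φ).obj F) :=
      (DTen.LTen₂ A).mapIso (Iso.prod
          ((DTen.LBase φ).mapIso ((DerivedCategory.singleFunctorIsoCompQ (ModuleCat.{u} R) 0).app M ≪≫
            (asIso (DerivedCategory.Q.map f)).symm) ≪≫ asIso ((DTen.baseCmp φ).app F))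
          (flatRepIso W).symm) ≪≫
        asIso ((DTen.symm A).app (DerivedCategory.Q.obj L,
          DerivedCategory.Q.obj ((H9Misc.DRingLTensor.extC' φ).obj F))) ≪≫
        asIso ((DTen.ε A).app (L, (H9Misc.DRingLTensor.extC' φ).obj F))
    exact (H9Misc.DRingCompl.isZ (subsingleton_hd_of_iso e i h)).of_iso
      ((DerivedCategory.homologyFunctorFactors (ModuleCat.{u} A) i).app _).symm
  refine H9Misc.DRingTor.hasTorAmplitudeIn_of_van hE (fun M i hi => ?_) eE
  rcases hi with hi | hi
  swap
  · exact key M i (Or.inl hi)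
  rw [HomologicalComplex.exactAt_iff' _ (i - 1) i (i + 1) (by simp) (by simp),
    ShortComplex.ShortExact.moduleCat_exact_iff_function_exact]
  intro (x : E.X i ⊗[R] M)
  constructor
  · intro (hx : (E.d i (i + 1)).hom.rTensor M x = 0)
    obtain ⟨N, hN, hxN⟩ := TensorProduct.exists_finite_submodule_right_of_setFinite {x} (Set.finite_singleton x)
    obtain ⟨x', rfl⟩ := hxN (Set.mem_singleton x)
    haveI := hf (i + 1)
    have hx' : (E.d i (i + 1)).hom.rTensor N x' = 0 := by
      refine Module.Flat.lTensor_preserves_injective_linearMap N.subtype N.injective_subtype ?_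
      rw [map_zero, ← hx]
      exact LinearMap.congr_fun ((LinearMap.lTensor_comp_rTensor (f := (E.d i (i + 1)).hom) (g := N.subtype)).trans
        (LinearMap.rTensor_comp_lTensor (f := (E.d i (i + 1)).hom) (g := N.subtype)).symm) x'
    have hex := key (ModuleCat.of R N) i (Or.inr ⟨d, hN, hd, hi⟩)
    rw [HomologicalComplex.exactAt_iff' _ (i - 1) i (i + 1) (by simp) (by simp),
      ShortComplex.ShortExact.moduleCat_exact_iff_function_exact] at hex
    obtain ⟨y, hy⟩ := (hex x').1 hx'
    refine ⟨N.subtype.lTensor (E.X (i - 1)) y, ?_⟩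
    change (E.d (i - 1) i).hom.rTensor M (N.subtype.lTensor (E.X (i - 1)) y) = _
    rw [show x' = (E.d (i - 1) i).hom.rTensor N y from hy.symm]
    exact LinearMap.congr_fun ((LinearMap.rTensor_comp_lTensor (f := (E.d (i - 1) i).hom) (g := N.subtype)).trans
      (LinearMap.lTensor_comp_rTensor (f := (E.d (i - 1) i).hom) (g := N.subtype)).symm) y
  · rintro ⟨y : E.X (i - 1) ⊗[R] M, rfl⟩
    change (E.d i (i + 1)).hom.rTensor M ((E.d (i - 1) i).hom.rTensor M y) = 0
    rw [← LinearMap.comp_apply, ← LinearMap.rTensor_comp, ← ModuleCat.hom_comp, E.d_comp_d]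
    simp

end Main

end Groth.Agent.KFlatLib
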