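import Groth.Agent.KFlatLib.Ring.ReflexiveDepth
import Groth.Agent.FlatLoc6.FiberRing
import Groth.Agent.FlatLoc6.SerreNormal

/-!
# Depth along a flat map from fibre depths
-/

set_option autoImplicit false
set_option linter.style.haveILetI false

universe u

open TensorProduct IsLocalRing

namespace Groth.Agent.KFlatLib

variable {A B : Type u} [CommRing A] [CommRing B] [IsNoetherianRing A] [IsNoetherianRing B] [Algebra A B]

omit [IsNoetherianRing A] [IsNoetherianRing B] in
theorem map_eq_maximalIdeal_fibLocRing (q : Ideal B) [q.IsPrime] [IsLocalRing (EGA4.FibLocRing A B q)] :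
    q.map (algebraMap B (EGA4.FibLocRing A B q)) = maximalIdeal (EGA4.FibLocRing A B q) := by
  rw [show algebraMap B (EGA4.FibLocRing A B q) =
      (Ideal.Quotient.mk _).comp (algebraMap B (Localization.AtPrime q)) from rfl,
    ← Ideal.map_map, Localization.AtPrime.map_eq_maximalIdeal]
  exact IsLocalRing.eq_maximalIdeal
    ((Ideal.map_eq_top_or_isMaximal_of_surjective _ Ideal.Quotient.mk_surjective
      (IsLocalRing.maximalIdeal.isMaximal (Localization.AtPrime q))).resolve_left fun h => by
        have h1 := congrArg (Ideal.comap (Ideal.Quotient.mk ((q.comap (algebraMap A B)).map (algebraMap A (Localization.AtPrime q))))) h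
        rw [Ideal.comap_map_of_surjective _ Ideal.Quotient.mk_surjective, Ideal.comap_top, ← RingHom.ker_eq_comap_bot,
          Ideal.mk_ker, sup_eq_left.2] at h1
        · exact (IsLocalRing.maximalIdeal.isMaximal (Localization.AtPrime q)).ne_top h1
        · rw [← Localization.AtPrime.map_eq_maximalIdeal, IsScalarTower.algebraMap_eq A B (Localization.AtPrime q),
            ← Ideal.map_map]
          exact Ideal.map_mono Ideal.map_comap_le)

/-- Fibre depth bounds the depth upstairs. -/
theorem le_idealDepth_of_fibLocRing [Module.Flat A B] (J : Ideal B) (k : ℕ∞)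
    (h : ∀ q : PrimeSpectrum B, J ≤ q.asIdeal →
      k ≤ LocCoh.idealDepth (q.asIdeal.map (algebraMap B (EGA4.FibLocRing A B q.asIdeal))) (EGA4.FibLocRing A B q.asIdeal)) :
    k ≤ LocCoh.idealDepth J B := by
  rw [LC.idealDepth_eq_iInf_depth]
  refine le_iInf₂ fun q hq => ?_
  haveI := FlatLoc6.isLocalRing_fibLocRing (A := A) q.asIdeal
  have hk := h q hq
  rw [map_eq_maximalIdeal_fibLocRing q.asIdeal] at hk
  have hf := (FlatLoc6.formulas_atPrime (A := A) B A (q.asIdeal.comap (algebraMap A B)) q.asIdeal rfl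
    (Module.mem_support_iff'.2 ⟨1, fun r hr h0 => hr (by
      rw [smul_eq_mul, mul_one] at h0; rw [h0]; exact q.asIdeal.zero_mem)⟩)
    (Module.mem_support_iff'.2 ⟨1, fun r hr h0 => hr (by
      rw [smul_eq_mul, mul_one] at h0; rw [h0]; exact (q.asIdeal.comap (algebraMap A B)).zero_mem)⟩)).1
  let e : LocalizedModule q.asIdeal.primeCompl (B ⊗[A] A) ≃ₗ[Localization.AtPrime q.asIdeal]
      LocalizedModule q.asIdeal.primeCompl B :=
    IsLocalizedModule.mapEquiv q.asIdeal.primeCompl (LocalizedModule.mkLinearMap _ _)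
      (LocalizedModule.mkLinearMap _ _) (Localization.AtPrime q.asIdeal) (AlgebraTensorModule.rid A B B)
  rw [show LocCoh.idealDepth (maximalIdeal (EGA4.FibLocRing A B q.asIdeal)) (EGA4.FibLocRing A B q.asIdeal) =
    LocCoh.depth (EGA4.FibLocRing A B q.asIdeal) (EGA4.FibLocRing A B q.asIdeal) from rfl, ← FlatLoc6.fibDepth_self] at hk
  calc k ≤ _ := hk
    _ ≤ _ := le_add_self
    _ = LocCoh.depth (Localization.AtPrime q.asIdeal) (LocalizedModule q.asIdeal.primeCompl (B ⊗[A] A)) := hf.symm
    _ = _ := FlatLoc6.depth_congr' (by exact e)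

end Groth.Agent.KFlatLib
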