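import Groth.Agent.KFlatLib.Ring.ShriekLCI
import Groth.Agent.KFlatLib.Ring.FlatFibreDepth
import Groth.Agent.LC.GorHull
import Groth.Agent.LC.DepthLoc
import Groth.Agent.ValPrufer.DimFun
import Groth.Agent.Synt29.SmoothProps

/-!
# The range of the relative dualizing complex
-/

set_option linter.style.haveILetI false
set_option backward.isDefEq.respectTransparency false

universe u

open CategoryTheory CategoryTheory.Limits AlgebraicGeometry
open scoped TensorProduct

attribute [local instance] HasDerivedCategory.standard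

namespace Groth.Agent.KFlatLib

section Depth

variable {R : Type u} [CommRing R] [IsNoetherianRing R] {n : ℕ}

/-- The depth of a polynomial ring at a prime, from the dimension function. -/
theorem le_depth_mvPolynomial_atPrime (Q : Ideal (MvPolynomial (Fin n) R)) [Q.IsPrime] (d : ℕ)
    (hd : DimFormula.fd R Q ≤ d) :
    ((n - d : ℕ) : ℕ∞) ≤ LocCoh.depth (Localization.AtPrime Q) (Localization.AtPrime Q) := by
  let P := MvPolynomial (Fin n) R
  let p := Q.comap (algebraMap R P)
  let Fib := EGA4.FibLocRing R P Q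
  haveI := FlatLoc6.isLocalRing_fibLocRing (A := R) Q
  haveI : LocCoh.IsGorensteinLocalRing Fib := LC.fibLoc_of_fiber Q fun p' _ => by
    haveI := LC.gorensteinRing_of_isRegularRing p'.ResidueField
    haveI := LC.gorensteinRing_mvPolynomial_fin p'.ResidueField n
    exact LC.gorensteinRing_of_ringEquiv
      (MvPolynomial.algebraTensorAlgEquiv (σ := Fin n) R p'.ResidueField).toRingEquiv.symm inferInstance
  haveI : LocCoh.IsCohenMacaulayLocalRing Fib := LC.isCohenMacaulayLocalRing_of_gorenstein (R := Fib)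
  have hsuppP : (⟨Q, ‹_›⟩ : PrimeSpectrum P) ∈ Module.support P P :=
    Module.mem_support_iff'.2 ⟨1, fun r hr h0 => hr (by rw [smul_eq_mul, mul_one] at h0; rw [h0]; exact Q.zero_mem)⟩
  have hsuppR : (⟨p, inferInstance⟩ : PrimeSpectrum R) ∈ Module.support R R :=
    Module.mem_support_iff'.2 ⟨1, fun r hr h0 => hr (by rw [smul_eq_mul, mul_one] at h0; rw [h0]; exact p.zero_mem)⟩
  obtain ⟨hdepth, hdim⟩ := FlatLoc6.formulas_atPrime (A := R) P R p Q rfl hsuppP hsuppR
  let e : LocalizedModule Q.primeCompl (P ⊗[R] R) ≃ₗ[Localization.AtPrime Q] LocalizedModule Q.primeCompl P :=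
    IsLocalizedModule.mapEquiv Q.primeCompl (LocalizedModule.mkLinearMap _ _)
      (LocalizedModule.mkLinearMap _ _) (Localization.AtPrime Q) (TensorProduct.AlgebraTensorModule.rid R P P)
  have hdepth' : LocCoh.depth Fib Fib ≤ LocCoh.depth (Localization.AtPrime Q) (Localization.AtPrime Q) := by
    rw [← FlatLoc6.fibDepth_self, ← FlatLoc6.depth_congr' (LC.selfLoc Q.primeCompl)]
    calc _ ≤ _ := le_add_self
      _ = _ := hdepth.symm
      _ = _ := FlatLoc6.depth_congr' (by exact e)
  have hcm : ringKrullDim Fib = ((LocCoh.depth Fib Fib : ℕ∞) : WithBot ℕ∞) := by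
    rw [← Module.supportDim_self_eq_ringKrullDim]
    exact LocCoh.IsCohenMacaulayLocalRing.supportDim_eq_depth
  rw [FlatLoc6.fibDim_self, hcm, Module.supportDim_eq_of_equiv (by exact e),
    Module.supportDim_eq_of_equiv (LC.selfLoc Q.primeCompl),
    Module.supportDim_eq_of_equiv (LC.selfLoc p.primeCompl),
    Module.supportDim_self_eq_ringKrullDim, Module.supportDim_self_eq_ringKrullDim,
    IsLocalization.AtPrime.ringKrullDim_eq_height Q (Localization.AtPrime Q),
    IsLocalization.AtPrime.ringKrullDim_eq_height p (Localization.AtPrime p)] at hdim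
  have hdim' : Q.height = p.height + LocCoh.depth Fib Fib := by exact_mod_cast hdim
  have hf := DimFormula.height_add_fd_mvPolynomial (A := R) (⟨Q, ‹_›⟩ : PrimeSpectrum P)
  rw [← PrimeSpectrum.height_eq_orderHeight, ← PrimeSpectrum.height_eq_orderHeight] at hf
  change Q.height + (DimFormula.fd R Q : ℕ∞) = p.height + n at hf
  obtain ⟨a, ha⟩ := ENat.ne_top_iff_exists.1 (Ideal.height_ne_top (I := p) (Ideal.IsPrime.ne_top inferInstance))
  obtain ⟨b, hb⟩ := ENat.ne_top_iff_exists.1 (Ideal.height_ne_top (I := Q) (Ideal.IsPrime.ne_top inferInstance))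
  refine le_trans ?_ hdepth'
  rw [← ha, ← hb] at hdim' hf
  generalize LocCoh.depth Fib Fib = c at hdim' ⊢
  induction c using ENat.recTopCoe with
  | top => simp at hdim'
  | coe c =>
    norm_cast at hdim' hf ⊢
    omega

end Depth

section Vanishing

variable {R A : Type u} [CommRing R] [CommRing A] [IsNoetherianRing R] [Algebra R A] [Algebra.FiniteType R A]
  {n : ℕ} (ψ : MvPolynomial (Fin n) R →ₐ[R] A) (hψ : Function.Surjective ψ)
  {Rψ : Dual.D (MvPolynomial (Fin n) R) ⥤ Dual.D A} (a : DRing.restrictD ψ.toRingHom ⊣ Rψ)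

include hψ a

/-- Below minus the fibre dimension the shriek of the ring vanishes at a point. -/
theorem subsingleton_localized_hd_shriek_unit_of_lt (q : PrimeSpectrum A) (d : ℕ)
    (hd : ∀ q' : PrimeSpectrum A, q' ≤ q → DimFormula.fd R q'.asIdeal ≤ d) (i : ℤ)
    (hi : i < (n : ℤ) - d) :
    Subsingleton (LocalizedModule q.asIdeal.primeCompl (Dual.HD A (Rψ.obj (DTen.unit _)) i)) := by
  let P := MvPolynomial (Fin n) R
  let Q := q.asIdeal.comap ψ.toRingHom
  let S := Localization.AtPrime Q
  let I := RingHom.ker ψ.toRingHom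
  let W := Rψ.obj (DTen.unit P)
  haveI : IsNoetherianRing S := IsLocalization.isNoetherianRing Q.primeCompl _ inferInstance
  letI : Algebra P A := ψ.toRingHom.toAlgebra
  letI : Module P (Dual.HD A W i) := Module.compHom _ ψ.toRingHom
  haveI : IsScalarTower P A (Dual.HD A W i) := IsScalarTower.of_algebraMap_smul fun _ _ => rfl
  refine subsingleton_localized_of_quotient (P := P) _ hψ q.asIdeal Q rfl ?_
  obtain ⟨e⟩ := exists_localized_hd_shriek_equiv ψ.toRingHom hψ a Q i
  haveI : Subsingleton (Dual.inD S (S ⧸ I.map (algebraMap P S)) ⟶ (Dual.inD S S)⟦i⟧) := by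
    by_cases h0 : i < 0
    · exact LC.subsingleton_hom_shift_neg S _ _ i h0
    obtain ⟨k, rfl⟩ := Int.eq_ofNat_of_zero_le (not_lt.1 h0)
    rw [LC.subsingleton_hom_shift_nat_iff]
    refine (LC.le_idealDepth_iff_ext (I.map (algebraMap P S)) S (n - d)).1 ?_ k (by omega)
    rw [LC.idealDepth_eq_iInf_depth]
    refine le_iInf₂ fun P'' hP'' => ?_
    let Q' := P''.asIdeal.comap (algebraMap P S)
    have hIQ' : I ≤ Q' := fun x hx => hP'' (Ideal.mem_map_of_mem _ hx)
    have hQ'Q : Q' ≤ Q := fun x hx => by
      by_contra h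
      exact P''.isPrime.ne_top (Ideal.eq_top_of_isUnit_mem _ hx (IsLocalization.map_units S (⟨x, h⟩ : Q.primeCompl)))
    haveI : IsLocalization.AtPrime (Localization.AtPrime P''.asIdeal) Q' :=
      IsLocalization.isLocalization_isLocalization_atPrime_isLocalization Q.primeCompl _ P''.asIdeal
    obtain ⟨q', hq'⟩ : (⟨Q', inferInstance⟩ : PrimeSpectrum P) ∈ Set.range (PrimeSpectrum.comap ψ.toRingHom) := by
      rw [_root_.range_comap_of_surjective _ _ hψ]
      exact hIQ'
    have hqle : q' ≤ q := fun x hx => by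
      obtain ⟨y, rfl⟩ := hψ x
      exact hQ'Q ((SetLike.ext_iff.1 (congrArg PrimeSpectrum.asIdeal hq') y).1 hx)
    have hfd : DimFormula.fd R Q' ≤ d := by
      have := DimFormula.fd_comap_of_surjective R ψ hψ q'.asIdeal
      have hQe : q'.asIdeal.comap ψ.toRingHom = Q' := congrArg PrimeSpectrum.asIdeal hq'
      simp only [hQe] at this
      rw [this]
      exact hd q' hqle
    refine (le_depth_mvPolynomial_atPrime Q' d hfd).trans (le_of_eq ?_)
    haveI : IsLocalRing (Localization.AtPrime P''.asIdeal) := inferInstance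
    exact (Synt29.SmoothProps.depth_congr_ring (IsLocalization.algEquiv Q'.primeCompl (Localization.AtPrime Q')
      (Localization.AtPrime P''.asIdeal)).toRingEquiv).trans
        (FlatLoc6.depth_congr' (LC.selfLoc P''.asIdeal.primeCompl)).symm
  exact e.injective.subsingleton

omit hψ a [IsNoetherianRing R] in
/-- The dimension function below a point is bounded by the local fibre dimension. -/
theorem fd_le_of_fibreDimAt (q : PrimeSpectrum A) (d : ℕ)
    (hd : FlatMor.fibreDimAt (Spec.map (CommRingCat.ofHom (algebraMap R A))) q ≤ (d : WithBot ℕ∞))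
    (q' : PrimeSpectrum A) (hq' : q' ≤ q) : DimFormula.fd R q'.asIdeal ≤ d := by
  let f := ValPrufer.DimFun.str R A
  have h : FlatMor.fibreDimAt f q' ≤ (d : ℕ) :=
    ((PrimeSpectrum.le_iff_specializes q' q).1 hq').mem_open (FibDim.isOpen_fibreDimAt_le f d) hd
  rw [← ValPrufer.DimFun.rd_eq_fd]
  exact (FibDim.fibreDimAt_le_iff f q' d).1 h q' specializes_rfl rfl

end Vanishing

end Groth.Agent.KFlatLib
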