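import Groth.Agent.KFlatLib.Ring.BaseChangeTor

/-!
# Trivial duality and base change, for arbitrary choices of adjoints
-/

set_option linter.style.haveILetI false
set_option backward.isDefEq.respectTransparency false

universe u

open CategoryTheory CategoryTheory.Limits MonoidalCategory

attribute [local instance] HasDerivedCategory.standard

namespace Groth.Agent.KFlatLib

variable {R A R' A' : Type u} [CommRing R] [CommRing A] [CommRing R'] [CommRing A']
  {φ : R →+* A} {ρ : R →+* R'} {α : A →+* A'} {φ' : R' →+* A'} (h : α.comp φ = φ'.comp ρ)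
  [DRing.HasLBaseChange ρ] [DRing.HasLBaseChange α] [DTen.HasLBase ρ] [DTen.HasLBase α]
  (adjρ : DRing.LBaseChange ρ ⊣ DRing.restrictD ρ) (adjα : DRing.LBaseChange α ⊣ DRing.restrictD α)

lemma trivCmp_eq (X : Dual.D A) :
    TrivBC.cmp adjρ adjα h X =
      (adjρ.leftAdjointUniq (DTen.baseAdj ρ)).hom.app _ ≫ cmpBC h X ≫
        (DRing.restrictD φ').map ((adjα.leftAdjointUniq (DTen.baseAdj α)).inv.app X) := by
  refine (adjρ.homEquiv _ _).injective ?_
  rw [adjρ.homEquiv_unit, adjρ.homEquiv_unit, Functor.map_comp, Functor.map_comp,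
    reassoc_of% (Adjunction.unit_leftAdjointUniq_hom_app adjρ (DTen.baseAdj ρ) _),
    reassoc_of% (unit_cmpBC h X), ← adjρ.homEquiv_unit]
  dsimp only [TrivBC.cmp]
  rw [Equiv.apply_symm_apply]
  have hn := (TrivBC.resComm h).hom.naturality ((adjα.leftAdjointUniq (DTen.baseAdj α)).inv.app X)
  simp only [Functor.comp_map] at hn
  erw [← hn]
  rw [← Functor.map_comp_assoc]
  refine congrArg (fun z => (DRing.restrictD φ).map z ≫ _) ?_
  rw [Adjunction.leftAdjointUniq_inv_app]
  exact (Adjunction.unit_leftAdjointUniq_hom_app (DTen.baseAdj α) adjα X).symm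

/-- Invertibility of the comparison does not depend on the chosen adjoints. -/
lemma isIso_trivCmp_iff (X : Dual.D A) : IsIso (TrivBC.cmp adjρ adjα h X) ↔ IsIso (cmpBC h X) := by
  rw [trivCmp_eq]
  refine ⟨fun hi => ?_, fun hi => ?_⟩
  · haveI := IsIso.of_isIso_comp_left ((adjρ.leftAdjointUniq (DTen.baseAdj ρ)).hom.app _)
      (cmpBC h X ≫ (DRing.restrictD φ').map ((adjα.leftAdjointUniq (DTen.baseAdj α)).inv.app X))
    exact IsIso.of_isIso_comp_right (cmpBC h X)
      ((DRing.restrictD φ').map ((adjα.leftAdjointUniq (DTen.baseAdj α)).inv.app X))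
  · infer_instance

/-- Invertibility of the base change map does not depend on the chosen adjoints. -/
theorem isIso_bcMap_iff {Rφ : Dual.D R ⥤ Dual.D A} (adj : DRing.restrictD φ ⊣ Rφ)
    {Rφ' : Dual.D R' ⥤ Dual.D A'} (adj' : DRing.restrictD φ' ⊣ Rφ') (K : Dual.D R)
    (hc : IsIso (TrivBC.cmp adjρ adjα h (Rφ.obj K))) [IsIso (cmpBC h (Rφ.obj K))] :
    IsIso (TrivBC.bcMap adjρ adjα h adj adj' K hc) ↔
      IsIso (adj'.homEquiv _ _ (inv (cmpBC h (Rφ.obj K)) ≫ (DTen.LBase ρ).map (adj.counit.app K))) := by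
  let eρ := adjρ.leftAdjointUniq (DTen.baseAdj ρ)
  let eα := adjα.leftAdjointUniq (DTen.baseAdj α)
  let θ := adj'.homEquiv _ _ (inv (cmpBC h (Rφ.obj K)) ≫ (DTen.LBase ρ).map (adj.counit.app K))
  have e : TrivBC.bcMap adjρ adjα h adj adj' K hc =
      eα.hom.app (Rφ.obj K) ≫ θ ≫ Rφ'.map (eρ.inv.app K) := by
    haveI := hc
    rw [← adj'.homEquiv_naturality_right]
    refine Eq.trans ?_ (adj'.homEquiv_naturality_left _ _)
    dsimp only [TrivBC.bcMap]
    refine congrArg _ ?_
    rw [IsIso.inv_comp_eq, trivCmp_eq]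
    simp only [Category.assoc]
    rw [← Functor.map_comp_assoc, Iso.inv_hom_id_app, CategoryTheory.Functor.map_id]
    erw [Category.id_comp, IsIso.hom_inv_id_assoc]
    have hn := eρ.inv.naturality (adj.counit.app K)
    simp only [Functor.comp_obj, Functor.id_obj] at hn
    erw [hn]
    exact (eρ.hom_inv_id_app_assoc _ _).symm
  rw [e]
  refine ⟨fun hi => ?_, fun hi => ?_⟩
  · haveI := IsIso.of_isIso_comp_left (eα.hom.app (Rφ.obj K)) (θ ≫ Rφ'.map (eρ.inv.app K))
    exact IsIso.of_isIso_comp_right θ (Rφ'.map (eρ.inv.app K))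
  · infer_instance

section Pushout

omit [DRing.HasLBaseChange ρ] [DRing.HasLBaseChange α] [DTen.HasLBase ρ] [DTen.HasLBase α] h

variable (R A R' A') [Algebra R A] [Algebra R R'] [Algebra A A'] [Algebra R' A'] [Algebra R A']
  [IsScalarTower R A A'] [IsScalarTower R R' A'] [Algebra.IsPushout R A R' A']

/-- Tor independent pushouts satisfy base change. -/
theorem isIso_cmpBC_of_tor [DTen.HasLBase (algebraMap R R')] [DTen.HasLBase (algebraMap A A')]
    (h : (algebraMap A A').comp (algebraMap R A) = (algebraMap R' A').comp (algebraMap R R'))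
    (htor : ∀ p : ℕ, 1 ≤ p → Subsingleton (DRing.Tor R p A R')) (X : Dual.D A) :
    IsIso (cmpBC h X) := by
  haveI : Algebra.IsPushout R R' A A' := Algebra.IsPushout.symm inferInstance
  haveI := isIso_sqMod h rfl rfl rfl rfl (ModuleCat.of A A)
  exact isIso_cmpBC h (isIso_baseCmp_single_of_tor htor) X

omit [CommRing R'] [CommRing A'] [Algebra R R'] [Algebra A A'] [Algebra R' A'] [Algebra R A']
  [IsScalarTower R A A'] [IsScalarTower R R' A'] [Algebra.IsPushout R A R' A'] in
/-- The algebra as an object over the base. -/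
lemma nonempty_inD_iso_res_unit :
    Nonempty (Dual.inD R A ≅ (DRing.restrictD (algebraMap R A)).obj (DTen.unit A)) := by
  obtain ⟨e⟩ := nonempty_resUnit_iso (R := R) (A := A)
  exact ⟨e ≪≫ ((DerivedCategory.singleFunctorIsoCompQ (ModuleCat.{u} R) 0).app _).symm ≪≫
    (H9Misc.DRingRestrict.restrictInDIso (algebraMap R A) (ModuleCat.of A A)).symm ≪≫
    (DRing.restrictD _).mapIso ((DerivedCategory.singleFunctorIsoCompQ (ModuleCat.{u} A) 0).app (ModuleCat.of A A))⟩

end Pushout

end Groth.Agent.KFlatLib
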