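import Groth.Agent.KFlatLib.Ring.HasRHom
import Groth.Agent.H9Misc.DRingHomTensor
import Groth.Agent.H9Misc.DRingHomCxPre
import Groth.Agent.H9Misc.DRingRHomCompl
import Groth.Agent.KFlatLib.Ring.EvalPseudoCoherent

/-!
# `RHom` through Hom complexes is the adjoint `RHom`
-/

set_option linter.style.haveILetI false
set_option backward.isDefEq.respectTransparency false

universe u

open CategoryTheory CategoryTheory.Limits MonoidalCategory
open CochainComplex CochainComplex.HomComplex
open Groth.Agent.H9Misc.DRingHomTensor Groth.Agent.H9Misc.DRingHomCx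

attribute [local instance] HasDerivedCategory.standard

namespace Groth.Agent.KFlatLib

variable {A : Type u} [CommRing A] {P Z Z' I : DRing.Cx A}

lemma tenCx_map_pure (g : Z' ⟶ Z) (p q a : ℤ) (h : p + q = a) (x : Z'.X p) (y : P.X q) :
    (((tenCx P).map g).f a).hom (pure Z' P p q a h x y) = pure Z P p q a h ((g.f p).hom x) y :=
  ConcreteCategory.congr_hom (HomologicalComplex.ι_mapBifunctorMap (f₁ := g) (f₂ := 𝟙 P)
    (F := curriedTensor (ModuleCat.{u} A)) (c := ComplexShape.up ℤ) p q a h) (x ⊗ₜ[A] y)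

/-- Maps out of a tensor product are maps into the Hom complex. -/
noncomputable def homCxEquiv (P Z I : DRing.Cx A) :
    ((tenCx P).obj Z ⟶ I) ≃ (Z ⟶ DRing.homCx P I) where
  toFun f := Cocycle.homOf (Cocycle.mk (curry (L := P) (Cochain.ofHom f : Cochain (Z ⊗ P) I 0)) 1 rfl (by
    apply (curryEquiv Z P I 1).injective
    rw [map_zero]
    show uncurry (δ 0 1 (curry (L := P) (Cochain.ofHom f : Cochain (Z ⊗ P) I 0))) = 0
    exact ((δ_uncurry (n := 0) _).symm).trans ((congrArg (δ 0 1) (uncurry_curry _)).trans (δ_ofHom f))))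
  invFun g := Cocycle.homOf (Cocycle.mk (uncurry (Cochain.ofHom g : Cochain Z (DRing.homCx P I) 0)) 1 rfl (by
    show δ 0 (0 + 1) _ = _
    rw [δ_uncurry, show (δ 0 (0 + 1) (Cochain.ofHom g : Cochain Z (DRing.homCx P I) 0)) = 0 from δ_ofHom g]
    exact map_zero (curryEquiv Z P I 1)))
  left_inv f := by
    apply Cochain.ofHom_injective
    rw [Cocycle.cochain_ofHom_homOf_eq_coe]
    show uncurry (Cochain.ofHom _) = _
    rw [Cocycle.cochain_ofHom_homOf_eq_coe]
    exact uncurry_curry _
  right_inv g := by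
    apply Cochain.ofHom_injective
    rw [Cocycle.cochain_ofHom_homOf_eq_coe]
    show curry (Cochain.ofHom _) = _
    rw [Cocycle.cochain_ofHom_homOf_eq_coe]
    exact curry_uncurry _

lemma ofHom_homCxEquiv_symm (g : Z ⟶ DRing.homCx P I) :
    Cochain.ofHom ((homCxEquiv P Z I).symm g) = uncurry (Cochain.ofHom g : Cochain Z (DRing.homCx P I) 0) :=
  Cocycle.cochain_ofHom_homOf_eq_coe _

lemma homCxEquiv_symm_pure (g : Z ⟶ DRing.homCx P I) (p q a : ℤ) (h : p + q = a) (x : Z.X p) (y : P.X q) :
    (((homCxEquiv P Z I).symm g).f a).hom (pure Z P p q a h x y) =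
      comp₂ (Cochain.ofHom g) p q a (by omega) x y := by
  rw [← Cochain.ofHom_v ((homCxEquiv P Z I).symm g) a, ofHom_homCxEquiv_symm]
  exact uncurry_pure _ p q a a h (add_zero a) x y

/-- The Hom complex is right adjoint to the tensor product. -/
noncomputable def homCxAdj (P : DRing.Cx A) : tenCx P ⊣ DRing.homCxFunctor P :=
  Adjunction.mkOfHomEquiv
    { homEquiv := fun Z I => homCxEquiv P Z I
      homEquiv_naturality_left_symm := fun {Z' Z I} g k => by
        refine HomologicalComplex.hom_ext _ _ fun a => H9Misc.DRingHomTensor.hom_ext fun p q h x y => ?_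
        show _ = (((homCxEquiv P Z I).symm k).f a).hom ((((tenCx P).map g).f a).hom _)
        rw [tenCx_map_pure]
        refine (homCxEquiv_symm_pure (P := P) (I := I) (g ≫ k) p q a h x y).trans ?_
        refine Eq.trans ?_ (homCxEquiv_symm_pure (P := P) (I := I) k p q a h _ y).symm
        have key : ∀ (s : ℤ) (hs : p + 0 = s) (hq : q + s = a),
            ((show Cochain P I s from ((Cochain.ofHom (g ≫ k)).v p s hs).hom x).v q a hq).hom y =
              ((show Cochain P I s from ((Cochain.ofHom k).v p s hs).hom ((g.f p).hom x)).v q a hq).hom y := by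
          intro s hs hq
          obtain rfl : p = s := by omega
          simp only [Cochain.ofHom_v]
          rfl
        exact key (p + 0) rfl (by omega)
      homEquiv_naturality_right := fun {Z I I'} f g => by
        refine Cochain.ofHom_injective ?_
        refine (Cocycle.cochain_ofHom_homOf_eq_coe _).trans ?_
        refine Cochain.ext _ _ fun p s hps => ModuleCat.hom_ext (LinearMap.ext fun x => ?_)
        obtain rfl : p = s := by omega
        refine Cochain.ext _ _ fun q b hqb => ModuleCat.hom_ext (LinearMap.ext fun y => ?_)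
        simp [homCxEquiv, curry_apply, DRing.homCxFunctor, DRing.homCxMap]
        refine Eq.trans ?_ (ConcreteCategory.congr_hom (Cochain.comp_zero_cochain_v
          (show Cochain P I p from ((curry (L := P) (Cochain.ofHom f : Cochain (Z ⊗ P) I 0)).v p p hps).hom x)
          (Cochain.ofHom g) q b hqb) y).symm
        rw [Cochain.ofHom_v]
        rfl }

variable [DTen.HasLTen A] [DTen.HasRHom A]

/-- The inner hom computes the derived internal hom. -/
lemma nonempty_innerHom_rhom (L : Dual.D A) {P : DRing.Cx A} (eP : DerivedCategory.Q.obj P ≅ L)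
    (hP : KFlat (curriedTensor (ModuleCat.{u} A)) P) (I : DRing.Cx A) [I.IsKInjective] [∀ n, Injective (I.X n)] :
    Nonempty (DerivedCategory.Q.obj ((innerHom P).obj I) ≅ (DTen.RHomR A L).obj (DerivedCategory.Q.obj I)) := by
  let QP := DerivedCategory.Q.obj P
  let ev : (DTen.tensorRightD A QP).obj (DerivedCategory.Q.obj ((innerHom P).obj I)) ⟶ DerivedCategory.Q.obj I :=
    (DTen.ε A).app ((innerHom P).obj I, P) ≫ DerivedCategory.Q.map ((innerAdj P).counit.app I)
  let θ := DTen.rhomHomEquiv (DerivedCategory.Q.obj ((innerHom P).obj I)) QP (DerivedCategory.Q.obj I) ev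
  haveI : IsIso θ := isIso_of_bijective_unit _ fun j => by
    have : (fun z : (DTen.unit A)⟦j⟧ ⟶ DerivedCategory.Q.obj ((innerHom P).obj I) => z ≫ θ) =
        (DTen.rhomHomEquiv ((DTen.unit A)⟦j⟧) QP (DerivedCategory.Q.obj I)) ∘
          (fun z => (DTen.tensorRightD A QP).map z ≫ ev) := funext fun z =>
      ((DTen.rhomAdj A QP).homEquiv_naturality_left z ev).symm
    rw [this]
    exact (Equiv.bijective _).comp (bijective_innerEv hP I _)
  exact ⟨asIso θ ≪≫ ((DTen.RHom A).mapIso eP.symm.op).app _⟩

/-- `RHom` through Hom complexes is the adjoint `RHom`. -/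
theorem nonempty_RHomCx_iso (K : DRing.Cx A) [DRing.HasRHomCx K] (L : Dual.D A) :
    Nonempty ((DRing.RHomCx K).obj L ≅ (DTen.RHomR A (DRing.toD K)).obj L) := by
  obtain ⟨I, hI, hinj, ⟨eI⟩⟩ := H9Misc.DRingRHomCompl.exists_resolution L
  haveI := hI
  haveI := hinj
  let P := (ringCover A).P.obj K
  let π : P ⟶ K := (ringCover A).ψ.app K
  haveI : QuasiIso π := (ringCover A).quasiIso_ψ K
  haveI : IsIso (DerivedCategory.Q.map π) := (DerivedCategory.isIso_Q_map_iff_quasiIso _ _).2 inferInstance
  haveI := quasiIso_homCxPre_of_isKInjective π I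
  haveI : IsIso (DerivedCategory.Q.map (homCxPre π I)) :=
    (DerivedCategory.isIso_Q_map_iff_quasiIso _ _).2 inferInstance
  obtain ⟨e⟩ := nonempty_innerHom_rhom (DRing.toD K) (asIso (DerivedCategory.Q.map π)) (kFlat_ringRes K) I
  let u : DRing.homCx P I ≅ (innerHom P).obj I :=
    ((homCxAdj P).rightAdjointUniq (innerAdj P)).app I
  exact ⟨(DRing.RHomCx K).mapIso eI ≪≫ (isoOfKInjective K I).symm ≪≫
    asIso (DerivedCategory.Q.map (homCxPre π I)) ≪≫ DerivedCategory.Q.mapIso u ≪≫ e ≪≫
      (DTen.RHomR A (DRing.toD K)).mapIso eI.symm⟩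

end Groth.Agent.KFlatLib
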