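import Groth.Agent.KFlatLib.Ring.LTenLinear

/-!
# Invertible objects of the derived category of a Noetherian local ring
-/

set_option linter.style.haveILetI false
set_option backward.isDefEq.respectTransparency false

universe u

open CategoryTheory CategoryTheory.Limits Pretriangulated MonoidalCategory

attribute [local instance] HasDerivedCategory.standard

namespace Groth.Agent.KFlatLib

variable {A : Type u} [CommRing A]

section Module

variable [IsLocalRing A]

open IsLocalRing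

/-- A nonzero finite module has a nonzero map to the residue field. -/
lemma exists_ne_zero_hom_residueField (N : Type u) [AddCommGroup N] [Module A N] [Module.Finite A N]
    [Nontrivial N] : ∃ (f : N →ₗ[A] ResidueField A) (x : N), f x = 1 := by
  obtain ⟨K, hK⟩ := IsCoatomic.exists_coatom (α := Submodule A N)
  have hs : IsSimpleModule A (N ⧸ K) := isSimpleModule_iff_isCoatom.2 hK
  obtain ⟨I, hI, ⟨e⟩⟩ := isSimpleModule_iff_quot_maximal.1 hs
  obtain rfl := eq_maximalIdeal hI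
  let g : N →ₗ[A] ResidueField A := e.toLinearMap.comp K.mkQ
  have hg : Function.Surjective g := e.surjective.comp (Submodule.mkQ_surjective K)
  obtain ⟨x, hx⟩ := hg 1
  exact ⟨g, x, hx⟩

/-- If bilinear maps into every module are the module, the factor is cyclic free. -/
lemma nonempty_equiv_of_bilin (P Q : Type u) [AddCommGroup P] [Module A P] [Module.Finite A P]
    [AddCommGroup Q] [Module A Q] [Module.Finite A Q] [Nontrivial P] [Nontrivial Q]
    (h : ∀ (M : Type u) [AddCommGroup M] [Module A M], Nonempty ((P →ₗ[A] Q →ₗ[A] M) ≃ₗ[A] M)) :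
    Nonempty (P ≃ₗ[A] A) := by
  obtain ⟨g, y₀, hg⟩ := exists_ne_zero_hom_residueField (A := A) Q
  obtain ⟨f₁, x₀, hf⟩ := exists_ne_zero_hom_residueField (A := A) P
  obtain ⟨Θ⟩ := h (ResidueField A)
  let B : (P →ₗ[A] ResidueField A) →ₗ[A] (P →ₗ[A] Q →ₗ[A] ResidueField A) :=
    { toFun := fun f =>
        LinearMap.mk₂ A (fun x y => f x * g y) (by simp [add_mul]) (by simp)
          (by simp [mul_add]) (by simp)
      map_add' := fun f f' => by ext; simp [add_mul]
      map_smul' := fun r f => by ext; simp }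
  have hspan : A ∙ x₀ = ⊤ := by
    refine eq_top_iff.2 (Submodule.le_of_le_smul_of_le_jacobson_bot (I := maximalIdeal A) Module.Finite.fg_top
      (maximalIdeal_le_jacobson ⊥) ?_)
    by_contra hne
    haveI : Nontrivial (P ⧸ ((A ∙ x₀) ⊔ maximalIdeal A • ⊤)) :=
      Submodule.Quotient.nontrivial_iff.2 fun e => hne (top_le_iff.2 e)
    obtain ⟨f', z, hz⟩ := exists_ne_zero_hom_residueField (A := A) (P ⧸ ((A ∙ x₀) ⊔ maximalIdeal A • ⊤))
    let f₂ := f'.comp ((A ∙ x₀) ⊔ maximalIdeal A • ⊤).mkQ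
    have h2 : f₂ x₀ = 0 := by
      change f' (Submodule.Quotient.mk x₀) = 0
      rw [(Submodule.Quotient.mk_eq_zero _).2 (Submodule.mem_sup_left (Submodule.mem_span_singleton_self x₀)),
        map_zero]
    have hv : Θ (B f₁) ≠ 0 := fun e => by
      have := DFunLike.congr_fun (DFunLike.congr_fun (Θ.injective (e.trans (map_zero Θ).symm)) x₀) y₀
      simp [B, hf, hg] at this
    obtain ⟨c, hc⟩ : ∃ c : A, c • Θ (B f₁) = Θ (B f₂) := by
      obtain ⟨c, hc⟩ := residue_surjective (R := A) (Θ (B f₂) * (Θ (B f₁))⁻¹)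
      exact ⟨c, by rw [Algebra.smul_def]; change residue A c * _ = _; rw [hc, mul_assoc, inv_mul_cancel₀ hv, mul_one]⟩
    have hB : c • B f₁ = B f₂ := Θ.injective (by rw [map_smul, hc])
    have e1 := DFunLike.congr_fun (DFunLike.congr_fun hB x₀) y₀
    simp [B, hf, hg, h2] at e1
    have hall : f₂ = 0 := by
      ext x
      have e2 := DFunLike.congr_fun (DFunLike.congr_fun hB x) y₀
      simp only [LinearMap.smul_apply, B, LinearMap.coe_mk, AddHom.coe_mk, LinearMap.mk₂_apply, hg,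
        mul_one] at e2
      rw [← e2, Algebra.smul_def, LinearMap.zero_apply]
      exact mul_eq_zero_of_left ((mul_one (algebraMap A (ResidueField A) c)).symm.trans ((Algebra.smul_def c (1 : ResidueField A)).symm.trans e1)) _
    obtain ⟨x, rfl⟩ := Submodule.mkQ_surjective _ z
    exact one_ne_zero (hz.symm.trans (DFunLike.congr_fun hall x))
  obtain ⟨Ψ⟩ := h A
  refine ⟨(LinearEquiv.ofBijective (LinearMap.toSpanSingleton A P x₀) ⟨?_, fun x => ?_⟩).symm⟩
  · refine (injective_iff_map_eq_zero _).2 fun r hr => ?_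
    have hr0 : ∀ x : P, r • x = 0 := fun x => by
      obtain ⟨a, rfl⟩ := Submodule.mem_span_singleton.1 (hspan ▸ Submodule.mem_top : x ∈ A ∙ x₀)
      rw [smul_comm, show r • x₀ = 0 from hr, smul_zero]
    have := map_smul Ψ r (Ψ.symm 1)
    rw [show r • Ψ.symm 1 = 0 from LinearMap.ext fun x => by
      rw [LinearMap.smul_apply, ← map_smul, hr0, map_zero, LinearMap.zero_apply], map_zero,
      Ψ.apply_symm_apply, smul_eq_mul, mul_one] at this
    exact this.symm
  · exact Submodule.mem_span_singleton.1 (hspan ▸ Submodule.mem_top : x ∈ A ∙ x₀)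

end Module

/-- The cohomology of a shift. -/
lemma exists_hdShiftLEquiv (Y : Dual.D A) (k i j : ℤ) (h : k + i = j) :
    Nonempty (Dual.HD A (Y⟦k⟧) i ≃ₗ[A] Dual.HD A Y j) :=
  ⟨(((DerivedCategory.homologyFunctor (ModuleCat.{u} A) 0).shiftIso k i j h).app Y).toLinearEquiv⟩

/-- Maps from `≤ m` to `≥ m`, linearly. -/
lemma exists_homologyMapLEquiv (m : ℤ) (X Y : Dual.D A) [X.IsLE m] [Y.IsGE m] :
    Nonempty ((X ⟶ Y) ≃ₗ[A] (Dual.HD A X m →ₗ[A] Dual.HD A Y m)) := by
  let Φ : (X ⟶ Y) →ₗ[A] (Dual.HD A X m →ₗ[A] Dual.HD A Y m) :=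
    { toFun := fun f => ((DerivedCategory.homologyFunctor (ModuleCat.{u} A) m).map f).hom
      map_add' := fun f g => by simp
      map_smul' := fun r f => by simp }
  refine ⟨LinearEquiv.ofBijective Φ ⟨fun f g h => (bijective_homologyMap m).1 (ModuleCat.hom_ext h),
    fun y => ?_⟩⟩
  obtain ⟨f, hf⟩ := (bijective_homologyMap m (X := X) (Y := Y)).2 (ModuleCat.ofHom y)
  exact ⟨f, congrArg ModuleCat.Hom.hom hf⟩

/-- Cohomology of a module in one degree. -/
lemma exists_hdSingleLEquiv (M : ModuleCat.{u} A) (n : ℤ) :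
    Nonempty (Dual.HD A ((DerivedCategory.singleFunctor (ModuleCat.{u} A) n).obj M) n ≃ₗ[A] M) :=
  ⟨((DerivedCategory.singleFunctorCompHomologyFunctorIso (ModuleCat.{u} A) n).app M).toLinearEquiv⟩

variable [DTen.HasLTen A] [DTen.HasRHom A]

/-- Maps out of a tensor product in the top degree are bilinear maps. -/
lemma exists_topBilinLEquiv (P Q : Dual.D A) (p q n : ℤ) (hn : p + q = n) [P.IsLE p] [Q.IsLE q]
    (M : ModuleCat.{u} A) :
    Nonempty (((DTen.LTen₂ A).obj (P, Q) ⟶ (DerivedCategory.singleFunctor (ModuleCat.{u} A) n).obj M) ≃ₗ[A]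
      (Dual.HD A P p →ₗ[A] Dual.HD A Q q →ₗ[A] M)) := by
  let S := (DerivedCategory.singleFunctor (ModuleCat.{u} A) n).obj M
  haveI : DerivedCategory.IsGE S n := inferInstance
  haveI : ((DTen.RHomR A Q).obj S).IsGE p := by
    have := isGE_RHomR Q S q n
    rwa [show n - q = p by omega] at this
  haveI : DerivedCategory.IsLE (Q⟦-p⟧) n :=
    DerivedCategory.TStructure.t.isLE_shift Q q (-p) n (by omega)
  obtain ⟨e₁⟩ := exists_homologyMapLEquiv p P ((DTen.RHomR A Q).obj S)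
  obtain ⟨e₂⟩ := exists_hdRHomLEquiv Q S p
  obtain ⟨e₃⟩ := exists_homologyMapLEquiv n (Q⟦-p⟧) S
  obtain ⟨e₄⟩ := exists_hdShiftLEquiv Q (-p) n q (by omega)
  obtain ⟨e₅⟩ := exists_hdSingleLEquiv M n
  exact ⟨(rhomLEquiv P Q S).trans (e₁.trans
    (LinearEquiv.congrRight (e₂.trans (e₃.trans (LinearEquiv.arrowCongr e₄ e₅)))))⟩

omit [DTen.HasRHom A] [DTen.HasLTen A] in
/-- A nonzero object bounded above has a top cohomology. -/
lemma exists_top (P : Dual.D A) (b : ℤ) [P.IsLE b] (hP : ¬ IsZero P) :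
    ∃ p : ℤ, P.IsLE p ∧ Nontrivial (Dual.HD A P p) := by
  have hex : ∃ i, Nontrivial (Dual.HD A P i) := by
    by_contra hne
    simp only [not_exists, not_nontrivial_iff_subsingleton] at hne
    exact hP (isZero_of_forall_hd P fun i => @ModuleCat.isZero_of_subsingleton _ _ _ (hne i))
  have hb : ∀ i, Nontrivial (Dual.HD A P i) → i ≤ b := fun i hi => by
    by_contra hlt
    exact not_subsingleton _ (ModuleCat.subsingleton_of_isZero (DerivedCategory.isZero_of_isLE P b i (by omega)))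
  obtain ⟨p, hp, hmax⟩ := Int.exists_greatest_of_bdd ⟨b, hb⟩ hex
  refine ⟨p, (DerivedCategory.isLE_iff _ _).2 fun i hi => ?_, hp⟩
  haveI : Subsingleton (Dual.HD A P i) := not_nontrivial_iff_subsingleton.1 fun h => by
    have := hmax i h
    omega
  exact @ModuleCat.isZero_of_subsingleton _ _ _ this

variable [IsLocalRing A]

/-- The cohomological core: for an inverse pair, each top cohomology is free of rank one and the
degrees cancel. -/
lemma top_of_iso_unit {P Q : Dual.D A} (p q : ℤ) [P.IsLE p] [Q.IsLE q]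
    [Module.Finite A (Dual.HD A P p)] [Module.Finite A (Dual.HD A Q q)]
    [Nontrivial (Dual.HD A P p)] [Nontrivial (Dual.HD A Q q)]
    (h : (DTen.LTen₂ A).obj (P, Q) ≅ DTen.unit A) :
    p + q = 0 ∧ Nonempty (Dual.HD A P p ≃ₗ[A] A) := by
  let U₀ : DTen.unit A ≅ (DTen.unit A)⟦(0 : ℤ)⟧ := ((shiftFunctorZero (Dual.D A) ℤ).app _).symm
  have hU : ∀ (n : ℤ) (M : ModuleCat.{u} A),
      Nonempty ((Dual.HD A P p →ₗ[A] Dual.HD A Q q →ₗ[A] M) ≃ₗ[A]
        Dual.HD A ((DerivedCategory.singleFunctor (ModuleCat.{u} A) n).obj M) 0) ∨ p + q ≠ n := fun n M => by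
    by_cases hn : p + q = n
    · obtain ⟨e₁⟩ := exists_topBilinLEquiv P Q p q n hn M
      obtain ⟨e₂⟩ := exists_homUnitLEquiv ((DerivedCategory.singleFunctor (ModuleCat.{u} A) n).obj M) 0 0 rfl
      exact Or.inl ⟨e₁.symm.trans ((Linear.homCongr A (h ≪≫ U₀) (Iso.refl _)).trans e₂)⟩
    · exact Or.inr hn
  have h0 : p + q = 0 := by
    by_contra hne
    obtain ⟨e⟩ := (hU (p + q) (ModuleCat.of A (IsLocalRing.ResidueField A))).resolve_right (by simp)
    obtain ⟨f, x, hx⟩ := exists_ne_zero_hom_residueField (A := A) (Dual.HD A P p)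
    obtain ⟨g, y, hy⟩ := exists_ne_zero_hom_residueField (A := A) (Dual.HD A Q q)
    let S := (DerivedCategory.singleFunctor (ModuleCat.{u} A) (p + q)).obj
      (ModuleCat.of A (IsLocalRing.ResidueField A))
    haveI : Subsingleton (Dual.HD A S 0) := by
      refine ModuleCat.subsingleton_of_isZero ?_
      rcases lt_or_gt_of_ne hne with hlt | hgt
      · exact DerivedCategory.isZero_of_isLE S (p + q) 0 hlt
      · exact DerivedCategory.isZero_of_isGE S (p + q) 0 hgt
    let b : Dual.HD A P p →ₗ[A] Dual.HD A Q q →ₗ[A] IsLocalRing.ResidueField A :=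
      LinearMap.mk₂ A (fun x y => f x * g y) (by simp [add_mul]) (by simp) (by simp [mul_add]) (by simp)
    have hb := DFunLike.congr_fun (DFunLike.congr_fun (e.injective (Subsingleton.elim (e b) (e 0))) x) y
    simp [b, hx, hy] at hb
  refine ⟨h0, nonempty_equiv_of_bilin _ (Dual.HD A Q q) fun M _ _ => ?_⟩
  obtain ⟨e⟩ := (hU 0 (ModuleCat.of A M)).resolve_right (by simp [h0])
  obtain ⟨e'⟩ := exists_hdSingleLEquiv (ModuleCat.of A M) 0
  exact ⟨e.trans e'⟩

/-- An object whose partner has a free top is concentrated in one degree. -/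
lemma nonempty_iso_shift_of_top {P Q : Dual.D A} (p q : ℤ) (hpq : p + q = 0) [Q.IsLE q]
    (eQ : Dual.HD A Q q ≃ₗ[A] A) (eP : Dual.HD A P p ≃ₗ[A] A)
    (h : (DTen.LTen₂ A).obj (P, Q) ≅ DTen.unit A) : Nonempty (P ≅ (DTen.unit A)⟦-p⟧) := by
  haveI := hasLTen₃ A
  haveI := isSymMonoidal A
  obtain ⟨eU⟩ := nonempty_unit_shift_iso (A := A) (-q)
  let V := DerivedCategory.Q.obj (H9Misc.BrownGroth.gen A (- -q))
  let H := DerivedCategory.homologyFunctor (ModuleCat.{u} A) q
  haveI : DerivedCategory.IsLE ((DTen.unit A)⟦-q⟧) q := by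
    haveI : V.IsLE q := (DerivedCategory.isLE_Q_obj_iff _ _).2 (by rw [neg_neg]; infer_instance)
    exact DerivedCategory.TStructure.t.isLE_of_iso eU.symm q
  haveI : DerivedCategory.IsGE ((DTen.unit A)⟦-q⟧) q := by
    haveI : V.IsGE q := (DerivedCategory.isGE_Q_obj_iff _ _).2 (by rw [neg_neg]; infer_instance)
    exact DerivedCategory.TStructure.t.isGE_of_iso eU.symm q
  obtain ⟨u⟩ := exists_homUnitLEquiv Q (-q) q (by omega)
  let eH : Dual.HD A ((DTen.unit A)⟦-q⟧) q ≃ₗ[A] A :=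
    (H.mapIso eU ≪≫ (DerivedCategory.homologyFunctorFactors _ q).app _ ≪≫
      eqToIso (by rw [neg_neg]; rfl) ≪≫
        HomologicalComplex.singleObjHomologySelfIso (ComplexShape.up ℤ) q (ModuleCat.of A A)).toLinearEquiv
  obtain ⟨σ, hσ⟩ : ∃ σ : (DTen.unit A)⟦-q⟧ ⟶ Q, Function.Bijective (H.map σ).hom := by
    let t := DerivedCategory.TStructure.t (C := ModuleCat.{u} A)
    obtain ⟨τ, hτ⟩ := (bijective_homologyMap q (X := (DTen.unit A)⟦-q⟧) (Y := (t.truncGE q).obj Q)).2
      (ModuleCat.ofHom (eH.trans eQ.symm).toLinearMap ≫ H.map ((t.truncGEπ q).app Q))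
    have hT := rot_of_distTriang _ (t.triangleLTGE_distinguished q Q)
    obtain ⟨σ, hσ⟩ := Triangle.coyoneda_exact₂ _ hT τ (by
      haveI : ((t.truncLT q).obj Q).IsLE (q - 1) := t.isLE_truncLT_obj ..
      haveI := t.isLE_shift ((t.truncLT q).obj Q) (q - 1) 1 (q - 2) (by omega)
      exact eq_zero_of_isLE_unit (((t.truncLT q).obj Q)⟦(1 : ℤ)⟧) (-q) (q - 2) (by omega) _)
    haveI : IsIso (H.map ((t.truncGEπ q).app Q)) := H9Misc.isIso_map_truncGEπ q q le_rfl Q
    refine ⟨σ, ?_⟩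
    have : H.map σ = ModuleCat.ofHom (eH.trans eQ.symm).toLinearMap := by
      refine (cancel_mono (H.map ((t.truncGEπ q).app Q))).1 (Eq.trans ?_ hτ)
      rw [← Functor.map_comp]
      exact congrArg H.map hσ.symm
    rw [this]
    exact (eH.trans eQ.symm).bijective
  obtain ⟨ρ, hρ⟩ := (bijective_homologyMap q (X := Q) (Y := (DTen.unit A)⟦-q⟧)).2
    (ModuleCat.ofHom (LinearEquiv.ofBijective (H.map σ).hom hσ).symm.toLinearMap)
  have hσρ : σ ≫ ρ = 𝟙 _ := (bijective_homologyMap q).1 (by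
    change H.map (σ ≫ ρ) = H.map (𝟙 _)
    rw [Functor.map_comp, show H.map ρ = _ from hρ, CategoryTheory.Functor.map_id]
    exact ModuleCat.hom_ext (LinearMap.ext fun x => LinearEquiv.ofBijective_symm_apply_apply (H.map σ).hom (h := hσ) x))
  obtain ⟨e⟩ := nonempty_tensorLeft_shift_unit_iso (A := A) (-q)
  let d : (DTen.LTen₂ A).obj (P, (DTen.unit A)⟦-q⟧) ≅ P⟦-q⟧ :=
    (tenFlipIso ((DTen.unit A)⟦-q⟧)).symm.app P ≪≫ e.app P
  let ι : P⟦-q⟧ ⟶ DTen.unit A := d.inv ≫ (DTen.LTen₂ A).map (Prod.mkHom (𝟙 P) σ) ≫ h.hom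
  let π : DTen.unit A ⟶ P⟦-q⟧ := h.inv ≫ (DTen.LTen₂ A).map (Prod.mkHom (𝟙 P) ρ) ≫ d.hom
  have hιπ : ι ≫ π = 𝟙 _ := by
    simp only [ι, π, Category.assoc, Iso.hom_inv_id_assoc]
    rw [← Functor.map_comp_assoc]
    refine (congrArg (d.inv ≫ ·) (congrArg (· ≫ d.hom) ?_)).trans ((congrArg (d.inv ≫ ·) (Category.id_comp d.hom)).trans d.inv_hom_id)
    refine (congrArg (DTen.LTen₂ A).map ?_).trans ((DTen.LTen₂ A).map_id _)
    exact Prod.ext (Category.comp_id _) hσρ
  have hz : ∀ i : ℤ, i ≠ p → IsZero ((DerivedCategory.homologyFunctor (ModuleCat.{u} A) i).obj P) := fun i hi => by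
    refine IsZero.of_iso ?_ ((((DerivedCategory.homologyFunctor (ModuleCat.{u} A) 0).shiftIso (-q) (i + q) i
      (by omega)).app P).symm)
    have hU0 : IsZero ((DerivedCategory.homologyFunctor (ModuleCat.{u} A) (i + q)).obj (DTen.unit A)) := by
      obtain ⟨e0⟩ := nonempty_unit_shift_iso (A := A) 0
      refine IsZero.of_iso ?_ ((DerivedCategory.homologyFunctor _ _).mapIso
        (((shiftFunctorZero (Dual.D A) ℤ).app _).symm ≪≫ e0) ≪≫ (DerivedCategory.homologyFunctorFactors _ _).app _)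
      exact HomologicalComplex.isZero_single_obj_homology (ComplexShape.up ℤ) (-0) (ModuleCat.of A A) (i + q)
        (by omega)
    change IsZero ((DerivedCategory.homologyFunctor (ModuleCat.{u} A) (i + q)).obj (P⟦-q⟧))
    rw [IsZero.iff_id_eq_zero, ← CategoryTheory.Functor.map_id, ← hιπ, Functor.map_comp,
      hU0.eq_of_tgt ((DerivedCategory.homologyFunctor _ _).map ι) 0, zero_comp]
  haveI : P.IsLE p := (DerivedCategory.isLE_iff _ _).2 fun i hi => hz i (by omega)
  haveI : P.IsGE p := (DerivedCategory.isGE_iff _ _).2 fun i hi => hz i (by omega)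
  obtain ⟨e₁⟩ := H9Misc.nonempty_iso_single_homology p P
  obtain ⟨e₂⟩ := nonempty_unit_shift_iso (A := A) (-p)
  exact ⟨e₁ ≪≫ (DerivedCategory.singleFunctor (ModuleCat.{u} A) p).mapIso eP.toModuleIso ≪≫
    (DerivedCategory.singleFunctorIsoCompQ (ModuleCat.{u} A) p).app (ModuleCat.of A A) ≪≫
      eqToIso (by rw [neg_neg]; rfl) ≪≫ e₂.symm⟩

variable [IsNoetherianRing A]

/-- Over a Noetherian local ring, objects inverse to each other are shifts of the unit. -/
theorem exists_shift_of_ten_iso_unit {P Q : Dual.D A}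
    (hP : ∀ i : ℤ, Module.Finite A (Dual.HD A P i)) (hQ : ∀ i : ℤ, Module.Finite A (Dual.HD A Q i))
    (a b : ℤ) [P.IsLE a] [Q.IsLE b] (h : (DTen.LTen₂ A).obj (P, Q) ≅ DTen.unit A) :
    ∃ n : ℤ, Nonempty (P ≅ (DTen.unit A)⟦n⟧) ∧ Nonempty (Q ≅ (DTen.unit A)⟦-n⟧) := by
  haveI := hasLTen₃ A
  haveI := isSymMonoidal A
  have hne : ∀ {X Y : Dual.D A}, ((DTen.LTen₂ A).obj (X, Y) ≅ DTen.unit A) → ¬ IsZero X := fun {X Y} e hX => by
    have hz : IsZero (DTen.unit A) := ((DTen.tensorRightD A Y).map_isZero hX).of_iso e.symm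
    obtain ⟨u⟩ := exists_homUnitLEquiv (DTen.unit A) 0 0 rfl
    obtain ⟨e0⟩ := nonempty_unit_shift_iso (A := A) 0
    haveI : Subsingleton (Dual.HD A (DTen.unit A) 0) :=
      ModuleCat.subsingleton_of_isZero ((DerivedCategory.homologyFunctor _ _).map_isZero hz)
    let eA : Dual.HD A (DTen.unit A) 0 ≃ₗ[A] A :=
      ((DerivedCategory.homologyFunctor _ 0).mapIso (((shiftFunctorZero (Dual.D A) ℤ).app _).symm ≪≫ e0) ≪≫
        (DerivedCategory.homologyFunctorFactors _ 0).app _ ≪≫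
        eqToIso (by rw [neg_zero]; rfl) ≪≫
          HomologicalComplex.singleObjHomologySelfIso (ComplexShape.up ℤ) 0 (ModuleCat.of A A)).toLinearEquiv
    exact not_subsingleton A eA.symm.injective.subsingleton
  let h' : (DTen.LTen₂ A).obj (Q, P) ≅ DTen.unit A :=
    (tenFlipIso P).symm.app Q ≪≫ h
  obtain ⟨p, _, _⟩ := exists_top P a (hne h)
  obtain ⟨q, _, _⟩ := exists_top Q b (hne h')
  haveI := hP p
  haveI := hQ q
  obtain ⟨hpq, ⟨eP⟩⟩ := top_of_iso_unit p q h
  obtain ⟨hqp, ⟨eQ⟩⟩ := top_of_iso_unit q p h'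
  obtain ⟨e₁⟩ := nonempty_iso_shift_of_top p q hpq eQ eP h
  obtain ⟨e₂⟩ := nonempty_iso_shift_of_top q p hqp eP eQ h'
  exact ⟨-p, ⟨e₁⟩, ⟨e₂ ≪≫ eqToIso (by rw [show -q = - -p by omega])⟩⟩

end Groth.Agent.KFlatLib
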