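import Groth.Agent.KFlatLib.Ring.ShriekViaDual
import Groth.Agent.KFlatLib.Ring.LocalInvertible
import Groth.Agent.KFlatLib.Ring.InvertibleTwist
import Mathlib.RingTheory.Spectrum.Prime.Module
import Mathlib.RingTheory.Flat.Localization

/-!
# Two dualizing complexes over a connected spectrum
-/

set_option linter.style.haveILetI false
set_option backward.isDefEq.respectTransparency false

universe u

open CategoryTheory CategoryTheory.Limits Pretriangulated MonoidalCategory TensorProduct

attribute [local instance] HasDerivedCategory.standard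

namespace Groth.Agent.KFlatLib

variable {A : Type u} [CommRing A] [DTen.HasLTen A]

/-- A shift in the left factor of a tensor product comes out. -/
lemma nonempty_ten_shift_left (X Y : Dual.D A) (m : ℤ) :
    Nonempty ((DTen.LTen₂ A).obj (X⟦m⟧, Y) ≅ ((DTen.LTen₂ A).obj (X, Y))⟦m⟧) := by
  haveI := hasLTen₃ A
  haveI := isSymMonoidal A
  obtain ⟨s⟩ := nonempty_tensorRight_shift (B := A) m (Iso.refl ((DTen.unit A)⟦m⟧))
  let U := (DTen.unit A)⟦m⟧
  exact ⟨(DTen.LTen₂ A).mapIso (Iso.prod (s.app X).symm (Iso.refl Y)) ≪≫ DTen.associator X U Y ≪≫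
    (DTen.LTen₂ A).mapIso (Iso.prod (Iso.refl X) (DTen.braiding Y U)) ≪≫
    (DTen.associator X Y U).symm ≪≫ s.app _⟩

/-- A shift in the right factor of a tensor product comes out. -/
lemma nonempty_ten_shift_right (X Y : Dual.D A) (m : ℤ) :
    Nonempty ((DTen.LTen₂ A).obj (X, Y⟦m⟧) ≅ ((DTen.LTen₂ A).obj (X, Y))⟦m⟧) := by
  haveI := hasLTen₃ A
  haveI := isSymMonoidal A
  obtain ⟨e⟩ := nonempty_ten_shift_left Y X m
  exact ⟨(DTen.braiding X (Y⟦m⟧)).symm.trans (e.trans ((shiftFunctor (Dual.D A) m).mapIso (DTen.braiding X Y)))⟩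

variable [IsNoetherianRing A]

/-- An object with an inverse over a connected spectrum is a flat module in one degree. -/
theorem exists_flat_single_of_ten_iso_unit [DTen.HasRHom A] [ConnectedSpace (PrimeSpectrum A)]
    {P Q : Dual.D A} (hP : ∀ i : ℤ, Module.Finite A (Dual.HD A P i))
    (hQ : ∀ i : ℤ, Module.Finite A (Dual.HD A Q i)) (a b c : ℤ) [P.IsGE c] [P.IsLE a] [Q.IsLE b]
    (h : (DTen.LTen₂ A).obj (P, Q) ≅ DTen.unit A) :
    ∃ (i : ℤ) (_ : Module.Flat A (Dual.HD A P i)),
      Nonempty (P ≅ (DerivedCategory.singleFunctor (ModuleCat.{u} A) i).obj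
        ((DerivedCategory.homologyFunctor (ModuleCat.{u} A) i).obj P)) ∧
      ∀ p : PrimeSpectrum A,
        ∀ [DTen.HasLBase (algebraMap A (Localization.AtPrime p.asIdeal))],
          Nonempty ((DTen.LBase (algebraMap A (Localization.AtPrime p.asIdeal))).obj P ≅
            (DTen.unit _)⟦-i⟧) := by
  classical
  have hloc : ∀ p : PrimeSpectrum A, ∀ [DTen.HasLBase (algebraMap A (Localization.AtPrime p.asIdeal))],
      ∃ n : ℤ, Nonempty ((DTen.LBase (algebraMap A (Localization.AtPrime p.asIdeal))).obj P ≅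
        (DTen.unit _)⟦n⟧) := fun p _ => by
    let B := Localization.AtPrime p.asIdeal
    haveI : Module.Flat A B := IsLocalization.flat B p.asIdeal.primeCompl
    haveI := hasLTen B
    haveI := hasRHom (A := B)
    haveI := hasResTen (algebraMap A B)
    haveI := resLegIso (algebraMap A B)
    haveI := isIso_lbaseTenCmp (algebraMap A B) P Q
    haveI := isLE_LBase (φ := algebraMap A B) P a
    haveI := isLE_LBase (φ := algebraMap A B) Q b
    obtain ⟨u⟩ := nonempty_LBase_unit (algebraMap A B)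
    obtain ⟨n, hn, -⟩ := exists_shift_of_ten_iso_unit (P := (DTen.LBase (algebraMap A B)).obj P)
      (Q := (DTen.LBase (algebraMap A B)).obj Q) (fun i => finite_hd_LBase P i (hP i))
      (fun i => finite_hd_LBase Q i (hQ i)) a b
      ((asIso (lbaseTenCmp (algebraMap A B) P Q)).symm ≪≫ (DTen.LBase _).mapIso h ≪≫ u)
    exact ⟨n, hn⟩
  have key : ∀ (p : PrimeSpectrum A), ∃ n : ℤ, ∀ i : ℤ,
      (i ≠ -n → p ∉ Module.support A (Dual.HD A P i)) ∧
      (i = -n → p ∈ Module.support A (Dual.HD A P i) ∧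
        Module.Free (Localization.AtPrime p.asIdeal)
          (LocalizedModule p.asIdeal.primeCompl (Dual.HD A P i))) := fun p => by
    haveI := hasLBase (algebraMap A (Localization.AtPrime p.asIdeal))
    haveI : Module.Flat A (Localization.AtPrime p.asIdeal) :=
      IsLocalization.flat _ p.asIdeal.primeCompl
    obtain ⟨n, ⟨e⟩⟩ := hloc p
    refine ⟨n, fun i => ?_⟩
    obtain ⟨eL⟩ := exists_hdLBaseLEquiv (B := Localization.AtPrime p.asIdeal) P i
    obtain ⟨eU⟩ := nonempty_unit_shift_iso (A := Localization.AtPrime p.asIdeal) n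
    let S := (DerivedCategory.singleFunctor (ModuleCat.{u} (Localization.AtPrime p.asIdeal)) (-n)).obj
      (ModuleCat.of _ (Localization.AtPrime p.asIdeal))
    let eS : (DTen.LBase (algebraMap A (Localization.AtPrime p.asIdeal))).obj P ≅ S :=
      e ≪≫ eU ≪≫ ((DerivedCategory.singleFunctorIsoCompQ _ (-n)).app _).symm
    let f : LocalizedModule p.asIdeal.primeCompl (Dual.HD A P i) ≃ₗ[Localization.AtPrime p.asIdeal]
        Dual.HD (Localization.AtPrime p.asIdeal) S i :=
      ((LocalizedModule.equivTensorProduct _ _).trans eL.symm).trans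
        ((DerivedCategory.homologyFunctor _ i).mapIso eS).toLinearEquiv
    refine ⟨fun hi => ?_, fun hi => ?_⟩
    · haveI : Subsingleton (Dual.HD (Localization.AtPrime p.asIdeal) S i) := by
        refine ModuleCat.subsingleton_of_isZero ?_
        rcases lt_or_gt_of_ne hi with hi | hi
        · exact DerivedCategory.isZero_of_isGE S (-n) i hi
        · exact DerivedCategory.isZero_of_isLE S (-n) i hi
      exact Module.notMem_support_iff.2 f.injective.subsingleton
    · subst hi
      obtain ⟨e1⟩ := exists_hdSingleLEquiv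
        (ModuleCat.of (Localization.AtPrime p.asIdeal) (Localization.AtPrime p.asIdeal)) (-n)
      let g := f.trans e1
      haveI : Module.Free (Localization.AtPrime p.asIdeal)
          (LocalizedModule p.asIdeal.primeCompl (Dual.HD A P (-n))) := Module.Free.of_equiv g.symm
      exact ⟨g.toEquiv.nontrivial, inferInstance⟩
  choose n hn using key
  let S : ℤ → Set (PrimeSpectrum A) := fun i => Module.support A (Dual.HD A P i)
  have hS : ∀ i p, p ∈ S i ↔ n p = -i := fun i p => by
    refine ⟨fun hp => ?_, fun hp => ((hn p i).2 (by omega)).1⟩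
    by_contra hne
    exact (hn p i).1 (by omega) hp
  have hrange : ∀ p, c ≤ -n p ∧ -n p ≤ a := fun p => by
    have hp : p ∈ S (-n p) := (hS _ p).2 (by omega)
    have : Nontrivial (Dual.HD A P (-n p)) := by
      by_contra hh
      rw [not_nontrivial_iff_subsingleton] at hh
      exact ((Module.support_eq_empty_iff (R := A) (M := Dual.HD A P (-n p))).2 hh ▸ hp : p ∈ (∅ : Set (PrimeSpectrum A)))
    constructor <;> by_contra hlt
    · exact not_subsingleton _ (ModuleCat.subsingleton_of_isZero (M := ModuleCat.of A (Dual.HD A P (-n p)))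
        (DerivedCategory.isZero_of_isGE P c (-n p) (by omega)))
    · exact not_subsingleton _ (ModuleCat.subsingleton_of_isZero (M := ModuleCat.of A (Dual.HD A P (-n p)))
        (DerivedCategory.isZero_of_isLE P a (-n p) (by omega)))
  have hclosed : ∀ i, IsClosed (S i) := fun i => by
    haveI := hP i
    exact Module.isClosed_support
  obtain ⟨p₀⟩ := (inferInstance : Nonempty (PrimeSpectrum A))
  let i₀ := -n p₀
  have hclopen : IsClopen (S i₀) := by
    refine ⟨hclosed _, ?_⟩
    rw [show S i₀ = (⋃ j ∈ {j ∈ Finset.Icc c a | j ≠ i₀}, S j)ᶜ by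
      ext p
      simp only [Set.mem_compl_iff, Set.mem_iUnion, Finset.mem_filter, Finset.mem_Icc, hS]
      constructor
      · rintro hp ⟨j, ⟨-, hj⟩, hpj⟩
        omega
      · intro hp
        by_contra hne
        exact hp ⟨-n p, ⟨hrange p, by omega⟩, by omega⟩]
    exact (isClosed_biUnion_finset fun j _ => hclosed j).isOpen_compl
  have huniv : S i₀ = Set.univ := hclopen.eq_univ ⟨p₀, (hS _ _).2 (by omega)⟩
  have hall : ∀ p, n p = -i₀ := fun p => (hS i₀ p).1 (huniv ▸ Set.mem_univ p)
  have hzero : ∀ i, i ≠ i₀ → IsZero ((DerivedCategory.homologyFunctor (ModuleCat.{u} A) i).obj P) := fun i hi => by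
    haveI : Subsingleton (Dual.HD A P i) :=
      Module.support_eq_empty_iff.1 (Set.eq_empty_iff_forall_notMem.2 fun p hp => hi (by
        have := (hS i p).1 hp
        have := hall p
        omega))
    exact @ModuleCat.isZero_of_subsingleton _ _ _ ‹_›
  haveI : P.IsLE i₀ := (DerivedCategory.isLE_iff _ _).2 fun i hi => hzero i (by omega)
  haveI : P.IsGE i₀ := (DerivedCategory.isGE_iff _ _).2 fun i hi => hzero i (by omega)
  refine ⟨i₀, ?_, H9Misc.nonempty_iso_single_homology i₀ P, fun p _ => ?_⟩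
  · refine Module.flat_of_localized_maximal (R := A) _ fun m hm => ?_
    let p : PrimeSpectrum A := ⟨m, hm.isPrime⟩
    haveI := ((hn p i₀).2 (by have := hall p; omega)).2
    haveI : Module.Flat A (Localization.AtPrime p.asIdeal) := IsLocalization.flat _ p.asIdeal.primeCompl
    haveI : Module.Flat (Localization.AtPrime p.asIdeal)
        (LocalizedModule p.asIdeal.primeCompl (Dual.HD A P i₀)) := Module.Flat.of_free
    exact Module.Flat.trans A (Localization.AtPrime p.asIdeal) (LocalizedModule p.asIdeal.primeCompl _)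
  · obtain ⟨m, ⟨e⟩⟩ := hloc p
    suffices m = -i₀ from ⟨this ▸ e⟩
    haveI : Module.Flat A (Localization.AtPrime p.asIdeal) := IsLocalization.flat _ p.asIdeal.primeCompl
    by_contra hne
    obtain ⟨eL⟩ := exists_hdLBaseLEquiv (B := Localization.AtPrime p.asIdeal) P i₀
    obtain ⟨eU⟩ := nonempty_unit_shift_iso (A := Localization.AtPrime p.asIdeal) m
    let T := (DerivedCategory.singleFunctor (ModuleCat.{u} (Localization.AtPrime p.asIdeal)) (-m)).obj
      (ModuleCat.of _ (Localization.AtPrime p.asIdeal))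
    haveI : Subsingleton (Dual.HD (Localization.AtPrime p.asIdeal) T i₀) := by
      refine ModuleCat.subsingleton_of_isZero ?_
      rcases lt_or_gt_of_ne (show i₀ ≠ -m by omega) with hi | hi
      · exact DerivedCategory.isZero_of_isGE T (-m) i₀ hi
      · exact DerivedCategory.isZero_of_isLE T (-m) i₀ hi
    exact Module.notMem_support_iff.2 (((LocalizedModule.equivTensorProduct _ _).trans eL.symm).trans
      ((DerivedCategory.homologyFunctor _ i₀).mapIso
        (e ≪≫ eU ≪≫ ((DerivedCategory.singleFunctorIsoCompQ _ (-m)).app _).symm)).toLinearEquiv).injective.subsingleton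
      (huniv ▸ Set.mem_univ p : p ∈ S i₀)

/-- Two dualizing complexes over a connected spectrum differ by a twist and a shift. -/
theorem exists_twist_shift_of_connected [DTen.HasRHom A] [ConnectedSpace (PrimeSpectrum A)]
    {ω ω' : Dual.D A} (hω : Dual.IsDualizing A ω) (hω' : Dual.IsDualizing A ω') :
    ∃ (P : ModuleCat.{u} A) (_ : Module.Invertible A P) (n : ℤ)
      (_ : PreservesFiniteLimits (tensorRight P)), Nonempty (ω' ≅ ((twist P).obj ω)⟦n⟧) := by
  haveI := hasLTen₃ A
  haveI := isSymMonoidal A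
  obtain ⟨a, b, hab, _, _⟩ := exists_bounds_of_isDualizing hω
  obtain ⟨a', b', hab', _, _⟩ := exists_bounds_of_isDualizing hω'
  let L := (DTen.RHomR A ω).obj ω'
  let Q := (DTen.RHomR A ω').obj ω
  obtain ⟨h⟩ := nonempty_ten_RHom_iso_unit hω hω'
  haveI := isLE_RHomR ω ω' a a' b' hab'
  haveI := isGE_RHomR ω ω' b a'
  haveI := isLE_RHomR ω' ω a' a b hab
  haveI := isGE_RHomR ω' ω b' a
  have hL := finite_hd_RHom_of_finite_hd hω.finite_cohomology hω'.finite_cohomology ⟨a', b', hab'⟩
  have hQ := finite_hd_RHom_of_finite_hd hω'.finite_cohomology hω.finite_cohomology ⟨a, b, hab⟩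
  obtain ⟨i, hi, ⟨eL⟩, locL⟩ := exists_flat_single_of_ten_iso_unit hL hQ (b' - a) (b - a') (a' - b) h
  let h' : (DTen.LTen₂ A).obj (Q, L) ≅ DTen.unit A := DTen.braiding L Q ≪≫ h
  obtain ⟨j, hj, ⟨eQ⟩, locQ⟩ := exists_flat_single_of_ten_iso_unit hQ hL (b - a') (b' - a) (a - b') h'
  -- the degrees cancel
  obtain ⟨p⟩ := (inferInstance : Nonempty (PrimeSpectrum A))
  have hij : i + j = 0 := by
    let B := Localization.AtPrime p.asIdeal
    haveI := hasLBase (algebraMap A B)
    haveI : Module.Flat A B := IsLocalization.flat B p.asIdeal.primeCompl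
    haveI := hasLTen B
    haveI := hasRHom (A := B)
    haveI := hasLTen₃ B
    haveI := isSymMonoidal B
    haveI := hasResTen (algebraMap A B)
    haveI := resLegIso (algebraMap A B)
    haveI := isIso_lbaseTenCmp (algebraMap A B) L Q
    obtain ⟨lu⟩ := nonempty_LBase_unit (algebraMap A B)
    obtain ⟨l₁⟩ := locL p
    obtain ⟨l₂⟩ := locQ p
    obtain ⟨s⟩ := nonempty_tensorRight_shift (B := B) (-j) (Iso.refl ((DTen.unit B)⟦-j⟧))
    let e : ((DTen.unit B)⟦-i⟧)⟦-j⟧ ≅ DTen.unit B :=
      (s.app _).symm ≪≫ (DTen.LTen₂ B).mapIso (Iso.prod l₁.symm l₂.symm) ≪≫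
        (asIso (lbaseTenCmp (algebraMap A B) L Q)).symm ≪≫ (DTen.LBase _).mapIso h ≪≫ lu
    by_contra hne
    obtain ⟨eU⟩ := nonempty_unit_shift_iso (A := B) (-i - j)
    obtain ⟨eU0⟩ := nonempty_unit_shift_iso (A := B) 0
    let S := fun m : ℤ => (DerivedCategory.singleFunctor (ModuleCat.{u} B) m).obj (ModuleCat.of B B)
    let E : S (-0) ≅ S (-(-i - j)) :=
      (DerivedCategory.singleFunctorIsoCompQ _ _).app _ ≪≫ eU0.symm ≪≫
        (shiftFunctorZero (Dual.D B) ℤ).app _ ≪≫ e.symm ≪≫
        ((shiftFunctorAdd' (Dual.D B) (-i) (-j) (-i - j) (by omega)).app _).symm ≪≫ eU ≪≫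
        ((DerivedCategory.singleFunctorIsoCompQ _ _).app _).symm
    obtain ⟨e1⟩ := exists_hdSingleLEquiv (ModuleCat.of B B) (-0)
    haveI : Subsingleton (Dual.HD B (S (-(-i - j))) (-0)) := by
      refine ModuleCat.subsingleton_of_isZero ?_
      rcases lt_or_gt_of_ne (show (-0 : ℤ) ≠ -(-i - j) by omega) with hi | hi
      · exact DerivedCategory.isZero_of_isGE (S (-(-i - j))) (-(-i - j)) (-0) hi
      · exact DerivedCategory.isZero_of_isLE (S (-(-i - j))) (-(-i - j)) (-0) hi
    exact not_subsingleton B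
      (e1.symm.trans ((DerivedCategory.homologyFunctor _ (-0)).mapIso E).toLinearEquiv).injective.subsingleton
  let PL := (DerivedCategory.homologyFunctor (ModuleCat.{u} A) i).obj L
  let PQ := (DerivedCategory.homologyFunctor (ModuleCat.{u} A) j).obj Q
  haveI : Module.Flat A PL := hi
  haveI : Module.Flat A PQ := hj
  haveI := preservesFiniteLimits_tensorRight PL
  haveI := preservesFiniteLimits_tensorRight PQ
  let sh : ∀ (k : ℤ) (M : ModuleCat.{u} A),
      (DerivedCategory.singleFunctor (ModuleCat.{u} A) k).obj M ≅ (Dual.inD A M)⟦-k⟧ := fun k M =>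
    (((DerivedCategory.singleFunctors (ModuleCat.{u} A)).shiftIso (-k) k 0 (by omega)).app M).symm
  let eL' := eL ≪≫ sh i PL
  let eQ' := eQ ≪≫ sh j PQ
  obtain ⟨t₁⟩ := nonempty_ten_shift_left (Dual.inD A PL) ((Dual.inD A PQ)⟦-j⟧) (-i)
  obtain ⟨t₂⟩ := nonempty_ten_shift_right (Dual.inD A PL) (Dual.inD A PQ) (-j)
  obtain ⟨t₃⟩ := nonempty_twist_LTen PQ (Dual.inD A PL)
  let E : Dual.inD A ((PL : Type u) ⊗[A] PQ) ≅ DTen.unit A :=
    (((tensorRight PQ).mapDerivedCategorySingleFunctor 0).app PL).symm ≪≫ t₃ ≪≫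
      (shiftFunctorCompIsoId (Dual.D A) (-j) (-i) (by omega)).symm.app _ ≪≫
      (shiftFunctor (Dual.D A) (-i)).mapIso t₂.symm ≪≫ t₁.symm ≪≫
      (DTen.LTen₂ A).mapIso (Iso.prod eL'.symm eQ'.symm) ≪≫ h
  obtain ⟨e0⟩ := exists_hdSingleLEquiv (ModuleCat.of A ((PL : Type u) ⊗[A] PQ)) 0
  obtain ⟨e1⟩ := exists_hdSingleLEquiv (ModuleCat.of A A) 0
  haveI : Module.Invertible A PL := Module.Invertible.left (N := PQ)
    (e0.symm.trans (((DerivedCategory.homologyFunctor _ 0).mapIso (E ≪≫
      ((DerivedCategory.singleFunctorIsoCompQ (ModuleCat.{u} A) 0).app (ModuleCat.of A A)).symm)).toLinearEquiv.trans e1))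
  refine ⟨PL, inferInstance, -i, inferInstance, ?_⟩
  -- evaluation
  haveI := isIso_evalHom_of_pseudoCoherent ω ω ω' (pc'_of_finite_hd _ b hω.finite_cohomology) a
    inferInstance ⟨a', b', hab'⟩
  obtain ⟨eω⟩ := nonempty_RHom_self_iso hω
  obtain ⟨r⟩ := nonempty_RHomR_unit ω'
  obtain ⟨t₄⟩ := nonempty_twist_LTen PL ω
  obtain ⟨t₅⟩ := nonempty_ten_shift_right ω (Dual.inD A PL) (-i)
  exact ⟨(asIso (DTen.evalHom ω ω ω') ≪≫ ((DTen.RHom A).mapIso eω.symm.op).app _ ≪≫ r).symm ≪≫
    DTen.braiding ω L ≪≫ (DTen.LTen₂ A).mapIso (Iso.prod (Iso.refl ω) eL') ≪≫ t₅ ≪≫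
    (shiftFunctor (Dual.D A) (-i)).mapIso t₄.symm⟩

end Groth.Agent.KFlatLib
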