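import Groth.Agent.KFlatLib.Ring.DualizingDimension
import Mathlib.RingTheory.Ideal.AssociatedPrime.Finiteness
import Mathlib.RingTheory.Ideal.AssociatedPrime.Localization
import Mathlib.RingTheory.KrullDimension.Module
import Mathlib.RingTheory.KrullDimension.NonZeroDivisors
import Mathlib.RingTheory.Support

/-!
# Ext into a dualizing complex: amplitude and support
-/

set_option linter.style.haveILetI false
set_option backward.isDefEq.respectTransparency false

universe u

open CategoryTheory CategoryTheory.Limits Pretriangulated MonoidalCategory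

open scoped TensorProduct

attribute [local instance] HasDerivedCategory.standard

namespace Groth.Agent.KFlatLib

section Sequences

variable {A : Type u} [CommRing A] {N₁ N₂ N₃ : Type u} [AddCommGroup N₁] [Module A N₁] [AddCommGroup N₂]
  [Module A N₂] [AddCommGroup N₃] [Module A N₃]

/-- The map of one-term complexes of a linear map. -/
noncomputable abbrev inDMap (f : N₁ →ₗ[A] N₂) : Dual.inD A N₁ ⟶ Dual.inD A N₂ :=
  (DerivedCategory.singleFunctor (ModuleCat.{u} A) 0).map (ModuleCat.ofHom f)

variable {f : N₁ →ₗ[A] N₂} {g : N₂ →ₗ[A] N₃}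

/-- The short exact sequence of a pair of maps. -/
lemma exists_ses_of_exact (hf : Function.Injective f) (hg : Function.Surjective g) (h : Function.Exact f g) :
    ∃ w : ModuleCat.ofHom f ≫ ModuleCat.ofHom g = 0,
      (ShortComplex.mk (ModuleCat.ofHom f) (ModuleCat.ofHom g) w).ShortExact :=
  ⟨ModuleCat.hom_ext (LinearMap.ext fun x => h.apply_apply_eq_zero x),
    { exact := (ShortComplex.ShortExact.moduleCat_exact_iff_function_exact _).2 h
      mono_f := (ModuleCat.mono_iff_injective _).2 hf
      epi_g := (ModuleCat.epi_iff_surjective _).2 hg }⟩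

/-- Maps killed by restriction factor through the quotient. -/
lemma exists_factor_inD (hf : Function.Injective f) (hg : Function.Surjective g) (h : Function.Exact f g)
    (Y : Dual.D A) (φ : Dual.inD A N₂ ⟶ Y) (hφ : inDMap f ≫ φ = 0) :
    ∃ ψ : Dual.inD A N₃ ⟶ Y, φ = inDMap g ≫ ψ := by
  obtain ⟨w, hS⟩ := exists_ses_of_exact hf hg h
  exact Triangle.yoneda_exact₂ _ hS.singleTriangle_distinguished φ hφ

/-- The obstruction to extending a map. -/
lemma exists_extend_inD (hf : Function.Injective f) (hg : Function.Surjective g) (h : Function.Exact f g)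
    (Y : Dual.D A) (i : ℤ) :
    ∃ δ : (Dual.inD A N₁ ⟶ Y⟦i⟧) →ₗ[A] (Dual.inD A N₃ ⟶ Y⟦i + 1⟧),
      ∀ φ, δ φ = 0 → ∃ ψ : Dual.inD A N₂ ⟶ Y⟦i⟧, inDMap f ≫ ψ = φ := by
  obtain ⟨w, hS⟩ := exists_ses_of_exact hf hg h
  let T := hS.singleTriangle
  let e := ((shiftFunctorAdd' (Dual.D A) i 1 (i + 1) rfl).app Y).symm
  let F := shiftFunctor (Dual.D A) (1 : ℤ)
  refine ⟨{ toFun := fun φ => T.mor₃ ≫ F.map φ ≫ e.hom
            map_add' := fun φ ψ => by rw [Functor.map_add, Preadditive.add_comp, Preadditive.comp_add]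
            map_smul' := fun r φ => by
              rw [Functor.map_smul, Linear.smul_comp, Linear.comp_smul, RingHom.id_apply] }, fun φ hφ => ?_⟩
  have h0 : T.mor₃ ≫ F.map φ = 0 := (cancel_mono e.hom).1 (by rw [Category.assoc, zero_comp]; exact hφ)
  obtain ⟨ψ, hψ⟩ := Triangle.yoneda_exact₂ _ (rot_of_distTriang _ (rot_of_distTriang _ hS.singleTriangle_distinguished))
    (F.map φ) h0
  obtain ⟨ψ', rfl⟩ := F.map_surjective ψ
  refine ⟨-ψ', F.map_injective ?_⟩
  rw [F.map_comp, F.map_neg, Preadditive.comp_neg]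
  exact ((Preadditive.neg_comp _ _).symm.trans hψ.symm)

/-- Vanishing in the middle. -/
lemma subsingleton_hom_inD_mid (hf : Function.Injective f) (hg : Function.Surjective g) (h : Function.Exact f g)
    (Y : Dual.D A) (h₁ : Subsingleton (Dual.inD A N₁ ⟶ Y)) (h₃ : Subsingleton (Dual.inD A N₃ ⟶ Y)) :
    Subsingleton (Dual.inD A N₂ ⟶ Y) := by
  refine subsingleton_of_forall_eq 0 fun φ => ?_
  obtain ⟨ψ, rfl⟩ := exists_factor_inD hf hg h Y φ (Subsingleton.elim _ _)
  rw [Subsingleton.elim ψ 0, comp_zero]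

/-- Vanishing at the cokernel from vanishing at the two other terms. -/
lemma subsingleton_hom_inD_right (hf : Function.Injective f) (hg : Function.Surjective g) (h : Function.Exact f g)
    (Y : Dual.D A) (i : ℤ) (h₁ : Subsingleton (Dual.inD A N₁ ⟶ Y⟦i⟧))
    (h₂ : Subsingleton (Dual.inD A N₂ ⟶ Y⟦i + 1⟧)) : Subsingleton (Dual.inD A N₃ ⟶ Y⟦i + 1⟧) := by
  obtain ⟨w, hS⟩ := exists_ses_of_exact hf hg h
  refine subsingleton_of_forall_eq 0 fun φ => ?_
  obtain ⟨χ, hχ⟩ := Triangle.yoneda_exact₃ _ hS.singleTriangle_distinguished φ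
    (Subsingleton.elim (α := Dual.inD A N₂ ⟶ Y⟦i + 1⟧) _ _)
  let F := shiftFunctor (Dual.D A) (1 : ℤ)
  let e := ((shiftFunctorAdd' (Dual.D A) i 1 (i + 1) rfl).app Y)
  obtain ⟨ψ, hψ⟩ := F.map_surjective (χ ≫ e.hom)
  have h0 : χ = 0 := by
    rw [← cancel_mono e.hom, ← hψ, Subsingleton.elim (α := Dual.inD A N₁ ⟶ Y⟦i⟧) ψ 0, F.map_zero, zero_comp]
  rw [hχ, h0, comp_zero]

end Sequences

section Bounds

variable {A : Type u} [CommRing A] [IsNoetherianRing A] {ω : Dual.D A}

/-- A degree function for a dualizing complex: the degree of the localized Ext at each prime. -/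
def IsExtDegree (ω : Dual.D A) (n : PrimeSpectrum A → ℤ) : Prop :=
  ∀ (p : PrimeSpectrum A) (i : ℤ),
    Nontrivial (LocalizedModule p.asIdeal.primeCompl (Dual.inD A (A ⧸ p.asIdeal) ⟶ ω⟦i⟧)) ↔ i = n p

variable {n : PrimeSpectrum A → ℤ}

/-- Ext vanishes below the smallest degree of the support: cyclic modules. -/
theorem subsingleton_hom_quotient_of_lt (hn : IsExtDegree ω n) (I : Ideal A) :
    ∀ i : ℤ, (∀ P : PrimeSpectrum A, I ≤ P.asIdeal → i < n P) →
      Subsingleton (Dual.inD A (A ⧸ I) ⟶ ω⟦i⟧) := by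
  induction I using WellFoundedGT.induction with
  | _ I ih =>
    intro i hi
    by_cases hI : I = ⊤
    · subst hI
      haveI : Subsingleton (A ⧸ (⊤ : Ideal A)) := Submodule.Quotient.subsingleton_iff.2 rfl
      exact subsingleton_of_forall_eq 0 fun f => ((DerivedCategory.singleFunctor (ModuleCat.{u} A) 0).map_isZero
        (ModuleCat.isZero_of_subsingleton _)).eq_of_src f 0
    by_cases hp : I.IsPrime
    · refine subsingleton_of_forall_eq 0 fun φ => ?_
      have hloc : Subsingleton (LocalizedModule I.primeCompl (Dual.inD A (A ⧸ I) ⟶ ω⟦i⟧)) :=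
        not_nontrivial_iff_subsingleton.1 fun h' => (hi ⟨I, hp⟩ le_rfl).ne ((hn ⟨I, hp⟩ i).1 h')
      obtain ⟨s, hs, hsφ⟩ := LocalizedModule.subsingleton_iff.1 hloc φ
      let f : (A ⧸ I) →ₗ[A] (A ⧸ I) := s • LinearMap.id
      have hf : Function.Injective f := by
        rw [← LinearMap.ker_eq_bot, LinearMap.ker_eq_bot']
        intro x hx
        obtain ⟨c, rfl⟩ := Submodule.Quotient.mk_surjective _ x
        change Submodule.Quotient.mk (s * c) = 0 at hx
        exact (Submodule.Quotient.mk_eq_zero _).2 ((hp.mem_or_mem ((Submodule.Quotient.mk_eq_zero _).1 hx)).resolve_left hs)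
      have hmap : inDMap f ≫ φ = 0 := by
        change (DerivedCategory.singleFunctor (ModuleCat.{u} A) 0).map (s • 𝟙 (ModuleCat.of A (A ⧸ I))) ≫ φ = 0
        rw [Functor.map_smul, CategoryTheory.Functor.map_id, Linear.smul_comp]
        exact (congrArg (s • ·) (Category.id_comp φ)).trans hsφ
      obtain ⟨ψ, hψ⟩ := exists_factor_inD (g := Submodule.factor (p := I) (p' := I ⊔ Ideal.span {s}) le_sup_left)
        hf (Submodule.factor_surjective le_sup_left) (fun z => by
          obtain ⟨c, rfl⟩ := Submodule.Quotient.mk_surjective _ z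
          refine ⟨fun hz => ?_, ?_⟩
          · obtain ⟨a, ha, b, hb, hab⟩ := Submodule.mem_sup.1 ((Submodule.Quotient.mk_eq_zero _).1 hz)
            obtain ⟨d, rfl⟩ := Ideal.mem_span_singleton.1 hb
            refine ⟨Submodule.Quotient.mk d, ?_⟩
            change Submodule.Quotient.mk (s * d) = _
            rw [Submodule.Quotient.eq, show c = a + s * d from hab.symm]
            simpa using ha
          · rintro ⟨w, hw⟩
            obtain ⟨d, rfl⟩ := Submodule.Quotient.mk_surjective _ w
            rw [← hw]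
            exact (Submodule.Quotient.mk_eq_zero _).2
              (Submodule.mem_sup_right (Ideal.mem_span_singleton.2 (dvd_mul_right s d)))) _ φ hmap
      haveI := ih (I ⊔ Ideal.span {s}) (lt_of_le_of_ne le_sup_left fun e =>
        hs (e ▸ Submodule.mem_sup_right (Ideal.mem_span_singleton_self s))) i
        fun P hP => hi P (le_sup_left.trans hP)
      rw [hψ, Subsingleton.elim ψ 0, comp_zero]
    · obtain ⟨x, hx, y, hy, hxy⟩ := (Ideal.not_isPrime_iff.1 hp).resolve_left hI
      have hle : I ≤ (Submodule.comap (LinearMap.mulLeft A x) I : Ideal A) := fun c hc => I.mul_mem_left x hc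
      refine subsingleton_hom_of_colon ω I x i
        (ih _ (lt_of_le_of_ne hle
          fun e => hy (e.symm ▸ (show y ∈ (Submodule.comap (LinearMap.mulLeft A x) I : Ideal A) from hxy))) i
          fun P hP => hi P (hle.trans hP))
        (ih _ (lt_of_le_of_ne le_sup_left fun e =>
          hx (e ▸ Submodule.mem_sup_right (Ideal.mem_span_singleton_self x))) i
          fun P hP => hi P (le_sup_left.trans hP))

/-- Ext vanishes below the smallest degree of the support. -/
theorem subsingleton_hom_module_of_lt (hn : IsExtDegree ω n) (M : Type u) [AddCommGroup M] [Module A M]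
    [Module.Finite A M] (i : ℤ) (hi : ∀ P ∈ Module.support A M, i < n P) :
    Subsingleton (Dual.inD A M ⟶ ω⟦i⟧) := by
  refine IsNoetherianRing.induction_on_isQuotientEquivQuotientPrime A (M := M) inferInstance
    (motive := fun N _ _ _ => (∀ P ∈ Module.support A N, i < n P) → Subsingleton (Dual.inD A N ⟶ ω⟦i⟧))
    ?_ ?_ ?_ hi
  · intro N _ _ _ _ _
    exact subsingleton_of_forall_eq 0 fun f => ((DerivedCategory.singleFunctor (ModuleCat.{u} A) 0).map_isZero
      (ModuleCat.isZero_of_subsingleton _)).eq_of_src f 0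
  · intro N _ _ _ p e hN
    haveI := subsingleton_hom_quotient_of_lt hn p.1 i fun P hP => hN P (by
      rw [e.support_eq, Module.support_eq_zeroLocus, Ideal.annihilator_quotient]
      exact hP)
    exact (((DerivedCategory.singleFunctor (ModuleCat.{u} A) 0).mapIso e.toModuleIso).homFromEquiv
      (Z := ω⟦i⟧)).subsingleton
  · intro N₁ _ _ _ N₂ _ _ _ N₃ _ _ _ f g hf hg hfg h₁ h₃ hN
    exact subsingleton_hom_inD_mid hf hg hfg _ (h₁ fun P hP => hN P (Module.support_subset_of_injective f hf hP))
      (h₃ fun P hP => hN P (Module.support_subset_of_surjective g hg hP))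

/-- At a prime the localized Ext vanishes above its degree: cyclic modules. -/
theorem subsingleton_localized_quotient_of_gt (hn : IsExtDegree ω n) (a : ℤ) [ω.IsGE a]
    (hfin : ∀ j : ℤ, Module.Finite A (Dual.HD A ω j)) (q : PrimeSpectrum A) (I : Ideal A) (i : ℤ)
    (hi : n q < i) : Subsingleton (LocalizedModule q.asIdeal.primeCompl (Dual.inD A (A ⧸ I) ⟶ ω⟦i⟧)) := by
  let B := Localization.AtPrime q.asIdeal
  haveI := hasLBase (algebraMap A B)
  haveI : Module.Flat A B := IsLocalization.flat _ q.asIdeal.primeCompl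
  haveI := isGE_LBase_flat (B := B) ω a
  have hmap : q.asIdeal.map (algebraMap A B) = IsLocalRing.maximalIdeal B :=
    Localization.AtPrime.map_eq_maximalIdeal
  obtain ⟨e⟩ := exists_localExtLEquiv (ω := ω) a q.asIdeal I i
  haveI := subsingleton_hom_quotient_of_maximal ((DTen.LBase (algebraMap A B)).obj ω) a (n q)
    (fun j => finite_hd_LBase (B := B) ω j (hfin j)) (fun m hm j hj => by
      obtain ⟨e'⟩ := exists_localExtLEquiv (ω := ω) a q.asIdeal q.asIdeal j
      haveI : Subsingleton (LocalizedModule q.asIdeal.primeCompl (Dual.inD A (A ⧸ q.asIdeal) ⟶ ω⟦j⟧)) :=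
        not_nontrivial_iff_subsingleton.1 fun h' => by have := (hn q j).1 h'; omega
      have hh := e'.subsingleton
      rw [hmap] at hh
      rw [IsLocalRing.eq_maximalIdeal hm]
      exact hh) (I.map (algebraMap A B)) i hi
  exact e.symm.subsingleton

/-- At a prime the localized Ext vanishes above its degree. -/
theorem subsingleton_localized_module_of_gt (hn : IsExtDegree ω n) (a : ℤ) [ω.IsGE a]
    (hfin : ∀ j : ℤ, Module.Finite A (Dual.HD A ω j)) (q : PrimeSpectrum A) (M : Type u) [AddCommGroup M]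
    [Module A M] [Module.Finite A M] (i : ℤ) (hi : n q < i) :
    Subsingleton (LocalizedModule q.asIdeal.primeCompl (Dual.inD A M ⟶ ω⟦i⟧)) := by
  refine IsNoetherianRing.induction_on_isQuotientEquivQuotientPrime A (M := M) inferInstance
    (motive := fun N _ _ _ => Subsingleton (LocalizedModule q.asIdeal.primeCompl (Dual.inD A N ⟶ ω⟦i⟧)))
    ?_ ?_ ?_
  · intro N _ _ _ _
    exact LocalizedModule.subsingleton_iff.2 fun f => ⟨1, one_mem _, by
      rw [((DerivedCategory.singleFunctor (ModuleCat.{u} A) 0).map_isZero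
        (ModuleCat.isZero_of_subsingleton (ModuleCat.of A N))).eq_of_src f 0, smul_zero]⟩
  · intro N _ _ _ p e
    refine LocalizedModule.subsingleton_iff.2 fun f => ?_
    let z := Linear.homCongr A ((DerivedCategory.singleFunctor (ModuleCat.{u} A) 0).mapIso e.toModuleIso)
      (Iso.refl (ω⟦i⟧))
    obtain ⟨s, hs, hsf⟩ := LocalizedModule.subsingleton_iff.1
      (subsingleton_localized_quotient_of_gt hn a hfin q p.1 i hi) (z f)
    exact ⟨s, hs, z.injective (by rw [map_smul, map_zero]; exact hsf)⟩
  · intro N₁ _ _ _ N₂ _ _ _ N₃ _ _ _ f g hf hg hfg h₁ h₃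
    refine LocalizedModule.subsingleton_iff.2 fun φ => ?_
    obtain ⟨s, hs, hsφ⟩ := LocalizedModule.subsingleton_iff.1 h₁ (inDMap f ≫ φ)
    obtain ⟨ψ, hψ⟩ := exists_factor_inD hf hg hfg _ (s • φ) (by rw [Linear.comp_smul]; exact hsφ)
    obtain ⟨t, ht, htψ⟩ := LocalizedModule.subsingleton_iff.1 h₃ ψ
    exact ⟨t * s, mul_mem ht hs, by rw [mul_smul, hψ, ← Linear.comp_smul, htψ, comp_zero]⟩

omit [IsNoetherianRing A] in
/-- Where a module is supported below, so are its Exts. -/
theorem support_hom_subset (M : Type u) [AddCommGroup M] [Module A M] [Module.Finite A M] (Y : Dual.D A) :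
    Module.support A (Dual.inD A M ⟶ Y) ⊆ Module.support A M := by
  intro q hq
  rw [Module.support_eq_zeroLocus]
  intro r hr
  by_contra hrq
  obtain ⟨φ, hφ⟩ := Module.mem_support_iff'.1 hq
  exact hφ r hrq (smul_hom_inD_eq_zero (fun x => Module.mem_annihilator.1 hr x) φ)

/-- The support of an Ext module lies where the degree is at least the Ext degree. -/
theorem le_extDegree_of_mem_support (hn : IsExtDegree ω n) (a : ℤ) [ω.IsGE a]
    (hfin : ∀ j : ℤ, Module.Finite A (Dual.HD A ω j)) (M : Type u) [AddCommGroup M] [Module A M]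
    [Module.Finite A M] (i : ℤ) {q : PrimeSpectrum A}
    (hq : q ∈ Module.support A (Dual.inD A M ⟶ ω⟦i⟧)) : i ≤ n q := by
  by_contra hcon
  rw [Module.mem_support_iff] at hq
  exact not_subsingleton _ (subsingleton_localized_module_of_gt hn a hfin q M i (by omega))

/-- A minimal prime of the support contributes a nonzero Ext in its degree. -/
theorem nontrivial_localized_of_injective (hn : IsExtDegree ω n) (a : ℤ) [ω.IsGE a]
    (hfin : ∀ j : ℤ, Module.Finite A (Dual.HD A ω j)) (M : Type u) [AddCommGroup M] [Module A M]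
    [Module.Finite A M] (P : PrimeSpectrum A) (f : (A ⧸ P.asIdeal) →ₗ[A] M) (hf : Function.Injective f) :
    Nontrivial (LocalizedModule P.asIdeal.primeCompl (Dual.inD A M ⟶ ω⟦n P⟧)) := by
  by_contra hcon
  rw [not_nontrivial_iff_subsingleton] at hcon
  obtain ⟨δ, hδ⟩ := exists_extend_inD (g := (LinearMap.range f).mkQ) hf (Submodule.mkQ_surjective _)
    (LinearMap.exact_map_mkQ_range f) ω (n P)
  haveI := (hn P (n P)).2 rfl
  refine not_subsingleton (LocalizedModule P.asIdeal.primeCompl (Dual.inD A (A ⧸ P.asIdeal) ⟶ ω⟦n P⟧))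
    (LocalizedModule.subsingleton_iff.2 fun φ => ?_)
  obtain ⟨s, hs, hsφ⟩ := LocalizedModule.subsingleton_iff.1
    (subsingleton_localized_module_of_gt hn a hfin P (M ⧸ LinearMap.range f) (n P + 1) (by omega)) (δ φ)
  obtain ⟨ψ, hψ⟩ := hδ (s • φ) (by rw [map_smul]; exact hsφ)
  obtain ⟨t, ht, htψ⟩ := LocalizedModule.subsingleton_iff.1 hcon ψ
  exact ⟨t * s, mul_mem ht hs, by rw [mul_smul, ← hψ, ← Linear.comp_smul, htψ, comp_zero]⟩

end Bounds

section Chains

variable {A : Type u} [CommRing A] [IsNoetherianRing A] {n : PrimeSpectrum A → ℤ}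

/-- Saturated chains have the length read off by the degree. -/
theorem exists_chain_of_le (hcov : ∀ p q : PrimeSpectrum A, p ⋖ q → n q = n p + 1) :
    ∀ (k : ℕ∞) (q : PrimeSpectrum A), Ideal.height q.asIdeal = k → ∀ p, p ≤ q →
      ∃ l : LTSeries (PrimeSpectrum A), p ≤ l.head ∧ l.last = q ∧ (l.length : ℤ) = n q - n p := by
  intro k
  induction k using WellFoundedLT.induction with
  | _ k ih =>
    intro q hk p hpq
    rcases hpq.eq_or_lt with rfl | hlt
    · exact ⟨RelSeries.singleton _ p, le_rfl, rfl, by simp⟩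
    obtain ⟨r, ⟨hr, hpr, hrq⟩, hmax⟩ := set_has_maximal_iff_noetherian.2 (‹IsNoetherianRing A› : IsNoetherian A A)
      {r : Ideal A | r.IsPrime ∧ p.asIdeal ≤ r ∧ r < q.asIdeal} ⟨p.asIdeal, p.isPrime, le_rfl, hlt⟩
    let r' : PrimeSpectrum A := ⟨r, hr⟩
    have hc : r' ⋖ q := ⟨hrq, fun s h1 h2 => hmax s.asIdeal ⟨s.isPrime, hpr.trans h1.le, h2⟩ h1⟩
    obtain ⟨l, hl1, hl2, hl3⟩ := ih (Ideal.height r) (hk ▸ Ideal.height_strict_mono_of_isPrime (I := r) hrq) r' rfl p hpr
    refine ⟨l.snoc q (hl2.symm ▸ hrq), by simpa using hl1, by simp, ?_⟩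
    have := hcov r' q hc
    simp only [RelSeries.snoc_length]
    push_cast
    omega

/-- The dimension of a quotient by a prime of a local ring. -/
theorem ringKrullDim_quotient_eq [IsLocalRing A] (hcov : ∀ p q : PrimeSpectrum A, p ⋖ q → n q = n p + 1)
    (hmono : StrictMono n) (P : PrimeSpectrum A) :
    ∃ e : ℕ, ringKrullDim (A ⧸ P.asIdeal) = (e : WithBot ℕ∞) ∧
      (e : ℤ) = n (IsLocalRing.closedPoint A) - n P := by
  let m := IsLocalRing.closedPoint A
  have hle : ∀ Q : PrimeSpectrum A, Q ≤ m := fun Q => IsLocalRing.le_maximalIdeal Q.isPrime.ne_top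
  obtain ⟨l, hl1, hl2, hl3⟩ := exists_chain_of_le hcov _ m rfl P (hle P)
  refine ⟨l.length, le_antisymm ?_ ?_, hl3⟩
  · rw [ringKrullDim_quotient]
    refine iSup_le fun s => ?_
    have h1 : ∀ k : ℕ, ∀ hk : k < s.length + 1, n P + k ≤ n (s ⟨k, hk⟩).1 := by
      intro k
      induction k with
      | zero =>
        intro hk
        have h0 : P ≤ (s ⟨0, hk⟩).1 := (s ⟨0, hk⟩).2
        have := hmono.monotone h0
        simpa using this
      | succ k ih =>
        intro hk
        have h2 := ih (by omega)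
        have h3 := hmono (s.step ⟨k, by omega⟩)
        simp only [Fin.castSucc_mk, Fin.succ_mk] at h3
        push_cast
        omega
    have h2 := h1 s.length (by omega)
    have h3 := hmono.monotone (hle (s ⟨s.length, by omega⟩).1)
    exact_mod_cast (show s.length ≤ l.length by omega)
  · rw [ringKrullDim_quotient]
    let s : LTSeries (PrimeSpectrum.zeroLocus (R := A) (P.asIdeal : Set A)) :=
      { length := l.length
        toFun := fun k => ⟨l k, show P.asIdeal ≤ (l k).asIdeal from hl1.trans (l.monotone (Fin.zero_le k))⟩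
        step := fun k => l.step k }
    exact le_iSup (fun t : LTSeries _ => ((t.length : ℕ∞) : WithBot ℕ∞)) s

/-- In a local ring the degree at the closed point of a normalized complex is zero. -/
theorem extDegree_closedPoint [IsLocalRing A] {ω : Dual.D A} (hN : Dual.IsNormalized A ω)
    (hn : IsExtDegree ω n) : n (IsLocalRing.closedPoint A) = 0 := by
  by_contra hne
  haveI := (hn (IsLocalRing.closedPoint A) _).2 rfl
  haveI : Subsingleton (Dual.inD A (A ⧸ (IsLocalRing.closedPoint A).asIdeal) ⟶
      ω⟦n (IsLocalRing.closedPoint A)⟧) := hN _ hne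
  exact not_subsingleton _ (LocalizedModule.subsingleton_iff.2 fun f => ⟨1, one_mem _, Subsingleton.elim _ _⟩ :
    Subsingleton (LocalizedModule (IsLocalRing.closedPoint A).asIdeal.primeCompl
      (Dual.inD A (A ⧸ (IsLocalRing.closedPoint A).asIdeal) ⟶ ω⟦n (IsLocalRing.closedPoint A)⟧)))

/-- A prime of largest coheight in the support. -/
theorem exists_mem_support_dim (M : Type u) [AddCommGroup M] [Module A M] [Module.Finite A M] (d : ℕ)
    (hd : Module.supportDim A M = d) :
    ∃ P : PrimeSpectrum A, P ∈ Module.support A M ∧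
      (∀ Q ∈ Module.support A M, Q ≤ P → Q = P) ∧ (d : WithBot ℕ∞) ≤ ringKrullDim (A ⧸ P.asIdeal) := by
  have hd' : Order.krullDim (Module.support A M) = d := hd
  obtain ⟨s, hs⟩ : ∃ s : LTSeries (Module.support A M), d ≤ s.length := by
    by_contra hcon
    simp only [not_exists, not_le] at hcon
    rcases Nat.eq_zero_or_pos d with rfl | hpos
    · cases isEmpty_or_nonempty (Module.support A M) with
      | inl h => rw [Order.krullDim_eq_bot] at hd'; exact absurd hd' (by simp)
      | inr h => exact absurd (hcon (RelSeries.singleton _ (Classical.arbitrary _))) (by simp)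
    · have hb : Order.krullDim (Module.support A M) ≤ ((d - 1 : ℕ) : WithBot ℕ∞) :=
        iSup_le fun s => by exact_mod_cast Nat.le_sub_one_of_lt (hcon s)
      rw [hd'] at hb
      have : d ≤ d - 1 := by exact_mod_cast hb
      omega
  obtain ⟨p, hp, hps⟩ := Ideal.exists_minimalPrimes_le (I := Module.annihilator A M) (J := s.head.1.asIdeal)
    (by
      have h0 : s.head.1 ∈ Module.support A M := s.head.2
      generalize s.head.1 = Q at h0 ⊢
      rw [Module.support_eq_zeroLocus] at h0
      exact h0)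
  refine ⟨⟨p, hp.1.1⟩, ?_, fun Q hQ hle => ?_, ?_⟩
  · rw [Module.support_eq_zeroLocus]
    exact hp.1.2
  · rw [Module.support_eq_zeroLocus] at hQ
    exact le_antisymm hle (hp.2 ⟨Q.isPrime, hQ⟩ hle)
  · rw [ringKrullDim_quotient]
    let t : LTSeries (PrimeSpectrum.zeroLocus (R := A) (p : Set A)) :=
      { length := s.length
        toFun := fun k => ⟨(s k).1, show p ≤ (s k).1.asIdeal from hps.trans (s.monotone (Fin.zero_le k))⟩
        step := fun k => s.step k }
    refine le_trans ?_ (le_iSup (fun z : LTSeries _ => ((z.length : ℕ∞) : WithBot ℕ∞)) t)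
    exact_mod_cast hs

end Chains

end Groth.Agent.KFlatLib
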