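import Groth.Agent.KFlatLib.Ring.BaseChangePushout
import Groth.Agent.H9Misc.DRingTor
import Groth.Agent.H9Misc.DRingPC
import Groth.Agent.H9Misc.DRingLBase
import Groth.Agent.H9Misc.DRingNilp
import Groth.Agent.FlatSyz5.PC
import Groth.Agent.S2137
import Groth.Prelude.Def_DualSh

/-!
# Relatively perfect complexes
-/

set_option linter.style.haveILetI false
set_option backward.isDefEq.respectTransparency false

universe u

open CategoryTheory CategoryTheory.Limits MonoidalCategory
open scoped TensorProduct

attribute [local instance] HasDerivedCategory.standard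

namespace Groth.Agent.KFlatLib

open H9Misc

variable {R A : Type u} [CommRing R] [CommRing A] [Algebra R A] [Module.Flat R A]

/-- A bounded above free representative of a relatively perfect complex, restricted to the base. -/
lemma exists_van_rep {K : Dual.D A} (hK : Dual2.IsRelPerfect R A K) :
    ∃ (F : DRing.Cx A) (a b : ℤ), a ≤ b ∧ DRing.VanishesAbove F b ∧ DRing.TermwiseFiniteFree F ∧
      Nonempty (DRing.toD F ≅ K) ∧ DRing.TermwiseFlat ((DTen.resCx (algebraMap R A)).obj F) ∧
      DRingLTensor.IsKF ((DTen.resCx (algebraMap R A)).obj F) ∧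
      DRingTor.Van a b ((DTen.resCx (algebraMap R A)).obj F) := by
  obtain ⟨⟨F, b₀, hb₀, hF, ⟨e⟩⟩, a₀, c₀, hamp⟩ := hK
  have hflat : DRing.TermwiseFlat ((DTen.resCx (algebraMap R A)).obj F) := fun i => by
    haveI := (hF i).2
    letI : Module R (F.X i) := Module.compHom _ (algebraMap R A)
    haveI : IsScalarTower R A (F.X i) := IsScalarTower.of_algebraMap_smul fun _ _ => rfl
    exact Module.Flat.trans R A (F.X i)
  have hbF : DRing.VanishesAbove ((DTen.resCx (algebraMap R A)).obj F) b₀ := fun i hi =>
    (ModuleCat.restrictScalars (algebraMap R A)).map_isZero (hb₀ i hi)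
  have hKF := DRingTor.isKF_of_flat hflat hbF
  have hv : DRingTor.Van a₀ c₀ ((DTen.resCx (algebraMap R A)).obj F) :=
    (DRingTor.iff_van hKF (((DTen.resFactors (algebraMap R A)).app F).symm ≪≫
      (DRing.restrictD (algebraMap R A)).mapIso e)).1 hamp
  exact ⟨F, min a₀ b₀, max b₀ c₀, by omega, fun i hi => hb₀ i (by omega), hF, ⟨e⟩, hflat, hKF,
    fun M i hi => hv M i (by omega)⟩

/-- A relatively perfect complex is a bounded complex of finitely presented modules flat over the base. -/
theorem exists_flat_fp_rep {K : Dual.D A} (hK : Dual2.IsRelPerfect R A K) :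
    ∃ (E : DRing.Cx A) (a b : ℤ), DRing.VanishesOutside E a b ∧
      (∀ i : ℤ, Module.FinitePresentation A (E.X i) ∧
        Module.Flat R ((ModuleCat.restrictScalars (algebraMap R A)).obj (E.X i))) ∧
      Nonempty (DRing.toD E ≅ K) := by
  obtain ⟨F, a, b, hab, hb, hF, ⟨e⟩, hflat, hKF, hv⟩ := exists_van_rep hK
  let φ := algebraMap R A
  haveI : F.IsGE a := (CochainComplex.isGE_iff F a).2 fun i hi =>
    (ShortComplex.exact_map_iff_of_faithful _ (ModuleCat.restrictScalars φ)).1 (hv.exactAt (Or.inl hi))
  haveI : IsIso (DerivedCategory.Q.map (F.πTruncGE a)) :=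
    (DerivedCategory.isIso_Q_map_iff_quasiIso _ _).2 inferInstance
  let emb := ComplexShape.embeddingUpIntGE a
  let C := F.X a ⧸ LinearMap.range (F.d (a - 1) a).hom
  have hCfp : Module.FinitePresentation A C := by
    haveI := (hF a).1
    haveI := (hF (a - 1)).1
    haveI := (hF a).2
    haveI : Module.FinitePresentation A (F.X a) := Module.finitePresentation_of_projective A _
    refine Module.finitePresentation_of_surjective (Submodule.mkQ _) (Submodule.mkQ_surjective _) ?_
    rw [Submodule.ker_mkQ, LinearMap.range_eq_map]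
    exact (Module.Finite.fg_top).map _
  have hCflat : Module.Flat R ((ModuleCat.restrictScalars φ).obj (ModuleCat.of A C)) := by
    haveI := DRingTor.flat_range_quotient (P := (DTen.resCx φ).obj F) hflat (a - 1 - 1) (a - 1) a (by omega) (by omega)
      fun M => hv M (a - 1) (Or.inl (by omega))
    letI : Module R (F.X a) := Module.compHom _ φ
    haveI : IsScalarTower R A (F.X a) := IsScalarTower.of_algebraMap_smul fun _ _ => rfl
    letI : Module R C := Module.compHom _ φ
    let g : (((DTen.resCx φ).obj F).X a ⧸ LinearMap.range (((DTen.resCx φ).obj F).d (a - 1) a).hom) ≃ₗ[R]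
        ((ModuleCat.restrictScalars φ).obj (ModuleCat.of A C) : Type u) :=
      LinearEquiv.ofBijective
        (Submodule.liftQ _
          ({ toFun := fun x => Submodule.Quotient.mk (p := LinearMap.range (F.d (a - 1) a).hom) x
             map_add' := fun _ _ => rfl
             map_smul' := fun _ _ => rfl } : ((DTen.resCx φ).obj F).X a →ₗ[R]
              ((ModuleCat.restrictScalars φ).obj (ModuleCat.of A C) : Type u))
          (by
            rintro _ ⟨y, rfl⟩
            exact (Submodule.Quotient.mk_eq_zero _).2 ⟨y, rfl⟩))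
        ⟨by
          rw [← LinearMap.ker_eq_bot, LinearMap.ker_eq_bot']
          intro x hx
          obtain ⟨x, rfl⟩ := Submodule.Quotient.mk_surjective _ x
          obtain ⟨y, hy⟩ := (Submodule.Quotient.mk_eq_zero _).1 hx
          exact (Submodule.Quotient.mk_eq_zero _).2 ⟨y, hy⟩, fun z => by
          obtain ⟨z, rfl⟩ := Submodule.Quotient.mk_surjective _ z
          exact ⟨Submodule.Quotient.mk z, rfl⟩⟩
    exact Module.Flat.of_linearEquiv g.symm
  refine ⟨F.truncGE a, a, b, fun i hi => ?_, fun i => ?_,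
    ⟨(asIso (DerivedCategory.Q.map (F.πTruncGE a))).symm ≪≫ e⟩⟩
  · rcases hi with hi | hi
    · exact CochainComplex.isZero_of_isStrictlyGE _ a i hi
    · obtain ⟨n, rfl⟩ : ∃ n : ℕ, a + n = i := ⟨(i - a).toNat, by omega⟩
      exact (hb _ hi).of_iso (HomologicalComplex.truncGEXIso F emb (i := n) rfl
        (fun hbd => by have := (ComplexShape.boundaryGE_embeddingUpIntGE_iff a n).1 hbd; omega))
  · rcases lt_or_ge i a with hia | hia
    · have hz := CochainComplex.isZero_of_isStrictlyGE (F.truncGE a) a i hia
      haveI := ModuleCat.subsingleton_of_isZero hz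
      haveI := ModuleCat.subsingleton_of_isZero ((ModuleCat.restrictScalars φ).map_isZero hz)
      haveI : Module.Free A ((F.truncGE a).X i) := Module.Free.of_subsingleton A _
      exact ⟨Module.finitePresentation_of_projective A _, inferInstance⟩
    obtain ⟨n, rfl⟩ : ∃ n : ℕ, a + n = i := ⟨(i - a).toNat, by omega⟩
    rcases Nat.eq_zero_or_pos n with rfl | hn
    · let ι₀ : (F.truncGE a).X (a + (0 : ℕ)) ≅ ModuleCat.of A C :=
        HomologicalComplex.truncGEXIsoOpcycles F emb (i := 0) rfl
          ((ComplexShape.boundaryGE_embeddingUpIntGE_iff a 0).2 rfl) ≪≫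
        eqToIso (congrArg (fun j : ℤ => F.opcycles j) (show a + ((0 : ℕ) : ℤ) = a by simp)) ≪≫
        ((cokernelIsCokernel (F.d (a - 1) a)).coconePointUniqueUpToIso
          (F.opcyclesIsCokernel (a - 1) a (by simp))).symm ≪≫ ModuleCat.cokernelIsoRangeQuotient _
      haveI := hCfp
      haveI := hCflat
      exact ⟨Module.FinitePresentation.of_equiv ι₀.toLinearEquiv.symm,
        Module.Flat.of_linearEquiv ((ModuleCat.restrictScalars φ).mapIso ι₀).toLinearEquiv⟩
    · let ι₁ := HomologicalComplex.truncGEXIso F emb (i := n) rfl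
        (fun hbd => by have := (ComplexShape.boundaryGE_embeddingUpIntGE_iff a n).1 hbd; omega)
      haveI := (hF (a + n)).1
      haveI := (hF (a + n)).2
      haveI : Module.FinitePresentation A (F.X (emb.f n)) := Module.finitePresentation_of_projective A (F.X (a + n))
      haveI := hflat (a + n)
      exact ⟨Module.FinitePresentation.of_equiv ι₁.toLinearEquiv.symm,
        Module.Flat.of_linearEquiv (M := ((DTen.resCx φ).obj F).X (a + n))
          ((ModuleCat.restrictScalars φ).mapIso ι₁).toLinearEquiv⟩

variable [Algebra.FinitePresentation R A]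

/-- Bounded complexes of finitely presented modules flat over the base are relatively perfect. -/
theorem isRelPerfect_of_rep (E : DRing.Cx A) (a b : ℤ) (hz : DRing.VanishesOutside E a b)
    (hE : ∀ i : ℤ, Module.FinitePresentation A (E.X i) ∧
      Module.Flat R ((ModuleCat.restrictScalars (algebraMap R A)).obj (E.X i))) :
    Dual2.IsRelPerfect R A (DRing.toD E) := by
  refine ⟨(DRingPC.pc'_iff _).2 fun m => DRingPC.of_terms E b (fun i hi => hz i (Or.inr hi)) fun i => ?_,
    a, b, (DTen.resCx (algebraMap R A)).obj E,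
    fun i hi => (ModuleCat.restrictScalars (algebraMap R A)).map_isZero (hz i hi), fun i => (hE i).2,
    ⟨((DTen.resFactors (algebraMap R A)).app E).symm⟩⟩
  haveI := (hE i).1
  letI : Module R (E.X i) := Module.compHom _ (algebraMap R A)
  haveI : IsScalarTower R A (E.X i) := IsScalarTower.of_algebraMap_smul fun _ _ => rfl
  haveI : Module.Flat R (E.X i) := (hE i).2
  exact (DRingPC.pc'_iff _).1 (FlatSyz5.pc' R A (E.X i)) _

omit [Algebra.FinitePresentation R A] in
/-- Base change preserves relative perfection. -/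
theorem isRelPerfect_baseChange (R' : Type u) [CommRing R'] [Algebra R R']
    [DRing.HasLBaseChange (Algebra.TensorProduct.includeRight.toRingHom : A →+* R' ⊗[R] A)]
    {K : Dual.D A} (hK : Dual2.IsRelPerfect R A K) :
    Dual2.IsRelPerfect R' (R' ⊗[R] A)
      ((DRing.LBaseChange (Algebra.TensorProduct.includeRight.toRingHom : A →+* R' ⊗[R] A)).obj K) := by
  let α : A →+* R' ⊗[R] A := Algebra.TensorProduct.includeRight.toRingHom
  refine ⟨(DRingPC.pc'_iff _).2 fun m => Groth.Agent.S2137.result α K m ((DRingPC.pc'_iff _).1 hK.1 m), ?_⟩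
  obtain ⟨F, a, b, -, hb, hF, ⟨e⟩, hflat, hKF, hv⟩ := exists_van_rep hK
  let φ := algebraMap R A
  let ρ := algebraMap R R'
  let φ' := algebraMap R' (R' ⊗[R] A)
  have h : α.comp φ = φ'.comp ρ := RingHom.ext fun r => by
    simp only [α, φ, φ', ρ, RingHom.comp_apply, AlgHom.toRingHom_eq_coe, RingHom.coe_coe, AlgHom.commutes]
    exact IsScalarTower.algebraMap_apply R R' (R' ⊗[R] A) r
  letI : Algebra A (R' ⊗[R] A) := α.toAlgebra
  haveI : IsScalarTower R A (R' ⊗[R] A) := IsScalarTower.of_algebraMap_eq fun r =>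
    ((Algebra.TensorProduct.includeRight : A →ₐ[R] R' ⊗[R] A).commutes r).symm
  haveI : Algebra.IsPushout R R' A (R' ⊗[R] A) := TensorProduct.isPushout
  haveI : ∀ i, IsIso ((sqCx h F).f i) := fun i => isIso_sqMod h rfl rfl rfl rfl (F.X i)
  let s : (DTen.extCx ρ).obj ((DTen.resCx φ).obj F) ≅ (DTen.resCx φ').obj ((DTen.extCx α).obj F) :=
    @asIso _ _ _ _ (sqCx h F) (HomologicalComplex.Hom.isIso_of_components _)
  let X := (DTen.resCx φ).obj F
  let Y := (DTen.extCx ρ).obj X
  have hY : DRing.TermwiseFlat Y := fun i => haveI := hflat i; DRingLBase.flat_extendScalars ρ (X.X i)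
  have hYb : DRing.VanishesAbove Y b := fun i hi => (ModuleCat.extendScalars.{u, u, u} ρ).map_isZero
    ((ModuleCat.restrictScalars φ).map_isZero (hb i hi))
  have hFk : DRingLTensor.IsKF F := DRingTor.isKF_of_flat (fun i => haveI := (hF i).2; inferInstance) hb
  obtain ⟨e'⟩ := DRingLBase.nonempty_lbase_iso α hFk
  refine ⟨a, b, DRingTor.hasTorAmplitudeIn_of_van (DRingTor.isKF_of_flat hY hYb) (fun N i hi => ?_)
    (DerivedCategory.Q.mapIso s ≪≫ ((DTen.resFactors φ').app _).symm ≪≫
      (DRing.restrictD φ').mapIso (e'.symm ≪≫ (DRing.LBaseChange α).mapIso e))⟩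
  -- tensoring over the new base is tensoring over the old one
  have h₃ := hv ((ModuleCat.restrictScalars ρ).obj N) i hi
  have h' : (((ModuleCat.extendScalars ρ ⋙ tensorRight N ⋙
      ModuleCat.restrictScalars ρ).mapHomologicalComplex (ComplexShape.up ℤ)).obj X).ExactAt i := by
    refine DRingRightExact.exactAt_iso_map (F := tensorRight ((ModuleCat.restrictScalars ρ).obj N))
      (G := ModuleCat.extendScalars ρ ⋙ tensorRight N ⋙ ModuleCat.restrictScalars ρ) ?_ X i h₃
    have iso : ModuleCat.extendScalars ρ ⋙ tensorRight N ⋙ ModuleCat.restrictScalars ρ ≅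
        tensorRight ((ModuleCat.restrictScalars ρ).obj N) :=
      Functor.isoWhiskerLeft (ModuleCat.extendScalars ρ)
          (Functor.isoWhiskerRight (BraidedCategory.tensorLeftIsoTensorRight N).symm _) ≪≫
        ((KFlatLib.extTIso ρ).app N) ≪≫ BraidedCategory.tensorLeftIsoTensorRight _
    exact iso.symm
  exact (ShortComplex.exact_map_iff_of_faithful _ (ModuleCat.restrictScalars ρ)).1 h'

end Groth.Agent.KFlatLib

namespace Groth.Agent.KFlatLib

open H9Misc

/-- Tor amplitude moves with a shift. -/
lemma hasTorAmplitudeIn_shift {R : Type u} [CommRing R] {a b : ℤ} {K : Dual.D R}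
    (h : DRing.HasTorAmplitudeIn R a b K) (n : ℤ) : DRing.HasTorAmplitudeIn R (a - n) (b - n) (K⟦n⟧) := by
  obtain ⟨E, hz, hf, ⟨e⟩⟩ := h
  exact ⟨E⟦n⟧, fun i hi => hz (i + n) (by omega), fun i => hf (i + n),
    ⟨(DerivedCategory.Q.commShiftIso n).app E ≪≫ (shiftFunctor (Dual.D R) n).mapIso e⟩⟩

end Groth.Agent.KFlatLib
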