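import Groth.Agent.KFlatLib.Ring.BaseChangeShriekVia
import Groth.Agent.H9Misc.DRingRelPC
import Groth.Agent.H9Misc.DRingRegular
import Groth.Agent.LC.GorDualizing

/-!
# The relative dualizing complex
-/

set_option linter.style.haveILetI false
set_option backward.isDefEq.respectTransparency false

universe u

open CategoryTheory CategoryTheory.Limits Pretriangulated MonoidalCategory

open scoped TensorProduct

attribute [local instance] HasDerivedCategory.standard

namespace Groth.Agent.KFlatLib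

section Ring

variable {P : Type u} [CommRing P]

omit P in
lemma subsingleton_hd_of_iso {B : Type u} [CommRing B] {X Y : Dual.D B} (e : X ≅ Y) (i : ℤ)
    (h : Subsingleton (Dual.HD B X i)) : Subsingleton (Dual.HD B Y i) :=
  haveI := h
  (((DerivedCategory.homologyFunctor (ModuleCat.{u} B) i).mapIso e).toLinearEquiv).symm.toEquiv.subsingleton

omit P in
lemma finite_hd_of_iso {B : Type u} [CommRing B] {X Y : Dual.D B} (e : X ≅ Y) (i : ℤ)
    (h : Module.Finite B (Dual.HD B X i)) : Module.Finite B (Dual.HD B Y i) :=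
  haveI := h
  Module.Finite.equiv ((DerivedCategory.homologyFunctor (ModuleCat.{u} B) i).mapIso e).toLinearEquiv

/-- A retract of a perfect object over a Noetherian ring is perfect. -/
lemma isPerfect_of_retract [IsNoetherianRing P] {K K' : Dual.D P} (i : K ⟶ K') (r : K' ⟶ K)
    (h : i ≫ r = 𝟙 K) (hK : DRing.IsPerfect P K') : DRing.IsPerfect P K := by
  obtain ⟨⟨a, b, hb⟩, hfin⟩ := H9Misc.DRingRegular.finite_homology_of_isPerfect hK
  obtain ⟨-, c, d, hcd⟩ := (H9Misc.DRingPerfect.isPerfect_iff K').1 hK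
  have hinj : ∀ n, Function.Injective ((DerivedCategory.homologyFunctor (ModuleCat.{u} P) n).map i).hom := by
    intro n
    refine Function.LeftInverse.injective
      (g := ((DerivedCategory.homologyFunctor (ModuleCat.{u} P) n).map r).hom) fun x => ?_
    rw [← ConcreteCategory.comp_apply, ← Functor.map_comp, h, CategoryTheory.Functor.map_id]
    rfl
  refine (H9Misc.DRingPerfect.isPerfect_iff K).2
    ⟨(H9Misc.DRingPC.pc'_iff K).2 fun m => (Groth.Agent.S6942.result P m K P).1.2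
      ⟨⟨b, fun n hn => ?_⟩, fun n _ => ?_⟩, c, d, H9Misc.DRingTor.of_retract i r h hcd⟩
  · haveI := hb n (Or.inr hn)
    exact (hinj n).subsingleton
  · haveI := hfin n
    exact Module.Finite.of_injective ((DerivedCategory.homologyFunctor (ModuleCat.{u} P) n).map i).hom (hinj n)

/-- The dual of a perfect object is perfect. -/
theorem isPerfect_dual [IsNoetherianRing P] [DTen.HasLTen P] [DTen.HasRHom P] {K : Dual.D P}
    (hK : DRing.IsPerfect P K) : DRing.IsPerfect P ((DTen.RHomR P K).obj (DTen.unit P)) := by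
  refine perfect_induction (fun K => DRing.IsPerfect P ((DTen.RHomR P K).obj (DTen.unit P))) ?_ ?_ ?_ ?_ hK
  · exact fun e h => H9Misc.DRingPC.isPerfect_of_iso (((DTen.RHom P).mapIso e.op).app (DTen.unit P)).symm h
  · intro T hT h₁ h₃
    obtain ⟨c, hc⟩ := exists_triangle_RHomMap T hT (DTen.unit P)
    exact H9Misc.DRingPC.isPerfect₂ _ hc h₃ h₁
  · intro K K' i r h hK
    refine isPerfect_of_retract (DTen.RHomMap r (DTen.unit P)) (DTen.RHomMap i (DTen.unit P)) ?_ hK
    dsimp only [DTen.RHomMap]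
    rw [← NatTrans.comp_app, ← Functor.map_comp, ← op_comp, h, op_id, CategoryTheory.Functor.map_id]
    rfl
  · intro n
    obtain ⟨e⟩ := nonempty_RHomR_unit_iso (A := P) n
    exact H9Misc.DRingPC.isPerfect_of_iso (e.app _).symm (isPerfect_unit_shift _)

/-- Maps out of the dual of a perfect object. -/
theorem exists_homDualLEquiv [DTen.HasLTen P] [DTen.HasRHom P] {E : Dual.D P}
    (hE : DRing.IsPerfect P E) (i : ℤ) :
    Nonempty (((DTen.RHomR P E).obj (DTen.unit P) ⟶ (DTen.unit P)⟦i⟧) ≃ₗ[P] Dual.HD P E i) := by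
  haveI := hasLTen₃ P
  haveI := isSymMonoidal P
  let u := DTen.unit P
  haveI := isIso_evalHom_of_isPerfect E u u hE
  obtain ⟨r⟩ := nonempty_RHomR_unit_iso (A := P) 0
  let a : (DTen.RHomR P u).obj u ≅ u :=
    (((DTen.RHom P).mapIso ((shiftFunctorZero (Dual.D P) ℤ).app u).op).app u) ≪≫
      r.app u ≪≫ (shiftFunctorZero' (Dual.D P) (-(0 : ℤ)) neg_zero).app u
  haveI : IsIso (DTen.unitL P) := DTen.IsSymMonoidal.isIso_unitL
  let e : (DTen.RHomR P ((DTen.RHomR P E).obj u)).obj u ≅ E :=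
    (asIso (DTen.evalHom E u u)).symm ≪≫
      (DTen.LTen₂ P).mapIso (Iso.prod a (Iso.refl E)) ≪≫ (asIso (DTen.unitL P)).app E
  obtain ⟨l⟩ := exists_hdRHomShiftLEquiv ((DTen.RHomR P E).obj u) u i
  exact ⟨l.symm.trans (((DerivedCategory.homologyFunctor (ModuleCat.{u} P) i).mapIso e).toLinearEquiv)⟩

end Ring

variable {R A : Type u} [CommRing R] [CommRing A] [Algebra R A] [IsNoetherianRing R] [Module.Flat R A]
  {n : ℕ} (ψ : MvPolynomial (Fin n) R →+* A) {Rψ : Dual.D (MvPolynomial (Fin n) R) ⥤ Dual.D A}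

/-- The shriek of the ring restricts to the dual of the algebra. -/
lemma nonempty_res_shriek_unit (a : DRing.restrictD ψ ⊣ Rψ) [DTen.HasLTen (MvPolynomial (Fin n) R)]
    [DTen.HasRHom (MvPolynomial (Fin n) R)] :
    Nonempty ((DRing.restrictD ψ).obj (Rψ.obj (DTen.unit _)) ≅
      (DTen.RHomR _ ((DRing.restrictD ψ).obj (DTen.unit A))).obj (DTen.unit _)) := by
  haveI := hasLTen A
  haveI := hasLBase ψ
  haveI := hasResTen ψ
  haveI := resLegIso ψ
  obtain ⟨i⟩ := nonempty_tensorRight_shift (B := A) (N := DTen.unit A) 0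
    ((shiftFunctorZero (Dual.D A) ℤ).app (DTen.unit A)).symm
  haveI := isIso_rhomHomEquiv_pairing ψ a (i ≪≫ shiftFunctorZero (Dual.D A) ℤ) (DTen.unit _)
  exact ⟨asIso (DTen.rhomHomEquiv _ _ _ (pairingD ψ a (i ≪≫ shiftFunctorZero (Dual.D A) ℤ) (DTen.unit _)))⟩

variable (hψ : Function.Surjective ψ) (hR : ψ.comp MvPolynomial.C = algebraMap R A)
  (a : DRing.restrictD ψ ⊣ Rψ)

include hψ hR a

/-- The shriek of the ring is perfect over the presenting polynomial ring. -/
theorem isPerfect_res_shriek_unit :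
    DRing.IsPerfect (MvPolynomial (Fin n) R)
      ((DRing.restrictD ψ).obj ((Rψ.obj (DTen.unit _))⟦(n : ℤ)⟧)) := by
  haveI := hasLTen (MvPolynomial (Fin n) R)
  haveI := hasRHom (A := MvPolynomial (Fin n) R)
  obtain ⟨e⟩ := nonempty_res_shriek_unit ψ a
  exact H9Misc.DRingPC.isPerfect_of_iso ((((DRing.restrictD ψ).commShiftIso (n : ℤ)).app _).symm)
    (H9Misc.DRingPC.isPerfect_shift (H9Misc.DRingPC.isPerfect_of_iso e.symm
      (isPerfect_dual (isPerfect_res_presentation n ψ hψ hR))) _)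

/-- The relative dualizing complex has bounded, finite cohomology. -/
theorem bounded_finite_shriek_unit :
    (∃ p q : ℤ, ∀ i : ℤ, (i < p ∨ q < i) →
      Subsingleton (Dual.HD A ((Rψ.obj (DTen.unit _))⟦(n : ℤ)⟧) i)) ∧
    ∀ i : ℤ, Module.Finite A (Dual.HD A ((Rψ.obj (DTen.unit _))⟦(n : ℤ)⟧) i) := by
  obtain ⟨⟨p, q, hpq⟩, hfin⟩ :=
    H9Misc.DRingRegular.finite_homology_of_isPerfect (isPerfect_res_shriek_unit ψ hψ hR a)
  refine ⟨⟨p, q, fun i hi => ?_⟩, fun i => ?_⟩
  · haveI := hpq i hi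
    exact ((H9Misc.DRingRestrict.HDRestrictIso ψ _ i).toLinearEquiv.symm).toEquiv.subsingleton
  · haveI := hfin i
    have hfinP := Module.Finite.equiv (H9Misc.DRingRestrict.HDRestrictIso ψ ((Rψ.obj (DTen.unit _))⟦(n : ℤ)⟧) i).toLinearEquiv
    let P := MvPolynomial (Fin n) R
    letI := ψ.toAlgebra
    letI : Module P (Dual.HD A ((Rψ.obj (DTen.unit _))⟦(n : ℤ)⟧) i) := Module.compHom _ ψ
    haveI : IsScalarTower P A (Dual.HD A ((Rψ.obj (DTen.unit _))⟦(n : ℤ)⟧) i) :=
      IsScalarTower.of_algebraMap_smul fun _ _ => rfl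
    haveI : Module.Finite P (Dual.HD A ((Rψ.obj (DTen.unit _))⟦(n : ℤ)⟧) i) := hfinP
    exact Module.Finite.of_restrictScalars_finite P A _

/-- The relative dualizing complex has finite tor dimension over the base. -/
theorem hasFiniteTorDimCx_shriek_unit :
    DRing.HasFiniteTorDimCx R
      ((DRing.restrictD (algebraMap R A)).obj ((Rψ.obj (DTen.unit _))⟦(n : ℤ)⟧)) := by
  obtain ⟨E, p, q, hz, hE, ⟨e⟩⟩ := isPerfect_res_shriek_unit ψ hψ hR a
  let ι : R →+* MvPolynomial (Fin n) R := MvPolynomial.C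
  refine ⟨p, q, (DTen.resCx ι).obj E,
    fun i hi => (ModuleCat.restrictScalars ι).map_isZero (hz i hi), fun i => ?_, ⟨?_⟩⟩
  · haveI := (hE i).2
    letI : Module R (E.X i) := Module.compHom _ ι
    haveI : IsScalarTower R (MvPolynomial (Fin n) R) (E.X i) :=
      IsScalarTower.of_algebraMap_smul fun _ _ => rfl
    exact Module.Flat.trans R (MvPolynomial (Fin n) R) (E.X i)
  · rw [← hR]
    exact ((DTen.resFactors ι).app E).symm ≪≫ (DRing.restrictD ι).mapIso e ≪≫
      ((H9Misc.DRingRelPC.restrictDCompIso ι ψ).app _).symm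

/-- The endomorphisms and self-extensions of the relative dualizing complex. -/
theorem bijective_smul_shriek_unit :
    (Function.Bijective fun x : A => x • 𝟙 ((Rψ.obj (DTen.unit _))⟦(n : ℤ)⟧)) ∧
      ∀ i : ℤ, i ≠ 0 → Subsingleton ((Rψ.obj (DTen.unit _))⟦(n : ℤ)⟧ ⟶
        ((Rψ.obj (DTen.unit _))⟦(n : ℤ)⟧)⟦i⟧) := by
  let P := MvPolynomial (Fin n) R
  haveI := hasLTen P
  haveI := hasRHom (A := P)
  let E := (DRing.restrictD ψ).obj (DTen.unit A)
  have hE : DRing.IsPerfect P E := isPerfect_res_presentation n ψ hψ hR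
  obtain ⟨d⟩ := nonempty_res_shriek_unit ψ a
  let W₀ := Rψ.obj (DTen.unit P)
  let W := W₀⟦(n : ℤ)⟧
  have hW : ∀ i : ℤ, ∃ e : (W ⟶ W⟦i⟧) ≃
      ((ModuleCat.restrictScalars ψ).obj ((DerivedCategory.homologyFunctor (ModuleCat.{u} A) i).obj (DTen.unit A)) : Type u),
      (∀ f g, e (f + g) = e f + e g) ∧ ∀ (p : P) f, e (ψ p • f) = p • e f := by
    intro i
    obtain ⟨u, hu⟩ := exists_shriekHomEquiv ψ Rψ a W₀ (DTen.unit P) i
    obtain ⟨l⟩ := exists_homDualLEquiv hE i
    let c : (W₀⟦i⟧)⟦(n : ℤ)⟧ ≅ W⟦i⟧ := shiftComm _ _ _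
    let F : (W₀ ⟶ W₀⟦i⟧) →ₗ[A] (W ⟶ (W₀⟦i⟧)⟦(n : ℤ)⟧) := Functor.mapLinearMap A (shiftFunctor (Dual.D A) (n : ℤ))
    let F' : (W₀ ⟶ W₀⟦i⟧) ≃ₗ[A] (W ⟶ (W₀⟦i⟧)⟦(n : ℤ)⟧) := LinearEquiv.ofBijective F
      ((Functor.FullyFaithful.ofFullyFaithful (shiftFunctor (Dual.D A) (n : ℤ))).map_bijective _ _)
    let g₁ : (W ⟶ W⟦i⟧) ≃ₗ[A] (W₀ ⟶ W₀⟦i⟧) := (F'.trans (Linear.homCongr A (Iso.refl W) c)).symm
    let g₂ : ((DRing.restrictD ψ).obj W₀ ⟶ (DTen.unit P)⟦i⟧) ≃ₗ[P] Dual.HD P E i :=
      (Linear.homCongr P d (Iso.refl _)).trans l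
    let g₃ := (H9Misc.DRingRestrict.HDRestrictIso ψ (DTen.unit A) i).toLinearEquiv
    refine ⟨g₁.toEquiv.trans (u.trans (g₂.trans g₃).toEquiv), fun f g => ?_, fun p f => ?_⟩
    · change g₃ (g₂ (u (g₁ (f + g)))) = g₃ (g₂ (u (g₁ f))) + g₃ (g₂ (u (g₁ g)))
      rw [map_add, hu.1, map_add]
      exact g₃.map_add _ _
    · change g₃ (g₂ (u (g₁ (ψ p • f)))) = p • g₃ (g₂ (u (g₁ f)))
      rw [map_smul, hu.2, map_smul]
      exact g₃.map_smul _ _
  let iU : DTen.unit A ≅ Dual.inD A A :=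
    ((DerivedCategory.singleFunctorIsoCompQ (ModuleCat.{u} A) 0).app (ModuleCat.of A A)).symm
  refine ⟨?_, fun i hi => ?_⟩
  · obtain ⟨e, he₁, he₂⟩ := hW 0
    let h0 : Dual.HD A (DTen.unit A) 0 ≃ₗ[A] A :=
      (((DerivedCategory.homologyFunctor (ModuleCat.{u} A) 0).mapIso iU).toLinearEquiv).trans
        ((DerivedCategory.singleFunctorCompHomologyFunctorIso (ModuleCat.{u} A) 0).app (ModuleCat.of A A)).toLinearEquiv
    let z : (W ⟶ W) ≃ₗ[A] (W ⟶ W⟦(0 : ℤ)⟧) :=
      Linear.homCongr A (Iso.refl W) ((shiftFunctorZero (Dual.D A) ℤ).app W).symm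
    refine toEnd_bijective_of_linearEquiv W (LinearEquiv.mk
      { toFun := fun f => h0 (e (z f))
        map_add' := fun f g => ?_
        map_smul' := fun x f => ?_ }
      (fun y => z.symm (e.symm (h0.symm y))) (fun f => by simp) (fun y => by simp))
    · simp only [map_add, he₁]
    · obtain ⟨p, rfl⟩ := hψ x
      simp only [map_smul, he₂, RingHom.id_apply]
      exact h0.map_smul (ψ p) _
  · obtain ⟨e, -, -⟩ := hW i
    have h0 : Subsingleton (Dual.HD A (Dual.inD A A) i) := ModuleCat.subsingleton_of_isZero (by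
      rcases lt_or_gt_of_ne hi with h | h
      · exact DerivedCategory.isZero_of_isGE _ 0 i h
      · exact DerivedCategory.isZero_of_isLE _ 0 i h)
    haveI := subsingleton_hd_of_iso iU.symm i h0
    haveI : Subsingleton ((ModuleCat.restrictScalars ψ).obj
        ((DerivedCategory.homologyFunctor (ModuleCat.{u} A) i).obj (DTen.unit A)) : Type u) :=
      inferInstanceAs (Subsingleton (Dual.HD A (DTen.unit A) i))
    exact e.subsingleton

/-- The relative dualizing complex gives dualizing complexes on the fibres. -/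
theorem isDualizing_fibre_shriek_unit (k : Type u) [Field k] [Algebra R k]
    [DTen.HasLBase (incRight R k A)] :
    Dual.IsDualizing (k ⊗[R] A) ((DTen.LBase (incRight R k A)).obj ((Rψ.obj (DTen.unit _))⟦(n : ℤ)⟧)) := by
  let P := MvPolynomial (Fin n) R
  let P' := MvPolynomial (Fin n) k
  haveI := hasLBase (algebraMap R P)
  haveI := hasLBase (algebraMap k P')
  haveI := hasLBase (algebraMap R k)
  haveI : IsNoetherianRing (k ⊗[R] A) :=
    isNoetherianRing_of_surjective P' (k ⊗[R] A) (presBC k ψ) (surjective_presBC ψ hψ hR)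
  obtain ⟨R'', ⟨a''⟩⟩ := exists_shriek (presBC k ψ)
  obtain ⟨t⟩ := nonempty_shriek_baseChange_of_flat_left ψ hψ hR (algebraMap R P) rfl a (presBC k ψ)
    (surjective_presBC ψ hψ hR) (presBC_C ψ) (algebraMap k P') rfl a'' (DTen.unit R)
  obtain ⟨u₁⟩ := nonempty_LBase_unit (algebraMap R P)
  obtain ⟨u₂⟩ := nonempty_LBase_unit (algebraMap R k)
  have hk : Dual.IsDualizing k (DTen.unit k) := by
    haveI : HasInjectiveDimensionLT (ModuleCat.of k k) 1 :=
      injective_iff_hasInjectiveDimensionLT_one.1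
        ((Module.injective_iff_injective_object k k).1 (Module.injective_of_isSemisimpleRing k k))
    exact isDualizing_of_iso ((DerivedCategory.singleFunctorIsoCompQ (ModuleCat.{u} k) 0).app (ModuleCat.of k k))
      (LC.isDualizing_self_of_injDim k (n := 1))
  exact isDualizing_of_iso
    ((DTen.LBase _).mapIso ((shiftFunctor _ (n : ℤ)).mapIso (Rψ.mapIso u₁.symm)) ≪≫ t ≪≫
      (shiftFunctor _ (n : ℤ)).mapIso (R''.mapIso ((DTen.LBase _).mapIso u₂))).symm
    (isDualizing_shriekVia n (presBC k ψ) (surjective_presBC ψ hψ hR) a'' hk)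

end Groth.Agent.KFlatLib
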