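import Groth.Agent.KFlatLib.Ring.RelPerfectFibres
import Groth.Agent.KFlatLib.Ring.RelPerfectRows
import Groth.Agent.KFlatLib.Ring.RelDualizing
import Groth.Agent.H9Misc.DRingPerfect
import Mathlib.Algebra.MvPolynomial.Equiv

/-!
# Perfection from perfection of the fibres
-/

set_option linter.style.haveILetI false
set_option backward.isDefEq.respectTransparency false

universe u

open CategoryTheory CategoryTheory.Limits MonoidalCategory TensorProduct
open Groth.Agent.H9Misc

attribute [local instance] HasDerivedCategory.standard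

namespace Groth.Agent.KFlatLib

/-- A pseudo-coherent complex which is bounded below and has perfect fibres over the base is perfect. -/
theorem isPerfect_of_fibres (R A : Type u) [CommRing R] [CommRing A] [Algebra R A]
    [∀ p : PrimeSpectrum R, DRing.HasLBaseChange
      (Algebra.TensorProduct.includeRight.toRingHom : A →+* p.asIdeal.ResidueField ⊗[R] A)]
    (K : Dual.D A) (hK : DRing.IsPseudoCoherent' A K)
    (hbelow : ∃ a : ℤ, ∀ i : ℤ, i < a → Subsingleton (Dual.HD A K i))
    (hfib : ∀ p : PrimeSpectrum R, DRing.IsPerfect (p.asIdeal.ResidueField ⊗[R] A)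
      ((DRing.LBaseChange
        (Algebra.TensorProduct.includeRight.toRingHom : A →+* p.asIdeal.ResidueField ⊗[R] A)).obj K)) :
    DRing.IsPerfect A K := by
  obtain ⟨F, b, hb, hF, ⟨e⟩⟩ := id hK
  obtain ⟨a₀, ha₀⟩ := hbelow
  have hFk : DRingLTensor.IsKF F := DRingTor.isKF_of_flat (fun j => haveI := (hF j).2; inferInstance) hb
  let idF : (DTen.resCx (algebraMap A A)).obj F ≅ F :=
    HomologicalComplex.Hom.isoOfComponents (fun _ => Iso.refl _) (by intros; simp; rfl)
  let idK : (DRing.restrictD (algebraMap A A)).obj (DerivedCategory.Q.obj F) ≅ K :=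
    (DTen.resFactors (algebraMap A A)).app F ≪≫ DerivedCategory.Q.mapIso idF ≪≫ e
  obtain ⟨c, c', hamp⟩ := finiteTorDim_of_fibres (R := A) (P := A) (MvPolynomial.isEmptyAlgEquiv A (Fin 0))
    hF b hb a₀
    (fun i hi => by
      rw [HomologicalComplex.exactAt_iff_isZero_homology]
      exact (DRingCompl.isZ (subsingleton_hd_of_iso e.symm i (ha₀ i hi))).of_iso
        ((DerivedCategory.homologyFunctorFactors (ModuleCat.{u} A) i).app F).symm)
    fun q => by
      let p : PrimeSpectrum R := ⟨q.asIdeal.comap (algebraMap R A), inferInstance⟩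
      let α : A →+* p.asIdeal.ResidueField ⊗[R] A := Algebra.TensorProduct.includeRight.toRingHom
      let g₀ : p.asIdeal.ResidueField →ₐ[R] q.asIdeal.ResidueField :=
        Ideal.ResidueField.mapₐ p.asIdeal q.asIdeal (Algebra.ofId R A) rfl
      let β : p.asIdeal.ResidueField ⊗[R] A →+* q.asIdeal.ResidueField :=
        (Algebra.TensorProduct.lift g₀ (IsScalarTower.toAlgHom R A q.asIdeal.ResidueField)
          fun _ _ => Commute.all _ _).toRingHom
      have hβ : ∀ x : A, β (α x) = algebraMap A q.asIdeal.ResidueField x := fun x => by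
        simp [β, α, Algebra.TensorProduct.lift_tmul]
      let N := (ModuleCat.restrictScalars β).obj (ModuleCat.of q.asIdeal.ResidueField q.asIdeal.ResidueField)
      obtain ⟨-, c, c', hc⟩ := (DRingPerfect.isPerfect_iff _).1 (hfib p)
      obtain ⟨e'⟩ := DRingLBase.nonempty_lbase_iso α hFk
      have hkf : DRingLTensor.IsKF ((DTen.extCx α).obj F) := DRingTor.isKF_of_flat
        (fun j => haveI := (hF j).2; DRingLBase.flat_extendScalars α (F.X j))
        fun j hj => (ModuleCat.extendScalars.{u, u, u} α).map_isZero (hb j hj)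
      have hv := (DRingTor.iff_van hkf
        (e'.symm ≪≫ (DRing.LBaseChange α).mapIso e)).1 hc
      refine ⟨c, fun i hi => ?_⟩
      have h₁ := hv N i (Or.inl hi)
      have h₂ : (((ModuleCat.extendScalars α ⋙ tensorRight N ⋙
          ModuleCat.restrictScalars α).mapHomologicalComplex (ComplexShape.up ℤ)).obj F).ExactAt i :=
        h₁.map (ModuleCat.restrictScalars α)
      let eN : (ModuleCat.restrictScalars α).obj N ≅ ModuleCat.of A q.asIdeal.ResidueField :=
        LinearEquiv.toModuleIso (X₁ := ((ModuleCat.restrictScalars α).obj N : Type u))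
          (m₁ := ((ModuleCat.restrictScalars α).obj N).isModule) (X₂ := q.asIdeal.ResidueField)
          { AddEquiv.refl q.asIdeal.ResidueField with
            map_smul' := fun r (x : q.asIdeal.ResidueField) => by
              show β (α r) * x = r • x
              rw [hβ, Algebra.smul_def] }
      have iso : ModuleCat.extendScalars α ⋙ tensorRight N ⋙ ModuleCat.restrictScalars α ≅
          tensorRight (ModuleCat.of A q.asIdeal.ResidueField) :=
        Functor.isoWhiskerLeft (ModuleCat.extendScalars α)
            (Functor.isoWhiskerRight (BraidedCategory.tensorLeftIsoTensorRight N).symm _) ≪≫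
          ((KFlatLib.extTIso α).app N) ≪≫ BraidedCategory.tensorLeftIsoTensorRight _ ≪≫
          (tensoringRight (ModuleCat.{u} A)).mapIso eN
      exact ((DRingRightExact.exactAt_iso_map iso F i h₂)).of_iso
        ((DRingLTensor.tensC (ModuleCat.of A q.asIdeal.ResidueField)).mapIso idF.symm)
  exact (DRingPerfect.isPerfect_iff K).2 ⟨hK, c, c', DRingTor.of_iso idK hamp⟩

end Groth.Agent.KFlatLib
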