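import Groth.Agent.KFlatLib.Ring.ShriekVia
import Groth.Agent.KFlatLib.Ring.DualizingExt
import Groth.Agent.SmoothDim.Basic

/-!
# Normalization of the shriek of a normalized dualizing complex
-/

set_option linter.style.haveILetI false
set_option backward.isDefEq.respectTransparency false

universe u

open CategoryTheory CategoryTheory.Limits MonoidalCategory

attribute [local instance] HasDerivedCategory.standard

namespace Groth.Agent.KFlatLib

/-- A dualizing complex base changed to a polynomial ring. -/
theorem isDualizing_LBase_mvPolynomial {R : Type u} [CommRing R] (n : ℕ)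
    [DTen.HasLBase (algebraMap R (MvPolynomial (Fin n) R))] {ω : Dual.D R} (hω : Dual.IsDualizing R ω) :
    Dual.IsDualizing (MvPolynomial (Fin n) R) ((DTen.LBase (algebraMap R (MvPolynomial (Fin n) R))).obj ω) := by
  haveI := hω.isNoetherianRing
  refine isDualizing_LBase_of_gorenstein_fibres hω
    (ringKrullDim_lt_top_of_finiteType (ringKrullDim_lt_top_of_isDualizing hω))
    fun q => LC.fibLoc_of_fiber q.asIdeal fun p _ => ?_
  haveI := LC.gorensteinRing_of_isRegularRing p.ResidueField
  haveI := LC.gorensteinRing_mvPolynomial_fin p.ResidueField n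
  exact LC.gorensteinRing_of_ringEquiv
    (MvPolynomial.algebraTensorAlgEquiv (σ := Fin n) R p.ResidueField).toRingEquiv.symm inferInstance

variable {R : Type u} [CommRing R] [IsLocalRing R] {n : ℕ}
  [DTen.HasLBase (algebraMap R (MvPolynomial (Fin n) R))] {ω : Dual.D R}

/-- At a maximal ideal over the closed point the degree of a normalized complex goes up by the number of variables. -/
theorem subsingleton_hom_maximal_mvPolynomial (hω : Dual.IsDualizing R ω) (hn : Dual.IsNormalized R ω)
    (Q : Ideal (MvPolynomial (Fin n) R)) [Q.IsMaximal]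
    (hQ : Q.comap (algebraMap R (MvPolynomial (Fin n) R)) = IsLocalRing.maximalIdeal R) (i : ℤ) (hi : i ≠ n) :
    Subsingleton (Dual.inD (MvPolynomial (Fin n) R) (MvPolynomial (Fin n) R ⧸ Q) ⟶
      ((DTen.LBase (algebraMap R (MvPolynomial (Fin n) R))).obj ω)⟦i⟧) := by
  haveI := hω.isNoetherianRing
  let P := MvPolynomial (Fin n) R
  let W := (DTen.LBase (algebraMap R P)).obj ω
  let k := IsLocalRing.ResidueField R
  let π : P →+* MvPolynomial (Fin n) k := MvPolynomial.map (IsLocalRing.residue R)
  have hπ : Function.Surjective π := MvPolynomial.map_surjective _ IsLocalRing.residue_surjective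
  have hker : RingHom.ker π = (IsLocalRing.maximalIdeal R).map (algebraMap R P) := by
    rw [MvPolynomial.ker_map, IsLocalRing.ker_residue]
    rfl
  have hWd : Dual.IsDualizing P W := isDualizing_LBase_mvPolynomial n hω
  obtain ⟨δ, hδ, hcov, hmono, -⟩ := exists_extDegree hWd
  let p₀ : PrimeSpectrum P := ⟨RingHom.ker π, RingHom.ker_isPrime π⟩
  let q : PrimeSpectrum P := ⟨Q, inferInstance⟩
  haveI := p₀.isPrime
  have h0 : δ p₀ = 0 := by
    by_contra hne
    haveI := (hδ p₀ _).2 rfl
    obtain ⟨a, b, -, _, _⟩ := exists_bounds_of_isDualizing hω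
    obtain ⟨eI⟩ := nonempty_LBase_inD_quotient (B := P) (IsLocalRing.maximalIdeal R)
    obtain ⟨eh⟩ := exists_homBaseChangeLEquiv (B := P) (X := Dual.inD R (R ⧸ IsLocalRing.maximalIdeal R))
      (Y := ω) ((Groth.Agent.S6942.result R 0 ω (R ⧸ IsLocalRing.maximalIdeal R)).2.2 inferInstance) a (δ p₀)
    haveI : Subsingleton (Dual.inD R (R ⧸ IsLocalRing.maximalIdeal R) ⟶ ω⟦δ p₀⟧) := hn _ hne
    haveI := eh.injective.subsingleton
    rw [← hker] at eI
    haveI : Subsingleton (Dual.inD P (P ⧸ p₀.asIdeal) ⟶ W⟦δ p₀⟧) := eI.homFromEquiv.symm.subsingleton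
    exact not_subsingleton _ (LocalizedModule.subsingleton_iff.2 fun f => ⟨1, one_mem _, Subsingleton.elim _ _⟩ :
      Subsingleton (LocalizedModule p₀.asIdeal.primeCompl (Dual.inD P (P ⧸ p₀.asIdeal) ⟶ W⟦δ p₀⟧)))
  have hp₀q : p₀ ≤ q := by
    change RingHom.ker π ≤ Q
    rw [hker, Ideal.map_le_iff_le_comap, hQ]
  have hq : δ q = n := by
    refine le_antisymm ?_ ?_
    · obtain ⟨l, hl1, hl2, hl3⟩ := exists_chain_of_le hcov _ q rfl p₀ hp₀q
      let s : LTSeries (PrimeSpectrum.zeroLocus (R := P) (p₀.asIdeal : Set P)) :=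
        { length := l.length
          toFun := fun j => ⟨l j, show p₀.asIdeal ≤ (l j).asIdeal from hl1.trans (l.monotone (Fin.zero_le j))⟩
          step := fun j => l.step j }
      have h1 : (s.length : WithBot ℕ∞) ≤ (n : ℕ) := by
        refine le_trans (Order.LTSeries.length_le_krullDim s) (le_of_eq ?_)
        rw [← ringKrullDim_quotient, ringKrullDim_eq_of_ringEquiv (RingHom.quotientKerEquivOfSurjective hπ),
          MvPolynomial.ringKrullDim_of_isNoetherianRing, ringKrullDim_eq_zero_of_field]
        simp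
      have h2 : l.length ≤ n := by exact_mod_cast h1
      omega
    · haveI : (Q.map π).IsMaximal := Ideal.IsMaximal.map_of_surjective_of_ker_le hπ hp₀q
      let qb : PrimeSpectrum (MvPolynomial (Fin n) k) := ⟨Q.map π, inferInstance⟩
      obtain ⟨l, hl1, hl2⟩ := Order.exists_series_of_height_eq_coe qb
        (SmoothDim.height_maximal_mvPolynomial k n qb inferInstance)
      let c := PrimeSpectrum.comap π
      have hc : StrictMono c := fun a b h => lt_of_le_of_ne (Ideal.comap_mono h.le) fun e =>
        h.ne (PrimeSpectrum.comap_injective_of_surjective π hπ e)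
      have hcq : c qb = q := PrimeSpectrum.ext
        ((Ideal.comap_map_of_surjective π hπ Q).trans (sup_eq_left.2 hp₀q))
      have h1 : ∀ j : ℕ, ∀ hj : j < l.length + 1, δ p₀ + j ≤ δ (c (l ⟨j, hj⟩)) := by
        intro j
        induction j with
        | zero =>
          intro hj
          have := hmono.monotone (show p₀ ≤ c (l ⟨0, hj⟩) from Ideal.comap_mono bot_le)
          simpa using this
        | succ j ih =>
          intro hj
          have h2 := ih (by omega)
          have h3 := hmono (hc (l.step ⟨j, by omega⟩))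
          simp only [Fin.castSucc_mk, Fin.succ_mk] at h3
          push_cast
          omega
      have h2 := h1 l.length (by omega)
      rw [show l ⟨l.length, _⟩ = qb from hl1, hcq, hl2] at h2
      omega
  haveI : Subsingleton (LocalizedModule Q.primeCompl (Dual.inD P (P ⧸ Q) ⟶ W⟦i⟧)) :=
    not_nontrivial_iff_subsingleton.1 fun h => hi (((hδ q i).1 h).trans hq)
  refine subsingleton_of_forall_eq 0 fun f => ?_
  obtain ⟨r, hr, hrf⟩ := (LocalizedModule.subsingleton_iff (S := Q.primeCompl)).1 inferInstance f
  obtain ⟨y, z, hz, hyz⟩ := Ideal.IsMaximal.exists_inv (I := Q) inferInstance (show r ∉ Q from hr)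
  have hzf : z • f = 0 := smul_hom_inD_eq_zero (fun x => by
    obtain ⟨c, rfl⟩ := Ideal.Quotient.mk_surjective x
    exact Ideal.Quotient.eq_zero_iff_mem.2 (Q.mul_mem_right c hz)) f
  calc f = (y * r + z) • f := by rw [hyz, one_smul]
    _ = 0 := by rw [add_smul, mul_smul, hrf, smul_zero, hzf, add_zero]

/-- The shriek of a normalized dualizing complex is normalized at closed points of the closed fibre. -/
theorem subsingleton_hom_maximal_shriekVia {A : Type u} [CommRing A] [IsNoetherianRing A]
    [Algebra (MvPolynomial (Fin n) R) A] (hψ : Function.Surjective (algebraMap (MvPolynomial (Fin n) R) A))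
    {Rψ : Dual.D (MvPolynomial (Fin n) R) ⥤ Dual.D A}
    (a : DRing.restrictD (algebraMap (MvPolynomial (Fin n) R) A) ⊣ Rψ)
    (hω : Dual.IsDualizing R ω) (hn : Dual.IsNormalized R ω) (m : Ideal A) [m.IsMaximal]
    (hm : (m.comap (algebraMap (MvPolynomial (Fin n) R) A)).comap (algebraMap R (MvPolynomial (Fin n) R)) =
      IsLocalRing.maximalIdeal R) (i : ℤ) (hi : i ≠ 0) :
    Subsingleton (Dual.inD A (A ⧸ m) ⟶
      ((Rψ.obj ((DTen.LBase (algebraMap R (MvPolynomial (Fin n) R))).obj ω))⟦(n : ℤ)⟧)⟦i⟧) := by
  haveI := hω.isNoetherianRing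
  let P := MvPolynomial (Fin n) R
  haveI := hasLTen P
  haveI := hasRHom (A := P)
  let Q := m.comap (algebraMap P A)
  haveI : Q.IsMaximal := Ideal.comap_isMaximal_of_surjective (algebraMap P A) hψ
  haveI : Module.Finite P A := Module.Finite.of_surjective (Algebra.linearMap P A) hψ
  have hWd := isDualizing_LBase_mvPolynomial n hω
  obtain ⟨c, hcvan, ⟨hcd⟩⟩ := exists_unique_ext_point Q hWd
  have hc : c = n := by
    by_contra hne
    haveI := subsingleton_hom_maximal_mvPolynomial hω hn Q hm c hne
    haveI : Subsingleton (P ⧸ Q) := hcd.symm.injective.subsingleton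
    exact not_subsingleton (P ⧸ Q) inferInstance
  haveI := (exists_shriek_ext_point Rψ a hWd m Q rfl hcvan ⟨hcd⟩).1 ((n : ℤ) + i) (by omega)
  exact ((shiftFunctorAdd (Dual.D A) (n : ℤ) i).app _).homToEquiv.symm.subsingleton

end Groth.Agent.KFlatLib
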