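import Groth.Agent.KFlatLib.Ring.Dualizing
import Groth.Agent.H9Misc.DRingInjAmp
import Groth.Agent.H9Misc.DRingPerfect

/-!
# Duality exchanges finite tor dimension and finite injective dimension
-/

set_option linter.style.haveILetI false
set_option backward.isDefEq.respectTransparency false

universe u

open CategoryTheory CategoryTheory.Limits Pretriangulated DerivedCategory.TStructure

attribute [local instance] HasDerivedCategory.standard

namespace Groth.Agent.KFlatLib

variable {A : Type u} [CommRing A]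

/-- Maps out of a K-projective complex come from maps of complexes. -/
lemma exists_Q_map_proj {P K : DRing.Cx A} (hP : P.IsKProjective)
    (φ : DerivedCategory.Q.obj P ⟶ DerivedCategory.Q.obj K) :
    ∃ g : P ⟶ K, DerivedCategory.Q.map g = φ := by
  obtain ⟨g, hg⟩ := (CochainComplex.IsKProjective.Qh_map_bijective P
      ((HomotopyCategory.quotient _ _).obj K)).2
    ((DerivedCategory.quotientCompQhIso _).hom.app _ ≫ φ ≫
      (DerivedCategory.quotientCompQhIso _).inv.app K)
  obtain ⟨f, rfl⟩ := (HomotopyCategory.quotient _ _).map_surjective g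
  refine ⟨f, ?_⟩
  have h := (DerivedCategory.quotientCompQhIso (ModuleCat.{u} A)).hom.naturality f
  rw [← cancel_epi ((DerivedCategory.quotientCompQhIso (ModuleCat.{u} A)).hom.app _), ← h]
  refine (congrArg (· ≫ _) hg).trans ?_
  simp

/-- Bounded below projective complexes do not map to objects in lower degrees. -/
lemma eq_zero_of_projective_bounded {P : DRing.Cx A} {c d : ℤ} (hz : DRing.VanishesOutside P c d)
    (hP : ∀ i, Module.Projective A (P.X i)) {Y : Dual.D A} (m : ℤ) (hm : m < c) [Y.IsLE m]
    (φ : DerivedCategory.Q.obj P ⟶ Y) : φ = 0 := by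
  obtain ⟨K, hK, ⟨eK⟩⟩ := DerivedCategory.exists_iso_Q_obj_of_isLE Y m
  obtain ⟨g, hg⟩ := exists_Q_map_proj
    (H9Misc.DRingProjAmp.isKProjective hP fun i hi => hz i (Or.inr hi)) (φ ≫ eK.hom)
  have hg0 : g = 0 := HomologicalComplex.hom_ext _ _ fun i => by
    by_cases hi : i < c
    · exact (hz i (Or.inl hi)).eq_of_src _ _
    · exact (K.isZero_of_isStrictlyLE m i (by omega)).eq_of_tgt _ _
  rw [hg0, Functor.map_zero] at hg
  exact (cancel_mono eK.hom).1 (hg.symm.trans zero_comp.symm)

/-- A projection which dies in the derived category splits. -/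
lemma projective_opcycles_of_map_eq_zero {F : DRing.Cx A} (hF : F.IsKProjective) (a : ℤ)
    (hproj : Module.Projective A (F.X (a + 1)))
    (h : ∀ φ : DerivedCategory.Q.obj F ⟶
      (DerivedCategory.singleFunctor (ModuleCat.{u} A) a).obj (F.opcycles a), φ = 0) :
    Module.Projective A (F.opcycles a) := by
  let g : F ⟶ (CochainComplex.singleFunctor (ModuleCat.{u} A) a).obj (F.opcycles a) :=
    HomologicalComplex.mkHomToSingle (F.pOpcycles a) fun i _ => F.d_pOpcycles i a
  have hzero : DerivedCategory.Q.map g = 0 := by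
    have := h (DerivedCategory.Q.map g ≫
      ((DerivedCategory.singleFunctorIsoCompQ (ModuleCat.{u} A) a).app (F.opcycles a)).inv)
    exact (cancel_mono ((DerivedCategory.singleFunctorIsoCompQ (ModuleCat.{u} A) a).app
      (F.opcycles a)).inv).1 (this.trans zero_comp.symm)
  let q := DerivedCategory.quotientCompQhIso (ModuleCat.{u} A)
  have hg : (HomotopyCategory.quotient _ _).map g = 0 := by
    refine (CochainComplex.IsKProjective.Qh_map_bijective F _).1 ?_
    rw [Functor.map_zero, ← cancel_mono (q.hom.app _), zero_comp]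
    exact (q.hom.naturality g).trans (by rw [hzero, comp_zero])
  let H : Homotopy g 0 := HomotopyCategory.homotopyOfEq _ _ (hg.trans (Functor.map_zero _ _ _).symm)
  have hc := H.comm a
  rw [dNext_eq _ (show (ComplexShape.up ℤ).Rel a (a + 1) from rfl),
    prevD_eq _ (show (ComplexShape.up ℤ).Rel (a - 1) a from sub_add_cancel a 1)] at hc
  simp only [HomologicalComplex.zero_f, add_zero] at hc
  have hd : ((CochainComplex.singleFunctor (ModuleCat.{u} A) a).obj (F.opcycles a)).d (a - 1) a = 0 :=
    (HomologicalComplex.isZero_single_obj_X (ComplexShape.up ℤ) a _ (a - 1) (by omega)).eq_of_src _ _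
  rw [hd, comp_zero, add_zero] at hc
  let eX := HomologicalComplex.singleObjXSelf (ComplexShape.up ℤ) a (F.opcycles a)
  have hgf : g.f a = F.pOpcycles a ≫ eX.inv := HomologicalComplex.mkHomToSingle_f _ _
  have hsplit : F.fromOpcycles a (a + 1) ≫ (H.hom (a + 1) a ≫ eX.hom) = 𝟙 _ := by
    rw [← cancel_epi (F.pOpcycles a), HomologicalComplex.p_fromOpcycles_assoc, ← Category.assoc,
      ← hc, hgf, Category.assoc, Category.comp_id]
    exact (congrArg (F.pOpcycles a ≫ ·) eX.inv_hom_id).trans (Category.comp_id _)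
  haveI := hproj
  exact Module.Projective.of_split (F.fromOpcycles a (a + 1)).hom (H.hom (a + 1) a ≫ eX.hom).hom
    (congrArg ModuleCat.Hom.hom hsplit)

/-- Truncation of a flat complex at a flat cokernel. -/
lemma hasTorAmplitudeIn_of_flat_opcycles {F : DRing.Cx A} {a b : ℤ} (hflat : DRing.TermwiseFlat F)
    (hb : DRing.VanishesAbove F b) (hGE : F.IsGE a) (hop : Module.Flat A (F.opcycles a))
    {K : Dual.D A} (e : DerivedCategory.Q.obj F ≅ K) : DRing.HasTorAmplitudeIn A a b K := by
  refine ⟨F.truncGE a, fun i hi => ?_, fun i => ?_,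
    ⟨(asIso (DerivedCategory.Q.map (F.πTruncGE a))).symm ≪≫ e⟩⟩
  · rcases lt_or_ge i a with hia | hia
    · exact CochainComplex.isZero_of_isStrictlyGE _ a i hia
    rcases eq_or_lt_of_le hia with rfl | hlt
    · exact IsZero.of_iso (IsZero.of_epi (F.pOpcycles a) (hb _ (hi.resolve_left (by omega))))
        (F.truncGEXIsoOpcycles a)
    · exact (hb _ (hi.resolve_left (by omega))).of_iso (F.truncGEXIso a i hlt)
  · rcases lt_trichotomy i a with hia | rfl | hia
    · haveI := ModuleCat.subsingleton_of_isZero (CochainComplex.isZero_of_isStrictlyGE (F.truncGE a) a i hia)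
      infer_instance
    · exact (Module.Flat.equiv_iff (F.truncGEXIsoOpcycles i).toLinearEquiv).2 hop
    · exact (Module.Flat.equiv_iff (F.truncGEXIso a i hia).toLinearEquiv).2 (hflat i)

/-- Vanishing of maps to modules placed in low degrees gives finite tor dimension. -/
theorem hasFiniteTorDimCx_of_hom_vanishing [IsNoetherianRing A] {K : Dual.D A} (c d : ℤ)
    [K.IsGE c] [K.IsLE d] (hK : ∀ i : ℤ, Module.Finite A (Dual.HD A K i)) (m : ℤ)
    (h : ∀ (C : ModuleCat.{u} A), Module.Finite A C → ∀ a : ℤ, a ≤ m →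
      ∀ φ : K ⟶ (DerivedCategory.singleFunctor (ModuleCat.{u} A) a).obj C, φ = 0) :
    DRing.HasFiniteTorDimCx A K := by
  haveI := hasLTen A
  haveI := hasRHom (A := A)
  obtain ⟨F, b, hb, hfree, ⟨e⟩⟩ := pc'_of_finite_hd K d hK
  let a := min m c
  have hflat : DRing.TermwiseFlat F := fun i => haveI := (hfree i).2; inferInstance
  haveI : F.IsGE a := (DerivedCategory.isGE_Q_obj_iff F a).1
    (by haveI := t.isGE_of_ge K a c (min_le_right _ _); exact t.isGE_of_iso e.symm a)
  haveI : Module.Finite A (F.opcycles a) := by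
    haveI := (hfree a).1
    exact Module.Finite.of_surjective (F.pOpcycles a).hom
      ((ModuleCat.epi_iff_surjective _).1 inferInstance)
  haveI : Module.Projective A (F.opcycles a) := by
    refine projective_opcycles_of_map_eq_zero (H9Misc.DRingProjAmp.isKProjective
      (fun i => haveI := (hfree i).2; inferInstance) fun i hi => hb i hi) a
      (haveI := (hfree (a + 1)).2; inferInstance) fun φ => ?_
    exact (cancel_epi e.inv).1
      ((h (F.opcycles a) inferInstance a (min_le_left _ _) (e.inv ≫ φ)).trans comp_zero.symm)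
  exact ⟨a, b, hasTorAmplitudeIn_of_flat_opcycles hflat hb inferInstance inferInstance e⟩

variable [DTen.HasLTen A] [DTen.HasRHom A] [DTen.HasLTen₃ A] [DTen.IsSymMonoidal A]

/-- Exchanging the two arguments of a map into an internal hom. -/
noncomputable def rhomSwapEquiv (X G M : Dual.D A) :
    (X ⟶ (DTen.RHomR A G).obj M) ≃ (G ⟶ (DTen.RHomR A X).obj M) :=
  (DTen.rhomHomEquiv X G M).symm.trans
    ((DTen.braiding G X).homFromEquiv.trans (DTen.rhomHomEquiv G X M))

/-- If the dual has finite injective dimension the object has finite tor dimension. -/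
theorem hasFiniteTorDimCx_of_dual [IsNoetherianRing A] {ω G : Dual.D A} (hω : Dual.IsDualizing A ω) (c d : ℤ) [G.IsGE c]
    [G.IsLE d] (hG : ∀ i : ℤ, Module.Finite A (Dual.HD A G i))
    (h : DRing.HasFiniteInjDim A ((DTen.RHomR A G).obj ω)) : DRing.HasFiniteTorDimCx A G := by
  obtain ⟨a, b, hab⟩ := finiteInjDim_of_isDualizing hω
  haveI := isGE_of_injAmplitude hab
  obtain ⟨a', b', hab'⟩ := h
  refine hasFiniteTorDimCx_of_hom_vanishing c d hG (a - b' - 1) fun C hC n hn φ => ?_
  let X := (DerivedCategory.singleFunctor (ModuleCat.{u} A) n).obj C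
  haveI : X.IsLE n := inferInstanceAs (DerivedCategory.IsLE
    ((DerivedCategory.singleFunctor (ModuleCat.{u} A) n).obj C) n)
  haveI : X.IsGE n := inferInstanceAs (DerivedCategory.IsGE
    ((DerivedCategory.singleFunctor (ModuleCat.{u} A) n).obj C) n)
  have hX : ∀ i : ℤ, Module.Finite A (Dual.HD A X i) := fun i => by
    rcases eq_or_ne i n with rfl | hi
    · haveI : Module.Finite A ((𝟭 (ModuleCat.{u} A)).obj C : ModuleCat.{u} A) := hC
      exact Module.Finite.equiv
        ((DerivedCategory.singleFunctorCompHomologyFunctorIso (ModuleCat.{u} A) i).app C).symm.toLinearEquiv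
    · haveI : Subsingleton (Dual.HD A X i) := ModuleCat.subsingleton_of_isZero (by
        rcases lt_or_gt_of_ne hi with hi | hi
        · exact DerivedCategory.isZero_of_isGE X n i hi
        · exact DerivedCategory.isZero_of_isLE X n i hi)
      exact Module.Finite.of_finite
  obtain ⟨eX⟩ := nonempty_biduality hω hX
  haveI := isGE_RHomR X ω n a
  haveI : Subsingleton ((DTen.RHomR A X).obj ω ⟶ (DTen.RHomR A G).obj ω) := ⟨fun φ ψ => by
    rw [eq_zero_of_injAmplitude (a - n) a' b' (by omega) hab' φ,
      eq_zero_of_injAmplitude (a - n) a' b' (by omega) hab' ψ]⟩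
  haveI : Subsingleton (G ⟶ X) :=
    ((eX.symm.homToEquiv).trans (rhomSwapEquiv _ G ω).symm).injective.subsingleton
  exact Subsingleton.elim (α := G ⟶ X) φ 0

/-- The dual of an object of finite tor dimension has finite injective dimension. -/
theorem hasFiniteInjDim_dual [IsNoetherianRing A] {ω G : Dual.D A} (hω : Dual.IsDualizing A ω) (d : ℤ) [G.IsLE d]
    (hG : ∀ i : ℤ, Module.Finite A (Dual.HD A G i)) (h : DRing.HasFiniteTorDimCx A G) :
    DRing.HasFiniteInjDim A ((DTen.RHomR A G).obj ω) := by
  obtain ⟨a, b, hab⟩ := finiteInjDim_of_isDualizing hω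
  haveI := isGE_of_injAmplitude hab
  obtain ⟨E, c, e, hz, hE, ⟨eE⟩⟩ :=
    (H9Misc.DRingPerfect.isPerfect_iff G).2 ⟨pc'_of_finite_hd G d hG, h⟩
  haveI : CochainComplex.IsStrictlyLE E e :=
    (CochainComplex.isStrictlyLE_iff _ _).2 fun i hi => hz i (Or.inr hi)
  haveI : G.IsLE e := t.isLE_of_iso eE e
  refine ⟨a - e, b - c, H9Misc.DRingInjAmp.hasInjAmplitudeIn_of_quotient _ fun I i hi => ?_⟩
  refine (H9Misc.DRingInjAmp.subsingleton_iff (ModuleCat.of A (A ⧸ I)) _ i).2 ?_
  let X := (DerivedCategory.singleFunctor (ModuleCat.{u} A) i).obj (ModuleCat.of A (A ⧸ I))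
  haveI : X.IsLE i := inferInstanceAs (DerivedCategory.IsLE
    ((DerivedCategory.singleFunctor (ModuleCat.{u} A) i).obj (ModuleCat.of A (A ⧸ I))) i)
  haveI : X.IsGE i := inferInstanceAs (DerivedCategory.IsGE
    ((DerivedCategory.singleFunctor (ModuleCat.{u} A) i).obj (ModuleCat.of A (A ⧸ I))) i)
  suffices Subsingleton (G ⟶ (DTen.RHomR A X).obj ω) from (rhomSwapEquiv X G ω).injective.subsingleton
  refine ⟨fun φ ψ => ?_⟩
  have key : ∀ φ : G ⟶ (DTen.RHomR A X).obj ω, φ = 0 := fun φ => by
    rcases hi with hi | hi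
    · haveI := isGE_RHomR X ω i a
      exact t.zero φ e (a - i) (by omega)
    · haveI := isLE_RHomR X ω i a b hab
      exact (cancel_epi eE.hom).1 ((eq_zero_of_projective_bounded hz (fun j => (hE j).2) (b - i)
        (by omega) (eE.hom ≫ φ)).trans comp_zero.symm)
  rw [key φ, key ψ]

end Groth.Agent.KFlatLib
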