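import Groth.Agent.KFlatLib.Ring.BaseChangeDepth

/-!
# Fibre depths of finite projective modules after a base change
-/

set_option autoImplicit false
set_option linter.style.haveILetI false

universe u

open TensorProduct IsLocalRing CategoryTheory

namespace Groth.Agent.KFlatLib

/-- Depth over the fibre ring and over the local ring agree. -/
theorem idealDepth_fibLocMod_eq {A B : Type u} [CommRing A] [CommRing B] [IsNoetherianRing B] [Algebra A B]
    (n : Ideal B) [n.IsPrime] (E : Type u) [AddCommGroup E] [Module B E] [Module.Finite B E] (I : Ideal B) :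
    LocCoh.idealDepth (I.map (algebraMap B (EGA4.FibLocRing A B n))) (EGA4.FibLocMod A B n E) =
      LocCoh.idealDepth (I.map (algebraMap B (Localization.AtPrime n))) (EGA4.FibLocMod A B n E) := by
  haveI : IsNoetherianRing (Localization.AtPrime n) := IsLocalization.isNoetherianRing n.primeCompl _ inferInstance
  haveI : Module.Finite (Localization.AtPrime n) (LocalizedModule n.primeCompl E) :=
    Module.Finite.of_isLocalizedModule n.primeCompl (LocalizedModule.mkLinearMap _ _)
  haveI : Module.Finite (EGA4.FibLocRing A B n) (EGA4.FibLocMod A B n E) :=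
    Module.Finite.of_restrictScalars_finite (Localization.AtPrime n) _ _
  rw [show algebraMap B (EGA4.FibLocRing A B n) =
      (algebraMap (Localization.AtPrime n) (EGA4.FibLocRing A B n)).comp (algebraMap B (Localization.AtPrime n))
    from rfl, ← Ideal.map_map]
  exact idealDepth_restrict _ _

variable {A B : Type u} [CommRing A] [CommRing B] [IsNoetherianRing A] [IsNoetherianRing B] [Algebra A B]
  (J : Ideal B) (k : ℕ)
variable (A' : Type u) {B' : Type u} [CommRing A'] [CommRing B'] [IsNoetherianRing B'] [Algebra A A'] [Algebra B B'] [Algebra A' B']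
  [Algebra A B'] [IsScalarTower A B B'] [IsScalarTower A A' B'] [Algebra.IsPushout A B A' B']
include A'

theorem le_idealDepth_baseChange (E : Type u) [AddCommGroup E] [Module B E] [Module A E] [IsScalarTower A B E]
    [Module.Finite B E] [Module.Flat A E]
    (h : ∀ q : PrimeSpectrum B, J ≤ q.asIdeal →
      (k : ℕ∞) ≤ LocCoh.idealDepth (q.asIdeal.map (algebraMap B (EGA4.FibLocRing A B q.asIdeal))) (EGA4.FibLocMod A B q.asIdeal E)) :
    (k : ℕ∞) ≤ LocCoh.idealDepth (J.map (algebraMap B B')) (B' ⊗[B] E) := by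
  rw [le_idealDepth_iff_H_restrict]
  intro i hi
  let e : (B' ⊗[B] E) ≃ₗ[B] (E ⊗[A] A') :=
    (TensorProduct.comm B B' E).trans ((TensorProduct.congr (LinearEquiv.refl B E)
      (Algebra.IsPushout.out (R := A) (S := B) (R' := A') (S' := B')).equiv.symm).trans
      (AlgebraTensorModule.cancelBaseChange A B B E A'))
  exact LC.subsingleton_H_of_equiv J e.symm i (subsingleton_H_tensor J E k h A' i hi)

variable [Module.Flat A B]

theorem le_idealDepth_baseChange_self
    (h : ∀ q : PrimeSpectrum B, J ≤ q.asIdeal →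
      (k : ℕ∞) ≤ LocCoh.idealDepth (q.asIdeal.map (algebraMap B (EGA4.FibLocRing A B q.asIdeal))) (EGA4.FibLocRing A B q.asIdeal)) :
    (k : ℕ∞) ≤ LocCoh.idealDepth (J.map (algebraMap B B')) B' := by
  have h' : ∀ q : PrimeSpectrum B, J ≤ q.asIdeal →
      (k : ℕ∞) ≤ LocCoh.idealDepth (q.asIdeal.map (algebraMap B (EGA4.FibLocRing A B q.asIdeal))) (EGA4.FibLocMod A B q.asIdeal B) := by
    intro q hq
    haveI := FlatLoc6.isLocalRing_fibLocRing (A := A) q.asIdeal
    have hk := h q hq
    rw [map_eq_maximalIdeal_fibLocRing q.asIdeal] at hk ⊢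
    rw [show LocCoh.idealDepth (maximalIdeal (EGA4.FibLocRing A B q.asIdeal))
        (EGA4.FibLocMod A B q.asIdeal B) = LocCoh.depth (EGA4.FibLocRing A B q.asIdeal) (EGA4.FibLocMod A B q.asIdeal B) from rfl,
      FlatLoc6.fibDepth_eq, FlatLoc6.fibDepth_self]
    exact hk
  rw [← LC.idealDepth_congr (J.map (algebraMap B B')) (AlgebraTensorModule.rid B B' B')]
  exact le_idealDepth_baseChange J k A' B h'

theorem le_idealDepth_fibre_baseChange
    (h : ∀ q : PrimeSpectrum B, J ≤ q.asIdeal →
      (k : ℕ∞) ≤ LocCoh.idealDepth (q.asIdeal.map (algebraMap B (EGA4.FibLocRing A B q.asIdeal))) (EGA4.FibLocRing A B q.asIdeal))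
    (p' : Ideal A') :
    (k : ℕ∞) ≤ LocCoh.idealDepth (J.map (algebraMap B B')) (B' ⧸ p'.map (algebraMap A' B')) := by
  rw [le_idealDepth_iff_H_restrict]
  intro i hi
  have h' : ∀ q : PrimeSpectrum B, J ≤ q.asIdeal →
      (k : ℕ∞) ≤ LocCoh.idealDepth (q.asIdeal.map (algebraMap B (EGA4.FibLocRing A B q.asIdeal))) (EGA4.FibLocMod A B q.asIdeal B) := by
    intro q hq
    haveI := FlatLoc6.isLocalRing_fibLocRing (A := A) q.asIdeal
    have hk := h q hq
    rw [map_eq_maximalIdeal_fibLocRing q.asIdeal] at hk ⊢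
    rw [show LocCoh.idealDepth (maximalIdeal (EGA4.FibLocRing A B q.asIdeal))
        (EGA4.FibLocMod A B q.asIdeal B) = LocCoh.depth (EGA4.FibLocRing A B q.asIdeal) (EGA4.FibLocMod A B q.asIdeal B) from rfl,
      FlatLoc6.fibDepth_eq, FlatLoc6.fibDepth_self]
    exact hk
  let e := (Algebra.IsPushout.out (R := A) (S := B) (R' := A') (S' := B')).equiv
  let π := FlatLoc6.tmap (B := B) B ((p'.mkQ).restrictScalars A)
  let P := (p'.map (algebraMap A' B')).restrictScalars B
  have he : ∀ b a, e (b ⊗ₜ[A] a) = b • algebraMap A' B' a := fun b a => IsBaseChange.equiv_tmul _ b a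
  have hker : Submodule.map e.toLinearMap (LinearMap.ker π) = P := by
    have hex : ∀ z, π z = 0 ↔ z ∈ Set.range ((p'.subtype.restrictScalars A).lTensor B) := fun z => by
      rw [FlatLoc6.tmap_apply]
      exact lTensor_exact B (f := p'.subtype.restrictScalars A) (g := p'.mkQ.restrictScalars A)
        (LinearMap.exact_subtype_mkQ p') (Submodule.mkQ_surjective p') z
    refine le_antisymm ?_ ?_
    · rintro _ ⟨z, hz, rfl⟩
      obtain ⟨w, rfl⟩ := (hex z).1 hz
      clear hz
      induction w using TensorProduct.induction_on with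
      | zero => rw [map_zero, map_zero]; exact zero_mem _
      | tmul b a =>
        show e (b ⊗ₜ[A] (a : A')) ∈ P
        rw [he, Algebra.smul_def]
        exact Ideal.mul_mem_left _ _ (Ideal.mem_map_of_mem _ a.2)
      | add x y hx hy => rw [map_add, map_add]; exact add_mem hx hy
    · intro x hx
      change x ∈ p'.map (algebraMap A' B') at hx
      have key : ∀ (v : B ⊗[A] A') (a : A'), a ∈ p' → e v * algebraMap A' B' a ∈ Submodule.map e.toLinearMap (LinearMap.ker π) := by
        intro v a ha
        induction v using TensorProduct.induction_on with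
        | zero => rw [map_zero, zero_mul]; exact zero_mem _
        | tmul b a' =>
          refine ⟨b ⊗ₜ[A] (a' * a), ?_, ?_⟩
          · exact (hex _).2 ⟨b ⊗ₜ[A] (⟨a' * a, p'.mul_mem_left a' ha⟩ : p'), rfl⟩
          · show e _ = _
            rw [he, he, map_mul, smul_mul_assoc]
        | add x y hx hy => rw [map_add, add_mul]; exact add_mem hx hy
      refine Submodule.span_induction (p := fun x _ => ∀ w : B', w * x ∈ Submodule.map e.toLinearMap (LinearMap.ker π))
        ?_ ?_ ?_ ?_ hx 1 |> fun h => by rwa [one_mul] at h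
      · rintro _ ⟨a, ha, rfl⟩ w
        obtain ⟨v, rfl⟩ := e.surjective w
        exact key v a ha
      · intro w; rw [mul_zero]; exact zero_mem _
      · intro x y _ _ hx hy w; rw [mul_add]; exact add_mem (hx w) (hy w)
      · intro r x _ hx w; rw [smul_eq_mul, ← mul_assoc]; exact hx _
  have hπ : Function.Surjective π := fun z => by
    obtain ⟨w, hw⟩ := LinearMap.lTensor_surjective B (g := p'.mkQ.restrictScalars A) (Submodule.mkQ_surjective p') z
    exact ⟨w, (FlatLoc6.tmap_apply _ _).trans hw⟩
  let E : (B ⊗[A] (A' ⧸ p')) ≃ₗ[B] (B' ⧸ P) :=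
    (π.quotKerEquivOfSurjective hπ).symm.trans (Submodule.Quotient.equiv _ _ e hker)
  exact LC.subsingleton_H_of_equiv J (E.trans (Submodule.Quotient.restrictScalarsEquiv B (p'.map (algebraMap A' B'))))
    i (subsingleton_H_tensor J B k h' (A' ⧸ p') i hi)

/-- Finite projective modules upstairs have deep fibres along the closed subset. -/
theorem le_idealDepth_fibLocMod_projective
    (h : ∀ q : PrimeSpectrum B, J ≤ q.asIdeal →
      (k : ℕ∞) ≤ LocCoh.idealDepth (q.asIdeal.map (algebraMap B (EGA4.FibLocRing A B q.asIdeal))) (EGA4.FibLocRing A B q.asIdeal))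
    (E : Type u) [AddCommGroup E] [Module B' E] [Module.Finite B' E] [Module.Projective B' E] (q : Ideal B') [q.IsPrime] :
    (k : ℕ∞) ≤ LocCoh.idealDepth ((J.map (algebraMap B B')).map (algebraMap B' (EGA4.FibLocRing A' B' q)))
      (EGA4.FibLocMod A' B' q E) := by
  rw [idealDepth_fibLocMod_eq]
  let p' := q.comap (algebraMap A' B')
  let P := p'.map (algebraMap A' B')
  have hbase := le_idealDepth_fibre_baseChange (B' := B') J k A' h p'
  have hE : (k : ℕ∞) ≤ LocCoh.idealDepth (J.map (algebraMap B B')) (E ⧸ (P • ⊤ : Submodule B' E)) := by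
    obtain ⟨n, π, hπ⟩ := Module.Finite.exists_fin' B' E
    obtain ⟨s, hs⟩ := Module.projective_lifting_property π LinearMap.id hπ
    let N := Fin n → B' ⧸ P
    let red : (Fin n → B') →ₗ[B'] N := LinearMap.pi fun i => P.mkQ ∘ₗ LinearMap.proj i
    have hi : (P • ⊤ : Submodule B' E) ≤ LinearMap.ker (red ∘ₗ s) := Submodule.smul_le.2 fun a ha x _ => by
      refine funext fun i => ?_
      show Submodule.Quotient.mk (p := P) (s (a • x) i) = 0
      rw [map_smul, Pi.smul_apply, smul_eq_mul]
      exact (Submodule.Quotient.mk_eq_zero _).2 (P.mul_mem_right _ ha)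
    let i : (E ⧸ (P • ⊤ : Submodule B' E)) →ₗ[B'] N := Submodule.liftQ _ (red ∘ₗ s) hi
    let col : Fin n → (B' ⧸ P) →ₗ[B'] (E ⧸ (P • ⊤ : Submodule B' E)) := fun j =>
      Submodule.liftQ P (LinearMap.toSpanSingleton B' _ (Submodule.Quotient.mk (π (Pi.single j 1)))) fun a ha => by
        rw [LinearMap.mem_ker, LinearMap.toSpanSingleton_apply, ← Submodule.Quotient.mk_smul]
        exact (Submodule.Quotient.mk_eq_zero _).2 (Submodule.smul_mem_smul ha trivial)
    let r : N →ₗ[B'] (E ⧸ (P • ⊤ : Submodule B' E)) := ∑ j, col j ∘ₗ LinearMap.proj j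
    refine le_idealDepth_of_retract _ i r (fun x => ?_) ?_
    · obtain ⟨x, rfl⟩ := Submodule.Quotient.mk_surjective _ x
      show r (red (s x)) = _
      simp only [r, LinearMap.sum_apply, LinearMap.comp_apply, LinearMap.proj_apply]
      show ∑ j, s x j • Submodule.Quotient.mk (π (Pi.single j 1)) = Submodule.Quotient.mk x
      have hx : π (s x) = x := LinearMap.congr_fun hs x
      conv_rhs => rw [← hx, pi_eq_sum_univ' (s x), map_sum]
      rw [← Submodule.mkQ_apply, map_sum]
      exact Finset.sum_congr rfl fun j _ => by rw [map_smul, map_smul]; rfl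
    · exact le_idealDepth_pi_module _ _ k hbase n
  refine hE.trans ((LC.idealDepth_le_idealDepth_map (J.map (algebraMap B B')) _ q).trans (le_of_eq ?_))
  haveI : IsNoetherianRing (Localization.AtPrime q) := IsLocalization.isNoetherianRing q.primeCompl _ inferInstance
  haveI : Module.Finite (Localization.AtPrime q) (LocalizedModule q.primeCompl (E ⧸ (P • ⊤ : Submodule B' E))) :=
    Module.Finite.of_isLocalizedModule q.primeCompl (LocalizedModule.mkLinearMap _ _)
  haveI : Module.Finite (Localization.AtPrime q) (LocalizedModule q.primeCompl E) :=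
    Module.Finite.of_isLocalizedModule q.primeCompl (LocalizedModule.mkLinearMap _ _)
  obtain ⟨e'⟩ := exists_localizedQuotSMul q.primeCompl P E
  exact LC.idealDepth_congr _ (e'.trans (Submodule.quotEquivOfEq _ _ (by
    rw [Ideal.map_map, ← IsScalarTower.algebraMap_eq])))

end Groth.Agent.KFlatLib
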