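import Groth.Agent.KFlatLib.Ring.BaseChangeFibre
import Groth.Agent.KFlatLib.Ring.FreeUpTo
import Mathlib.RingTheory.Flat.Localization

/-!
# Four-term sequences after a base change
-/

set_option autoImplicit false
set_option linter.style.haveILetI false

universe u

open TensorProduct IsLocalRing

namespace Groth.Agent.KFlatLib

/-- Pointwise fibre depths give the fibre depth along the closed subset at a prime. -/
theorem le_idealDepth_fibLocMod_of_le {A B : Type u} [CommRing A] [CommRing B] [IsNoetherianRing A]
    [IsNoetherianRing B] [Algebra A B] (J : Ideal B) (n : Ideal B) [n.IsPrime] (E : Type u) [AddCommGroup E]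
    [Module B E] [Module.Finite B E] (k : ℕ∞)
    (h : ∀ q : PrimeSpectrum B, J ≤ q.asIdeal → q.asIdeal ≤ n →
      k ≤ LocCoh.idealDepth (q.asIdeal.map (algebraMap B (EGA4.FibLocRing A B q.asIdeal))) (EGA4.FibLocMod A B q.asIdeal E)) :
    k ≤ LocCoh.idealDepth (J.map (algebraMap B (EGA4.FibLocRing A B n))) (EGA4.FibLocMod A B n E) := by
  let p := n.comap (algebraMap A B)
  haveI : n.LiesOver p := ⟨rfl⟩
  letI := Localization.AtPrime.algebraOfLiesOver p n
  haveI : IsNoetherianRing (Localization.AtPrime n) := IsLocalization.isNoetherianRing n.primeCompl _ inferInstance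
  haveI : Module.Finite (Localization.AtPrime n) (LocalizedModule n.primeCompl E) :=
    Module.Finite.of_isLocalizedModule n.primeCompl (LocalizedModule.mkLinearMap _ _)
  rw [idealDepth_fibLocMod_eq]
  refine le_of_le_of_eq (le_idealDepth_fibMod_atPrime J p n rfl E k h) ?_
  exact LC.idealDepth_congr _ (Submodule.quotEquivOfEq _ _ (fibMod_eq p n rfl E))

/-- Maps with a flat intermediate module up to a unit of the localization. -/
theorem flatAt_of_up_to {A B : Type u} [CommRing A] [CommRing B] [Algebra A B] {X P : Type u}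
    [AddCommGroup X] [Module B X] [Module A X] [IsScalarTower A B X]
    [AddCommGroup P] [Module B P] [Module A P] [IsScalarTower A B P] [Module.Flat A P]
    (q : Ideal B) [q.IsPrime] (i : X →ₗ[B] P) (r : P →ₗ[B] X) (c : B) (hc : c ∉ q) (h : ∀ x, r (i x) = c • x) :
    FlatCA.FlatAt A q X := by
  let S := q.primeCompl
  haveI : Module.Flat A (LocalizedModule S P) := flat_localized S P
  let i' := (LocalizedModule.map S i).restrictScalars A
  let r' := (LocalizedModule.map S r).restrictScalars A
  let d : LocalizedModule S X →ₗ[A] LocalizedModule S X :=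
    ((Localization.mk 1 (⟨c, hc⟩ : S)) • (LinearMap.id : LocalizedModule S X →ₗ[Localization S] LocalizedModule S X)).restrictScalars A
  refine Module.Flat.of_retract i' (d ∘ₗ r') (LinearMap.ext fun z => ?_)
  induction z using LocalizedModule.induction_on with
  | _ m s =>
    show Localization.mk 1 (⟨c, hc⟩ : S) • (LocalizedModule.map S r (LocalizedModule.map S i (LocalizedModule.mk m s))) = _
    rw [LocalizedModule.map_mk, LocalizedModule.map_mk, h, LocalizedModule.mk_smul_mk, one_smul]
    exact LocalizedModule.mk_cancel_common_left (⟨c, hc⟩ : S) s m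

/-- An exact sequence with free cokernel splits up to an element outside. -/
theorem exists_kernel_retraction {R : Type u} [CommRing R] [IsNoetherianRing R] {F E0 E1 G : Type u}
    [AddCommGroup F] [Module R F] [AddCommGroup E0] [Module R E0] [AddCommGroup E1] [Module R E1] [Module.Projective R E1]
    [AddCommGroup G] [Module R G] [Module.Finite R G]
    (f : F →ₗ[R] E0) (u : E0 →ₗ[R] E1) (v : E1 →ₗ[R] G)
    (hf : Function.Injective f) (hfu : Function.Exact f u) (huv : Function.Exact u v) (hv : Function.Surjective v)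
    (S : Submonoid R) [Module.Free (Localization S) (LocalizedModule S G)] :
    ∃ (c : R) (h0 : E1 →ₗ[R] E0) (p0 : E0 →ₗ[R] F), c ∈ S ∧ (∀ x, p0 (f x) = c • x) ∧
      ∀ x, f (p0 x) + h0 (u x) = c • x := by
  obtain ⟨r, c, α, β, hc, hβα, -⟩ := exists_free_up_to G S
  obtain ⟨σ, hσ⟩ := Module.projective_lifting_property v β hv
  let π1 : E1 →ₗ[R] LinearMap.range u := (c • LinearMap.id - (σ ∘ₗ α) ∘ₗ v : E1 →ₗ[R] E1).codRestrict _ fun x => by
    refine (huv _).1 ?_
    simp only [LinearMap.sub_apply, LinearMap.smul_apply, LinearMap.id_apply, map_sub, map_smul, LinearMap.comp_apply]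
    rw [show v (σ (α (v x))) = β (α (v x)) from LinearMap.congr_fun hσ _, hβα, sub_self]
  obtain ⟨h0, hh0⟩ := Module.projective_lifting_property u.rangeRestrict π1 u.surjective_rangeRestrict
  have hu : ∀ y, u (h0 y) = c • y - σ (α (v y)) := fun y => congrArg Subtype.val (LinearMap.congr_fun hh0 y)
  have hmem : ∀ x, ((c • LinearMap.id - h0 ∘ₗ u : E0 →ₗ[R] E0)) x ∈ LinearMap.range f := fun x => by
    refine (hfu _).1 ?_
    simp only [LinearMap.sub_apply, LinearMap.smul_apply, LinearMap.id_apply, map_sub, map_smul, LinearMap.comp_apply]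
    rw [hu, huv.apply_apply_eq_zero, map_zero, map_zero, sub_zero, sub_self]
  let ef := LinearEquiv.ofInjective f hf
  let p0 : E0 →ₗ[R] F := ef.symm.toLinearMap ∘ₗ (c • LinearMap.id - h0 ∘ₗ u : E0 →ₗ[R] E0).codRestrict _ hmem
  have hp : ∀ x, f (p0 x) = c • x - h0 (u x) := fun x => congrArg Subtype.val (ef.apply_symm_apply _)
  refine ⟨c, h0, p0, hc, fun x => hf ?_, fun x => by rw [hp, sub_add_cancel]⟩
  rw [hp, map_smul, hfu.apply_apply_eq_zero, map_zero, sub_zero]

end Groth.Agent.KFlatLib
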