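import Groth.Agent.KFlatLib.Ring.BaseChangePushout
import Groth.Agent.KFlatLib.Ring.BcRHomPerfect
import Groth.Agent.KFlatLib.Ring.ResLBase
import Groth.Agent.H9Misc.DRingRestrict

/-!
# Generators for base change, and base change of a right adjoint of restriction
-/

set_option linter.style.haveILetI false
set_option backward.isDefEq.respectTransparency false

universe u

open CategoryTheory CategoryTheory.Limits MonoidalCategory

attribute [local instance] HasDerivedCategory.standard

namespace Groth.Agent.KFlatLib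

variable {R A : Type u} [CommRing R] [CommRing A] (φ : R →+* A)

/-- Restriction of a flat module along a flat map is flat. -/
lemma flat_restrict (hφ : φ.Flat) :
    Module.Flat R ((ModuleCat.restrictScalars φ).obj (ModuleCat.of A A)) := by
  letI := φ.toAlgebra
  haveI : Module.Flat R A := hφ
  exact Module.Flat.of_linearEquiv (LinearEquiv.ofBijective
    ({ toFun := fun x => x
       map_add' := fun _ _ => rfl
       map_smul' := fun r (x : A) => (Algebra.smul_def r x).symm } :
      ((ModuleCat.restrictScalars φ).obj (ModuleCat.of A A) : Type u) →ₗ[R] A) Function.bijective_id)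

/-- The restriction of the ring in a single degree is K-flat for a flat map. -/
lemma termwiseFlat_resCx_single (hφ : φ.Flat) (k : ℤ) :
    DRing.TermwiseFlat ((DTen.resCx φ).obj
      ((HomologicalComplex.single (ModuleCat.{u} A) (ComplexShape.up ℤ) k).obj (ModuleCat.of A A))) := by
  intro i
  by_cases hi : i = k
  · subst hi
    haveI := flat_restrict φ hφ
    exact Module.Flat.of_linearEquiv (((ModuleCat.restrictScalars φ).mapIso
      (HomologicalComplex.singleObjXSelf (ComplexShape.up ℤ) i (ModuleCat.of A A))).toLinearEquiv)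
  · haveI : Subsingleton ↑(((DTen.resCx φ).obj
      ((HomologicalComplex.single (ModuleCat.{u} A) (ComplexShape.up ℤ) k).obj (ModuleCat.of A A))).X i) :=
      ModuleCat.subsingleton_of_isZero ((ModuleCat.restrictScalars φ).map_isZero
      (HomologicalComplex.isZero_single_obj_X (ComplexShape.up ℤ) k (ModuleCat.of A A) i hi))
    haveI := Module.Free.of_subsingleton R (((DTen.resCx φ).obj
      ((HomologicalComplex.single (ModuleCat.{u} A) (ComplexShape.up ℤ) k).obj (ModuleCat.of A A))).X i)
    exact Module.Flat.of_free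

lemma vanishesAbove_resCx_single (k : ℤ) :
    DRing.VanishesAbove ((DTen.resCx φ).obj
      ((HomologicalComplex.single (ModuleCat.{u} A) (ComplexShape.up ℤ) k).obj (ModuleCat.of A A))) k :=
  fun i hi => (ModuleCat.restrictScalars φ).map_isZero
    (HomologicalComplex.isZero_single_obj_X (ComplexShape.up ℤ) k (ModuleCat.of A A) i (by omega))

variable {R' : Type u} [CommRing R'] (ρ : R →+* R') [DTen.HasLBase ρ]

/-- A flat algebra is tor independent of everything. -/
lemma isIso_baseCmp_single_of_flat_left (hφ : φ.Flat) (k : ℤ) :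
    IsIso ((DTen.baseCmp ρ).app ((DTen.resCx φ).obj
      ((HomologicalComplex.single (ModuleCat.{u} A) (ComplexShape.up ℤ) k).obj (ModuleCat.of A A)))) :=
  isIso_baseCmp ρ (kFlat_of_termwiseFlat (termwiseFlat_resCx_single φ hφ k) (vanishesAbove_resCx_single φ k))

/-- Flat base change is computed termwise. -/
theorem isIso_baseCmp_of_flat (hρ : ρ.Flat) (K : DRing.Cx R) : IsIso ((DTen.baseCmp ρ).app K) := by
  haveI := ModuleCat.preservesFiniteLimits_extendScalars_of_flat hρ
  haveI : PreservesFiniteColimits (ModuleCat.extendScalars.{u, u, u} ρ) := by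
    haveI : (ModuleCat.extendScalars.{u, u, u} ρ).IsLeftAdjoint :=
      (ModuleCat.extendRestrictScalarsAdj ρ).isLeftAdjoint
    infer_instance
  let s := (ringCover R).ψ.app K
  haveI : QuasiIso s := (ringCover R).quasiIso_ψ K
  haveI : QuasiIso ((DTen.extCx ρ).map s) :=
    inferInstanceAs (QuasiIso (((ModuleCat.extendScalars.{u, u, u} ρ).mapHomologicalComplex
      (ComplexShape.up ℤ)).map s))
  haveI := isIso_baseCmp ρ (kFlat_ringRes (R := R) K)
  haveI : IsIso ((DTen.LBase ρ).map (DerivedCategory.Q.map s) ≫ (DTen.baseCmp ρ).app K) := by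
    have hn := (DTen.baseCmp ρ).naturality s
    simp only [Functor.comp_map] at hn
    erw [hn]
    infer_instance
  exact IsIso.of_isIso_comp_left ((DTen.LBase ρ).map (DerivedCategory.Q.map s)) _

omit [DTen.HasLBase ρ] in
/-- A flat algebra has tor amplitude `[0, 0]`. -/
lemma hasTorAmplitudeIn_resUnitCx (hρ : ρ.Flat) :
    DRing.HasTorAmplitudeIn R 0 0 (DerivedCategory.Q.obj (resUnitCx ρ)) := by
  haveI := flat_restrict ρ hρ
  refine ⟨resUnitCx ρ, fun i hi => HomologicalComplex.isZero_single_obj_X (ComplexShape.up ℤ) 0 _ i (by omega),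
    fun i => ?_, ⟨Iso.refl _⟩⟩
  by_cases hi : i = 0
  · subst hi
    exact Module.Flat.of_linearEquiv
      (HomologicalComplex.singleObjXSelf (ComplexShape.up ℤ) 0
        ((ModuleCat.restrictScalars ρ).obj (ModuleCat.of R' R'))).toLinearEquiv
  · haveI := ModuleCat.subsingleton_of_isZero
      (HomologicalComplex.isZero_single_obj_X (ComplexShape.up ℤ) 0
        ((ModuleCat.restrictScalars ρ).obj (ModuleCat.of R' R')) i hi)
    infer_instance

omit [DTen.HasLBase ρ] in
/-- A finite algebra over a Noetherian ring is pseudo-coherent. -/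
lemma isPseudoCoherent_res_unit [IsNoetherianRing R] (hφ : φ.Finite) :
    DRing.IsPseudoCoherent' R ((DRing.restrictD φ).obj (DTen.unit A)) := by
  letI := φ.toAlgebra
  haveI : Module.Finite R A := hφ
  let eA : ((ModuleCat.restrictScalars φ).obj (ModuleCat.of A A) : Type u) ≃ₗ[R] A :=
    LinearEquiv.ofBijective
      ({ toFun := fun x => x
         map_add' := fun _ _ => rfl
         map_smul' := fun p (x : A) => (Algebra.smul_def p x).symm } :
        ((ModuleCat.restrictScalars φ).obj (ModuleCat.of A A) : Type u) →ₗ[R] A) Function.bijective_id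
  exact H9Misc.DRingPC.of_iso'
    ((DerivedCategory.singleFunctor (ModuleCat.{u} R) 0).mapIso eA.toModuleIso.symm ≪≫
      (H9Misc.DRingRestrict.restrictInDIso φ (ModuleCat.of A A)).symm ≪≫
      (DRing.restrictD φ).mapIso ((DerivedCategory.singleFunctorIsoCompQ (ModuleCat.{u} A) 0).app (ModuleCat.of A A)))
    ((Groth.Agent.S6942.result R 0 (Dual.inD R A) A).2.2 inferInstance)

section Core

variable {A' : Type u} [CommRing A'] {φ : R →+* A} {ρ : R →+* R'} {α : A →+* A'} {φ' : R' →+* A'}
  (h : α.comp φ = φ'.comp ρ) [DTen.HasLBase ρ] [DTen.HasLBase α]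

/-- Base change of trivial duality out of a perfect algebra. -/
theorem nonempty_shriek_baseChange_of_perfect (hc : ∀ X, IsIso (cmpBC h X))
    {Rφ : Dual.D R ⥤ Dual.D A} (adj : DRing.restrictD φ ⊣ Rφ)
    {Rφ' : Dual.D R' ⥤ Dual.D A'} (adj' : DRing.restrictD φ' ⊣ Rφ')
    (hP : DRing.IsPerfect R ((DRing.restrictD φ).obj (DTen.unit A))) :
    Nonempty (Rφ ⋙ DTen.LBase α ≅ DTen.LBase ρ ⋙ Rφ') := by
  haveI := hasLTen R; haveI := hasLTen A; haveI := hasLTen R'; haveI := hasLTen A'
  haveI := hasRHom (A := R); haveI := hasRHom (A := R'); haveI := hasLBase φ; haveI := hasLBase φ'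
  haveI := hasResTen φ; haveI := resLegIso φ; haveI := hasResTen ρ; haveI := resLegIso ρ
  haveI := hasResTen α; haveI := resLegIso α; haveI := hasResTen φ'; haveI := resLegIso φ'
  haveI := hc
  let θ : ∀ K, (DTen.LBase α).obj (Rφ.obj K) ⟶ Rφ'.obj ((DTen.LBase ρ).obj K) := fun K =>
    adj'.homEquiv _ _ (inv (cmpBC h (Rφ.obj K)) ≫ (DTen.LBase ρ).map (adj.counit.app K))
  haveI : ∀ K, IsIso (θ K) := fun K => by
    haveI := isIso_rhomBC ρ ((DRing.restrictD φ).obj (DTen.unit A)) ((DTen.LBase ρ).obj K)
    exact (isIso_transpose_iff h adj adj' K).2 (isIso_bcRHom_of_isPerfect _ _ hP)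
  refine ⟨NatIso.ofComponents (fun K => asIso (θ K)) fun {K K'} f => ?_⟩
  simp only [Functor.comp_map, asIso_hom, θ]
  refine (adj'.homEquiv_naturality_left _ _).symm.trans (Eq.trans ?_ (adj'.homEquiv_naturality_right _ _))
  refine congrArg _ ?_
  have hn := cmpBC_natural h (Rφ.map f)
  rw [← cancel_epi (cmpBC h (Rφ.obj K)), reassoc_of% hn.symm]
  simp only [IsIso.hom_inv_id_assoc, Category.assoc]
  rw [← Functor.map_comp, ← Functor.map_comp]
  exact congrArg _ (adj.counit.naturality f)

/-- Base change of trivial duality out of a pseudo-coherent algebra, on bounded below objects. -/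
theorem nonempty_shriek_baseChange_of_pseudoCoherent (hc : ∀ X, IsIso (cmpBC h X))
    {Rφ : Dual.D R ⥤ Dual.D A} (adj : DRing.restrictD φ ⊣ Rφ)
    {Rφ' : Dual.D R' ⥤ Dual.D A'} (adj' : DRing.restrictD φ' ⊣ Rφ')
    (hP : DRing.IsPseudoCoherent' R ((DRing.restrictD φ).obj (DTen.unit A))) {a : ℤ}
    (hρ : DRing.HasTorAmplitudeIn R a 0 (DerivedCategory.Q.obj (resUnitCx ρ)))
    (K : Dual.D R) (n : ℤ) [K.IsGE n] :
    Nonempty ((DTen.LBase α).obj (Rφ.obj K) ≅ Rφ'.obj ((DTen.LBase ρ).obj K)) := by
  haveI := hasLTen R; haveI := hasLTen A; haveI := hasLTen R'; haveI := hasLTen A'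
  haveI := hasRHom (A := R); haveI := hasRHom (A := R'); haveI := hasLBase φ; haveI := hasLBase φ'
  haveI := hasResTen φ; haveI := resLegIso φ; haveI := hasResTen ρ; haveI := resLegIso ρ
  haveI := hasResTen α; haveI := resLegIso α; haveI := hasResTen φ'; haveI := resLegIso φ'
  haveI := hc
  haveI := isIso_rhomBC ρ ((DRing.restrictD φ).obj (DTen.unit A)) ((DTen.LBase ρ).obj K)
  exact ⟨@asIso _ _ _ _ _ ((isIso_transpose_iff h adj adj' K).2
    (isIso_bcRHom_of_pseudoCoherent hρ _ K hP n inferInstance))⟩

end Core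

end Groth.Agent.KFlatLib
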