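import Groth.Agent.KFlatLib.Ring.BaseChangeSquare
import Groth.Agent.KFlatLib.Scheme.Coproducts

/-!
# Base change along a pushout square
-/

set_option linter.style.haveILetI false
set_option backward.isDefEq.respectTransparency false

universe u

open CategoryTheory CategoryTheory.Limits Pretriangulated MonoidalCategory

open scoped TensorProduct

attribute [local instance] HasDerivedCategory.standard

namespace Groth.Agent.KFlatLib

/-- A natural transformation between functors preserving a coproduct which is invertible on the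
summands is invertible on the coproduct. -/
lemma isIso_app_sigma_colim {C D : Type*} [Category C] [Category D] {F G : C ⥤ D} (η : F ⟶ G) {J : Type u}
    (X : J → C) [HasCoproduct X] [PreservesColimit (Discrete.functor X) F]
    [PreservesColimit (Discrete.functor X) G] (h : ∀ j, IsIso (η.app (X j))) :
    IsIso (η.app (∐ X)) := by
  haveI : ∀ d : Discrete J, IsIso ((Functor.whiskerLeft (Discrete.functor X) η).app d) :=
    fun d => h d.as
  haveI := NatIso.isIso_of_isIso_app (Functor.whiskerLeft (Discrete.functor X) η)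
  let hF := isColimitOfPreserves F (coproductIsCoproduct X)
  let hG := isColimitOfPreserves G (coproductIsCoproduct X)
  let e := hF.coconePointsIsoOfNatIso hG (asIso (Functor.whiskerLeft (Discrete.functor X) η))
  have he : η.app (∐ X) = e.hom := hF.hom_ext fun d => by
    dsimp only [e]
    rw [IsColimit.comp_coconePointsIsoOfNatIso_hom]
    exact η.naturality _
  rw [he]
  infer_instance

variable {R A R' A' : Type u} [CommRing R] [CommRing A] [CommRing R'] [CommRing A']
  {φ : R →+* A} {ρ : R →+* R'} {α : A →+* A'} {φ' : R' →+* A'} (h : α.comp φ = φ'.comp ρ)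

/-- `M|_R ⊗_R R' ⟶ (M ⊗_A A')|_{R'}`. -/
noncomputable def sqMod (M : ModuleCat.{u} A) :
    (ModuleCat.extendScalars ρ).obj ((ModuleCat.restrictScalars φ).obj M) ⟶
      (ModuleCat.restrictScalars φ').obj ((ModuleCat.extendScalars α).obj M) :=
  ((ModuleCat.extendRestrictScalarsAdj.{u, u, u} ρ).homEquiv _ _).symm
    ((ModuleCat.restrictScalars φ).map ((ModuleCat.extendRestrictScalarsAdj.{u, u, u} α).unit.app M) ≫
      (TrivBC.resCommMod h).hom.app _)

lemma sqMod_natural {M M' : ModuleCat.{u} A} (f : M ⟶ M') :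
    (ModuleCat.extendScalars ρ).map ((ModuleCat.restrictScalars φ).map f) ≫ sqMod h M' =
      sqMod h M ≫ (ModuleCat.restrictScalars φ').map ((ModuleCat.extendScalars α).map f) := by
  dsimp only [sqMod]
  rw [← Adjunction.homEquiv_naturality_left_symm, ← Adjunction.homEquiv_naturality_right_symm]
  refine congrArg _ ?_
  have h₁ := (TrivBC.resCommMod h).hom.naturality ((ModuleCat.extendScalars α).map f)
  simp only [Functor.comp_map] at h₁
  rw [Category.assoc]
  erw [← h₁]
  rw [← Functor.map_comp_assoc, ← Functor.map_comp_assoc]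
  congr 2

lemma unit_sqMod (M : ModuleCat.{u} A) :
    (ModuleCat.extendRestrictScalarsAdj.{u, u, u} ρ).unit.app ((ModuleCat.restrictScalars φ).obj M) ≫
        (ModuleCat.restrictScalars ρ).map (sqMod h M) =
      (ModuleCat.restrictScalars φ).map ((ModuleCat.extendRestrictScalarsAdj.{u, u, u} α).unit.app M) ≫
        (TrivBC.resCommMod h).hom.app _ :=
  ((ModuleCat.extendRestrictScalarsAdj.{u, u, u} ρ).homEquiv_unit ..).symm.trans
    (Equiv.apply_symm_apply _ _)

/-- The termwise comparison. -/
noncomputable def sqCx (T : DRing.Cx A) :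
    (DTen.extCx ρ).obj ((DTen.resCx φ).obj T) ⟶ (DTen.resCx φ').obj ((DTen.extCx α).obj T) where
  f i := sqMod h (T.X i)
  comm' i j _ := (sqMod_natural h (T.d i j)).symm

lemma unit_sqCx (T : DRing.Cx A) :
    (DTen.unitCx ρ).app ((DTen.resCx φ).obj T) ≫ (DTen.resCx ρ).map (sqCx h T) =
      (DTen.resCx φ).map ((DTen.unitCx α).app T) ≫ (scCx h).hom.app ((DTen.extCx α).obj T) := by
  ext i : 1
  rw [HomologicalComplex.comp_f, HomologicalComplex.comp_f, scCx_f]
  exact unit_sqMod h (T.X i)

section Cmp

variable [DTen.HasLBase ρ] [DTen.HasLBase α]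

/-- The comparison is computed termwise. -/
lemma cmpBC_Q (T : DRing.Cx A) :
    cmpBC h (DerivedCategory.Q.obj T) ≫ (DRing.restrictD φ').map ((DTen.baseCmp α).app T) ≫
        (DTen.resFactors φ').hom.app ((DTen.extCx α).obj T) =
      (DTen.LBase ρ).map ((DTen.resFactors φ).hom.app T) ≫
        (DTen.baseCmp ρ).app ((DTen.resCx φ).obj T) ≫ DerivedCategory.Q.map (sqCx h T) := by
  have hb : ∀ {B B' : Type u} [CommRing B] [CommRing B'] (f : B →+* B') [DTen.HasLBase f] (K : DRing.Cx B),
      (DTen.baseAdj f).unit.app (DerivedCategory.Q.obj K) ≫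
        (DRing.restrictD f).map ((DTen.baseCmp f).app K) ≫
          (DTen.resFactors f).hom.app ((DTen.extCx f).obj K) =
        DerivedCategory.Q.map ((DTen.unitCx f).app K) := by
    intro B B' _ _ f _ K
    rw [← Category.assoc, DTen.baseCmp_fac]
    exact (Category.assoc _ _ _).trans ((congrArg (_ ≫ ·)
      ((DTen.resFactors f).inv_hom_id_app _)).trans (Category.comp_id _))
  refine ((DTen.baseAdj ρ).homEquiv _ _).injective ?_
  rw [(DTen.baseAdj ρ).homEquiv_unit, (DTen.baseAdj ρ).homEquiv_unit]
  refine (cancel_mono ((DTen.resFactors ρ).hom.app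
    ((DTen.resCx φ').obj ((DTen.extCx α).obj T)))).1 ?_
  simp only [Functor.map_comp, Category.assoc]
  -- the left hand side
  erw [reassoc_of% (unit_cmpBC h (DerivedCategory.Q.obj T))]
  have hσ := (TrivBC.resComm h).hom.naturality ((DTen.baseCmp α).app T)
  simp only [Functor.comp_map] at hσ
  erw [← reassoc_of% hσ]
  erw [resComm_fac h ((DTen.extCx α).obj T)]
  erw [← Functor.map_comp_assoc, ← Functor.map_comp_assoc]
  rw [Category.assoc]
  erw [hb α T]
  have hr := (DTen.resFactors φ).hom.naturality ((DTen.unitCx α).app T)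
  simp only [Functor.comp_map] at hr
  erw [reassoc_of% hr]
  rw [← Functor.map_comp, ← unit_sqCx h T, Functor.map_comp]
  -- the right hand side
  have hn := (DTen.baseAdj ρ).unit.naturality ((DTen.resFactors φ).hom.app T)
  simp only [Functor.id_map, Functor.comp_map] at hn
  erw [← reassoc_of% hn]
  have hr' := (DTen.resFactors ρ).hom.naturality (sqCx h T)
  simp only [Functor.comp_map] at hr'
  erw [hr']
  refine congrArg (_ ≫ ·) ?_
  erw [reassoc_of% (hb ρ ((DTen.resCx φ).obj T))]

/-- The comparison at a complex. -/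
lemma isIso_cmpBC_Q (T : DRing.Cx A) [IsIso ((DTen.baseCmp α).app T)]
    [IsIso ((DTen.baseCmp ρ).app ((DTen.resCx φ).obj T))] [IsIso (sqCx h T)] :
    IsIso (cmpBC h (DerivedCategory.Q.obj T)) := by
  haveI : IsIso (cmpBC h (DerivedCategory.Q.obj T) ≫
      (DRing.restrictD φ').map ((DTen.baseCmp α).app T) ≫
        (DTen.resFactors φ').hom.app ((DTen.extCx α).obj T)) := by
    rw [cmpBC_Q]
    infer_instance
  exact IsIso.of_isIso_comp_right _ ((DRing.restrictD φ').map ((DTen.baseCmp α).app T) ≫
    (DTen.resFactors φ').hom.app ((DTen.extCx α).obj T))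

omit [DTen.HasLBase ρ] [DTen.HasLBase α] in
/-- The termwise comparison in a single degree. -/
lemma isIso_sqCx_single (M : ModuleCat.{u} A) (k : ℤ) [hM : IsIso (sqMod h M)] :
    IsIso (sqCx h ((HomologicalComplex.single (ModuleCat.{u} A) (ComplexShape.up ℤ) k).obj M)) := by
  let T := (HomologicalComplex.single (ModuleCat.{u} A) (ComplexShape.up ℤ) k).obj M
  haveI : ∀ i, IsIso ((sqCx h T).f i) := fun i => by
    by_cases hi : i = k
    · subst hi
      let e := HomologicalComplex.singleObjXSelf (ComplexShape.up ℤ) i M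
      have hn := sqMod_natural h e.hom
      haveI : IsIso (sqMod h (T.X i) ≫
          (ModuleCat.restrictScalars φ').map ((ModuleCat.extendScalars α).map e.hom)) := by
        rw [← hn]
        infer_instance
      exact IsIso.of_isIso_comp_right (sqMod h (T.X i))
        ((ModuleCat.restrictScalars φ').map ((ModuleCat.extendScalars α).map e.hom))
    · have hz : IsZero (T.X i) := HomologicalComplex.isZero_single_obj_X (ComplexShape.up ℤ) k M i hi
      have h₁ := (ModuleCat.extendScalars ρ).map_isZero ((ModuleCat.restrictScalars φ).map_isZero hz)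
      have h₂ := (ModuleCat.restrictScalars φ').map_isZero ((ModuleCat.extendScalars α).map_isZero hz)
      exact ⟨⟨0, h₁.eq_of_src _ _, h₂.eq_of_src _ _⟩⟩
  exact HomologicalComplex.Hom.isIso_of_components (sqCx h T)

/-- The comparison is invertible if it is so on the ring. -/
theorem isIso_cmpBC [IsIso (sqMod h (ModuleCat.of A A))]
    (hgen : ∀ k : ℤ, IsIso ((DTen.baseCmp ρ).app ((DTen.resCx φ).obj
      ((HomologicalComplex.single (ModuleCat.{u} A) (ComplexShape.up ℤ) k).obj (ModuleCat.of A A)))))
    (X : Dual.D A) : IsIso (cmpBC h X) := by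
  let F := DRing.restrictD φ ⋙ DTen.LBase ρ
  let G := DTen.LBase α ⋙ DRing.restrictD φ'
  let η : F ⟶ G :=
    { app := fun X => cmpBC h X
      naturality := fun X X' f => cmpBC_natural h f }
  haveI : (DTen.LBase ρ).PreservesZeroMorphisms :=
    Functor.preservesZeroMorphisms_of_isLeftAdjoint _
  haveI : (DTen.LBase α).PreservesZeroMorphisms :=
    Functor.preservesZeroMorphisms_of_isLeftAdjoint _
  obtain ⟨Rφ, ⟨adj⟩⟩ := exists_shriek φ
  obtain ⟨Rφ', ⟨adj'⟩⟩ := exists_shriek φ'
  haveI := adj.isLeftAdjoint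
  haveI := adj'.isLeftAdjoint
  haveI : F.PreservesZeroMorphisms := by dsimp only [F]; infer_instance
  haveI : G.PreservesZeroMorphisms := by dsimp only [G]; infer_instance
  haveI := hasLTen R
  haveI := hasLTen A
  haveI := hasLTen R'
  haveI := hasLTen A'
  have hF : HomExact F := fun T hT Z ψ hψ => by
    obtain ⟨c, hc⟩ := exists_triangle_LBase ρ _ ((DRing.restrictD φ).map_distinguished T hT)
    exact homExact_id _ hc Z ψ hψ
  have hG : HomExact G := fun T hT Z ψ hψ => by
    obtain ⟨c, hc⟩ := exists_triangle_LBase α T hT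
    exact homExact_id _ ((DRing.restrictD φ').map_distinguished _ hc) Z ψ hψ
  let P : ObjectProperty (Dual.D A) := fun E => ∀ n : ℤ, IsIso (η.app (E⟦n⟧))
  haveI : P.IsClosedUnderIsomorphisms := ⟨fun e h n =>
    (NatTrans.isIso_app_iff_of_iso η ((shiftFunctor (Dual.D A) n).mapIso e)).1 (h n)⟩
  suffices hX : P X from
    (NatTrans.isIso_app_iff_of_iso η ((shiftFunctorZero (Dual.D A) ℤ).app X)).1 (hX 0)
  refine derived_induction P ?_ ?_ ?_ X
  · intro T hT h₁ h₂ n
    have hT' := rot_of_distTriang _ (Triangle.shift_distinguished T hT n)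
    refine isIso₂_of_homExact hF hG η _ hT' ?_ (h₂ n) ?_ ?_
    · refine (NatTrans.isIso_app_iff_of_iso η ?_).1 (h₁ n)
      exact ((shiftFunctorCompIsoId (Dual.D A) (1 : ℤ) (-1) (by omega)).app _).symm
    · refine (NatTrans.isIso_app_iff_of_iso η ?_).1 (h₁ (n + 1))
      exact (shiftFunctorAdd' (Dual.D A) n 1 (n + 1) rfl).app T.obj₁
    · refine (NatTrans.isIso_app_iff_of_iso η ?_).1 (h₂ (n + 1))
      exact (shiftFunctorAdd' (Dual.D A) n 1 (n + 1) rfl).app T.obj₂
  · intro J K hK n
    let K' := fun j => (K j)⟦n⟧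
    haveI := preservesColimit_Q K'
    haveI : HasColimitsOfShape (Discrete J) (Dual.D A) := TriCat.hasColimitsOfShape_derivedCategory
    haveI : IsIso (η.app (∐ fun j => DerivedCategory.Q.obj (K' j))) :=
      isIso_app_sigma_colim η _ fun j =>
        (NatTrans.isIso_app_iff_of_iso η ((DerivedCategory.Q.commShiftIso n).app (K j))).2 (hK j n)
    have hsig : IsIso (η.app (∐ fun j => DerivedCategory.Q.obj (K' j))) := inferInstance
    refine (NatTrans.isIso_app_iff_of_iso η ?_).1 hsig
    exact (PreservesCoproduct.iso DerivedCategory.Q K').symm ≪≫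
      DerivedCategory.Q.mapIso (PreservesCoproduct.iso (shiftFunctor (DRing.Cx A) n) K).symm ≪≫
        (DerivedCategory.Q.commShiftIso n).app (∐ K)
  · intro k n
    let T := (HomologicalComplex.single (ModuleCat.{u} A) (ComplexShape.up ℤ) (k - n)).obj (ModuleCat.of A A)
    haveI := isIso_baseCmp α (K := T) (kFlat_single (ModuleCat.of A A) (k - n) (flatObj_moduleCat _))
    haveI := hgen (k - n)
    haveI := isIso_sqCx_single h (ModuleCat.of A A) (k - n)
    refine (NatTrans.isIso_app_iff_of_iso η ?_).1 (isIso_cmpBC_Q h T)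
    exact DerivedCategory.Q.mapIso (((CochainComplex.singleFunctors (ModuleCat.{u} A)).shiftIso n (k - n) k
      (by omega)).app _).symm ≪≫ (DerivedCategory.Q.commShiftIso n).app _

/-- Base change of a complex is computed termwise if it is so after restriction to the base. -/
theorem isIso_baseCmp_of_cmpBC (T : DRing.Cx A) [IsIso (cmpBC h (DerivedCategory.Q.obj T))]
    [IsIso ((DTen.baseCmp ρ).app ((DTen.resCx φ).obj T))] [IsIso (sqCx h T)] :
    IsIso ((DTen.baseCmp α).app T) := by
  haveI : IsIso (cmpBC h (DerivedCategory.Q.obj T) ≫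
      (DRing.restrictD φ').map ((DTen.baseCmp α).app T) ≫
        (DTen.resFactors φ').hom.app ((DTen.extCx α).obj T)) := by
    rw [cmpBC_Q]
    infer_instance
  haveI := IsIso.of_isIso_comp_left (cmpBC h (DerivedCategory.Q.obj T))
    ((DRing.restrictD φ').map ((DTen.baseCmp α).app T) ≫
      (DTen.resFactors φ').hom.app ((DTen.extCx α).obj T))
  haveI := IsIso.of_isIso_comp_right ((DRing.restrictD φ').map ((DTen.baseCmp α).app T))
    ((DTen.resFactors φ').hom.app ((DTen.extCx α).obj T))
  exact isIso_of_isIso_restrictScalars φ' _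

end Cmp

section Pushout

/-- In a pushout square the module comparison is invertible. -/
theorem isIso_sqMod [i₁ : Algebra R A] [i₂ : Algebra R R'] [i₃ : Algebra A A'] [i₄ : Algebra R' A']
    [Algebra R A'] [IsScalarTower R A A'] [IsScalarTower R R' A'] [Algebra.IsPushout R R' A A']
    (e₁ : algebraMap R A = φ) (e₂ : algebraMap R R' = ρ) (e₃ : algebraMap A A' = α)
    (e₄ : algebraMap R' A' = φ') (M : ModuleCat.{u} A) : IsIso (sqMod h M) := by
  obtain rfl : i₁ = φ.toAlgebra := Algebra.algebra_ext _ _ fun r => RingHom.congr_fun e₁ r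
  obtain rfl : i₂ = ρ.toAlgebra := Algebra.algebra_ext _ _ fun r => RingHom.congr_fun e₂ r
  obtain rfl : i₃ = α.toAlgebra := Algebra.algebra_ext _ _ fun r => RingHom.congr_fun e₃ r
  obtain rfl : i₄ = φ'.toAlgebra := Algebra.algebra_ext _ _ fun r => RingHom.congr_fun e₄ r
  letI := φ.toAlgebra
  letI := ρ.toAlgebra
  letI := α.toAlgebra
  letI := φ'.toAlgebra
  letI : Module R M := Module.compHom M φ
  haveI : IsScalarTower R A M := IsScalarTower.of_algebraMap_smul fun _ _ => rfl
  let e := (Algebra.IsPushout.cancelBaseChange R R' A A' M).symm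
  have he : ∀ z : R' ⊗[R] M, (sqMod h M).hom z = e z := by
    intro z
    induction z using TensorProduct.induction_on with
    | zero => exact (map_zero _).trans (map_zero _).symm
    | add x y hx hy => exact (map_add _ _ _).trans ((congrArg₂ _ hx hy).trans (map_add _ _ _).symm)
    | tmul s m =>
      refine Eq.trans ?_ (Algebra.IsPushout.cancelBaseChange_symm_tmul R R' A A' M s m).symm
      change φ' s • ((1 : A') ⊗ₜ[A] m) = φ' s ⊗ₜ[A] m
      rw [TensorProduct.smul_tmul', smul_eq_mul, mul_one]
  rw [ConcreteCategory.isIso_iff_bijective]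
  exact (funext he : ((sqMod h M).hom : R' ⊗[R] M → A' ⊗[A] M) = ⇑e) ▸ e.bijective

end Pushout

end Groth.Agent.KFlatLib
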