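import Groth.Agent.KFlatLib.Ring.ProjPair
import Groth.Agent.KFlatLib.Ring.ShriekPerfect
import Groth.Prelude.Def_TrivBC

/-!
# Trivial duality and base change along a square of rings
-/

set_option linter.style.haveILetI false
set_option backward.isDefEq.respectTransparency false

universe u

open CategoryTheory CategoryTheory.Limits MonoidalCategory

attribute [local instance] HasDerivedCategory.standard

namespace Groth.Agent.KFlatLib

/-- Restriction along a ring map reflects isomorphisms. -/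
lemma isIso_of_isIso_restrictScalars {R A : Type u} [CommRing R] [CommRing A] (φ : R →+* A)
    {X Y : Dual.D A} (f : X ⟶ Y) [IsIso ((DRing.restrictD φ).map f)] : IsIso f := by
  haveI := hasLBase φ
  refine isIso_of_bijective_unit f fun j => ?_
  obtain ⟨i⟩ := nonempty_LBase_shift φ j
  obtain ⟨i'⟩ := nonempty_LBase_unit φ
  let e : (DTen.LBase φ).obj ((DTen.unit R)⟦j⟧) ≅ (DTen.unit A)⟦j⟧ :=
    i.app (DTen.unit R) ≪≫ (shiftFunctor (Dual.D A) j).mapIso i'
  let a : ∀ W : Dual.D A, ((DTen.unit A)⟦j⟧ ⟶ W) ≃ ((DTen.unit R)⟦j⟧ ⟶ (DRing.restrictD φ).obj W) :=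
    fun W => (Iso.homFromEquiv e.symm).trans ((DTen.baseAdj φ).homEquiv _ W)
  let b := (a X).trans ((Iso.homToEquiv (asIso ((DRing.restrictD φ).map f))).trans (a Y).symm)
  convert b.bijective using 1
  funext g
  refine ((a Y).eq_symm_apply).2 ?_
  simp only [a, Equiv.trans_apply, Iso.homFromEquiv_apply, Iso.homToEquiv_apply, asIso_hom]
  rw [← Category.assoc, (DTen.baseAdj φ).homEquiv_naturality_right]

variable {R A R' A' : Type u} [CommRing R] [CommRing A] [CommRing R'] [CommRing A']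
  {φ : R →+* A} {ρ : R →+* R'} {α : A →+* A'} {φ' : R' →+* A'} (h : α.comp φ = φ'.comp ρ)

/-- The two restrictions of complexes agree. -/
noncomputable def scCx : DTen.resCx α ⋙ DTen.resCx φ ≅ DTen.resCx φ' ⋙ DTen.resCx ρ :=
  Functor.mapHomologicalComplexCompIso (TrivBC.resCommMod h) (ComplexShape.up ℤ) ≪≫
    (Functor.mapHomologicalComplexCompIso
      (Iso.refl (ModuleCat.restrictScalars.{u} φ' ⋙ ModuleCat.restrictScalars.{u} ρ))
      (ComplexShape.up ℤ)).symm

lemma scCx_f (T : DRing.Cx A') (n : ℤ) :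
    ((scCx h).hom.app T).f n = (TrivBC.resCommMod h).hom.app (T.X n) := by
  simp [scCx, Functor.mapHomologicalComplexCompIso]
  rfl

/-- `resComm` is computed termwise. -/
lemma resComm_fac (T : DRing.Cx A') :
    (TrivBC.resComm h).hom.app (DerivedCategory.Q.obj T) ≫
        (DRing.restrictD ρ).map ((DTen.resFactors φ').hom.app T) ≫
          (DTen.resFactors ρ).hom.app ((DTen.resCx φ').obj T) =
      (DRing.restrictD φ).map ((DTen.resFactors α).hom.app T) ≫
        (DTen.resFactors φ).hom.app ((DTen.resCx α).obj T) ≫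
          DerivedCategory.Q.map ((scCx h).hom.app T) := by
  letI := TrivBC.liftingRes₂ α φ
  letI := TrivBC.liftingRes₂ φ' ρ
  have e := Localization.liftNatTrans_app (DerivedCategory.Q (C := ModuleCat.{u} A'))
    (HomologicalComplex.quasiIso (ModuleCat.{u} A') (ComplexShape.up ℤ)) _ _
    (DRing.restrictD α ⋙ DRing.restrictD φ) (DRing.restrictD φ' ⋙ DRing.restrictD ρ)
    (TrivBC.resCommCx h).hom T
  refine (congrArg (· ≫ _) e).trans ?_
  change ((𝟙 _ ≫ (DRing.restrictD φ).map ((DTen.resFactors α).hom.app T) ≫ 𝟙 _ ≫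
      (DTen.resFactors φ).hom.app ((DTen.resCx α).obj T)) ≫
    (𝟙 _ ≫ DerivedCategory.Q.map ((scCx h).hom.app T) ≫ 𝟙 _) ≫
    ((((DTen.resFactors ρ).inv.app ((DTen.resCx φ').obj T) ≫ 𝟙 _) ≫
      (DRing.restrictD ρ).map ((DTen.resFactors φ').inv.app T)) ≫ 𝟙 _)) ≫ _ = _
  simp only [Category.id_comp, Category.comp_id, Category.assoc]
  rw [← Functor.map_comp_assoc, Iso.inv_hom_id_app]
  erw [CategoryTheory.Functor.map_id, Category.id_comp, Iso.inv_hom_id_app, Category.comp_id]

/-- The two restrictions of the tensor product of modules agree. -/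
lemma resTen₀_square (M N : ModuleCat.{u} A') :
    DTen.resTen₀app φ ((ModuleCat.restrictScalars α).obj M) ((ModuleCat.restrictScalars α).obj N) ≫
        (DTen.resM φ).map (DTen.resTen₀app α M N) ≫ (TrivBC.resCommMod h).hom.app (M ⊗ N) =
      ((TrivBC.resCommMod h).hom.app M ⊗ₘ (TrivBC.resCommMod h).hom.app N) ≫
        DTen.resTen₀app ρ ((ModuleCat.restrictScalars φ').obj M) ((ModuleCat.restrictScalars φ').obj N) ≫
          (DTen.resM ρ).map (DTen.resTen₀app φ' M N) :=
  ModuleCat.hom_ext (TensorProduct.ext' fun _ _ => rfl)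

/-- The two restrictions of the tensor product of complexes agree. -/
lemma resTenCx_square (P L : DRing.Cx A') :
    DTen.resTenCx φ ((DTen.resCx α).obj P) ((DTen.resCx α).obj L) ≫
        (DTen.resCx φ).map (DTen.resTenCx α P L) ≫ (scCx h).hom.app ((DTen.tensorT A').obj (P, L)) =
      ((scCx h).hom.app P ⊗ₘ (scCx h).hom.app L) ≫
        DTen.resTenCx ρ ((DTen.resCx φ').obj P) ((DTen.resCx φ').obj L) ≫
          (DTen.resCx ρ).map (DTen.resTenCx φ' P L) := by
  change _ = HomologicalComplex.mapBifunctorMap ((scCx h).hom.app P) ((scCx h).hom.app L)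
    (curriedTensor (ModuleCat.{u} R)) (ComplexShape.up ℤ) ≫ _
  refine HomologicalComplex.hom_ext _ _ fun n => HomologicalComplex.mapBifunctor.hom_ext fun p q hpq => ?_
  rw [HomologicalComplex.comp_f, HomologicalComplex.comp_f, HomologicalComplex.comp_f,
    HomologicalComplex.comp_f]
  refine (DTen.ι_resTenCx_assoc φ ((DTen.resCx α).obj P) ((DTen.resCx α).obj L) p q n hpq _).trans ?_
  refine Eq.trans ?_ (HomologicalComplex.ι_mapBifunctorMap_assoc ((scCx h).hom.app P) ((scCx h).hom.app L)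
    (curriedTensor (ModuleCat.{u} R)) (ComplexShape.up ℤ) p q n hpq _).symm
  have e₁ : (DTen.resM φ).map (HomologicalComplex.ιTensorObj ((DTen.resCx α).obj P) ((DTen.resCx α).obj L) p q n hpq) ≫
      ((DTen.resCx φ).map (DTen.resTenCx α P L)).f n =
      (DTen.resM φ).map (DTen.resTen₀app α (P.X p) (L.X q)) ≫
        (DTen.resM φ).map ((DTen.resM α).map (HomologicalComplex.ιTensorObj P L p q n hpq)) :=
    ((DTen.resM φ).map_comp _ _).symm.trans ((congrArg (DTen.resM φ).map
      (DTen.ι_resTenCx α P L p q n hpq)).trans ((DTen.resM φ).map_comp _ _))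
  have e₂ : (DTen.resM ρ).map (HomologicalComplex.ιTensorObj ((DTen.resCx φ').obj P) ((DTen.resCx φ').obj L) p q n hpq) ≫
      ((DTen.resCx ρ).map (DTen.resTenCx φ' P L)).f n =
      (DTen.resM ρ).map (DTen.resTen₀app φ' (P.X p) (L.X q)) ≫
        (DTen.resM ρ).map ((DTen.resM φ').map (HomologicalComplex.ιTensorObj P L p q n hpq)) :=
    ((DTen.resM ρ).map_comp _ _).symm.trans ((congrArg (DTen.resM ρ).map
      (DTen.ι_resTenCx φ' P L p q n hpq)).trans ((DTen.resM ρ).map_comp _ _))
  have hn : (DTen.resM φ).map ((DTen.resM α).map (HomologicalComplex.ιTensorObj P L p q n hpq)) ≫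
      ((scCx h).hom.app ((DTen.tensorT A').obj (P, L))).f n =
      (TrivBC.resCommMod h).hom.app (P.X p ⊗ L.X q) ≫
        (DTen.resM ρ).map ((DTen.resM φ').map (HomologicalComplex.ιTensorObj P L p q n hpq)) := by
    rw [scCx_f]
    exact (TrivBC.resCommMod h).hom.naturality (HomologicalComplex.ιTensorObj P L p q n hpq)
  refine (congrArg (_ ≫ ·) (((Category.assoc _ _ _).symm.trans (congrArg (· ≫ _) e₁)).trans
    ((Category.assoc _ _ _).trans (congrArg (_ ≫ ·) hn)))).trans ?_
  rw [scCx_f, scCx_f]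
  have hu := congrArg (· ≫ (DTen.resM ρ).map ((DTen.resM φ').map
    (HomologicalComplex.ιTensorObj P L p q n hpq))) (resTen₀_square h (P.X p) (L.X q))
  simp only [MonoidalCategory.tensorHom_def, Category.assoc] at hu
  refine hu.trans ?_
  refine congrArg (_ ≫ ·) (congrArg (_ ≫ ·) ?_)
  exact ((DTen.ι_resTenCx_assoc ρ ((DTen.resCx φ').obj P) ((DTen.resCx φ').obj L) p q n hpq _).trans
    (congrArg (_ ≫ ·) e₂)).symm

variable [DTen.HasLTen R] [DTen.HasLTen A] [DTen.HasLTen R'] [DTen.HasLTen A']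
  [DTen.HasResTen φ] [DTen.ResLegIso φ] [DTen.HasResTen ρ] [DTen.ResLegIso ρ]
  [DTen.HasResTen α] [DTen.ResLegIso α] [DTen.HasResTen φ'] [DTen.ResLegIso φ']

/-- The two restrictions of the derived tensor product agree. -/
theorem resPF_square (Y Y' : Dual.D A') :
    (DTen.resPF φ).app ((DRing.restrictD α).obj Y, (DRing.restrictD α).obj Y') ≫
        (DRing.restrictD φ).map ((DTen.resPF α).app (Y, Y')) ≫
          (TrivBC.resComm h).hom.app ((DTen.LTen₂ A').obj (Y, Y')) =
      (DTen.LTen₂ R).map (Prod.mkHom ((TrivBC.resComm h).hom.app Y) ((TrivBC.resComm h).hom.app Y')) ≫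
        (DTen.resPF ρ).app ((DRing.restrictD φ').obj Y, (DRing.restrictD φ').obj Y') ≫
          (DRing.restrictD ρ).map ((DTen.resPF φ').app (Y, Y')) := by
  let S := ((DRing.restrictD α ⋙ DRing.restrictD φ).prod (DRing.restrictD α ⋙ DRing.restrictD φ)) ⋙
    DTen.LTen₂ R
  let a : S ⟶ DTen.LTen₂ A' ⋙ DRing.restrictD φ' ⋙ DRing.restrictD ρ :=
    Functor.whiskerLeft ((DRing.restrictD α).prod (DRing.restrictD α)) (DTen.resPF φ) ≫
      Functor.whiskerRight (DTen.resPF α) (DRing.restrictD φ) ≫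
        Functor.whiskerLeft (DTen.LTen₂ A') (TrivBC.resComm h).hom
  let b : S ⟶ DTen.LTen₂ A' ⋙ DRing.restrictD φ' ⋙ DRing.restrictD ρ :=
    Functor.whiskerRight (NatTrans.prod (TrivBC.resComm h).hom (TrivBC.resComm h).hom) (DTen.LTen₂ R) ≫
      Functor.whiskerLeft ((DRing.restrictD φ').prod (DRing.restrictD φ')) (DTen.resPF ρ) ≫
        Functor.whiskerRight (DTen.resPF φ') (DRing.restrictD ρ)
  suffices hab : ∀ (P L : DRing.Cx A'), KFlat (curriedTensor (ModuleCat.{u} A')) P →
      a.app (DerivedCategory.Q.obj P, DerivedCategory.Q.obj L) =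
        b.app (DerivedCategory.Q.obj P, DerivedCategory.Q.obj L) by
    let i := flatRepIso Y
    let j := DerivedCategory.Q.objObjPreimageIso Y'
    haveI : IsIso (Prod.mkHom i.hom j.hom) :=
      (isIso_prod_iff _ _).2 ⟨inferInstance, inferInstance⟩
    have e := hab _ (DerivedCategory.Q.objPreimage Y') (kFlat_ringRes (DerivedCategory.Q.objPreimage Y))
    have : a.app (Y, Y') = b.app (Y, Y') := by
      refine (cancel_epi (S.map (Prod.mkHom i.hom j.hom))).1 ?_
      rw [a.naturality, b.naturality]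
      exact congrArg (· ≫ _) e
    exact this
  intro P L hP
  haveI : IsIso ((DTen.ε A').app (P, L)) := isIso_ε hP L
  let T := (DTen.tensorT A').obj (P, L)
  let t := (DRing.restrictD ρ).map ((DRing.restrictD φ').map ((DTen.ε A').app (P, L))) ≫
    (DRing.restrictD ρ).map ((DTen.resFactors φ').hom.app T) ≫
      (DTen.resFactors ρ).hom.app ((DTen.resCx φ').obj T)
  haveI : IsIso t := by dsimp only [t]; infer_instance
  refine (cancel_mono t).1 ?_
  have key : ∀ {B : Type u} [CommRing B] (f : R →+* B) [DTen.HasLTen B] [DTen.HasResTen f]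
      [DTen.ResLegIso f] {X₁ X₂ : Dual.D B} {P₁ L₁ T₁ : DRing.Cx B}
      (i₁ : X₁ ⟶ DerivedCategory.Q.obj P₁) (i₂ : X₂ ⟶ DerivedCategory.Q.obj L₁)
      (g : (DTen.tensorT B).obj (P₁, L₁) ⟶ T₁),
      (DTen.resPF f).app (X₁, X₂) ≫ (DRing.restrictD f).map ((DTen.LTen₂ B).map (Prod.mkHom i₁ i₂) ≫
        (DTen.ε B).app (P₁, L₁) ≫ DerivedCategory.Q.map g) ≫ (DTen.resFactors f).hom.app T₁ =
      (DTen.LTen₂ R).map (Prod.mkHom ((DRing.restrictD f).map i₁ ≫ (DTen.resFactors f).hom.app P₁)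
        ((DRing.restrictD f).map i₂ ≫ (DTen.resFactors f).hom.app L₁)) ≫
        (DTen.ε R).app ((DTen.resCx f).obj P₁, (DTen.resCx f).obj L₁) ≫
          DerivedCategory.Q.map (DTen.resTenCx f P₁ L₁ ≫ (DTen.resCx f).map g) := by
    intro B _ f _ _ _ X₁ X₂ P₁ L₁ T₁ i₁ i₂ g
    have hn := (DTen.resPF f).naturality (Prod.mkHom i₁ i₂)
    simp only [Functor.comp_map] at hn
    have hf := DTen.resPF_fac f (P₁, L₁)
    simp only [DTen.resβB, DTen.resβA] at hf
    have hr := (DTen.resFactors f).hom.naturality g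
    simp only [Functor.comp_map] at hr
    simp only [Functor.map_comp, Category.assoc]
    erw [← reassoc_of% hn, hr, reassoc_of% hf]
    erw [← Functor.map_comp_assoc]
    congr 2
  -- the left hand side
  have e₁ : (DTen.resPF α).app (DerivedCategory.Q.obj P, DerivedCategory.Q.obj L) ≫
      (DRing.restrictD α).map ((DTen.ε A').app (P, L)) ≫ (DTen.resFactors α).hom.app T =
      (DTen.LTen₂ A).map (Prod.mkHom ((DTen.resFactors α).hom.app P) ((DTen.resFactors α).hom.app L)) ≫
        (DTen.ε A).app ((DTen.resCx α).obj P, (DTen.resCx α).obj L) ≫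
          DerivedCategory.Q.map (DTen.resTenCx α P L) :=
    DTen.resPF_fac α (P, L)
  have e₂ : (DTen.resPF φ').app (DerivedCategory.Q.obj P, DerivedCategory.Q.obj L) ≫
      (DRing.restrictD φ').map ((DTen.ε A').app (P, L)) ≫ (DTen.resFactors φ').hom.app T =
      (DTen.LTen₂ R').map (Prod.mkHom ((DTen.resFactors φ').hom.app P) ((DTen.resFactors φ').hom.app L)) ≫
        (DTen.ε R').app ((DTen.resCx φ').obj P, (DTen.resCx φ').obj L) ≫
          DerivedCategory.Q.map (DTen.resTenCx φ' P L) :=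
    DTen.resPF_fac φ' (P, L)
  have hσ : (TrivBC.resComm h).hom.app ((DTen.LTen₂ A').obj (DerivedCategory.Q.obj P, DerivedCategory.Q.obj L)) ≫
      (DRing.restrictD ρ).map ((DRing.restrictD φ').map ((DTen.ε A').app (P, L))) =
      (DRing.restrictD φ).map ((DRing.restrictD α).map ((DTen.ε A').app (P, L))) ≫
        (TrivBC.resComm h).hom.app (DerivedCategory.Q.obj T) :=
    ((TrivBC.resComm h).hom.naturality ((DTen.ε A').app (P, L))).symm
  have hL : a.app (DerivedCategory.Q.obj P, DerivedCategory.Q.obj L) ≫ t =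
      (DTen.LTen₂ R).map (Prod.mkHom
          ((DRing.restrictD φ).map ((DTen.resFactors α).hom.app P) ≫
            (DTen.resFactors φ).hom.app ((DTen.resCx α).obj P))
          ((DRing.restrictD φ).map ((DTen.resFactors α).hom.app L) ≫
            (DTen.resFactors φ).hom.app ((DTen.resCx α).obj L))) ≫
        (DTen.ε R).app ((DTen.resCx φ).obj ((DTen.resCx α).obj P), (DTen.resCx φ).obj ((DTen.resCx α).obj L)) ≫
          DerivedCategory.Q.map (DTen.resTenCx φ ((DTen.resCx α).obj P) ((DTen.resCx α).obj L) ≫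
            (DTen.resCx φ).map (DTen.resTenCx α P L) ≫ (scCx h).hom.app T) := by
    change ((DTen.resPF φ).app ((DRing.restrictD α).obj (DerivedCategory.Q.obj P),
        (DRing.restrictD α).obj (DerivedCategory.Q.obj L)) ≫
      (DRing.restrictD φ).map ((DTen.resPF α).app (DerivedCategory.Q.obj P, DerivedCategory.Q.obj L)) ≫
        (TrivBC.resComm h).hom.app _) ≫ t = _
    dsimp only [t]
    simp only [Category.assoc]
    erw [reassoc_of% hσ, resComm_fac h T, ← Functor.map_comp_assoc, ← Functor.map_comp_assoc]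
    simp only [Category.assoc]
    erw [e₁]
    have k := congrArg (· ≫ DerivedCategory.Q.map ((scCx h).hom.app T))
      (key φ ((DTen.resFactors α).hom.app P) ((DTen.resFactors α).hom.app L) (DTen.resTenCx α P L))
    simp only [Category.assoc, Functor.map_comp] at k ⊢
    exact k
  have hR : b.app (DerivedCategory.Q.obj P, DerivedCategory.Q.obj L) ≫ t =
      (DTen.LTen₂ R).map (Prod.mkHom
          ((TrivBC.resComm h).hom.app (DerivedCategory.Q.obj P) ≫
            (DRing.restrictD ρ).map ((DTen.resFactors φ').hom.app P) ≫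
              (DTen.resFactors ρ).hom.app ((DTen.resCx φ').obj P))
          ((TrivBC.resComm h).hom.app (DerivedCategory.Q.obj L) ≫
            (DRing.restrictD ρ).map ((DTen.resFactors φ').hom.app L) ≫
              (DTen.resFactors ρ).hom.app ((DTen.resCx φ').obj L))) ≫
        (DTen.ε R).app ((DTen.resCx ρ).obj ((DTen.resCx φ').obj P), (DTen.resCx ρ).obj ((DTen.resCx φ').obj L)) ≫
          DerivedCategory.Q.map (DTen.resTenCx ρ ((DTen.resCx φ').obj P) ((DTen.resCx φ').obj L) ≫
            (DTen.resCx ρ).map (DTen.resTenCx φ' P L)) := by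
    change ((DTen.LTen₂ R).map (Prod.mkHom ((TrivBC.resComm h).hom.app (DerivedCategory.Q.obj P))
        ((TrivBC.resComm h).hom.app (DerivedCategory.Q.obj L))) ≫
      (DTen.resPF ρ).app ((DRing.restrictD φ').obj (DerivedCategory.Q.obj P),
        (DRing.restrictD φ').obj (DerivedCategory.Q.obj L)) ≫
        (DRing.restrictD ρ).map ((DTen.resPF φ').app (DerivedCategory.Q.obj P, DerivedCategory.Q.obj L))) ≫ t = _
    dsimp only [t]
    simp only [Category.assoc]
    erw [← Functor.map_comp_assoc, ← Functor.map_comp_assoc]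
    simp only [Category.assoc]
    erw [e₂]
    erw [key ρ ((DTen.resFactors φ').hom.app P) ((DTen.resFactors φ').hom.app L) (DTen.resTenCx φ' P L)]
    erw [← Functor.map_comp_assoc]
    congr 2
  rw [hL, hR, resComm_fac, resComm_fac, resTenCx_square]
  have hsc := (DTen.ε R).naturality (Prod.mkHom ((scCx h).hom.app P) ((scCx h).hom.app L))
  simp only [Functor.comp_map] at hsc
  have hp : Prod.mkHom
        ((DRing.restrictD φ).map ((DTen.resFactors α).hom.app P) ≫
          (DTen.resFactors φ).hom.app ((DTen.resCx α).obj P) ≫ DerivedCategory.Q.map ((scCx h).hom.app P))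
        ((DRing.restrictD φ).map ((DTen.resFactors α).hom.app L) ≫
          (DTen.resFactors φ).hom.app ((DTen.resCx α).obj L) ≫ DerivedCategory.Q.map ((scCx h).hom.app L)) =
      Prod.mkHom
        ((DRing.restrictD φ).map ((DTen.resFactors α).hom.app P) ≫
          (DTen.resFactors φ).hom.app ((DTen.resCx α).obj P))
        ((DRing.restrictD φ).map ((DTen.resFactors α).hom.app L) ≫
          (DTen.resFactors φ).hom.app ((DTen.resCx α).obj L)) ≫
        (DTen.QQ R).map (Prod.mkHom ((scCx h).hom.app P) ((scCx h).hom.app L)) :=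
    Prod.ext (Category.assoc _ _ _).symm (Category.assoc _ _ _).symm
  rw [hp, Functor.map_comp (DTen.LTen₂ R), Category.assoc]
  erw [reassoc_of% hsc]
  rw [← Functor.map_comp, MonoidalCategory.tensorHom_def]
  rfl

variable [DTen.HasLBase ρ] [DTen.HasLBase α]

/-- `(X|_R) ⊗_R R' ⟶ (X ⊗_A A')|_{R'}`. -/
noncomputable def cmpBC (X : Dual.D A) :
    (DTen.LBase ρ).obj ((DRing.restrictD φ).obj X) ⟶
      (DRing.restrictD φ').obj ((DTen.LBase α).obj X) :=
  ((DTen.baseAdj ρ).homEquiv _ _).symm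
    ((DRing.restrictD φ).map ((DTen.baseAdj α).unit.app X) ≫
      (TrivBC.resComm h).hom.app ((DTen.LBase α).obj X))

omit [DTen.HasLTen R] [DTen.HasLTen A] [DTen.HasLTen R'] [DTen.HasLTen A']
  [DTen.HasResTen φ] [DTen.ResLegIso φ] [DTen.HasResTen ρ] [DTen.ResLegIso ρ]
  [DTen.HasResTen α] [DTen.ResLegIso α] [DTen.HasResTen φ'] [DTen.ResLegIso φ'] in
lemma cmpBC_natural {X X' : Dual.D A} (f : X ⟶ X') :
    (DTen.LBase ρ).map ((DRing.restrictD φ).map f) ≫ cmpBC h X' =
      cmpBC h X ≫ (DRing.restrictD φ').map ((DTen.LBase α).map f) := by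
  dsimp only [cmpBC]
  rw [← Adjunction.homEquiv_naturality_left_symm, ← Adjunction.homEquiv_naturality_right_symm]
  refine congrArg _ ?_
  have h₁ := (TrivBC.resComm h).hom.naturality ((DTen.LBase α).map f)
  simp only [Functor.comp_map] at h₁
  rw [Category.assoc]
  erw [← h₁]
  rw [← Functor.map_comp_assoc, ← Functor.map_comp_assoc]
  congr 2
  exact (DTen.baseAdj α).unit.naturality f

omit [DTen.HasLTen R] [DTen.HasLTen A] [DTen.HasLTen R'] [DTen.HasLTen A']
  [DTen.HasResTen φ] [DTen.ResLegIso φ] [DTen.HasResTen ρ] [DTen.ResLegIso ρ]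
  [DTen.HasResTen α] [DTen.ResLegIso α] [DTen.HasResTen φ'] [DTen.ResLegIso φ'] in
lemma unit_cmpBC (X : Dual.D A) :
    (DTen.baseAdj ρ).unit.app ((DRing.restrictD φ).obj X) ≫ (DRing.restrictD ρ).map (cmpBC h X) =
      (DRing.restrictD φ).map ((DTen.baseAdj α).unit.app X) ≫
        (TrivBC.resComm h).hom.app ((DTen.LBase α).obj X) :=
  ((DTen.baseAdj ρ).homEquiv_unit ..).symm.trans (Equiv.apply_symm_apply _ _)

/-- The comparison is monoidal. -/
theorem lbaseTenCmp_cmpBC (N O : Dual.D A) :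
    lbaseTenCmp ρ ((DRing.restrictD φ).obj N) ((DRing.restrictD φ).obj O) ≫
        (DTen.LTen₂ R').map (Prod.mkHom (cmpBC h N) (cmpBC h O)) ≫
          (DTen.resPF φ').app ((DTen.LBase α).obj N, (DTen.LBase α).obj O) =
      (DTen.LBase ρ).map ((DTen.resPF φ).app (N, O)) ≫ cmpBC h ((DTen.LTen₂ A).obj (N, O)) ≫
        (DRing.restrictD φ').map (lbaseTenCmp α N O) := by
  have hu : ∀ {B B' : Type u} [CommRing B] [CommRing B'] (f : B →+* B') [DTen.HasLTen B]
      [DTen.HasLTen B'] [DTen.HasLBase f] [DTen.HasResTen f] [DTen.ResLegIso f] (Z K : Dual.D B),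
      (DTen.baseAdj f).unit.app _ ≫ (DRing.restrictD f).map (lbaseTenCmp f Z K) =
        (DTen.LTen₂ B).map (Prod.mkHom ((DTen.baseAdj f).unit.app Z) ((DTen.baseAdj f).unit.app K)) ≫
          (DTen.resPF f).app ((DTen.LBase f).obj Z, (DTen.LBase f).obj K) :=
    fun f _ _ _ _ _ Z K => ((DTen.baseAdj f).homEquiv_unit ..).symm.trans (Equiv.apply_symm_apply _ _)
  refine ((DTen.baseAdj ρ).homEquiv _ _).injective ?_
  rw [(DTen.baseAdj ρ).homEquiv_unit, (DTen.baseAdj ρ).homEquiv_unit]
  simp only [Functor.map_comp]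
  -- the left hand side
  rw [reassoc_of% (hu ρ ((DRing.restrictD φ).obj N) ((DRing.restrictD φ).obj O))]
  have hn := (DTen.resPF ρ).naturality (Prod.mkHom (cmpBC h N) (cmpBC h O))
  simp only [Functor.comp_map] at hn
  erw [← reassoc_of% hn]
  erw [← Functor.map_comp_assoc]
  have hp : Prod.mkHom ((DTen.baseAdj ρ).unit.app ((DRing.restrictD φ).obj N))
        ((DTen.baseAdj ρ).unit.app ((DRing.restrictD φ).obj O)) ≫
        ((DRing.restrictD ρ).prod (DRing.restrictD ρ)).map (Prod.mkHom (cmpBC h N) (cmpBC h O)) =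
      Prod.mkHom ((DRing.restrictD φ).map ((DTen.baseAdj α).unit.app N))
        ((DRing.restrictD φ).map ((DTen.baseAdj α).unit.app O)) ≫
      Prod.mkHom ((TrivBC.resComm h).hom.app ((DTen.LBase α).obj N))
        ((TrivBC.resComm h).hom.app ((DTen.LBase α).obj O)) :=
    Prod.ext (unit_cmpBC h N) (unit_cmpBC h O)
  refine (congrArg (fun z => (DTen.LTen₂ R).map z ≫ _) hp).trans ?_
  rw [Functor.map_comp (DTen.LTen₂ R), Category.assoc]
  erw [← resPF_square h ((DTen.LBase α).obj N) ((DTen.LBase α).obj O)]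
  -- the right hand side
  have hn₁ := (DTen.baseAdj ρ).unit.naturality ((DTen.resPF φ).app (N, O))
  simp only [Functor.id_map, Functor.comp_map] at hn₁
  erw [← reassoc_of% hn₁]
  erw [reassoc_of% (unit_cmpBC h ((DTen.LTen₂ A).obj (N, O)))]
  have hσ := (TrivBC.resComm h).hom.naturality (lbaseTenCmp α N O)
  simp only [Functor.comp_map] at hσ
  erw [← hσ]
  conv_rhs => erw [← Functor.map_comp_assoc]
  rw [hu α N O, Functor.map_comp, Category.assoc]
  have hn₂ := (DTen.resPF φ).naturality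
    (Prod.mkHom ((DTen.baseAdj α).unit.app N) ((DTen.baseAdj α).unit.app O))
  simp only [Functor.comp_map] at hn₂
  erw [← reassoc_of% hn₂]
  rfl

variable [DTen.HasRHom R] [DTen.HasRHom R'] [DTen.HasLBase φ] [DTen.HasLBase φ']

/-- The transpose of the base change of trivial duality is invertible exactly when base change for
derived hom out of `A|_R` is. -/
theorem isIso_transpose_iff {Rφ : Dual.D R ⥤ Dual.D A} (adj : DRing.restrictD φ ⊣ Rφ)
    {Rφ' : Dual.D R' ⥤ Dual.D A'} (adj' : DRing.restrictD φ' ⊣ Rφ') (K : Dual.D R)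
    [IsIso (cmpBC h (Rφ.obj K))] [IsIso (cmpBC h (DTen.unit A))]
    [IsIso (DTen.rhomBC ρ ((DRing.restrictD φ).obj (DTen.unit A)) ((DTen.LBase ρ).obj K))] :
    IsIso (adj'.homEquiv _ _ (inv (cmpBC h (Rφ.obj K)) ≫ (DTen.LBase ρ).map (adj.counit.app K))) ↔
      IsIso (DTen.bcRHom ρ ((DRing.restrictD φ).obj (DTen.unit A)) K) := by
  let O := DTen.unit A
  let N := Rφ.obj K
  let O' := (DTen.LBase α).obj O
  let Y := (DTen.LBase α).obj N
  let w : (DRing.restrictD φ').obj Y ⟶ (DTen.LBase ρ).obj K :=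
    inv (cmpBC h N) ≫ (DTen.LBase ρ).map (adj.counit.app K)
  let θ : Y ⟶ Rφ'.obj ((DTen.LBase ρ).obj K) := adj'.homEquiv _ _ w
  obtain ⟨i⟩ := nonempty_tensorRight_shift (B := A) (N := O) 0
    ((shiftFunctorZero (Dual.D A) ℤ).app O).symm
  obtain ⟨e'⟩ := nonempty_LBase_unit α
  obtain ⟨i'⟩ := nonempty_tensorRight_shift (B := A') (N := O') 0
    (e' ≪≫ ((shiftFunctorZero (Dual.D A') ℤ).app (DTen.unit A')).symm)
  let rr : DTen.tensorRightD A O ≅ 𝟭 (Dual.D A) := i ≪≫ shiftFunctorZero (Dual.D A) ℤ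
  let rr' : DTen.tensorRightD A' O' ≅ 𝟭 (Dual.D A') := i' ≪≫ shiftFunctorZero (Dual.D A') ℤ
  let δ := DTen.rhomHomEquiv _ _ _ (pairingD φ adj rr K)
  let δ' := DTen.rhomHomEquiv _ _ _ (pairingD φ' adj' rr' ((DTen.LBase ρ).obj K))
  haveI : IsIso δ := isIso_rhomHomEquiv_pairing φ adj rr K
  haveI : IsIso δ' := isIso_rhomHomEquiv_pairing φ' adj' rr' _
  let q := (DTen.resPF φ').app (Y, O') ≫ (DRing.restrictD φ').map (rr'.hom.app Y) ≫ w
  let Δ := DTen.rhomHomEquiv _ _ _ q
  have h₁ : (DRing.restrictD φ').map θ ≫ δ' = Δ := by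
    dsimp only [δ', Δ]
    rw [← rhomHomEquiv_comp]
    refine congrArg _ ?_
    have hn := (DTen.resPF φ').naturality (Prod.mkHom θ (𝟙 O'))
    simp only [Functor.comp_map] at hn
    have hl : Prod.mkHom ((DRing.restrictD φ').map θ) (𝟙 ((DRing.restrictD φ').obj O')) =
        ((DRing.restrictD φ').prod (DRing.restrictD φ')).map (Prod.mkHom θ (𝟙 O')) :=
      Prod.ext rfl ((DRing.restrictD φ').map_id O').symm
    dsimp only [pairingD, q]
    rw [hl]
    erw [reassoc_of% hn]
    refine congrArg (_ ≫ ·) ?_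
    erw [← Functor.map_comp_assoc]
    have hr : (DTen.LTen₂ A').map (Prod.mkHom θ (𝟙 O')) ≫ rr'.hom.app _ = rr'.hom.app Y ≫ θ :=
      rr'.hom.naturality θ
    erw [hr]
    rw [Functor.map_comp, Category.assoc]
    exact congrArg (_ ≫ ·) ((adj'.homEquiv_counit ..).symm.trans (Equiv.symm_apply_apply _ w))
  haveI := isIso_lbaseTenCmp α N O
  let a : Y ⟶ Y := inv (rr'.hom.app Y) ≫ inv (lbaseTenCmp α N O) ≫ (DTen.LBase α).map (rr.hom.app N)
  haveI : IsIso a := by dsimp only [a]; infer_instance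
  let f := cmpBC h N ≫ (DRing.restrictD φ').map a
  haveI : IsIso f := by dsimp only [f]; infer_instance
  let g := cmpBC h O
  haveI : IsIso g := inferInstanceAs (IsIso (cmpBC h (DTen.unit A)))
  haveI : IsIso (DTen.RHomMap g ((DTen.LBase ρ).obj K)) :=
    inferInstanceAs (IsIso (((DTen.RHom R').map g.op).app _))
  have h₂ : f ≫ Δ ≫ DTen.RHomMap g ((DTen.LBase ρ).obj K) =
      (DTen.LBase ρ).map δ ≫ DTen.bcRHom ρ ((DRing.restrictD φ).obj O) K := by
    dsimp only [Δ]
    rw [← Category.assoc, ← rhomHomEquiv_comp, ← rhomHomEquiv_comp_right]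
    refine (DTen.rhomHomEquiv _ _ _).symm.injective ?_
    rw [Equiv.symm_apply_apply]
    refine Eq.trans ?_ ((DTen.rhomAdj R' _).homEquiv_naturality_left_symm _ _).symm
    haveI := isIso_lbaseTenCmp ρ ((DRing.restrictD φ).obj N) ((DRing.restrictD φ).obj O)
    refine (cancel_epi (lbaseTenCmp ρ ((DRing.restrictD φ).obj N) ((DRing.restrictD φ).obj O))).1 ?_
    have hb := lbaseTenCmp_bcRHom (φ := ρ) ((DRing.restrictD φ).obj O) K
    have hδ : (DTen.LTen₂ R).map (Prod.mkHom δ (𝟙 ((DRing.restrictD φ).obj O))) ≫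
        DTen.ev ((DRing.restrictD φ).obj O) K = pairingD φ adj rr K :=
      ((DTen.rhomAdj R _).homEquiv_counit ..).symm.trans (Equiv.symm_apply_apply _ _)
    have hR : lbaseTenCmp ρ ((DRing.restrictD φ).obj N) ((DRing.restrictD φ).obj O) ≫
        (DTen.LTen₂ R').map (Prod.mkHom ((DTen.LBase ρ).map δ) (𝟙 _)) ≫
          (DTen.rhomHomEquiv _ _ _).symm (DTen.bcRHom ρ ((DRing.restrictD φ).obj O) K) =
        (DTen.LBase ρ).map (pairingD φ adj rr K) := by
      have hn := lbaseTenCmp_natural ρ δ (𝟙 ((DRing.restrictD φ).obj O))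
      rw [CategoryTheory.Functor.map_id] at hn
      rw [← reassoc_of% hn, hb, ← Functor.map_comp, hδ]
    refine Eq.trans ?_ hR.symm
    have hfg : (DTen.LTen₂ R').map (Prod.mkHom (𝟙 _) g) ≫ (DTen.LTen₂ R').map (Prod.mkHom f (𝟙 _)) =
        (DTen.LTen₂ R').map (Prod.mkHom (cmpBC h N) g) ≫
          (DTen.LTen₂ R').map (((DRing.restrictD φ').prod (DRing.restrictD φ')).map (Prod.mkHom a (𝟙 O'))) := by
      rw [← Functor.map_comp, ← Functor.map_comp]
      refine congrArg _ (Prod.ext (Category.id_comp _) ?_)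
      exact congrArg (g ≫ ·) ((DRing.restrictD φ').map_id O').symm
    rw [reassoc_of% hfg]
    have hn' := (DTen.resPF φ').naturality (Prod.mkHom a (𝟙 O'))
    simp only [Functor.comp_map] at hn'
    dsimp only [q]
    erw [reassoc_of% hn']
    erw [← Functor.map_comp_assoc]
    have hr : (DTen.LTen₂ A').map (Prod.mkHom a (𝟙 O')) ≫ rr'.hom.app Y =
        inv (lbaseTenCmp α N O) ≫ (DTen.LBase α).map (rr.hom.app N) := by
      refine (rr'.hom.naturality a).trans ?_
      dsimp only [Functor.id_map, a]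
      rw [IsIso.hom_inv_id_assoc]
    erw [hr]
    rw [reassoc_of% (lbaseTenCmp_cmpBC h N O), ← Functor.map_comp_assoc]
    erw [IsIso.hom_inv_id_assoc]
    erw [← reassoc_of% (cmpBC_natural h (rr.hom.app N))]
    dsimp only [w]
    rw [IsIso.hom_inv_id_assoc, pairingD]
    simp only [Functor.map_comp]
    rfl
  constructor
  · intro hθ
    haveI : IsIso θ := hθ
    haveI : IsIso Δ := h₁ ▸ inferInstance
    haveI : IsIso ((DTen.LBase ρ).map δ ≫ DTen.bcRHom ρ ((DRing.restrictD φ).obj O) K) :=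
      h₂ ▸ inferInstance
    exact IsIso.of_isIso_comp_left ((DTen.LBase ρ).map δ) _
  · intro hb
    haveI : IsIso (f ≫ Δ ≫ DTen.RHomMap g ((DTen.LBase ρ).obj K)) := by
      rw [h₂]
      haveI : IsIso (DTen.bcRHom ρ ((DRing.restrictD φ).obj O) K) := hb
      infer_instance
    haveI : IsIso (Δ ≫ DTen.RHomMap g ((DTen.LBase ρ).obj K)) := IsIso.of_isIso_comp_left f _
    haveI : IsIso Δ := IsIso.of_isIso_comp_right _ (DTen.RHomMap g ((DTen.LBase ρ).obj K))
    haveI : IsIso ((DRing.restrictD φ').map θ ≫ δ') := h₁.symm ▸ inferInstance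
    haveI : IsIso ((DRing.restrictD φ').map θ) := IsIso.of_isIso_comp_right _ δ'
    exact isIso_of_isIso_restrictScalars φ' θ

end Groth.Agent.KFlatLib
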