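import Groth.Agent.KFlatLib.Ring.BaseChangeShriekVia
import Groth.Agent.H9Misc.TorBalance

/-!
# Tor independence makes base change termwise
-/

set_option linter.style.haveILetI false
set_option backward.isDefEq.respectTransparency false

universe v u v' u'

open CategoryTheory CategoryTheory.Limits MonoidalCategory

attribute [local instance] HasDerivedCategory.standard

namespace Groth.Agent.KFlatLib

section Formal

variable {C : Type u} [Category.{v} C] [Abelian C] {D : Type u'} [Category.{v'} D] [Abelian D]
  (G : C ⥤ D) [G.Additive] [PreservesFiniteColimits G] {M : C} (P : ProjectiveResolution M)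

/-- A right exact functor keeps the augmentation a quasi-isomorphism in degree zero. -/
lemma quasiIsoAt₀_map_π :
    QuasiIsoAt ((G.mapHomologicalComplex (ComplexShape.down ℕ)).map P.π) 0 := by
  rw [quasiIsoAt_iff' _ 1 0 0 (by simp) (by simp)]
  refine (ShortComplex.quasiIso_iff_of_zeros' _ ?_ ?_ ?_).2 ⟨?_, ?_⟩
  · exact (congrArg G.map (P.complex.shape 0 0 (by simp))).trans (G.map_zero _ _)
  · exact (congrArg G.map (HomologicalComplex.single_obj_d (ComplexShape.down ℕ) 0 M 1 0)).trans (G.map_zero _ _)
  · exact (congrArg G.map (HomologicalComplex.single_obj_d (ComplexShape.down ℕ) 0 M 0 0)).trans (G.map_zero _ _)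
  · exact ShortComplex.exact_of_g_is_cokernel _
      (CokernelCofork.mapIsColimit _ P.isColimitCokernelCofork G)
  · exact inferInstanceAs (Epi (G.map (P.π.f 0)))

/-- A functor killing the higher homology of a resolution keeps the augmentation a quasi-isomorphism. -/
theorem quasiIso_map_π' (hex : ∀ n : ℕ, 1 ≤ n →
    ((G.mapHomologicalComplex (ComplexShape.down ℕ)).obj P.complex).ExactAt n) :
    QuasiIso ((G.mapHomologicalComplex (ComplexShape.up ℤ)).map P.π') := by
  haveI : QuasiIso ((G.mapHomologicalComplex (ComplexShape.down ℕ)).map P.π) := by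
    refine (quasiIso_iff _).2 fun n => ?_
    rcases n with - | n
    · exact quasiIsoAt₀_map_π G P
    · refine (quasiIsoAt_iff_exactAt _ (n + 1) (hex _ (by omega))).2 ?_
      exact (ChainComplex.exactAt_succ_single_obj (G.obj M) n).of_iso
        ((HomologicalComplex.singleMapHomologicalComplex G (ComplexShape.down ℕ) 0).app M).symm
  let g := (G.mapHomologicalComplex (ComplexShape.down ℕ)).map P.π
  haveI : QuasiIso (HomologicalComplex.extendMap g ComplexShape.embeddingDownNat) :=
    (HomologicalComplex.quasiIso_extendMap_iff g ComplexShape.embeddingDownNat).2 inferInstance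
  have hn := H9Misc.TorBalance.mapExtendIso_natural G P.complex P.π
  haveI : QuasiIso ((G.mapHomologicalComplex (ComplexShape.up ℤ)).map
      (HomologicalComplex.extendMap P.π ComplexShape.embeddingDownNat) ≫
        (H9Misc.TorBalance.mapExtendIso G ((ChainComplex.single₀ C).obj M)).hom) := by
    rw [hn]
    infer_instance
  haveI : QuasiIso ((G.mapHomologicalComplex (ComplexShape.up ℤ)).map
      (HomologicalComplex.extendMap P.π ComplexShape.embeddingDownNat)) :=
    quasiIso_of_comp_right _ (H9Misc.TorBalance.mapExtendIso G ((ChainComplex.single₀ C).obj M)).hom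
  dsimp only [ProjectiveResolution.π']
  rw [Functor.map_comp]
  haveI : QuasiIso ((G.mapHomologicalComplex (ComplexShape.up ℤ)).map
      ((ComplexShape.embeddingDownNat.extendFunctor C).map P.π)) := by assumption
  infer_instance

end Formal

universe w

variable {R A R' : Type w} [CommRing R] [CommRing A] [CommRing R'] [Algebra R A] [Algebra R R']

/-- Higher homology of a base changed resolution is `Tor`. -/
lemma exactAt_extendScalars {M : ModuleCat.{w} R} (P : ProjectiveResolution M) (n : ℕ)
    (h : IsZero (((CategoryTheory.Tor (ModuleCat.{w} R) n).obj M).obj (ModuleCat.of R R'))) :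
    (((ModuleCat.extendScalars.{w, w, w} (algebraMap R R')).mapHomologicalComplex
      (ComplexShape.down ℕ)).obj P.complex).ExactAt n := by
  let ρ := algebraMap R R'
  let N := (ModuleCat.restrictScalars ρ).obj (ModuleCat.of R' R')
  let eN : N ≅ ModuleCat.of R R' := LinearEquiv.toModuleIso (LinearEquiv.ofBijective
    ({ toFun := fun x => x
       map_add' := fun _ _ => rfl
       map_smul' := fun r (x : R') => (Algebra.smul_def r x).symm } :
      (N : Type w) →ₗ[R] R') Function.bijective_id)
  have h₁ : ((((tensorRight N)).mapHomologicalComplex (ComplexShape.down ℕ)).obj P.complex).ExactAt n := by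
    rw [HomologicalComplex.exactAt_iff_isZero_homology]
    exact (h.of_iso (((CategoryTheory.Tor (ModuleCat.{w} R) n).obj M).mapIso eN)).of_iso
      (H9Misc.TorBalance.torIso' P N n).symm
  let e : ModuleCat.extendScalars.{w, w, w} ρ ⋙ ModuleCat.restrictScalars ρ ≅ tensorRight N :=
    extendRestrictIso ρ ≪≫ BraidedCategory.tensorLeftIsoTensorRight N
  have h₂ := h₁.of_iso ((NatIso.mapHomologicalComplex e (ComplexShape.down ℕ)).app P.complex).symm
  exact (ShortComplex.exact_map_iff_of_faithful _ (ModuleCat.restrictScalars ρ)).1 h₂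

variable [DTen.HasLBase (algebraMap R R')]

/-- Tor independence: base change of a module in a single degree is computed termwise. -/
theorem isIso_baseCmp_single_of_tor
    (htor : ∀ p : ℕ, 1 ≤ p → Subsingleton (DRing.Tor R p A R')) (k : ℤ) :
    IsIso ((DTen.baseCmp (algebraMap R R')).app ((DTen.resCx (algebraMap R A)).obj
      ((HomologicalComplex.single (ModuleCat.{w} A) (ComplexShape.up ℤ) k).obj (ModuleCat.of A A)))) := by
  let ρ := algebraMap R R'
  let φ := algebraMap R A
  let M := ModuleCat.of R A
  let eM : (ModuleCat.restrictScalars φ).obj (ModuleCat.of A A) ≅ M :=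
    LinearEquiv.toModuleIso (LinearEquiv.ofBijective
    ({ toFun := fun x => x
       map_add' := fun _ _ => rfl
       map_smul' := fun r (x : A) => (Algebra.smul_def r x).symm } :
      ((ModuleCat.restrictScalars φ).obj (ModuleCat.of A A) : Type w) →ₗ[R] A) Function.bijective_id)
  let e : (DTen.resCx φ).obj
      ((HomologicalComplex.single (ModuleCat.{w} A) (ComplexShape.up ℤ) k).obj (ModuleCat.of A A)) ≅
      (HomologicalComplex.single (ModuleCat.{w} R) (ComplexShape.up ℤ) k).obj M :=
    (HomologicalComplex.singleMapHomologicalComplex (ModuleCat.restrictScalars φ) (ComplexShape.up ℤ) k).app _ ≪≫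
      (HomologicalComplex.single (ModuleCat.{w} R) (ComplexShape.up ℤ) k).mapIso eM
  refine (NatTrans.isIso_app_iff_of_iso (DTen.baseCmp ρ) e).2 ?_
  let P := ProjectiveResolution.of M
  let S₀ := (CochainComplex.singleFunctor (ModuleCat.{w} R) 0).obj M
  let e' : S₀⟦-k⟧ ≅ (HomologicalComplex.single (ModuleCat.{w} R) (ComplexShape.up ℤ) k).obj M :=
    ((CochainComplex.singleFunctors (ModuleCat.{w} R)).shiftIso (-k) k 0 (by omega)).app M
  refine (NatTrans.isIso_app_iff_of_iso (DTen.baseCmp ρ) e').1 ?_
  let s : P.cochainComplex⟦-k⟧ ⟶ S₀⟦-k⟧ := P.π'⟦-k⟧'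
  haveI : QuasiIso s := inferInstance
  have hflat : DRing.TermwiseFlat (P.cochainComplex⟦-k⟧) := fun i => by
    have hP : Projective (P.cochainComplex.X (i + -k)) := inferInstance
    haveI : Module.Projective R (P.cochainComplex.X (i + -k)) := (IsProjective.iff_projective _).2 hP
    exact Module.Flat.of_projective (R := R) (M := P.cochainComplex.X (i + -k))
  haveI := isIso_baseCmp ρ (kFlat_of_termwiseFlat hflat (b := k) fun i hi =>
    CochainComplex.isZero_of_isStrictlyLE P.cochainComplex 0 (i + -k) (by omega))
  have hq₀ : QuasiIso (((ModuleCat.extendScalars.{w, w, w} ρ).mapHomologicalComplex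
      (ComplexShape.up ℤ)).map P.π') := by
    haveI : PreservesFiniteColimits (ModuleCat.extendScalars.{w, w, w} ρ) := by
      haveI : (ModuleCat.extendScalars.{w, w, w} ρ).IsLeftAdjoint :=
        (ModuleCat.extendRestrictScalarsAdj ρ).isLeftAdjoint
      infer_instance
    refine quasiIso_map_π' _ P fun n hn => exactAt_extendScalars P n ?_
    haveI := htor n hn
    exact ModuleCat.isZero_of_subsingleton _
  haveI : QuasiIso ((DTen.extCx ρ).map s) := by
    let c := ((ModuleCat.extendScalars.{w, w, w} ρ).mapHomologicalComplex (ComplexShape.up ℤ)).commShiftIso (-k)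
    have hc := c.hom.naturality P.π'
    haveI : QuasiIso ((DTen.extCx ρ).map s ≫ c.hom.app S₀) := by
      erw [hc]
      haveI := hq₀
      haveI : QuasiIso ((((ModuleCat.extendScalars.{w, w, w} ρ).mapHomologicalComplex (ComplexShape.up ℤ)) ⋙
          shiftFunctor _ (-k)).map P.π') := inferInstanceAs (QuasiIso
        ((((ModuleCat.extendScalars.{w, w, w} ρ).mapHomologicalComplex (ComplexShape.up ℤ)).map P.π')⟦-k⟧'))
      infer_instance
    exact quasiIso_of_comp_right _ (c.hom.app S₀)
  haveI : IsIso ((DTen.LBase ρ).map (DerivedCategory.Q.map s) ≫ (DTen.baseCmp ρ).app (S₀⟦-k⟧)) := by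
    have hn := (DTen.baseCmp ρ).naturality s
    simp only [Functor.comp_map] at hn
    erw [hn]
    infer_instance
  exact IsIso.of_isIso_comp_left ((DTen.LBase ρ).map (DerivedCategory.Q.map s)) _

end Groth.Agent.KFlatLib
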