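import Groth.Agent.KFlatLib.Ring.Resolution
import Groth.Agent.TriCat.DerivedCoproducts
import Groth.Prelude.Def_DTen4
import Mathlib.Algebra.Homology.DerivedCategory.Fractions

/-!
# Derived base change of K-flat complexes
-/

set_option linter.style.haveILetI false

universe u

open CategoryTheory CategoryTheory.Limits

attribute [local instance] HasDerivedCategory.standard

namespace Groth.Agent.KFlatLib

variable {R A : Type u} [CommRing R] [CommRing A] (φ : R →+* A)

/-- The termwise counit. -/
noncomputable def counitCxR : DTen.resCx φ ⋙ DTen.extCx φ ⟶ 𝟭 (DRing.Cx A) where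
  app N :=
    { f := fun i => (ModuleCat.extendRestrictScalarsAdj.{u, u, u} φ).counit.app (N.X i)
      comm' := fun i j _ =>
        ((ModuleCat.extendRestrictScalarsAdj.{u, u, u} φ).counit.naturality (N.d i j)).symm }
  naturality N N' g := HomologicalComplex.hom_ext _ _ fun i =>
    (ModuleCat.extendRestrictScalarsAdj.{u, u, u} φ).counit.naturality (g.f i)

lemma extCx_map_unit_counit (K : DRing.Cx R) :
    (DTen.extCx φ).map ((DTen.unitCx φ).app K) ≫ (counitCxR φ).app ((DTen.extCx φ).obj K) = 𝟙 _ :=
  HomologicalComplex.hom_ext _ _ fun i =>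
    (ModuleCat.extendRestrictScalarsAdj.{u, u, u} φ).left_triangle_components (K.X i)

lemma unit_resCx_map_counit (N : DRing.Cx A) :
    (DTen.unitCx φ).app ((DTen.resCx φ).obj N) ≫ (DTen.resCx φ).map ((counitCxR φ).app N) = 𝟙 _ :=
  HomologicalComplex.hom_ext _ _ fun i =>
    (ModuleCat.extendRestrictScalarsAdj.{u, u, u} φ).right_triangle_components (N.X i)

lemma isIso_Q_map_extCx {P K : DRing.Cx R} (s : P ⟶ K) [QuasiIso s]
    (hP : KFlat (MonoidalCategory.curriedTensor (ModuleCat.{u} R)) P)
    (hK : KFlat (MonoidalCategory.curriedTensor (ModuleCat.{u} R)) K) :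
    IsIso (DerivedCategory.Q.map ((DTen.extCx φ).map s)) :=
  (DerivedCategory.isIso_Q_map_iff_quasiIso _ _).2 (quasiIso_extendScalars φ s hP hK)

variable [DTen.HasLBase φ]

/-- The universal property of base change of a K-flat complex. -/
lemma baseγ_bijective {K : DRing.Cx R}
    (hK : KFlat (MonoidalCategory.curriedTensor (ModuleCat.{u} R)) K) (N : Dual.D A) :
    Function.Bijective fun g : DerivedCategory.Q.obj ((DTen.extCx φ).obj K) ⟶ N =>
      (DTen.baseγ φ).app K ≫ (DRing.restrictD φ).map g := by
  have hnat : ∀ {M M' : DRing.Cx A} (g : M ⟶ M'),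
      (DTen.resFactors φ).inv.app M ≫ (DRing.restrictD φ).map (DerivedCategory.Q.map g) =
        DerivedCategory.Q.map ((DTen.resCx φ).map g) ≫ (DTen.resFactors φ).inv.app M' :=
    fun g => ((DTen.resFactors φ).inv.naturality g).symm
  constructor
  · intro g₁ g₂ h
    rw [← sub_eq_zero]
    haveI : (DRing.restrictD φ).Additive := by
      dsimp only [DRing.restrictD]
      infer_instance
    have h0 : (DTen.baseγ φ).app K ≫ (DRing.restrictD φ).map (g₁ - g₂) = 0 := by
      rw [(DRing.restrictD φ).map_sub, Preadditive.comp_sub, sub_eq_zero]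
      exact h
    obtain ⟨g, hg⟩ : ∃ g, g = g₁ - g₂ := ⟨_, rfl⟩
    rw [← hg] at h0 ⊢
    let eN := DerivedCategory.Q.objObjPreimageIso N
    obtain ⟨N', ψ, s, hs, hfac⟩ := DerivedCategory.left_fac (g ≫ eN.inv)
    haveI := hs
    have hψ : DerivedCategory.Q.map ((DTen.unitCx φ).app K ≫ (DTen.resCx φ).map ψ) = 0 := by
      have hg' : DerivedCategory.Q.map ψ = g ≫ eN.inv ≫ DerivedCategory.Q.map s := by
        rw [← Category.assoc, hfac, Category.assoc, IsIso.inv_hom_id, Category.comp_id]
      have h1 : (DTen.baseγ φ).app K ≫ (DRing.restrictD φ).map (DerivedCategory.Q.map ψ) = 0 := by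
        rw [hg', Functor.map_comp, ← Category.assoc, h0, zero_comp]
      have e : DerivedCategory.Q.map ((DTen.unitCx φ).app K ≫ (DTen.resCx φ).map ψ) ≫
          (DTen.resFactors φ).inv.app N' = 0 := by
        rw [Functor.map_comp, Category.assoc, ← hnat, ← h1]
        exact (Category.assoc _ _ _).symm
      exact (cancel_mono ((DTen.resFactors φ).inv.app N')).1 (e.trans zero_comp.symm)
    obtain ⟨Z, t, ht, ⟨H⟩⟩ := TriCat.exists_quasiIso_of_Q_map_eq_zero _ hψ
    let π := (ringCover R).ψ.app Z ≫ t
    haveI : QuasiIso ((ringCover R).ψ.app Z) := (ringCover R).quasiIso_ψ Z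
    haveI := ht
    haveI := isIso_Q_map_extCx φ π (kFlat_ringRes Z) hK
    have H1 : Homotopy (π ≫ (DTen.unitCx φ).app K ≫ (DTen.resCx φ).map ψ) 0 :=
      ((Homotopy.ofEq (Category.assoc _ _ _)).trans (H.compLeft _)).trans
        (Homotopy.ofEq comp_zero)
    have H2 : Homotopy ((DTen.extCx φ).map π ≫ ψ) 0 := by
      refine ((Homotopy.ofEq ?_).trans
        (((ModuleCat.extendScalars.{u, u, u} φ).mapHomotopy H1).compRight
          ((counitCxR φ).app N'))).trans (Homotopy.ofEq ?_)
      · change _ = (DTen.extCx φ).map (π ≫ (DTen.unitCx φ).app K ≫ (DTen.resCx φ).map ψ) ≫ _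
        have hn := (counitCxR φ).naturality ψ
        dsimp at hn
        rw [Functor.map_comp _ π, Functor.map_comp _ ((DTen.unitCx φ).app K), Category.assoc,
          Category.assoc, hn,
          ← Category.assoc ((DTen.extCx φ).map ((DTen.unitCx φ).app K)), extCx_map_unit_counit,
          Category.id_comp]
      · change (DTen.extCx φ).map 0 ≫ _ = 0
        rw [Functor.map_zero, zero_comp]
    have h2 : DerivedCategory.Q.map ((DTen.extCx φ).map π) ≫ DerivedCategory.Q.map ψ = 0 := by
      rw [← Functor.map_comp]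
      have := congrArg DerivedCategory.Qh.map
        (HomotopyCategory.eq_of_homotopy _ _ H2)
      rw [Functor.map_zero, Functor.map_zero] at this
      exact this
    have h3 : DerivedCategory.Q.map ψ = 0 :=
      (cancel_epi (DerivedCategory.Q.map ((DTen.extCx φ).map π))).1 (h2.trans comp_zero.symm)
    rw [← cancel_mono eN.inv, hfac, h3, zero_comp, zero_comp]
  · intro h
    let eN := DerivedCategory.Q.objObjPreimageIso N
    let N₀ := DerivedCategory.Q.objPreimage N
    obtain ⟨K', s, hs, g, hfac⟩ := DerivedCategory.right_fac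
      (h ≫ (DRing.restrictD φ).map eN.inv ≫ (DTen.resFactors φ).hom.app N₀)
    haveI := hs
    haveI : QuasiIso s := (DerivedCategory.isIso_Q_map_iff_quasiIso _ _).1 hs
    haveI : QuasiIso ((ringCover R).ψ.app K') := (ringCover R).quasiIso_ψ K'
    let s' := (ringCover R).ψ.app K' ≫ s
    let g' := (ringCover R).ψ.app K' ≫ g
    haveI := isIso_Q_map_extCx φ s' (kFlat_ringRes K') hK
    let gt := (DTen.extCx φ).map g' ≫ (counitCxR φ).app N₀
    refine ⟨inv (DerivedCategory.Q.map ((DTen.extCx φ).map s')) ≫ DerivedCategory.Q.map gt ≫ eN.hom, ?_⟩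
    haveI : IsIso (DerivedCategory.Q.map s') :=
      (DerivedCategory.isIso_Q_map_iff_quasiIso _ _).2 inferInstance
    rw [← cancel_epi (DerivedCategory.Q.map s')]
    have hγ := (DTen.baseγ φ).naturality s'
    dsimp at hγ ⊢
    rw [← Category.assoc, hγ, Category.assoc, ← Functor.map_comp, IsIso.hom_inv_id_assoc,
      Functor.map_comp]
    have hu : (DTen.unitCx φ).app _ ≫ (DTen.resCx φ).map gt = g' := by
      have hn := (DTen.unitCx φ).naturality g'
      dsimp at hn
      simp only [gt, Functor.map_comp]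
      rw [← Category.assoc, ← hn, Category.assoc, unit_resCx_map_counit]
      exact Category.comp_id _
    change ((DerivedCategory.Q.map ((DTen.unitCx φ).app _) ≫ (DTen.resFactors φ).inv.app _) ≫
      (DRing.restrictD φ).map (DerivedCategory.Q.map gt) ≫ (DRing.restrictD φ).map eN.hom) = _
    rw [Category.assoc, ← Category.assoc ((DTen.resFactors φ).inv.app _), hnat, Category.assoc,
      ← Category.assoc, ← Functor.map_comp, hu]
    have hg : DerivedCategory.Q.map g' = DerivedCategory.Q.map s' ≫ h ≫
        (DRing.restrictD φ).map eN.inv ≫ (DTen.resFactors φ).hom.app N₀ := by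
      rw [hfac]
      simp only [s', g', Functor.map_comp, Category.assoc, IsIso.hom_inv_id_assoc]
    rw [hg]
    simp only [Category.assoc]
    erw [Iso.hom_inv_id_app_assoc]
    rw [← Functor.map_comp, eN.inv_hom_id, CategoryTheory.Functor.map_id, Category.comp_id]

lemma isIso_baseCmp {K : DRing.Cx R}
    (hK : KFlat (MonoidalCategory.curriedTensor (ModuleCat.{u} R)) K) :
    IsIso ((DTen.baseCmp φ).app K) := by
  refine isIso_iff_coyoneda_map_bijective _ |>.2 fun N => ?_
  have e : (fun g => ((DTen.baseAdj φ).homEquiv (DerivedCategory.Q.obj K) N)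
      ((DTen.baseCmp φ).app K ≫ g)) =
      fun g => (DTen.baseγ φ).app K ≫ (DRing.restrictD φ).map g := by
    funext g
    rw [Adjunction.homEquiv_unit, Functor.map_comp, ← Category.assoc, DTen.baseCmp_fac]
  have h := baseγ_bijective φ hK N
  erw [← e] at h
  exact (((DTen.baseAdj φ).homEquiv (DerivedCategory.Q.obj K) N).bijective.of_comp_iff' _).1 h

end Groth.Agent.KFlatLib
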