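import Groth.Agent.KFlatLib.Ring.PerfectInduction
import Mathlib.Algebra.Category.ModuleCat.Products
import Mathlib.Algebra.Homology.DerivedCategory.KProjective

/-!
# Perfect objects over a ring are compact
-/

set_option linter.style.haveILetI false
set_option backward.isDefEq.respectTransparency false

universe u

open CategoryTheory CategoryTheory.Limits Pretriangulated MonoidalCategory

attribute [local instance] HasDerivedCategory.standard

namespace Groth.Agent.KFlatLib

variable {A : Type u} [CommRing A] {J : Type u}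

/-- The projection of a coproduct on a summand. -/
noncomputable def sigmaProj {C : Type*} [Category C] [HasZeroMorphisms C] (K : J → C) [HasCoproduct K] (j : J) :
    ∐ K ⟶ K j := by
  classical
  exact Sigma.desc fun i => if h : i = j then eqToHom (congrArg K h) else 0

lemma ι_sigmaProj_self {C : Type*} [Category C] [HasZeroMorphisms C] (K : J → C) [HasCoproduct K] (j : J) :
    Sigma.ι K j ≫ sigmaProj K j = 𝟙 _ := by simp [sigmaProj]

lemma ι_sigmaProj_ne {C : Type*} [Category C] [HasZeroMorphisms C] (K : J → C) [HasCoproduct K] {i j : J}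
    (h : i ≠ j) : Sigma.ι K i ≫ sigmaProj K j = 0 := by simp [sigmaProj, h]

/-- Elements of a coproduct of modules lie in finitely many summands. -/
lemma exists_finset_sum_elt (M : J → ModuleCat.{u} A) (x : (∐ M : ModuleCat.{u} A)) :
    ∃ (s : Finset J) (y : ∀ j, M j), x = ∑ j ∈ s, (Sigma.ι M j).hom (y j) := by
  classical
  let e := ModuleCat.coprodIsoDirectSum M
  suffices h : ∀ z : DirectSum J (fun j => M j), ∃ (s : Finset J) (y : ∀ j, M j),
      e.inv.hom z = ∑ j ∈ s, (Sigma.ι M j).hom (y j) by
    obtain ⟨s, y, hy⟩ := h (e.hom.hom x)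
    refine ⟨s, y, Eq.trans ?_ hy⟩
    exact (ConcreteCategory.congr_hom e.hom_inv_id x).symm
  intro z
  refine ⟨DFinsupp.support z, fun j => z j, ?_⟩
  conv_lhs => rw [← DirectSum.sum_support_of z]
  rw [map_sum]
  refine Finset.sum_congr rfl fun j _ => ?_
  exact (ConcreteCategory.congr_hom (ModuleCat.lof_coprodIsoDirectSum_inv M j) (z j))

/-- Finite factorization of maps into coproducts. -/
def FinF (M : Dual.D A) : Prop :=
  ∀ (J : Type u) (K : J → DRing.Cx A) (f : M ⟶ DerivedCategory.Q.obj (∐ K)),
    ∃ (s : Finset J) (a : ∀ j, M ⟶ DerivedCategory.Q.obj (K j)),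
      f = ∑ j ∈ s, a j ≫ DerivedCategory.Q.map (Sigma.ι K j)

lemma finF_of_iso {M M' : Dual.D A} (e : M ≅ M') (h : FinF M) : FinF M' := fun J K f => by
  obtain ⟨s, a, ha⟩ := h J K (e.hom ≫ f)
  refine ⟨s, fun j => e.inv ≫ a j, ?_⟩
  simp only [Category.assoc, ← Preadditive.comp_sum, ← ha, Iso.inv_hom_id_assoc]

/-- Shifts of the unit. -/
lemma finF_shift_unit (n : ℤ) : FinF ((DTen.unit A)⟦n⟧) := by
  classical
  let U : DRing.Cx A := 𝟙_ (DRing.Cx A)
  refine finF_of_iso ((DerivedCategory.Q.commShiftIso n).app U) fun J K f => ?_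
  let P : DRing.Cx A := U⟦n⟧
  let S : DRing.Cx A := (HomologicalComplex.single (ModuleCat.{u} A) (ComplexShape.up ℤ) 0).obj (ModuleCat.of A A)
  haveI : Projective (ModuleCat.of A A) := inferInstance
  haveI : ∀ i, Projective (S.X i) := fun i => by
    by_cases h : i = 0
    · subst h
      exact Projective.of_iso (HomologicalComplex.singleObjXSelf (ComplexShape.up ℤ) 0 _).symm inferInstance
    · haveI := (HomologicalComplex.isZero_single_obj_X (ComplexShape.up ℤ) 0 (ModuleCat.of A A) i h)
      exact (IsZero.projective this)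
  haveI : S.IsKProjective := CochainComplex.isKProjective_of_projective S 0
  let eU : S ≅ U := Iso.refl _
  haveI : P.IsKProjective := CochainComplex.isKProjective_of_iso ((shiftFunctor (DRing.Cx A) n).mapIso eU)
  obtain ⟨g', hg'⟩ := (CochainComplex.IsKProjective.Qh_map_bijective P
    ((HomotopyCategory.quotient _ _).obj (∐ K))).2
      ((DerivedCategory.quotientCompQhIso _).hom.app P ≫ f ≫ (DerivedCategory.quotientCompQhIso _).inv.app _)
  obtain ⟨g, rfl⟩ := (HomotopyCategory.quotient _ _).map_surjective g'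
  have hf : DerivedCategory.Q.map g = f := by
    rw [← cancel_epi ((DerivedCategory.quotientCompQhIso (ModuleCat.{u} A)).hom.app P)]
    refine ((DerivedCategory.quotientCompQhIso _).hom.naturality g).symm.trans ?_
    refine (congrArg (· ≫ (DerivedCategory.quotientCompQhIso _).hom.app _) hg').trans ?_
    simp only [Category.assoc]
    exact congrArg _ ((congrArg (f ≫ ·)
      ((DerivedCategory.quotientCompQhIso _).inv_hom_id_app _)).trans (Category.comp_id f))
  let eP : P.X (-n) ≅ ModuleCat.of A A :=
    (HomologicalComplex.eval (ModuleCat.{u} A) (ComplexShape.up ℤ) (-n)).mapIso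
      ((shiftFunctor (DRing.Cx A) n).mapIso eU.symm) ≪≫
      eqToIso (congrArg S.X (neg_add_cancel n)) ≪≫
      HomologicalComplex.singleObjXSelf (ComplexShape.up ℤ) 0 _
  let E := HomologicalComplex.eval (ModuleCat.{u} A) (ComplexShape.up ℤ) (-n)
  let c := PreservesCoproduct.iso E K
  obtain ⟨s, y, hy⟩ := exists_finset_sum_elt (fun j => E.obj (K j))
    (c.hom.hom ((eP.inv ≫ g.f (-n)).hom (1 : A)))
  refine ⟨s, fun j => DerivedCategory.Q.map (g ≫ sigmaProj K j), ?_⟩
  rw [← hf]
  simp only [← Functor.map_comp, Category.assoc, ← Functor.map_sum, ← Preadditive.comp_sum]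
  refine congrArg DerivedCategory.Q.map ?_
  refine HomologicalComplex.hom_ext _ _ fun i => ?_
  by_cases h : i = -n
  · subst h
    rw [HomologicalComplex.comp_f, ← cancel_epi eP.inv, ← Category.assoc]
    refine ModuleCat.hom_ext (LinearMap.ext_ring ?_)
    set x := (eP.inv ≫ g.f (-n)).hom (1 : A)
    change x = ((∑ j ∈ s, sigmaProj K j ≫ Sigma.ι K j : _).f (-n)).hom x
    have hx : x = ∑ j ∈ s, ((Sigma.ι K j).f (-n)).hom (y j) := by
      have h₁ : x = c.inv.hom (c.hom.hom x) := (ConcreteCategory.congr_hom c.hom_inv_id x).symm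
      rw [h₁, hy, map_sum]
      refine Finset.sum_congr rfl fun j _ => ?_
      exact ConcreteCategory.congr_hom (ι_comp_sigmaComparison (G := E) (f := K) j) (y j)
    rw [hx, map_sum]
    refine Finset.sum_congr rfl fun j hj => ?_
    change _ = ((Sigma.ι K j ≫ ∑ i ∈ s, sigmaProj K i ≫ Sigma.ι K i).f (-n)).hom (y j)
    rw [Preadditive.comp_sum, Finset.sum_eq_single j (fun i _ hi => by
      rw [← Category.assoc, ι_sigmaProj_ne K (Ne.symm hi), zero_comp]) (fun h => absurd hj h),
      ← Category.assoc, ι_sigmaProj_self, Category.id_comp]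
  · exact ((HomologicalComplex.isZero_single_obj_X (ComplexShape.up ℤ) 0 (ModuleCat.of A A) (i + n)
      (by omega)).of_iso ((HomologicalComplex.eval _ _ i).mapIso
        ((shiftFunctor (DRing.Cx A) n).mapIso eU.symm))).eq_of_src _ _

/-- Perfect objects are compact. -/
theorem finF_of_isPerfect {M : Dual.D A} (hM : DRing.IsPerfect A M) : FinF M := by
  classical
  refine perfect_induction FinF finF_of_iso ?_ ?_ finF_shift_unit hM
  · intro T hT h₁ h₃ J K f
    obtain ⟨s, a, ha⟩ := h₁ J K (T.mor₁ ≫ f)
    let p : ∐ K ⟶ ∐ K := ∑ j ∈ s, sigmaProj K j ≫ Sigma.ι K j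
    have hp : (T.mor₁ ≫ f) ≫ DerivedCategory.Q.map p = T.mor₁ ≫ f := by
      rw [ha, Preadditive.sum_comp]
      refine Finset.sum_congr rfl fun j hj => ?_
      rw [Category.assoc, ← Functor.map_comp, Preadditive.comp_sum,
        Finset.sum_eq_single j (fun i _ hi => by
          rw [← Category.assoc, ι_sigmaProj_ne K (Ne.symm hi), zero_comp]) (fun h => absurd hj h),
        ← Category.assoc, ι_sigmaProj_self, Category.id_comp]
    obtain ⟨g, hg⟩ := Triangle.yoneda_exact₂ T hT (f - f ≫ DerivedCategory.Q.map p) (by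
      rw [Preadditive.comp_sub, ← Category.assoc, hp, sub_self])
    obtain ⟨t, b, hb⟩ := h₃ J K g
    refine ⟨s ∪ t, fun j => (if j ∈ s then f ≫ DerivedCategory.Q.map (sigmaProj K j) else 0) +
      (if j ∈ t then T.mor₂ ≫ b j else 0), ?_⟩
    have h₂ : f - f ≫ DerivedCategory.Q.map p =
        ∑ j ∈ t, (T.mor₂ ≫ b j) ≫ DerivedCategory.Q.map (Sigma.ι K j) := by
      rw [hg, hb, Preadditive.comp_sum]
      simp only [Category.assoc]
    have h₃' : f ≫ DerivedCategory.Q.map p =
        ∑ j ∈ s, (f ≫ DerivedCategory.Q.map (sigmaProj K j)) ≫ DerivedCategory.Q.map (Sigma.ι K j) := by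
      simp only [p, Functor.map_sum, Preadditive.comp_sum, Functor.map_comp, Category.assoc]
    simp only [Preadditive.add_comp, Finset.sum_add_distrib, ite_comp, zero_comp, Finset.sum_ite_mem,
      Finset.union_inter_cancel_left, Finset.union_inter_cancel_right]
    exact (eq_add_of_sub_eq' h₂).trans (congrArg (· + _) h₃')
  · intro M M' i r hir h J K f
    obtain ⟨s, a, ha⟩ := h J K (r ≫ f)
    refine ⟨s, fun j => i ≫ a j, ?_⟩
    simp only [Category.assoc, ← Preadditive.comp_sum, ← ha, reassoc_of% hir]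

end Groth.Agent.KFlatLib
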