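import Groth.Agent.H9Misc.DRingCechCompl
import Groth.Agent.H9Misc.DRingHomCxHom
import Groth.Agent.H9Misc.DRingComplAmp
import Groth.Agent.KFlatLib.Ring.RgammaTorsion
import Groth.Agent.KFlatLib.Ring.HasRHom
import Groth.Agent.S1718

/-!
# Derived completion of `RHom` into an object and derived torsion of the source
-/

set_option linter.style.haveILetI false
set_option backward.isDefEq.respectTransparency false

universe u

open CategoryTheory CategoryTheory.Limits Pretriangulated MonoidalCategory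
open CochainComplex CochainComplex.HomComplex

attribute [local instance] HasDerivedCategory.standard

namespace Groth.Agent.KFlatLib.CompletionDuality

open H9Misc H9Misc.DRingHomCx H9Misc.DRingCompl H9Misc.DRingRHomCompl H9Misc.DRingCechCompl DRingLTensor

variable {A : Type u} [CommRing A]

/-- The quotient by the torsion sections. -/
noncomputable def quotCx (I : Ideal A) (M : DRing.Cx A) : DRing.Cx A where
  X n := ModuleCat.of A (M.X n ⧸ DRing.torsionSub I (M.X n))
  d i j := ModuleCat.ofHom (Submodule.mapQ _ _ (M.d i j).hom fun _ hx => DRing.map_mem_torsionSub I _ hx)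
  shape i j h := by
    refine ModuleCat.hom_ext (Submodule.linearMap_qext _ (LinearMap.ext fun x => ?_))
    show Submodule.Quotient.mk ((M.d i j).hom x) = 0
    rw [M.shape i j h]
    rfl
  d_comp_d' i j k _ _ := by
    refine ModuleCat.hom_ext (Submodule.linearMap_qext _ (LinearMap.ext fun x => ?_))
    show Submodule.Quotient.mk ((M.d j k).hom ((M.d i j).hom x)) = 0
    rw [← ConcreteCategory.comp_apply, M.d_comp_d]
    rfl

/-- The projection to the quotient. -/
noncomputable def quotProj (I : Ideal A) (M : DRing.Cx A) : M ⟶ quotCx I M where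
  f n := ModuleCat.ofHom (DRing.torsionSub I (M.X n)).mkQ
  comm' _ _ _ := rfl

/-- The sequence of the torsion sections. -/
noncomputable abbrev gammaSeq (I : Ideal A) (M : DRing.Cx A) : ShortComplex (DRing.Cx A) :=
  ShortComplex.mk (gIncl I M) (quotProj I M) (by
    ext n x
    exact (Submodule.Quotient.mk_eq_zero _).2 (x : DRing.torsionSub I (M.X n)).2)

/-- Precomposition is contravariant. -/
lemma homCxPre_comp {K K' K'' : DRing.Cx A} (a : K'' ⟶ K') (b : K' ⟶ K) (L : DRing.Cx A) :
    homCxPre (a ≫ b) L = homCxPre b L ≫ homCxPre a L := by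
  refine HomologicalComplex.hom_ext _ _ fun i => ModuleCat.hom_ext (LinearMap.ext fun (z : Cochain K L i) => ?_)
  show (Cochain.ofHom (a ≫ b)).comp z (zero_add i) =
    (Cochain.ofHom a).comp ((Cochain.ofHom b).comp z (zero_add i)) (zero_add i)
  rw [Cochain.ofHom_comp]
  exact Cochain.comp_assoc_of_first_is_zero_cochain (Cochain.ofHom a) (Cochain.ofHom b) z (zero_add i)

variable [IsNoetherianRing A]

lemma nonempty_splitting (I : Ideal A) (M : DRing.Cx A) (hM : ∀ n, Module.Injective A (M.X n)) (n : ℤ) :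
    Nonempty ((gammaSeq I M).map (HomologicalComplex.eval _ _ n)).Splitting := by
  haveI := hM n
  haveI : Module.Injective A (DRing.torsionSub I (M.X n)) := by
    rw [LC.torsionSub_eq_iSup]; exact LC.injective_torsion I
  obtain ⟨r, hr⟩ := Module.Injective.extension_property A (DRing.torsionSub I (M.X n)) _ _
    (DRing.torsionSub I (M.X n)).subtype Subtype.val_injective LinearMap.id
  haveI : Epi ((gammaSeq I M).map (HomologicalComplex.eval _ _ n)).g :=
    (ModuleCat.epi_iff_surjective _).2 (Submodule.mkQ_surjective _)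
  refine ⟨ShortComplex.Splitting.ofExactOfRetraction _ ?_ (ModuleCat.ofHom r) (ModuleCat.hom_ext hr) inferInstance⟩
  exact (ShortComplex.moduleCat_exact_iff _).2 fun x hx =>
    ⟨(⟨x, (Submodule.Quotient.mk_eq_zero _).1 hx⟩ : DRing.torsionSub I (M.X n)), rfl⟩

lemma bijective_smul_quotCx (f : A) (M : DRing.Cx A) (hM : ∀ n, Module.Injective A (M.X n)) (n : ℤ) :
    Function.Bijective (fun x : (quotCx (Ideal.span {f}) M).X n => f • x) := by
  haveI := hM n
  constructor
  · intro a b hab
    rw [← sub_eq_zero]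
    obtain ⟨x, hx⟩ := Submodule.Quotient.mk_surjective _ (a - b)
    have h0 : f • x ∈ DRing.torsionSub (Ideal.span {f}) (M.X n) := by
      rw [← Submodule.Quotient.mk_eq_zero, Submodule.Quotient.mk_smul, hx, smul_sub, sub_eq_zero]
      exact hab
    obtain ⟨k, hk⟩ := h0
    rw [← hx]
    refine (Submodule.Quotient.mk_eq_zero _).2 ⟨k + 1, fun c hc => ?_⟩
    rw [Ideal.span_singleton_pow] at hc
    obtain ⟨t, rfl⟩ := Ideal.mem_span_singleton'.1 hc
    rw [pow_succ, mul_smul, mul_smul, hk _ (Ideal.pow_mem_pow (Ideal.mem_span_singleton_self f) k), smul_zero]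
  · intro a
    obtain ⟨x, rfl⟩ := Submodule.Quotient.mk_surjective _ a
    have hx : x ∈ DRing.torsionSub (⊥ : Ideal A) (M.X n) :=
      ⟨1, fun c hc => by rw [pow_one, Ideal.mem_bot] at hc; rw [hc, zero_smul]⟩
    obtain ⟨w, -, t, ht⟩ := LC.hasDiv_of_injective (M.X n) ⊥ f x hx 1
    refine ⟨Submodule.Quotient.mk w, ((Submodule.Quotient.mk_smul _ _ _).symm.trans ?_)⟩
    refine (Submodule.Quotient.eq _).2 ⟨t, fun c hc => ?_⟩
    rw [Ideal.span_singleton_pow] at hc
    obtain ⟨s, rfl⟩ := Ideal.mem_span_singleton'.1 hc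
    rw [mul_smul, smul_sub, ← mul_smul, ← pow_succ, ht, sub_self, smul_zero]

/-- One step of the filtration by torsion sections. -/
theorem bijective_step (f : A) (M Jw : DRing.Cx A) (hM : ∀ n, Module.Injective A (M.X n)) [Jw.IsKInjective]
    (Z : Dual.D A) (hZ : Cg f Z) :
    Function.Bijective (fun φ : DerivedCategory.Q.obj (DRing.homCx (RgammaHDI.gCx (Ideal.span {f}) M) Jw) ⟶ Z =>
      DerivedCategory.Q.map (homCxPre (gIncl (Ideal.span {f}) M) Jw) ≫ φ) := by
  let S := gammaSeq (Ideal.span {f}) M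
  have hS := shortExact_homCxPre S (fun n => (nonempty_splitting _ M hM n).some) Jw
  have hT := DerivedCategory.triangleOfSES_distinguished hS
  have hW : RlimSmul.Loc f (DerivedCategory.Q.obj (DRing.homCx S.X₃ Jw)) := by
    haveI : ∀ i, IsIso ((f • 𝟙 S.X₃).f i) := fun i =>
      (ConcreteCategory.isIso_iff_bijective _).2 (bijective_smul_quotCx f M hM i)
    haveI : IsIso (f • 𝟙 S.X₃) := HomologicalComplex.Hom.isIso_of_components _
    haveI := quasiIso_homCxPre_of_isKInjective (f • 𝟙 S.X₃) Jw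
    show IsIso (f • 𝟙 (DerivedCategory.Q.obj (DRing.homCx S.X₃ Jw)))
    rw [← CategoryTheory.Functor.map_id, ← Functor.map_smul, ← homCxPre_smul_id]
    infer_instance
  -- the triangle `W → X → Y`, rotated
  exact bijective_of_loc (rot_of_distTriang _ hT) (hW.shift f 1) hZ

/-- Restriction to torsion sections in the source is bijective against complete objects. -/
theorem bijective_gIncl (J Jw : DRing.Cx A) (hJ : ∀ n, Module.Injective A (J.X n)) [Jw.IsKInjective]
    (s : Finset A) (Z : Dual.D A) (hZ : ∀ f ∈ s, Cg f Z) :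
    Function.Bijective (fun φ : DerivedCategory.Q.obj (DRing.homCx (RgammaHDI.gCx (Ideal.span (s : Set A)) J) Jw) ⟶ Z =>
      DerivedCategory.Q.map (homCxPre (gIncl (Ideal.span (s : Set A)) J) Jw) ≫ φ) := by
  classical
  induction s using Finset.induction_on with
  | empty =>
    have : QuasiIso (gIncl (Ideal.span ((∅ : Finset A) : Set A)) J) := by
      haveI : ∀ n, IsIso ((gIncl (Ideal.span ((∅ : Finset A) : Set A)) J).f n) := fun n =>
        (ConcreteCategory.isIso_iff_bijective _).2 ⟨Subtype.val_injective, fun x =>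
          ⟨(⟨x, 1, fun a ha => by
            rw [Finset.coe_empty, Ideal.span_empty, pow_one, Ideal.mem_bot] at ha
            rw [ha, zero_smul]⟩ : DRing.torsionSub _ (J.X n)), rfl⟩⟩
      haveI : IsIso (gIncl (Ideal.span ((∅ : Finset A) : Set A)) J) := HomologicalComplex.Hom.isIso_of_components _
      infer_instance
    haveI := quasiIso_homCxPre_of_isKInjective (gIncl (Ideal.span ((∅ : Finset A) : Set A)) J) Jw
    exact (asIso (DerivedCategory.Q.map (homCxPre (gIncl (Ideal.span ((∅ : Finset A) : Set A)) J) Jw))).symm.homFromEquiv.bijective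
  | insert f s hf ih =>
    have h1 := ih fun g hg => hZ g (Finset.mem_insert_of_mem hg)
    let I₀ := Ideal.span (s : Set A)
    have hX : ∀ n, Module.Injective A ((RgammaHDI.gCx I₀ J).X n) := fun n => by
      haveI := hJ n
      show Module.Injective A (DRing.torsionSub I₀ (J.X n))
      rw [LC.torsionSub_eq_iSup]; exact LC.injective_torsion I₀
    have h2 := bijective_step f (RgammaHDI.gCx I₀ J) Jw hX Z (hZ f (Finset.mem_insert_self f s))
    let e := gCxSupIso I₀ (Ideal.span {f}) J
    have he : Ideal.span (↑(insert f s) : Set A) = I₀ ⊔ Ideal.span {f} := by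
      rw [Finset.coe_insert, Ideal.span_insert, sup_comm]
    rw [he]
    haveI := quasiIso_homCxPre_of_isKInjective e.hom Jw
    have hcomp : homCxPre (gIncl (I₀ ⊔ Ideal.span {f}) J) Jw ≫ homCxPre e.hom Jw =
        homCxPre (gIncl I₀ J) Jw ≫ homCxPre (gIncl (Ideal.span {f}) (RgammaHDI.gCx I₀ J)) Jw := by
      rw [← homCxPre_comp, ← homCxPre_comp]
      congr 1
    have h4 : (fun φ => DerivedCategory.Q.map (homCxPre (gIncl (I₀ ⊔ Ideal.span {f}) J) Jw) ≫ φ :
        (DerivedCategory.Q.obj (DRing.homCx (RgammaHDI.gCx (I₀ ⊔ Ideal.span {f}) J) Jw) ⟶ Z) → _) ∘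
        (fun φ => DerivedCategory.Q.map (homCxPre e.hom Jw) ≫ φ) =
      (fun φ => DerivedCategory.Q.map (homCxPre (gIncl I₀ J) Jw) ≫ φ) ∘
        (fun φ => DerivedCategory.Q.map (homCxPre (gIncl (Ideal.span {f}) (RgammaHDI.gCx I₀ J)) Jw) ≫ φ) :=
      funext fun φ => by
        simp only [Function.comp_apply]
        rw [← Category.assoc, ← Functor.map_comp, hcomp, Functor.map_comp, Category.assoc]
    refine (Function.Bijective.of_comp_iff _ ?_).1 (h4 ▸ h1.comp h2)
    exact (asIso (DerivedCategory.Q.map (homCxPre e.hom Jw))).symm.homFromEquiv.bijective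

omit [IsNoetherianRing A] in
/-- `Hom` out of a complex with torsion cohomology is derived complete. -/
theorem cg_homCx_of_tors (G Jw : DRing.Cx A) [Jw.IsKInjective] (f : A)
    (hG : ∀ q, ExtCechTors.Tors f (G.homology q)) : Cg f (DerivedCategory.Q.obj (DRing.homCx G Jw)) := by
  let P := (ringCover A).P.obj G
  let π : P ⟶ G := (ringCover A).ψ.app G
  haveI : QuasiIso π := (ringCover A).quasiIso_ψ G
  haveI := isKInjective_homCx (I := Jw) (show IsKF P from kFlat_ringRes G)
  haveI := quasiIso_homCxPre_of_isKInjective π Jw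
  haveI : IsIso (DerivedCategory.Q.map (homCxPre π Jw)) :=
    (DerivedCategory.isIso_Q_map_iff_quasiIso _ _).2 inferInstance
  let S := (single₀ A).obj (ModuleCat.of A (Localization.Away f))
  let eS : Dual.inD A (Localization.Away f) ≅ DerivedCategory.Q.obj S :=
    (DerivedCategory.singleFunctorIsoCompQ (ModuleCat.{u} A) 0).app _
  have hP : ∀ q, ExtCechTors.Tors f (P.homology q) := fun q x => by
    let φ := (asIso (HomologicalComplex.homologyMap π q)).toLinearEquiv
    obtain ⟨k, hk⟩ := hG q (φ x)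
    exact ⟨k, φ.injective (by rw [map_smul, hk, map_zero])⟩
  intro n
  have hac : (DRing.homCx S (DRing.homCx P Jw)).ExactAt n :=
    (exactAt_homCx_of_isKInjective (acyclic_tensor_away P hP) n).of_iso
      (DRingHomTensor.homTensorIso S P Jw).symm
  haveI := (subsingleton_shift_iff_kInjective S (DRing.homCx P Jw) n).2 hac
  exact (Iso.homCongr eS ((CategoryTheory.shiftFunctor (Dual.D A) n).mapIso
    (asIso (DerivedCategory.Q.map (homCxPre π Jw))))).subsingleton

omit [IsNoetherianRing A] in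
/-- Isomorphic sources give isomorphic Hom complexes. -/
theorem nonempty_homCx_iso (G G' Jw : DRing.Cx A) [Jw.IsKInjective]
    (e : DerivedCategory.Q.obj G ≅ DerivedCategory.Q.obj G') :
    Nonempty (DerivedCategory.Q.obj (DRing.homCx G Jw) ≅ DerivedCategory.Q.obj (DRing.homCx G' Jw)) := by
  obtain ⟨R, b, hR, hb⟩ := TriCat.exists_kInjective_resolution'.{u} G'
  haveI := hR
  haveI := hb.1
  haveI : IsIso (DerivedCategory.Q.map b) := (DerivedCategory.isIso_Q_map_iff_quasiIso _ _).2 hb.1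
  obtain ⟨a, ha⟩ := exists_Q_map (I := R) (e.hom ≫ DerivedCategory.Q.map b)
  haveI : QuasiIso a := (DerivedCategory.isIso_Q_map_iff_quasiIso _ _).1 (by rw [ha]; infer_instance)
  haveI := quasiIso_homCxPre_of_isKInjective a Jw
  haveI := quasiIso_homCxPre_of_isKInjective b Jw
  exact ⟨(asIso (DerivedCategory.Q.map (homCxPre a Jw))).symm ≪≫ asIso (DerivedCategory.Q.map (homCxPre b Jw))⟩

omit [IsNoetherianRing A] in
/-- Changing the target along a map bijective on morphisms from the source. -/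
theorem nonempty_homCx_iso_right (G M N : DRing.Cx A) [M.IsKInjective] [N.IsKInjective]
    (φ : DerivedCategory.Q.obj M ⟶ DerivedCategory.Q.obj N)
    (h : ∀ n : ℤ, Function.Bijective (fun ψ : DerivedCategory.Q.obj G ⟶ (DerivedCategory.Q.obj M)⟦n⟧ => ψ ≫ φ⟦n⟧')) :
    Nonempty (DerivedCategory.Q.obj (DRing.homCx G M) ≅ DerivedCategory.Q.obj (DRing.homCx G N)) := by
  obtain ⟨a, rfl⟩ := exists_Q_map φ
  let κ := DerivedCategory.quotientCompQhIso (ModuleCat.{u} A)
  let T : ∀ (R : DRing.Cx A) [R.IsKInjective] (n : ℤ),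
      ((qH A).obj G ⟶ (qH A).obj (R⟦n⟧)) ≃ (DerivedCategory.Q.obj G ⟶ (DerivedCategory.Q.obj R)⟦n⟧) :=
    fun R _ n => (Equiv.ofBijective _ (CochainComplex.IsKInjective.Qh_map_bijective ((qH A).obj G) (R⟦n⟧))).trans
      (Iso.homCongr (κ.app G) (κ.app (R⟦n⟧) ≪≫ ((DerivedCategory.Q).commShiftIso n).app R))
  have hnat : ∀ (n : ℤ) (ψ : (qH A).obj G ⟶ (qH A).obj (M⟦n⟧)),
      T N n (ψ ≫ (qH A).map (a⟦n⟧')) = T M n ψ ≫ (DerivedCategory.Q.map a)⟦n⟧' := fun n ψ => by
    show κ.inv.app G ≫ DerivedCategory.Qh.map (ψ ≫ (qH A).map (a⟦n⟧')) ≫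
        (κ.hom.app (N⟦n⟧) ≫ ((DerivedCategory.Q).commShiftIso n).hom.app N) =
      (κ.inv.app G ≫ DerivedCategory.Qh.map ψ ≫
        (κ.hom.app (M⟦n⟧) ≫ ((DerivedCategory.Q).commShiftIso n).hom.app M)) ≫ (DerivedCategory.Q.map a)⟦n⟧'
    have h1 : DerivedCategory.Qh.map ((qH A).map (a⟦n⟧')) ≫ κ.hom.app (N⟦n⟧) =
        κ.hom.app (M⟦n⟧) ≫ DerivedCategory.Q.map (a⟦n⟧') := κ.hom.naturality (a⟦n⟧')
    rw [Functor.map_comp, Category.assoc, reassoc_of% h1, (DerivedCategory.Q).commShiftIso_hom_naturality a n]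
    simp only [Category.assoc]
  haveI : QuasiIso (DRing.homCxMap G a) := quasiIso_homCxMap a fun n => by
    have h2 : (fun ψ => T N n (ψ ≫ (qH A).map (a⟦n⟧'))) =
        (fun ψ => ψ ≫ (DerivedCategory.Q.map a)⟦n⟧') ∘ T M n := funext (hnat n)
    refine (Function.Bijective.of_comp_iff' (T N n).bijective _).1 ?_
    show Function.Bijective (fun ψ => T N n (ψ ≫ (qH A).map (a⟦n⟧')))
    rw [h2]
    exact (h n).comp (T M n).bijective
  exact ⟨@asIso _ _ _ _ (DerivedCategory.Q.map (DRing.homCxMap G a))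
    ((DerivedCategory.isIso_Q_map_iff_quasiIso _ _).2 inferInstance)⟩

/-- Derived completion of `RHom(K, L)`. -/
theorem nonempty_completion_iso (I : Ideal A) [DRing.HasRgammaI I] [DRing.HasDerivedCompletion I]
    (K : DRing.Cx A) [DRing.HasRHomCx K] (G : DRing.Cx A) [DRing.HasRHomCx G]
    (eG : DRing.toD G ≅ (DRing.RgammaI I).obj (DRing.toD K)) (L : Dual.D A) :
    Nonempty (((DRing.derivedCompletion I).obj ((DRing.RHomCx K).obj L)).obj ≅ (DRing.RHomCx G).obj L) := by
  obtain ⟨s, hs⟩ := (IsNoetherian.noetherian I : I.FG)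
  obtain ⟨JK, g, hJK, hg, -, hinj⟩ := TriCat.exists_kInjective_resolution'.{u} K
  haveI := hJK
  haveI := hg
  have hJi : ∀ n, Module.Injective A (JK.X n) := fun n => (Module.injective_iff_injective_object A _).2 (hinj n)
  obtain ⟨Jw, hJw, -, ⟨eJ⟩⟩ := exists_resolution L
  haveI := hJw
  obtain ⟨e, -⟩ := exists_rgamma_iso I JK
  haveI : IsIso (DerivedCategory.Q.map g) := (DerivedCategory.isIso_Q_map_iff_quasiIso _ _).2 hg
  haveI := quasiIso_homCxPre_of_isKInjective g Jw
  haveI : IsIso (DerivedCategory.Q.map (homCxPre g Jw)) :=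
    (DerivedCategory.isIso_Q_map_iff_quasiIso _ _).2 inferInstance
  obtain ⟨eG'⟩ := nonempty_homCx_iso G (RgammaHDI.gCx I JK) Jw
    (eG ≪≫ (DRing.RgammaI I).mapIso (asIso (DerivedCategory.Q.map g)) ≪≫ e.symm)
  let eX : (DRing.RHomCx K).obj L ≅ DerivedCategory.Q.obj (DRing.homCx JK Jw) :=
    (DRing.RHomCx K).mapIso eJ ≪≫ (isoOfKInjective K Jw).symm ≪≫
      (asIso (DerivedCategory.Q.map (homCxPre g Jw))).symm
  have hrefl : Refl (DRing.IsDerivedComplete I) (eX.hom ≫ DerivedCategory.Q.map (homCxPre (gIncl I JK) Jw)) := by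
    refine ⟨?_, fun Z hZ n => ?_⟩
    · intro f hf
      refine cg_homCx_of_tors _ Jw f fun q x => ?_
      obtain ⟨k, hk⟩ := isPowerTorsion_homology_gCx I JK q x
      exact ⟨k, hk _ (Ideal.pow_mem_pow hf k)⟩
    · have hs' : Ideal.span (s : Set A) = I := hs
      subst hs'
      have hb := bijective_gIncl JK Jw hJi s (Z⟦n⟧) fun f hf =>
        (isDerivedComplete_shift hZ n) f (Submodule.subset_span hf)
      have h3 := eX.symm.homFromEquiv.bijective.comp hb
      refine ⟨fun a b h => h3.1 ?_, fun y => ?_⟩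
      · exact ((Category.assoc _ _ _).symm.trans h).trans (Category.assoc _ _ _)
      · obtain ⟨x, hx⟩ := h3.2 y
        exact ⟨x, (Category.assoc _ _ _).trans hx⟩
  obtain ⟨e'⟩ := (refl_unit _).exists_iso hrefl
  exact ⟨e' ≪≫ eG'.symm ≪≫ isoOfKInjective G Jw ≪≫ (DRing.RHomCx G).mapIso eJ.symm⟩

/-- `RHom` out of a torsion object only sees the derived torsion of the target. -/
theorem nonempty_rhom_rgamma_iso (I : Ideal A) [DRing.HasRgammaI I] (G : DRing.Cx A) [DRing.HasRHomCx G]
    (hG : ∀ q, LocCoh.IsPowerTorsion I (Dual.HD A (DRing.toD G) q)) (L : Dual.D A) :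
    Nonempty ((DRing.RHomCx G).obj ((DRing.RgammaI I).obj L) ≅ (DRing.RHomCx G).obj L) := by
  obtain ⟨M, hM, -, ⟨eM⟩⟩ := exists_resolution ((DRing.RgammaI I).obj L)
  obtain ⟨N, hN, -, ⟨eN⟩⟩ := exists_resolution L
  haveI := hM
  haveI := hN
  let φ := eM.inv ≫ (DRing.RgammaIε I).app L ≫ eN.hom
  obtain ⟨e⟩ := nonempty_homCx_iso_right G M N φ fun n => by
    let L₀ := (DerivedCategory.Q.obj G)⟦-n⟧
    let i : DerivedCategory.Q.obj G ≅ L₀⟦n⟧ := (shiftNegShift (DerivedCategory.Q.obj G) n).symm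
    have hL₀ : ∀ q, LocCoh.IsPowerTorsion I (Dual.HD A L₀ q) := fun q x => by
      let ψ := (((DerivedCategory.homologyFunctor (ModuleCat.{u} A) 0).shiftIso (-n) q (q - n) (by omega)).app
        (DerivedCategory.Q.obj G)).toLinearEquiv
      obtain ⟨k, hk⟩ := hG (q - n) (ψ x)
      exact ⟨k, fun a ha => ψ.injective (by rw [map_smul, hk a ha, map_zero])⟩
    have hb := rgammaε_bijective I L₀ L hL₀
    have hb' : Function.Bijective (fun χ : L₀ ⟶ DerivedCategory.Q.obj M => χ ≫ φ) := by
      have := (eN.homToEquiv.bijective.comp hb).comp eM.symm.homToEquiv.bijective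
      convert this using 2 with χ
      simp [φ]
    let sh : ∀ R : Dual.D A, (L₀ ⟶ R) ≃ (DerivedCategory.Q.obj G ⟶ R⟦n⟧) := fun R =>
      ((Functor.FullyFaithful.ofFullyFaithful (CategoryTheory.shiftFunctor (Dual.D A) n)).homEquiv).trans i.symm.homFromEquiv
    have h2 : (fun ψ : DerivedCategory.Q.obj G ⟶ (DerivedCategory.Q.obj M)⟦n⟧ => ψ ≫ φ⟦n⟧') ∘ sh _ =
        sh _ ∘ (fun χ => χ ≫ φ) := funext fun χ => by
      simp [sh]
    exact (Function.Bijective.of_comp_iff _ (sh _).bijective).1 (h2 ▸ (sh _).bijective.comp hb')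
  exact ⟨(DRing.RHomCx G).mapIso eM ≪≫ (isoOfKInjective G M).symm ≪≫ e ≪≫ isoOfKInjective G N ≪≫
    (DRing.RHomCx G).mapIso eN.symm⟩

omit [IsNoetherianRing A] in
/-- The derived torsion of a normalized dualizing complex. -/
theorem nonempty_rgamma_dualizing [IsLocalRing A] [IsNoetherianRing A] {ω : Dual.D A}
    (hω : Dual.IsDualizing A ω) (hn : Dual.IsNormalized A ω) {E : Type u} [AddCommGroup E] [Module A E]
    {f : IsLocalRing.ResidueField A →ₗ[A] E} (hf : InjHull.IsInjectiveHull f)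
    [DRing.HasRgammaI (IsLocalRing.maximalIdeal A)] :
    Nonempty ((DRing.RgammaI (IsLocalRing.maximalIdeal A)).obj ω ≅ Dual.inD A E) := by
  obtain ⟨⟨e₀⟩, hne⟩ := Groth.Agent.S1718.result A ω hω hn E f hf
  let R := (DRing.RgammaI (IsLocalRing.maximalIdeal A)).obj ω
  have hz : ∀ i : ℤ, i ≠ 0 → IsZero ((DerivedCategory.homologyFunctor (ModuleCat.{u} A) i).obj R) := fun i hi => by
    obtain ⟨e⟩ := RgammaHDI.nonempty_hd_equiv (IsLocalRing.maximalIdeal A) ω i
    haveI := hne i hi
    haveI : Subsingleton (Dual.HD A R i) := e.toEquiv.subsingleton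
    exact ModuleCat.isZero_of_subsingleton _
  haveI : DerivedCategory.IsGE R 0 := (DerivedCategory.isGE_iff _ _).2 fun i hi => hz i (by omega)
  haveI : DerivedCategory.IsLE R 0 := (DerivedCategory.isLE_iff _ _).2 fun i hi => hz i (by omega)
  obtain ⟨N, ⟨eN⟩⟩ := DerivedCategory.exists_iso_singleFunctor_obj_of_isGE_of_isLE R 0
  obtain ⟨e⟩ := RgammaHDI.nonempty_hd_equiv (IsLocalRing.maximalIdeal A) ω 0
  let eH : N ≃ₗ[A] E := (((DerivedCategory.singleFunctorCompHomologyFunctorIso (ModuleCat.{u} A) 0).app N).symm ≪≫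
    (DerivedCategory.homologyFunctor (ModuleCat.{u} A) 0).mapIso eN.symm).toLinearEquiv.trans (e.trans e₀)
  exact ⟨eN ≪≫ (DerivedCategory.singleFunctor (ModuleCat.{u} A) 0).mapIso eH.toModuleIso⟩

end Groth.Agent.KFlatLib.CompletionDuality
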