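import Groth.Agent.KFlatLib.Ring.FiniteTorDimDuality
import Groth.Agent.KFlatLib.Ring.DualizingFlat
import Groth.Agent.KFlatLib.Ring.DualizingPoint
import Groth.Agent.KFlatLib.Ring.LocalInvertible
import Groth.Agent.KFlatLib.Ring.EvalTen
import Groth.Agent.H9Misc.DRingMinimal

/-!
# Invertibility from point objects
-/

set_option linter.style.haveILetI false
set_option backward.isDefEq.respectTransparency false

universe u

open CategoryTheory CategoryTheory.Limits Pretriangulated MonoidalCategory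

attribute [local instance] HasDerivedCategory.standard

namespace Groth.Agent.KFlatLib

variable {A : Type u} [CommRing A]

/-- An object killed by a maximal ideal without negative self-maps sits in one degree. -/
theorem exists_subsingleton_hd_of_point (m : Ideal A) [m.IsMaximal] (Z : Dual.D A) (a b : ℤ)
    (hz : ∀ i : ℤ, (i < a ∨ b < i) → Subsingleton (Dual.HD A Z i))
    (hsmul : ∀ r ∈ m, (r • 𝟙 Z : Z ⟶ Z) = 0) (hneg : ∀ i : ℤ, i < 0 → Subsingleton (Z ⟶ Z⟦i⟧)) :
    ∃ c : ℤ, ∀ j, j ≠ c → Subsingleton (Dual.HD A Z j) := by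
  classical
  haveI := hasLTen A
  haveI := hasRHom (A := A)
  have htor : ∀ i : ℤ, Module.IsTorsionBySet A (Dual.HD A Z i) m := fun i => by
    obtain ⟨e⟩ := exists_homUnitLEquiv Z (-i) i (by omega)
    refine fun z r => e.symm.injective ?_
    rw [map_smul, map_zero]
    calc (r : A) • e.symm z = e.symm z ≫ ((r : A) • 𝟙 Z) := by rw [Linear.comp_smul, Category.comp_id]
      _ = 0 := by rw [hsmul _ r.2, comp_zero]
  let S := (Finset.Icc a b).filter fun i => ¬ Subsingleton (Dual.HD A Z i)
  have hS : ∀ i, i ∉ S → Subsingleton (Dual.HD A Z i) := fun i hi => by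
    by_contra h
    simp only [S, Finset.mem_filter, Finset.mem_Icc, not_and, not_not] at hi
    by_cases hi' : a ≤ i ∧ i ≤ b
    · exact h (hi hi')
    · exact h (hz i (by omega))
  by_cases hne : S.Nonempty
  swap
  · exact ⟨0, fun j _ => hS j fun hj => hne ⟨j, hj⟩⟩
  let lo := S.min' hne
  let hi := S.max' hne
  suffices lo = hi from ⟨lo, fun j hj => hS j fun hmem => hj (le_antisymm
    ((S.le_max' j hmem).trans this.symm.le) (S.min'_le j hmem))⟩
  by_contra hlt'
  have hlt : lo < hi := lt_of_le_of_ne (S.min'_le _ (S.max'_mem hne)) hlt'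
  haveI : Nontrivial (Dual.HD A Z lo) :=
    not_subsingleton_iff_nontrivial.1 (Finset.mem_filter.1 (S.min'_mem hne)).2
  haveI : Nontrivial (Dual.HD A Z hi) :=
    not_subsingleton_iff_nontrivial.1 (Finset.mem_filter.1 (S.max'_mem hne)).2
  haveI : Z.IsLE hi := (DerivedCategory.isLE_iff _ _).2 fun i h =>
    @ModuleCat.isZero_of_subsingleton _ _ _ (hS i fun hm => absurd (S.le_max' i hm) (by omega))
  haveI : Z.IsGE lo := (DerivedCategory.isGE_iff _ _).2 fun i h =>
    @ModuleCat.isZero_of_subsingleton _ _ _ (hS i fun hm => absurd (S.min'_le i hm) (by omega))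
  haveI : DerivedCategory.IsGE (Z⟦lo - hi⟧) hi :=
    DerivedCategory.TStructure.t.isGE_shift Z lo (lo - hi) hi (by omega)
  obtain ⟨g, hg⟩ := exists_ne_zero_hom_of_isTorsionBySet m (Dual.HD A Z hi) (Dual.HD A Z lo) (htor hi) (htor lo)
  obtain ⟨e⟩ := exists_homologyMapLEquiv hi Z (Z⟦lo - hi⟧)
  obtain ⟨es⟩ := exists_hdShiftLEquiv Z (lo - hi) hi lo (by omega)
  haveI := hneg (lo - hi) (by omega)
  refine hg (LinearMap.ext fun x => es.symm.injective ?_)
  have h0 := congrArg e (Subsingleton.elim (e.symm (es.symm.toLinearMap.comp g)) 0)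
  rw [LinearEquiv.apply_symm_apply, map_zero] at h0
  exact (LinearMap.congr_fun h0 x).trans (map_zero es.symm).symm

/-- Nullhomotopies from vanishing in the derived category. -/
lemma nonempty_homotopy_zero {P K : DRing.Cx A} (hP : P.IsKProjective) (g : P ⟶ K)
    (hg : DerivedCategory.Q.map g = 0) : Nonempty (Homotopy g 0) := by
  let q := DerivedCategory.quotientCompQhIso (ModuleCat.{u} A)
  have h0 : (HomotopyCategory.quotient _ _).map g = 0 := by
    refine (CochainComplex.IsKProjective.Qh_map_bijective P _).1 ?_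
    rw [Functor.map_zero, ← cancel_mono (q.hom.app _), zero_comp]
    exact (q.hom.naturality g).trans (by rw [hg, comp_zero])
  exact ⟨HomotopyCategory.homotopyOfEq _ _ (h0.trans (Functor.map_zero _ _ _).symm)⟩

section Local

variable [IsLocalRing A]

open IsLocalRing

/-- A pseudo-coherent object with one nonzero map degree to the residue field is free in one degree. -/
theorem exists_free_single_of_residue (K : Dual.D A) (hK : DRing.IsPseudoCoherent' A K) (c : ℤ)
    (h : ∀ j : ℤ, j ≠ c → Subsingleton (K ⟶ (Dual.inD A (A ⧸ maximalIdeal A))⟦j⟧)) :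
    ∃ (F : DRing.Cx A), DRing.VanishesOutside F (-c) (-c) ∧ DRing.TermwiseFiniteFree F ∧
      Nonempty (DRing.toD F ≅ K) := by
  haveI := H9Misc.DRingLBase.hasLBaseChange (residue A)
  obtain ⟨-, -, P, hP⟩ := H9Misc.DRingMinimal.exists_minimal hK
  obtain ⟨b, hb⟩ := hP.1
  obtain ⟨eK⟩ := hP.2.2
  have hP' : DRing.TermwiseFiniteFree P := fun i => ⟨(hP.2.1 i).2.1, (hP.2.1 i).1⟩
  haveI hproj := H9Misc.DRingProjAmp.isKProjective (R := A) (P := P)
    (fun i => haveI := (hP' i).2; Module.Projective.of_free) hb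
  refine ⟨P, fun i hi => ?_, hP', ⟨eK⟩⟩
  haveI := (hP' i).2
  by_contra hz
  haveI : Nontrivial (P.X i) := by
    by_contra hn
    rw [not_nontrivial_iff_subsingleton] at hn
    exact hz (@ModuleCat.isZero_of_subsingleton _ _ _ hn)
  let β := Module.Free.chooseBasis A (P.X i)
  obtain ⟨l⟩ := β.index_nonempty
  let f : P.X i ⟶ ModuleCat.of A (A ⧸ maximalIdeal A) :=
    ModuleCat.ofHom ((maximalIdeal A).mkQ.comp (β.coord l))
  have hkill : ∀ {j : ℤ} (g : P.X j ⟶ ModuleCat.of A (A ⧸ maximalIdeal A)) (i' : ℤ) (x : P.X i'),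
      i' + 1 = j → g.hom ((P.d i' j).hom x) = 0 := by
    rintro j g i' x rfl
    have hmem : g.hom ((P.d i' (i' + 1)).hom x) ∈
        (maximalIdeal A • (⊤ : Submodule A (P.X (i' + 1)))).map g.hom := ⟨_, hP.d_mem i' x, rfl⟩
    rw [Submodule.map_smul''] at hmem
    have hbot : maximalIdeal A • (LinearMap.range g.hom) = ⊥ := by
      refine eq_bot_iff.2 (Submodule.smul_le.2 fun r hr y _ => ?_)
      obtain ⟨t, rfl⟩ := Ideal.Quotient.mk_surjective y
      rw [Submodule.mem_bot]
      exact Ideal.Quotient.eq_zero_iff_mem.2 ((maximalIdeal A).mul_mem_right t hr)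
    rw [Submodule.map_top, hbot, Submodule.mem_bot] at hmem
    exact hmem
  let g : P ⟶ (CochainComplex.singleFunctor (ModuleCat.{u} A) i).obj (ModuleCat.of A (A ⧸ maximalIdeal A)) :=
    HomologicalComplex.mkHomToSingle f fun i' hi' => by
      refine ModuleCat.hom_ext (LinearMap.ext fun x => ?_)
      exact hkill f i' x hi'
  have hzero : DerivedCategory.Q.map g = 0 := by
    let es : (DerivedCategory.singleFunctor (ModuleCat.{u} A) i).obj (ModuleCat.of A (A ⧸ maximalIdeal A)) ≅
        (Dual.inD A (A ⧸ maximalIdeal A))⟦-i⟧ :=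
      (((DerivedCategory.singleFunctors (ModuleCat.{u} A)).shiftIso (-i) i 0 (by omega)).app _).symm
    haveI := h (-i) (by omega)
    have := Subsingleton.elim (eK.inv ≫ DerivedCategory.Q.map g ≫
      ((DerivedCategory.singleFunctorIsoCompQ (ModuleCat.{u} A) i).app _).inv ≫ es.hom) 0
    rw [← cancel_epi eK.inv, ← cancel_mono (((DerivedCategory.singleFunctorIsoCompQ (ModuleCat.{u} A) i).app
      (ModuleCat.of A (A ⧸ maximalIdeal A))).inv ≫ es.hom), comp_zero, zero_comp, Category.assoc]
    exact this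
  obtain ⟨H⟩ := nonempty_homotopy_zero hproj g hzero
  have hc := H.comm i
  rw [dNext_eq _ (show (ComplexShape.up ℤ).Rel i (i + 1) from rfl),
    prevD_eq _ (show (ComplexShape.up ℤ).Rel (i - 1) i from sub_add_cancel i 1)] at hc
  simp only [HomologicalComplex.zero_f, add_zero] at hc
  have hd : ((CochainComplex.singleFunctor (ModuleCat.{u} A) i).obj (ModuleCat.of A (A ⧸ maximalIdeal A))).d (i - 1) i = 0 :=
    (HomologicalComplex.isZero_single_obj_X (ComplexShape.up ℤ) i _ (i - 1) (by omega)).eq_of_src _ _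
  rw [hd, comp_zero, add_zero] at hc
  let eX := HomologicalComplex.singleObjXSelf (ComplexShape.up ℤ) i (ModuleCat.of A (A ⧸ maximalIdeal A))
  have hgf : g.f i = f ≫ eX.inv := HomologicalComplex.mkHomToSingle_f _ _
  have hf : f = P.d i (i + 1) ≫ (H.hom (i + 1) i ≫ eX.hom) := by
    rw [← Category.assoc, ← hc, hgf, Category.assoc]
    exact ((congrArg (f ≫ ·) eX.inv_hom_id).trans (Category.comp_id f)).symm
  have h1 : f.hom (β l) = 0 := by
    rw [hf]
    exact hkill (H.hom (i + 1) i ≫ eX.hom) i (β l) rfl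
  have h2 : f.hom (β l) = Submodule.Quotient.mk (1 : A) := by simp [f]
  exact (maximalIdeal.isMaximal A).ne_top
    ((Ideal.eq_top_iff_one _).2 ((Submodule.Quotient.mk_eq_zero _).1 (h2.symm.trans h1)))

end Local

variable [IsNoetherianRing A]

/-- Perfectness from the maps to the closed points. -/
theorem isPerfect_of_points (K : Dual.D A) (lo hi : ℤ) [K.IsGE lo] [K.IsLE hi]
    (hK : ∀ i : ℤ, Module.Finite A (Dual.HD A K i))
    (h : ∀ m : Ideal A, m.IsMaximal → ∃ c : ℤ, ∀ j : ℤ, j ≠ c →
      Subsingleton (K ⟶ (Dual.inD A (A ⧸ m))⟦j⟧)) : DRing.IsPerfect A K := by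
  haveI := hasLTen A
  haveI := hasRHom (A := A)
  have hpc := pc'_of_finite_hd K hi hK
  refine (H9Misc.DRingPerfect.isPerfect_iff K).2 ⟨hpc,
    hasFiniteTorDimCx_of_hom_vanishing lo hi hK (lo - 1) fun C hC a ha φ => ?_⟩
  suffices hs : Subsingleton (K ⟶ (Dual.inD A C)⟦-a⟧) by
    let es : (DerivedCategory.singleFunctor (ModuleCat.{u} A) a).obj C ≅ (Dual.inD A C)⟦-a⟧ :=
      (((DerivedCategory.singleFunctors (ModuleCat.{u} A)).shiftIso (-a) a 0 (by omega)).app _).symm
    exact (cancel_mono es.hom).1 ((Subsingleton.elim _ _).trans zero_comp.symm)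
  refine Module.subsingleton_of_localization_maximal (R := A)
    (fun P _ => LocalizedModule P.primeCompl (K ⟶ (Dual.inD A C)⟦-a⟧))
    (fun P _ => LocalizedModule.mkLinearMap _ _) fun m hm => ?_
  let B := Localization.AtPrime m
  haveI : Module.Flat A B := IsLocalization.flat B m.primeCompl
  haveI := hasLBase (algebraMap A B)
  haveI := hasLTen B
  haveI := hasRHom (A := B)
  obtain ⟨c, hc⟩ := h m hm
  haveI : IsNoetherianRing B := IsLocalization.isNoetherianRing m.primeCompl B inferInstance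
  let L := (DTen.LBase (algebraMap A B)).obj K
  haveI : L.IsGE lo := isGE_LBase_flat K lo
  haveI : L.IsLE hi := isLE_LBase (φ := algebraMap A B) K hi
  haveI : (Dual.inD A C).IsGE 0 := inferInstanceAs
    (DerivedCategory.IsGE ((DerivedCategory.singleFunctor (ModuleCat.{u} A) 0).obj _) 0)
  have hL : ∀ i, Module.Finite B (Dual.HD B L i) := fun i => finite_hd_LBase K i (hK i)
  obtain ⟨F, hFz, hFf, ⟨eF⟩⟩ := exists_free_single_of_residue L (pc'_of_finite_hd L hi hL) c fun j hj => by
    haveI : (Dual.inD A (A ⧸ m)).IsGE 0 := inferInstanceAs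
      (DerivedCategory.IsGE ((DerivedCategory.singleFunctor (ModuleCat.{u} A) 0).obj _) 0)
    obtain ⟨e⟩ := exists_homBaseChangeLEquiv (B := B) (X := K) (Y := Dual.inD A (A ⧸ m)) hpc 0 j
    obtain ⟨eI⟩ := nonempty_LBase_inD_quotient (B := B) m
    rw [show m.map (algebraMap A B) = IsLocalRing.maximalIdeal B from
      IsLocalization.AtPrime.map_eq_maximalIdeal m B] at eI
    haveI := hc j hj
    haveI : Subsingleton (L ⟶ ((DTen.LBase (algebraMap A B)).obj (Dual.inD A (A ⧸ m)))⟦j⟧) :=
      e.injective.subsingleton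
    exact (Iso.homCongr (Iso.refl L) ((shiftFunctor (Dual.D B) j).mapIso eI)).symm.subsingleton
  obtain ⟨e⟩ := exists_homBaseChangeLEquiv (B := B) (X := K) (Y := Dual.inD A C) hpc 0 (-a)
  haveI hLa : Subsingleton (L ⟶ ((DTen.LBase (algebraMap A B)).obj (Dual.inD A C))⟦-a⟧) := by
    refine ⟨fun φ ψ => ?_⟩
    rcases lt_or_ge (-c) lo with hcl | hcl
    · haveI : CochainComplex.IsStrictlyLE F (-c) :=
        (CochainComplex.isStrictlyLE_iff _ _).2 fun i hi => hFz i (Or.inr hi)
      haveI : L.IsLE (-c) := DerivedCategory.TStructure.t.isLE_of_iso eF (-c)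
      exact (DerivedCategory.TStructure.t.isZero L (-c) lo hcl).eq_of_src _ _
    · haveI : ((DTen.LBase (algebraMap A B)).obj (Dual.inD A C)).IsLE 0 := by
        haveI : (Dual.inD A C).IsLE 0 := inferInstanceAs
          (DerivedCategory.IsLE ((DerivedCategory.singleFunctor (ModuleCat.{u} A) 0).obj _) 0)
        exact isLE_LBase (φ := algebraMap A B) (Dual.inD A C) 0
      haveI : DerivedCategory.IsLE (((DTen.LBase (algebraMap A B)).obj (Dual.inD A C))⟦-a⟧) a :=
        DerivedCategory.TStructure.t.isLE_shift _ 0 (-a) a (by omega)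
      have hp : ∀ i, Module.Projective B (F.X i) := fun i => haveI := (hFf i).2; Module.Projective.of_free
      rw [← cancel_epi eF.hom, eq_zero_of_projective_bounded hFz hp a (by omega) (eF.hom ≫ φ),
        eq_zero_of_projective_bounded hFz hp a (by omega) (eF.hom ≫ ψ)]
  haveI := e.symm.injective.subsingleton
  exact (LocalizedModule.equivTensorProduct m.primeCompl (K ⟶ (Dual.inD A C)⟦-a⟧)).injective.subsingleton

omit [IsNoetherianRing A] in
/-- A perfect object with the endomorphisms of the ring is invertible. -/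
theorem isInvertible_of_isPerfect [DTen.HasLTen A] {K : Dual.D A} (hK : DRing.IsPerfect A K)
    (hend : Function.Bijective fun r : A => r • 𝟙 K)
    (hext : ∀ i : ℤ, i ≠ 0 → Subsingleton (K ⟶ K⟦i⟧)) : DTen.IsInvertible A K := by
  haveI := hasRHom (A := A)
  haveI := hasLTen₃ A
  haveI := isSymMonoidal A
  let X := (DTen.RHomR A K).obj K
  have hz : ∀ n : ℤ, n ≠ 0 → IsZero ((DerivedCategory.homologyFunctor (ModuleCat.{u} A) n).obj X) := fun n hn => by
    obtain ⟨e⟩ := exists_hdRHomShiftLEquiv K K n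
    haveI := hext n hn
    exact @ModuleCat.isZero_of_subsingleton _ _ _ e.injective.subsingleton
  haveI : X.IsLE 0 := (DerivedCategory.isLE_iff _ _).2 fun i hi => hz i (by omega)
  haveI : X.IsGE 0 := (DerivedCategory.isGE_iff _ _).2 fun i hi => hz i (by omega)
  obtain ⟨e₁⟩ := H9Misc.nonempty_iso_single_homology 0 X
  obtain ⟨e₂⟩ := exists_hdRHomShiftLEquiv K K 0
  let c : A →ₗ[A] (K ⟶ K) :=
    { toFun := fun a => a • 𝟙 K
      map_add' := fun a b => add_smul a b _
      map_smul' := fun a b => mul_smul a b _ }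
  let e₃ : Dual.HD A X 0 ≃ₗ[A] A := e₂.trans ((Linear.homCongr A (Iso.refl K)
    ((shiftFunctorZero (Dual.D A) ℤ).app K)).trans (LinearEquiv.ofBijective c hend).symm)
  let eX : X ≅ DTen.unit A :=
    e₁ ≪≫ (DerivedCategory.singleFunctor (ModuleCat.{u} A) 0).mapIso e₃.toModuleIso ≪≫
      (DerivedCategory.singleFunctorIsoCompQ (ModuleCat.{u} A) 0).app (ModuleCat.of A A)
  haveI := isIso_evalTen_of_isPerfect_left K (DTen.unit A) K hK
  let L := (DTen.RHomR A K).obj (DTen.unit A)
  let e : (DTen.LTen₂ A).obj (K, L) ≅ DTen.unit A :=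
    asIso (DTen.evalTen K (DTen.unit A) K) ≪≫ (DTen.RHomR A K).mapIso (DTen.rightUnitor K) ≪≫ eX
  exact ⟨L, ⟨e⟩, ⟨DTen.braiding K L ≪≫ e⟩⟩

end Groth.Agent.KFlatLib
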