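import Groth.Agent.KFlatLib.Ring.HasLBase
import Groth.Agent.KFlatLib.Ring.RHomFinite
import Groth.Agent.H9Misc.DRingRestrict

/-!
# The right adjoint of restriction along a finite ring map
-/

set_option linter.style.haveILetI false
set_option backward.isDefEq.respectTransparency false

universe u

open CategoryTheory CategoryTheory.Limits Pretriangulated

attribute [local instance] HasDerivedCategory.standard

namespace Groth.Agent.KFlatLib

variable {A B : Type u} [CommRing A] [CommRing B]

/-- Restricting the right adjoint of restriction gives derived hom out of the algebra. -/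
lemma nonempty_res_shriek_iso [DTen.HasLTen A] [DTen.HasRHom A] (φ : A →+* B)
    (R : Dual.D A ⥤ Dual.D B) (adj : DRing.restrictD φ ⊣ R) :
    Nonempty (R ⋙ DRing.restrictD φ ≅ DTen.RHomR A (DerivedCategory.Q.obj (resUnitCx φ))) := by
  haveI := hasLBase φ
  obtain ⟨β⟩ := nonempty_resLBase_iso φ
  exact ⟨Adjunction.rightAdjointUniq (((DTen.baseAdj φ).comp adj).ofNatIsoLeft β) (DTen.rhomAdj A _)⟩

/-- A finite algebra is pseudo-coherent in its derived-category form. -/
lemma pc'_resUnitCx [IsNoetherianRing A] [Algebra A B] [Module.Finite A B] :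
    DRing.IsPseudoCoherent' A (DerivedCategory.Q.obj (resUnitCx (algebraMap A B))) := by
  obtain ⟨e⟩ := nonempty_resUnit_iso A B
  have h : DRing.IsPseudoCoherentModule' A B :=
    (Groth.Agent.S6942.result A 0 (Dual.inD A B) B).2.2 inferInstance
  exact H9Misc.DRingPC.of_iso' e h

/-- Cohomology finite over the base is finite over a finite algebra. -/
lemma finite_hd_of_restrict [Algebra A B] (X : Dual.D B) (i : ℤ)
    (h : Module.Finite A (Dual.HD A ((DRing.restrictD (algebraMap A B)).obj X) i)) :
    Module.Finite B (Dual.HD B X i) := by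
  have e := (H9Misc.DRingRestrict.HDRestrictIso (algebraMap A B) X i).toLinearEquiv
  letI : Module A (Dual.HD B X i) := Module.compHom _ (algebraMap A B)
  haveI : IsScalarTower A B (Dual.HD B X i) := IsScalarTower.of_algebraMap_smul fun _ _ => rfl
  haveI : Module.Finite A (Dual.HD B X i) := by
    haveI := h
    exact Module.Finite.equiv e
  exact Module.Finite.of_restrictScalars_finite A B _

/-- The right adjoint of restriction along a finite map preserves finiteness of cohomology. -/
theorem finite_hd_shriek [Algebra A B] [IsNoetherianRing A] [Module.Finite A B]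
    (R : Dual.D A ⥤ Dual.D B) (adj : DRing.restrictD (algebraMap A B) ⊣ R) (K : Dual.D A) (a : ℤ)
    [K.IsGE a] (hK : ∀ i : ℤ, Module.Finite A (Dual.HD A K i)) (i : ℤ) :
    Module.Finite B (Dual.HD B (R.obj K) i) := by
  haveI := hasLTen A
  haveI := hasRHom (A := A)
  obtain ⟨γ⟩ := nonempty_res_shriek_iso (algebraMap A B) R adj
  refine finite_hd_of_restrict (A := A) _ i ?_
  haveI : Module.Finite A
      ((DerivedCategory.homologyFunctor (ModuleCat.{u} A) i).obj
        ((DTen.RHomR A (DerivedCategory.Q.obj (resUnitCx (algebraMap A B)))).obj K)) :=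
    finite_hd_RHom_of_pc pc'_resUnitCx a hK i
  exact Module.Finite.equiv
    ((DerivedCategory.homologyFunctor (ModuleCat.{u} A) i).mapIso (γ.app K)).symm.toLinearEquiv

end Groth.Agent.KFlatLib
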