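import Groth.Agent.KFlatLib.Ring.DualizingLocalDuality
import Groth.Agent.KFlatLib.Ring.FiniteShriek
import Groth.Agent.KFlatLib.Ring.RHomTriangle
import Groth.Agent.KFlatLib.Ring.RHomFinite
import Groth.Agent.KFlatLib.Ring.ResLBase

/-!
# The triangle of a quotient under `RHom(-, ω)`
-/

set_option linter.style.haveILetI false
set_option backward.isDefEq.respectTransparency false

universe u

open CategoryTheory CategoryTheory.Limits Pretriangulated IsLocalRing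

attribute [local instance] HasDerivedCategory.standard

namespace Groth.Agent.KFlatLib

variable {A : Type u} [CommRing A]

/-- Derived hom out of the ring. -/
lemma nonempty_RHom_ring_iso [DTen.HasLTen A] [DTen.HasRHom A] (K : Dual.D A) :
    Nonempty ((DTen.RHomR A (Dual.inD A A)).obj K ≅ K) := by
  obtain ⟨r⟩ := nonempty_RHomR_unit_iso (A := A) 0
  let u₀ : Dual.inD A A ≅ (DTen.unit A)⟦(0 : ℤ)⟧ :=
    ((DerivedCategory.singleFunctorIsoCompQ (ModuleCat.{u} A) 0).app (ModuleCat.of A A)) ≪≫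
      ((shiftFunctorZero (Dual.D A) ℤ).app _).symm
  exact ⟨((DTen.RHom A).mapIso u₀.symm.op).app K ≪≫ r.app K ≪≫
    eqToIso (congrArg (fun j : ℤ => K⟦j⟧) neg_zero) ≪≫ (shiftFunctorZero (Dual.D A) ℤ).app K⟩

/-- Derived hom out of a quotient is the restricted right adjoint. -/
lemma nonempty_RHom_quot_iso [DTen.HasLTen A] [DTen.HasRHom A] (I : Ideal A)
    (R : Dual.D A ⥤ Dual.D (A ⧸ I)) (adj : DRing.restrictD (Ideal.Quotient.mk I) ⊣ R) (K : Dual.D A) :
    Nonempty ((DTen.RHomR A (Dual.inD A (A ⧸ I))).obj K ≅ (DRing.restrictD (Ideal.Quotient.mk I)).obj (R.obj K)) := by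
  obtain ⟨r⟩ := nonempty_res_shriek_iso (Ideal.Quotient.mk I) R adj
  obtain ⟨e⟩ := nonempty_resUnit_iso A (A ⧸ I)
  exact ⟨((DTen.RHom A).mapIso e.symm.op).app K ≪≫ (r.app K).symm⟩

variable [IsLocalRing A] [IsNoetherianRing A] {ω : Dual.D A} {E : Type u} [AddCommGroup E] [Module A E]
  {f : ResidueField A →ₗ[A] E}

/-- Derived hom out of a module of finite length is its Matlis dual. -/
lemma nonempty_RHom_finiteLength_iso [DTen.HasLTen A] [DTen.HasRHom A] (hω : Dual.IsDualizing A ω)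
    (hn : Dual.IsNormalized A ω) (hf : InjHull.IsInjectiveHull f) (N : Type u) [AddCommGroup N] [Module A N]
    (hN : IsFiniteLength A N) :
    Nonempty ((DTen.RHomR A (Dual.inD A N)).obj ω ≅ Dual.inD A (N →ₗ[A] E)) := by
  let Y := (DTen.RHomR A (Dual.inD A N)).obj ω
  have hz : ∀ i : ℤ, i ≠ 0 → IsZero ((DerivedCategory.homologyFunctor (ModuleCat.{u} A) i).obj Y) := fun i hi => by
    obtain ⟨e⟩ := exists_hdRHomShiftLEquiv (Dual.inD A N) ω i
    haveI := subsingleton_hom_of_isFiniteLength hn N hN i hi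
    exact @ModuleCat.isZero_of_subsingleton _ _ _ e.toEquiv.subsingleton
  haveI : Y.IsGE 0 := (DerivedCategory.isGE_iff Y 0).2 fun i hi => hz i (by omega)
  haveI : Y.IsLE 0 := (DerivedCategory.isLE_iff Y 0).2 fun i hi => hz i (by omega)
  obtain ⟨W, ⟨eW⟩⟩ := DerivedCategory.exists_iso_singleFunctor_obj_of_isGE_of_isLE Y 0
  obtain ⟨s⟩ := exists_hdSingleLEquiv W 0
  obtain ⟨e⟩ := exists_hdRHomShiftLEquiv (Dual.inD A N) ω 0
  obtain ⟨J, -, hJ⟩ := exists_trace hω hn hf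
  obtain ⟨n, hn'⟩ := exists_pow_smul_eq_zero N hN
  let g : W ≃ₗ[A] (N →ₗ[A] E) :=
    s.symm.trans (((DerivedCategory.homologyFunctor (ModuleCat.{u} A) 0).mapIso eW.symm).toLinearEquiv.trans
      (e.trans ((Linear.homCongr A (Iso.refl _) ((shiftFunctorZero (Dual.D A) ℤ).app ω)).trans
        (LinearEquiv.ofBijective (gam J n hn') (hJ n N hN hn')))))
  exact ⟨eW ≪≫ (DerivedCategory.singleFunctor (ModuleCat.{u} A) 0).mapIso g.toModuleIso⟩

omit [IsLocalRing A] [IsNoetherianRing A] in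
/-- Cancelling an isomorphism at the end. -/
lemma comp_comp_hom_comp_inv {C : Type*} [Category C] {X Y Z W : C} (a : X ⟶ Y) (b : Y ⟶ Z) (e : Z ≅ W) :
    (a ≫ b ≫ e.hom) ≫ e.inv = a ≫ b := by simp

/-- The triangle of an ideal of finite length. -/
theorem exists_quot_triangle (hω : Dual.IsDualizing A ω) (hn : Dual.IsNormalized A ω)
    (hf : InjHull.IsInjectiveHull f) (I : Ideal A) (hI : IsFiniteLength A I)
    (R : Dual.D A ⥤ Dual.D (A ⧸ I)) (adj : DRing.restrictD (Ideal.Quotient.mk I) ⊣ R) :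
    ∃ (u : (DRing.restrictD (Ideal.Quotient.mk I)).obj (R.obj ω) ⟶ ω) (v : ω ⟶ Dual.inD A (I →ₗ[A] E))
      (w : Dual.inD A (I →ₗ[A] E) ⟶ ((DRing.restrictD (Ideal.Quotient.mk I)).obj (R.obj ω))⟦(1 : ℤ)⟧),
      Triangle.mk u v w ∈ distTriang (Dual.D A) := by
  haveI := hasLTen A
  haveI := hasRHom (A := A)
  obtain ⟨w₀, hS⟩ := exists_ses_of_exact (f := (I.subtype : I →ₗ[A] A)) (g := (Submodule.mkQ I))
    Subtype.val_injective (Submodule.mkQ_surjective I) (LinearMap.exact_subtype_mkQ I)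
  obtain ⟨c, hT⟩ := exists_triangle_RHomMap _ hS.singleTriangle_distinguished ω
  obtain ⟨e₂⟩ := nonempty_RHom_ring_iso (A := A) ω
  obtain ⟨e₁⟩ := nonempty_RHom_quot_iso I R adj ω
  obtain ⟨e₃⟩ := nonempty_RHom_finiteLength_iso hω hn hf I hI
  refine ⟨e₁.inv ≫ DTen.RHomMap hS.singleTriangle.mor₂ ω ≫ e₂.hom,
    e₂.inv ≫ DTen.RHomMap hS.singleTriangle.mor₁ ω ≫ e₃.hom,
    e₃.inv ≫ c ≫ (shiftFunctor (Dual.D A) (1 : ℤ)).map e₁.hom,
    isomorphic_distinguished _ hT _ (Triangle.isoMk _ _ e₁.symm e₂.symm e₃.symm ?_ ?_ ?_)⟩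
  · exact comp_comp_hom_comp_inv e₁.inv (DTen.RHomMap hS.singleTriangle.mor₂ ω) e₂
  · exact comp_comp_hom_comp_inv e₂.inv (DTen.RHomMap hS.singleTriangle.mor₁ ω) e₃
  · exact comp_comp_hom_comp_inv e₃.inv c ((shiftFunctor (Dual.D A) (1 : ℤ)).mapIso e₁)

end Groth.Agent.KFlatLib
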