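import Groth.Agent.KFlatLib.Ring.DualizingBounded
import Groth.Agent.KFlatLib.Ring.DualizingBidual
import Groth.Agent.KFlatLib.Ring.RgammaAmplitude
import Groth.Agent.KFlatLib.Ring.EvalPseudoCoherent
import Groth.Agent.KFlatLib.Ring.RHomFinite
import Groth.Agent.S0316

/-!
# Local duality for complexes with finite cohomology
-/

set_option linter.style.haveILetI false
set_option backward.isDefEq.respectTransparency false

universe u

open CategoryTheory CategoryTheory.Limits Pretriangulated IsLocalRing DerivedCategory.TStructure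

attribute [local instance] HasDerivedCategory.standard

namespace Groth.Agent.KFlatLib

variable {A : Type u} [CommRing A] [IsLocalRing A] [IsNoetherianRing A] {ω : Dual.D A} {E : Type u}
  [AddCommGroup E] [Module A E] {f : ResidueField A →ₗ[A] E} (hf : InjHull.IsInjectiveHull f)
  (hω : Dual.IsDualizing A ω) (hn : Dual.IsNormalized A ω) (J : Tm ω →ₗ[A] E)
  (hJ : ∀ (n : ℕ) (N : Type u) [AddCommGroup N] [Module A N], IsFiniteLength A N →
    ∀ hN : ∀ a ∈ maximalIdeal A ^ n, ∀ x : N, a • x = 0, Function.Bijective (gam J n hN))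

include hω in
omit [IsLocalRing A] [IsNoetherianRing A] in
/-- Objects in high degrees do not map to the dualizing complex. -/
lemma exists_hom_vanishing [IsNoetherianRing A] : ∃ b : ℤ, ∀ X : Dual.D A, X.IsGE (b + 1) → Subsingleton (X ⟶ ω) := by
  obtain ⟨a, b, hab, -, -⟩ := exists_bounds_of_isDualizing hω
  exact ⟨b, fun X hX => ⟨fun φ ψ => by
    haveI := hX
    rw [eq_zero_of_injAmplitude (b + 1) a b (by omega) hab φ, eq_zero_of_injAmplitude (b + 1) a b (by omega) hab ψ]⟩⟩

include hf hω hn hJ in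
/-- Duality for complexes with finite cohomology. -/
theorem isDual_shift_of_finite (K : Dual.D A) (hK : ∀ i, Module.Finite A (Dual.HD A K i)) (i : ℤ) :
    IsDual J (K⟦i⟧) := by
  haveI := hf.isInjective
  obtain ⟨r, hr⟩ := RgammaHDI.exists_bound_HDI (maximalIdeal A)
  obtain ⟨a, b', -, hga, -⟩ := exists_bounds_of_isDualizing hω
  obtain ⟨b, hb⟩ := exists_hom_vanishing hω
  haveI := hga
  have hlow : ∀ (X : Dual.D A) (c : ℤ), X.IsLE c → ∀ j, c + r < j → c - j < a → IsDual J (X⟦j⟧) := by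
    intro X c hX j h1 h2
    haveI := hX
    refine isDual_of_subsingleton (hr X c j hX h1) ⟨fun φ ψ => ?_⟩
    haveI : DerivedCategory.IsLE (X⟦j⟧) (c - j) := t.isLE_shift X c j (c - j) (by omega)
    rw [t.zero φ (c - j) a h2, t.zero ψ (c - j) a h2]
  have hhigh : ∀ (X : Dual.D A) (d : ℤ), X.IsGE d → ∀ j, j < d → b < d - j → IsDual J (X⟦j⟧) := by
    intro X d hX j h1 h2
    haveI := hX
    haveI : DerivedCategory.IsGE (X⟦j⟧) (d - j) := t.isGE_shift X d j (d - j) (by omega)
    refine isDual_of_subsingleton (subsingleton_of_forall_eq 0 fun w => ?_)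
      (hb _ (t.isGE_of_ge (X⟦j⟧) (b + 1) (d - j) (by omega)))
    obtain ⟨n, u, rfl⟩ := exists_toTm _ w
    haveI : DerivedCategory.IsLE (Dual.inD A (A ⧸ maximalIdeal A ^ n)) 0 :=
      inferInstanceAs (DerivedCategory.IsLE ((DerivedCategory.singleFunctor (ModuleCat.{u} A) 0).obj _) 0)
    rw [t.zero_of_isLE_of_isGE u 0 (d - j) (by omega) inferInstance inferInstance, map_zero]
  have hmid : ∀ {T : Triangle (Dual.D A)}, T ∈ distTriang (Dual.D A) → ∀ j : ℤ,
      IsDual J (T.obj₁⟦j⟧) → IsDual J (T.obj₃⟦j⟧) → IsDual J (T.obj₃⟦j - 1⟧) → IsDual J (T.obj₁⟦j + 1⟧) →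
        IsDual J (T.obj₂⟦j⟧) := fun {T} hT j h1 h3 h3' h1' =>
    isDual_middle (T := (Triangle.shiftFunctor (Dual.D A) j).obj T)
      (Triangle.shift_distinguished _ hT j) h1 h3
      (isDual_of_iso ((shiftFunctorAdd' (Dual.D A) j (-1 : ℤ) (j - 1) (by omega)).app _) h3')
      (isDual_of_iso ((shiftFunctorAdd' (Dual.D A) j (1 : ℤ) (j + 1) (by omega)).app _) h1')
  let c : ℤ := min (i - r - 2) (a + i - 2)
  obtain ⟨T, hT, -, hT1, rfl, hT3, hT3f⟩ := exists_trunc hK c
  suffices h3 : ∀ j, i - 1 ≤ j → j ≤ i → IsDual J (T.obj₃⟦j⟧) from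
    hmid hT i (hlow _ c hT1 i (by omega) (by omega)) (h3 i (by omega) le_rfl) (h3 (i - 1) le_rfl (by omega))
      (hlow _ c hT1 (i + 1) (by omega) (by omega))
  intro j hj1 hj2
  let d : ℤ := max (max (i + 1) (b + i + 1)) (c + 1)
  obtain ⟨S, hS, -, hS1, hS2, hS3, -⟩ := exists_trunc hT3f d
  haveI := hS3
  haveI : DerivedCategory.IsGE S.obj₂ (c + 1) := hS2 ▸ hT3
  have hz : ∀ q, q ≤ d + 1 → IsZero ((DerivedCategory.homologyFunctor (ModuleCat.{u} A) (q - 1)).obj S.obj₃) :=
    fun q hq => DerivedCategory.isZero_of_isGE S.obj₃ (d + 1) (q - 1) (by omega)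
  have hmono : ∀ q, q ≤ d + 1 →
      Function.Injective ((DerivedCategory.homologyFunctor (ModuleCat.{u} A) q).map S.mor₁).hom := fun q hq =>
    (ModuleCat.mono_iff_injective _).1 ((DerivedCategory.HomologySequence.exact₁ _ hS (q - 1) q).mono_g
      ((hz q hq).eq_of_src _ _))
  haveI := hS1
  have hfin1 : ∀ q, Module.Finite A (Dual.HD A S.obj₁ q) := fun q => by
    rcases lt_or_ge d q with hq | hq
    · haveI : Subsingleton (Dual.HD A S.obj₁ q) :=
        ModuleCat.subsingleton_of_isZero (DerivedCategory.isZero_of_isLE S.obj₁ d q hq)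
      infer_instance
    · haveI : Module.Finite A (Dual.HD A S.obj₂ q) := hS2 ▸ hT3f q
      exact Module.Finite.of_injective _ (hmono q (by omega))
  have hge1 : DerivedCategory.IsGE S.obj₁ (c + 1) := (DerivedCategory.isGE_iff _ _).2 fun q hq => by
    haveI : Subsingleton (Dual.HD A S.obj₂ q) :=
      ModuleCat.subsingleton_of_isZero (DerivedCategory.isZero_of_isGE S.obj₂ (c + 1) q hq)
    haveI : Subsingleton ((DerivedCategory.homologyFunctor (ModuleCat.{u} A) q).obj S.obj₁) :=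
      (hmono q (by omega)).subsingleton
    exact ModuleCat.isZero_of_subsingleton _
  have hbd : ∀ k : ℤ, IsDual J (S.obj₁⟦k⟧) := isDual_shift_of_bounded hf hω hn J hJ d
    ((d - (c + 1)).toNat + 1) (c + 1) S.obj₁ hge1 (by omega) hfin1
    (fun q hq => ModuleCat.subsingleton_of_isZero (DerivedCategory.isZero_of_isLE S.obj₁ d q hq))
  rw [← hS2]
  exact hmid hS j (hbd j) (hhigh _ (d + 1) hS3 j (by omega) (by omega))
    (hhigh _ (d + 1) hS3 (j - 1) (by omega) (by omega)) (hbd (j + 1))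

omit J hJ in
include hf hω hn in
/-- Local duality over a complete ring. -/
theorem exists_localDuality_complete [IsAdicComplete (maximalIdeal A) A] (K : Dual.D A)
    (hK : ∀ i, Module.Finite A (Dual.HD A K i)) (i : ℤ) :
    Nonempty ((K ⟶ ω⟦-i⟧) ≃ₗ[A] (Dual2.HDI A (maximalIdeal A) K i →ₗ[A] E)) := by
  obtain ⟨J, -, hJ⟩ := exists_trace hω hn hf
  haveI : Module.Finite A (K ⟶ ω⟦-i⟧) :=
    finite_hom_of_finite_hd hK hω.finite_cohomology
      (by obtain ⟨a, b, hab, -, -⟩ := exists_bounds_of_isDualizing hω; exact ⟨a, b, hab⟩) (-i)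
  obtain ⟨X', _, _, _, ⟨e⟩⟩ := exists_small_copy (A := A) (K ⟶ ω⟦-i⟧)
  obtain ⟨e'⟩ := exists_homShiftLEquiv K ω i
  let d : Dual2.HDI A (maximalIdeal A) K i ≃ₗ[A] (X' →ₗ[A] E) :=
    (LinearEquiv.ofBijective _ (isDual_shift_of_finite hf hω hn J hJ K hK i)).trans
      (LinearEquiv.congrLeft E A (e'.trans e))
  exact ⟨e.trans ((LinearEquiv.ofBijective _ (Groth.Agent.S0316.result A E f hf X').2).trans
    (LinearEquiv.congrLeft E A d.symm))⟩

end Groth.Agent.KFlatLib
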