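import Groth.Agent.KFlatLib.Ring.RgammaCompletion
import Groth.Agent.KFlatLib.Ring.DualizingUnbounded
import Groth.Agent.KFlatLib.Ring.DualizingQuotTriangle
import Groth.Agent.KFlatLib.Ring.Dualizing
import Groth.Agent.H9Misc.DRingAdicCompl
import Groth.Agent.Adic7.Basic
import Groth.Agent.S0310
import Groth.Agent.S0314
import Groth.Agent.S0316
import Groth.Agent.S0317

/-!
# Matlis duality for bounded complexes: finite and cofinite cohomology
-/

set_option linter.style.haveILetI false
set_option backward.isDefEq.respectTransparency false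

universe u

open CategoryTheory CategoryTheory.Limits Pretriangulated IsLocalRing DerivedCategory.TStructure

attribute [local instance] HasDerivedCategory.standard

namespace Groth.Agent.KFlatLib.Cofinite

open H9Misc.DRingCompl

variable {A : Type u} [CommRing A] [IsLocalRing A] [IsNoetherianRing A]

/-- A dual of a finite module has a finite socle. -/
lemma finite_socle_of_artinian (M : Type*) [AddCommGroup M] [Module A M] [IsArtinian A M] :
    Module.Finite A ↥(LocCoh.torsionBy (maximalIdeal A) M) := by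
  let S := LocCoh.torsionBy (maximalIdeal A) M
  haveI : IsArtinian A S := isArtinian_submodule' S
  haveI : IsArtinian (A ⧸ maximalIdeal A) S := isArtinian_of_tower A inferInstance
  letI := Ideal.Quotient.field (maximalIdeal A)
  haveI : IsNoetherian (A ⧸ maximalIdeal A) S := IsSemiprimaryRing.isNoetherian_iff_isArtinian.2 ‹_›
  exact Module.Finite.trans (A ⧸ maximalIdeal A) S

omit [IsLocalRing A] [IsNoetherianRing A] in
/-- Linear equivalences respect annihilated submodules. -/
lemma map_torsionBy_eq {M N : Type*} [AddCommGroup M] [Module A M] [AddCommGroup N] [Module A N] (I : Ideal A)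
    (e : M ≃ₗ[A] N) : (LocCoh.torsionBy I M).map (e : M →ₗ[A] N) = LocCoh.torsionBy I N := by
  ext x
  rw [Submodule.mem_map]
  constructor
  · rintro ⟨y, hy, rfl⟩
    rw [Submodule.mem_torsionBySet_iff] at hy ⊢
    intro a
    rw [← map_smul, hy a, map_zero]
  · intro hx
    refine ⟨e.symm x, ?_, e.apply_symm_apply x⟩
    rw [Submodule.mem_torsionBySet_iff] at hx ⊢
    intro a
    rw [← map_smul, hx a, map_zero]

variable {ω : Dual.D A} {E : Type u} [AddCommGroup E] [Module A E] {f : ResidueField A →ₗ[A] E}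
  (hf : InjHull.IsInjectiveHull f) (hω : Dual.IsDualizing A ω) (hn : Dual.IsNormalized A ω)

variable [IsAdicComplete (maximalIdeal A) A]

include hf in
/-- Torsion modules with finite socle are duals of finite modules. -/
lemma exists_dual_model (N : Type u) [AddCommGroup N] [Module A N]
    (hN : LocCoh.IsPowerTorsion (maximalIdeal A) N)
    (hs : Module.Finite A ↥(LocCoh.torsionBy (maximalIdeal A) N)) :
    ∃ (X : Type u) (_ : AddCommGroup X) (_ : Module A X) (_ : Module.Finite A X),
      Nonempty (N ≃ₗ[A] (X →ₗ[A] E)) := by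
  haveI : Module.Finite (A ⧸ maximalIdeal A) ↥(LocCoh.torsionBy (maximalIdeal A) N) :=
    Module.Finite.of_restrictScalars_finite A (A ⧸ maximalIdeal A) _
  obtain ⟨g, hg⟩ := Groth.Agent.S0310.result A E f hf N hN _ rfl
  haveI := Groth.Agent.S0314.result A E f hf
  haveI : IsArtinian A N := isArtinian_of_injective g hg
  obtain ⟨h1, h2⟩ := Groth.Agent.S0317.result A E f hf N
  exact ⟨N →ₗ[A] E, inferInstance, inferInstance, h1, ⟨LinearEquiv.ofBijective _ h2⟩⟩

include hf hω hn in
/-- Local cohomology of complexes with finite cohomology is cofinite. -/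
theorem finite_socle_hd_rgamma [DRing.HasRgammaI (maximalIdeal A)] (M : Dual.D A)
    (hM : ∀ i : ℤ, Module.Finite A (Dual.HD A M i)) (i : ℤ) :
    Module.Finite A ↥(LocCoh.torsionBy (maximalIdeal A) (Dual.HD A ((DRing.RgammaI (maximalIdeal A)).obj M) i)) := by
  obtain ⟨J, -, hJ⟩ := exists_trace hω hn hf
  obtain ⟨e⟩ := RgammaHDI.nonempty_hd_equiv (maximalIdeal A) M i
  haveI : Module.Finite A (M ⟶ ω⟦-i⟧) :=
    finite_hom_of_finite_hd hM hω.finite_cohomology
      (by obtain ⟨a, b, hab, -, -⟩ := exists_bounds_of_isDualizing hω; exact ⟨a, b, hab⟩) (-i)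
  obtain ⟨X', _, _, _, ⟨eX⟩⟩ := exists_small_copy (A := A) (M ⟶ ω⟦-i⟧)
  obtain ⟨e'⟩ := exists_homShiftLEquiv M ω i
  haveI := (Groth.Agent.S0316.result A E f hf X').1
  haveI : IsArtinian A (Dual.HD A ((DRing.RgammaI (maximalIdeal A)).obj M) i) :=
    isArtinian_of_linearEquiv (e.trans ((LinearEquiv.ofBijective _
      (isDual_shift_of_finite hf hω hn J hJ M hM i)).trans (LinearEquiv.congrLeft E A (e'.trans eX)))).symm
  exact finite_socle_of_artinian _

/-- Complexes with bounded finite cohomology are derived complete. -/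
theorem isIso_toCompletion [DRing.HasDerivedCompletion (maximalIdeal A)] (M : Dual.D A)
    (hM : ∀ i : ℤ, Module.Finite A (Dual.HD A M i)) :
    IsIso (DRing.toDerivedCompletion (maximalIdeal A) M) := by
  haveI : ∀ n : ℤ, IsIso ((DerivedCategory.homologyFunctor (ModuleCat.{u} A) n).map
      (DRing.toDerivedCompletion (maximalIdeal A) M)) := fun n => by
    obtain ⟨e, he⟩ := H9Misc.DRingAdicCompl.homology_completion (maximalIdeal A) M hM n
    haveI := hM n
    haveI : IsAdicComplete (maximalIdeal A) (Dual.HD A M n) := Adic7.isAdicComplete_of_finite _ _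
    refine (ConcreteCategory.isIso_iff_bijective _).2 ((Function.Bijective.of_comp_iff' e.bijective _).1 ?_)
    convert AdicCompletion.of_bijective (maximalIdeal A) (Dual.HD A M n) using 1
    exact funext he
  exact (DerivedCategory.isIso_iff (ModuleCat.{u} A) _).2 inferInstance

include hf hω hn in
/-- The reflexive model of a dual module. -/
theorem exists_model [DRing.HasRgammaI (maximalIdeal A)] (X : Type u) [AddCommGroup X] [Module A X]
    [Module.Finite A X] :
    ∃ R : Dual.D A, (∀ i : ℤ, Module.Finite A (Dual.HD A R i)) ∧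
      (∃ a b : ℤ, GE R a ∧ LE R b) ∧
      (∀ i : ℤ, i ≠ 0 → Subsingleton (R ⟶ ω⟦i⟧)) ∧
      Nonempty ((DRing.RgammaI (maximalIdeal A)).obj R ≅ Dual.inD A (X →ₗ[A] E)) := by
  haveI := hasLTen (A := A)
  haveI := hasRHom (A := A)
  obtain ⟨a, b, hab, hga, -⟩ := exists_bounds_of_isDualizing hω
  haveI := hga
  let X₀ := Dual.inD A X
  haveI : DerivedCategory.IsLE X₀ 0 :=
    inferInstanceAs (DerivedCategory.IsLE ((DerivedCategory.singleFunctor (ModuleCat.{u} A) 0).obj _) 0)
  haveI : DerivedCategory.IsGE X₀ 0 :=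
    inferInstanceAs (DerivedCategory.IsGE ((DerivedCategory.singleFunctor (ModuleCat.{u} A) 0).obj _) 0)
  haveI : Module.Finite A ((𝟭 (ModuleCat.{u} A)).obj (ModuleCat.of A X)) := inferInstanceAs (Module.Finite A X)
  have hX : ∀ i : ℤ, Module.Finite A (Dual.HD A X₀ i) := fun i => by
    rcases eq_or_ne i 0 with rfl | hi
    · exact Module.Finite.equiv
        ((DerivedCategory.singleFunctorCompHomologyFunctorIso (ModuleCat.{u} A) 0).app (ModuleCat.of A X)).toLinearEquiv.symm
    · haveI : Subsingleton (Dual.HD A X₀ i) := by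
        rcases lt_or_gt_of_ne hi with h | h
        · exact ModuleCat.subsingleton_of_isZero (DerivedCategory.isZero_of_isGE X₀ 0 i h)
        · exact ModuleCat.subsingleton_of_isZero (DerivedCategory.isZero_of_isLE X₀ 0 i h)
      infer_instance
  let R := (DTen.RHomR A X₀).obj ω
  have hR := finite_hd_RHom_of_finite_hd hX hω.finite_cohomology ⟨a, b, hab⟩
  haveI : R.IsGE (a - 0) := isGE_RHomR X₀ ω 0 a
  haveI : R.IsLE (b - 0) := isLE_RHomR X₀ ω 0 a b hab
  obtain ⟨eR⟩ := nonempty_biduality hω hX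
  have hH : ∀ i : ℤ, Nonempty ((R⟦i⟧ ⟶ ω) ≃ₗ[A] Dual.HD A X₀ (-i)) := fun i => by
    obtain ⟨e⟩ := exists_hdRHomLEquiv R ω (-i)
    exact ⟨((Linear.homCongr A (eqToIso (congrArg (fun j : ℤ => R⟦j⟧) (neg_neg i))) (Iso.refl ω)).symm.trans e.symm).trans
      ((DerivedCategory.homologyFunctor (ModuleCat.{u} A) (-i)).mapIso eR).toLinearEquiv⟩
  have hX0 : ∀ i : ℤ, i ≠ 0 → Subsingleton (Dual.HD A X₀ i) := fun i hi => by
    rcases lt_or_gt_of_ne hi with h | h
    · exact ModuleCat.subsingleton_of_isZero (DerivedCategory.isZero_of_isGE X₀ 0 i h)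
    · exact ModuleCat.subsingleton_of_isZero (DerivedCategory.isZero_of_isLE X₀ 0 i h)
  refine ⟨R, hR, ⟨a - 0, b - 0, fun i hi => ModuleCat.subsingleton_of_isZero (DerivedCategory.isZero_of_isGE R (a - 0) i hi),
    fun i hi => ModuleCat.subsingleton_of_isZero (DerivedCategory.isZero_of_isLE R (b - 0) i hi)⟩, fun i hi => ?_, ?_⟩
  · obtain ⟨e'⟩ := exists_homShiftLEquiv R ω (-i)
    obtain ⟨e''⟩ := hH (-i)
    rw [neg_neg] at e' e''
    haveI := hX0 i hi
    exact (e'.symm.trans e'').toEquiv.subsingleton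
  · obtain ⟨J, -, hJ⟩ := exists_trace hω hn hf
    let G := (DRing.RgammaI (maximalIdeal A)).obj R
    have hG : ∀ i : ℤ, Nonempty (Dual.HD A G i ≃ₗ[A] (Dual.HD A X₀ (-i) →ₗ[A] E)) := fun i => by
      obtain ⟨e⟩ := RgammaHDI.nonempty_hd_equiv (maximalIdeal A) R i
      obtain ⟨e'⟩ := hH i
      exact ⟨e.trans ((LinearEquiv.ofBijective _ (isDual_shift_of_finite hf hω hn J hJ R hR i)).trans
        (LinearEquiv.congrLeft E A e'))⟩
    have hz : ∀ i : ℤ, i ≠ 0 → IsZero ((DerivedCategory.homologyFunctor (ModuleCat.{u} A) i).obj G) := fun i hi => by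
      obtain ⟨e⟩ := hG i
      haveI := hX0 (-i) (by omega)
      haveI : Subsingleton (Dual.HD A G i) := e.toEquiv.subsingleton
      exact ModuleCat.isZero_of_subsingleton _
    haveI : DerivedCategory.IsGE G 0 := (DerivedCategory.isGE_iff _ _).2 fun i hi => hz i (by omega)
    haveI : DerivedCategory.IsLE G 0 := (DerivedCategory.isLE_iff _ _).2 fun i hi => hz i (by omega)
    obtain ⟨N, ⟨eN⟩⟩ := DerivedCategory.exists_iso_singleFunctor_obj_of_isGE_of_isLE G 0
    obtain ⟨e₀⟩ := hG 0
    let eH : N ≃ₗ[A] (X →ₗ[A] E) :=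
      ((((DerivedCategory.singleFunctorCompHomologyFunctorIso (ModuleCat.{u} A) 0).app N).symm ≪≫
        (DerivedCategory.homologyFunctor (ModuleCat.{u} A) 0).mapIso eN.symm).toLinearEquiv.trans e₀).trans
        (LinearEquiv.congrLeft E A
          ((DerivedCategory.singleFunctorCompHomologyFunctorIso (ModuleCat.{u} A) 0).app (ModuleCat.of A X)).toLinearEquiv)
    exact ⟨eN ≪≫ (DerivedCategory.singleFunctor (ModuleCat.{u} A) 0).mapIso eH.toModuleIso⟩

variable [DRing.HasRgammaI (maximalIdeal A)] [DRing.HasDerivedCompletion (maximalIdeal A)]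

include hf hω hn in
/-- The completion of a cofinite module. -/
theorem exists_completion_model (N : Type u) [AddCommGroup N] [Module A N]
    (hN : LocCoh.IsPowerTorsion (maximalIdeal A) N)
    (hs : Module.Finite A ↥(LocCoh.torsionBy (maximalIdeal A) N)) :
    ∃ R : Dual.D A, (∀ i : ℤ, Module.Finite A (Dual.HD A R i)) ∧
      (∀ i : ℤ, i ≠ 0 → Subsingleton (R ⟶ ω⟦i⟧)) ∧
      Nonempty (((DRing.derivedCompletion (maximalIdeal A)).obj (Dual.inD A N)).obj ≅ R) := by
  obtain ⟨X, _, _, _, ⟨eX⟩⟩ := exists_dual_model hf N hN hs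
  obtain ⟨R, hR, -, hv, ⟨eR⟩⟩ := exists_model hf hω hn X
  obtain ⟨ec⟩ := RgammaCompletion.nonempty_completion_rgamma_iso (maximalIdeal A) R
  haveI := isIso_toCompletion R hR
  exact ⟨R, hR, hv, ⟨(ObjectProperty.ι _).mapIso ((DRing.derivedCompletion (maximalIdeal A)).mapIso
    ((DerivedCategory.singleFunctor (ModuleCat.{u} A) 0).mapIso eX.toModuleIso ≪≫ eR.symm) ≪≫ ec) ≪≫
    (asIso (DRing.toDerivedCompletion (maximalIdeal A) R)).symm⟩⟩

omit [IsAdicComplete (maximalIdeal A) A] [DRing.HasRgammaI (maximalIdeal A)] in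
/-- Two out of three for the completion. -/
lemma finite_completion_mid {T : Triangle (Dual.D A)} (hT : T ∈ distTriang _)
    (h₁ : ∀ i, Module.Finite A (Dual.HD A ((DRing.derivedCompletion (maximalIdeal A)).obj T.obj₁).obj i))
    (h₃ : ∀ i, Module.Finite A (Dual.HD A ((DRing.derivedCompletion (maximalIdeal A)).obj (T.obj₃⟦(-1 : ℤ)⟧)).obj i))
    (i : ℤ) : Module.Finite A (Dual.HD A ((DRing.derivedCompletion (maximalIdeal A)).obj T.obj₂).obj i) := by
  obtain ⟨C, C', j, d, j', d', c, hTC, hTC', hc⟩ :=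
    H9Misc.DRingCompl.exists_cone_refl (I := maximalIdeal A) T.invRotate.mor₁
  let eC : T.obj₂ ≅ C :=
    Triangle.π₃.mapIso (isoTriangleOfIso₁₂ _ _ (inv_rot_of_distTriang _ hT) hTC (Iso.refl _) (Iso.refl _)
      ((Category.comp_id _).trans (Category.id_comp _).symm))
  obtain ⟨e'⟩ := (refl_unit (I := maximalIdeal A) C).exists_iso hc
  have hC' : Module.Finite A (Dual.HD A C' i) := by
    refine finite_of_exact ((DerivedCategory.homologyFunctor (ModuleCat.{u} A) i).map j').hom
      (DerivedCategory.HomologySequence.δ (Triangle.mk ((DRing.derivedCompletion (maximalIdeal A)).map T.invRotate.mor₁).hom j' d') i (i + 1) rfl).hom ?_ (h₁ i) (h₃ (i + 1))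
    exact (ShortComplex.moduleCat_exact_iff _).1 (DerivedCategory.HomologySequence.exact₃ _ hTC' i (i + 1) rfl)
  exact Module.Finite.equiv ((DerivedCategory.homologyFunctor (ModuleCat.{u} A) i).mapIso
    ((ObjectProperty.ι _).mapIso ((DRing.derivedCompletion (maximalIdeal A)).mapIso eC) ≪≫ e')).toLinearEquiv.symm

omit [IsAdicComplete (maximalIdeal A) A] [DRing.HasRgammaI (maximalIdeal A)] in
/-- Isomorphism invariance. -/
lemma finite_completion_of_iso {K L : Dual.D A} (e : K ≅ L)
    (h : ∀ i, Module.Finite A (Dual.HD A ((DRing.derivedCompletion (maximalIdeal A)).obj K).obj i)) (i : ℤ) :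
    Module.Finite A (Dual.HD A ((DRing.derivedCompletion (maximalIdeal A)).obj L).obj i) :=
  @Module.Finite.equiv _ _ _ _ _ _ _ _ (h i) ((DerivedCategory.homologyFunctor (ModuleCat.{u} A) i).mapIso
    ((ObjectProperty.ι _).mapIso ((DRing.derivedCompletion (maximalIdeal A)).mapIso e))).toLinearEquiv

include hf hω hn in
/-- Completions of shifts of cofinite modules have finite cohomology. -/
theorem finite_completion_shift_inD (N : Type u) [AddCommGroup N] [Module A N]
    (hN : LocCoh.IsPowerTorsion (maximalIdeal A) N)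
    (hs : Module.Finite A ↥(LocCoh.torsionBy (maximalIdeal A) N)) (j i : ℤ) :
    Module.Finite A (Dual.HD A ((DRing.derivedCompletion (maximalIdeal A)).obj ((Dual.inD A N)⟦j⟧)).obj i) := by
  obtain ⟨X, _, _, _, ⟨eX⟩⟩ := exists_dual_model hf N hN hs
  obtain ⟨R, hR, -, hv, ⟨eR⟩⟩ := exists_model hf hω hn X
  have hRj : ∀ q : ℤ, Module.Finite A (Dual.HD A (R⟦j⟧) q) := fun q =>
    @Module.Finite.equiv _ _ _ _ _ _ _ _ (hR (j + q)) (((DerivedCategory.homologyFunctor (ModuleCat.{u} A) 0).shiftIso j q (j + q) rfl).app R).toLinearEquiv.symm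
  have hε : IsIso ((DRing.derivedCompletion (maximalIdeal A)).map (((DRing.RgammaIε (maximalIdeal A)).app R)⟦j⟧')) := by
    refine (isIso_iff_coyoneda_map_bijective _).2 fun Z => ?_
    let adj := DRing.derivedCompletionAdj (maximalIdeal A)
    refine (Function.Bijective.of_comp_iff' (adj.homEquiv _ Z).bijective _).1 ?_
    have hb := RgammaCompletion.bijective_rgammaε_precomp (maximalIdeal A) R (Z.obj⟦-j⟧)
      (H9Misc.DRingCompl.isDerivedComplete_shift Z.property (-j))
    let sh : ∀ R' : Dual.D A, (R' ⟶ Z.obj⟦-j⟧) ≃ (R'⟦j⟧ ⟶ Z.obj) := fun R' =>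
      ((shiftEquiv (Dual.D A) j).toAdjunction.homEquiv R' Z.obj).symm
    have h2 : (fun φ : R⟦j⟧ ⟶ Z.obj => ((DRing.RgammaIε (maximalIdeal A)).app R)⟦j⟧' ≫ φ) ∘ sh _ =
        sh _ ∘ (fun φ => (DRing.RgammaIε (maximalIdeal A)).app R ≫ φ) := funext fun φ =>
      ((shiftEquiv (Dual.D A) j).toAdjunction.homEquiv_naturality_left_symm _ φ).symm
    have h3 := (Function.Bijective.of_comp_iff _ (sh _).bijective).1 (h2 ▸ (sh _).bijective.comp hb)
    convert h3.comp (adj.homEquiv _ Z).bijective using 1
    funext φ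
    exact adj.homEquiv_naturality_left _ φ
  haveI := hε
  haveI := isIso_toCompletion _ hRj
  haveI := hRj i
  exact Module.Finite.equiv ((DerivedCategory.homologyFunctor (ModuleCat.{u} A) i).mapIso
    ((ObjectProperty.ι _).mapIso ((DRing.derivedCompletion (maximalIdeal A)).mapIso
      ((shiftFunctor (Dual.D A) j).mapIso ((DerivedCategory.singleFunctor (ModuleCat.{u} A) 0).mapIso eX.toModuleIso ≪≫ eR.symm)) ≪≫
      asIso ((DRing.derivedCompletion (maximalIdeal A)).map (((DRing.RgammaIε (maximalIdeal A)).app R)⟦j⟧'))) ≪≫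
    (asIso (DRing.toDerivedCompletion (maximalIdeal A) (R⟦j⟧))).symm)).toLinearEquiv.symm

include hf hω hn in
/-- Completions of bounded cofinite complexes have finite cohomology. -/
theorem finite_completion (b : ℤ) : ∀ (n : ℕ) (c : ℤ) (Y : Dual.D A), Y.IsGE c → b - c < n →
    (∀ i, LocCoh.IsPowerTorsion (maximalIdeal A) (Dual.HD A Y i) ∧
      Module.Finite A ↥(LocCoh.torsionBy (maximalIdeal A) (Dual.HD A Y i))) →
    (∀ i, b < i → Subsingleton (Dual.HD A Y i)) →
    ∀ j i : ℤ, Module.Finite A (Dual.HD A ((DRing.derivedCompletion (maximalIdeal A)).obj (Y⟦j⟧)).obj i) := by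
  intro n
  induction n with
  | zero =>
    intro c Y hY hc _ hb j i
    haveI := hY
    have hz : IsZero Y := by
      haveI : Y.IsLE (c - 1) := (DerivedCategory.isLE_iff _ _).2 fun q hq => by
        haveI := hb q (by omega)
        exact ModuleCat.isZero_of_subsingleton _
      exact t.isZero Y (c - 1) c (by omega)
    haveI := ModuleCat.subsingleton_of_isZero (Functor.map_isZero (DerivedCategory.homologyFunctor (ModuleCat.{u} A) i)
      (Functor.map_isZero (ObjectProperty.ι _) (Functor.map_isZero (DRing.derivedCompletion (maximalIdeal A))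
        (Functor.map_isZero (shiftFunctor (Dual.D A) j) hz))))
    haveI : Subsingleton (Dual.HD A ((DRing.derivedCompletion (maximalIdeal A)).obj (Y⟦j⟧)).obj i) := ‹_›
    infer_instance
  | succ n ih =>
    intro c Y hY hc hcof hb j i
    haveI := hY
    obtain ⟨M, T, hT, h1, rfl, h3, ⟨eM⟩⟩ := exists_bottom_triangle Y c
    haveI := h3
    have hM : LocCoh.IsPowerTorsion (maximalIdeal A) M ∧
        Module.Finite A ↥(LocCoh.torsionBy (maximalIdeal A) M) := by
      refine ⟨fun x => ?_, ?_⟩
      · obtain ⟨k, hk⟩ := (hcof c).1 (eM.symm x)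
        exact ⟨k, fun a ha => eM.symm.injective (by rw [map_smul, hk a ha, map_zero])⟩
      · haveI := (hcof c).2
        exact Module.Finite.equiv (eM.ofSubmodules _ (LocCoh.torsionBy (maximalIdeal A) M)
          (map_torsionBy_eq (maximalIdeal A) eM))
    have hz₁ : ∀ q, q ≠ c → IsZero ((DerivedCategory.homologyFunctor (ModuleCat.{u} A) q).obj T.obj₁) := by
      intro q hq
      rw [h1]
      haveI : DerivedCategory.IsLE (Dual.inD A M) 0 :=
        inferInstanceAs (DerivedCategory.IsLE ((DerivedCategory.singleFunctor (ModuleCat.{u} A) 0).obj _) 0)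
      haveI : DerivedCategory.IsGE (Dual.inD A M) 0 :=
        inferInstanceAs (DerivedCategory.IsGE ((DerivedCategory.singleFunctor (ModuleCat.{u} A) 0).obj _) 0)
      haveI : DerivedCategory.IsLE ((Dual.inD A M)⟦-c⟧) c := t.isLE_shift (Dual.inD A M) 0 (-c) c (by omega)
      haveI : DerivedCategory.IsGE ((Dual.inD A M)⟦-c⟧) c := t.isGE_shift (Dual.inD A M) 0 (-c) c (by omega)
      rcases lt_or_gt_of_ne hq with h | h
      · exact DerivedCategory.isZero_of_isGE ((Dual.inD A M)⟦-c⟧) c q h
      · exact DerivedCategory.isZero_of_isLE ((Dual.inD A M)⟦-c⟧) c q h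
    have hiso : ∀ q, c + 1 ≤ q → IsIso ((DerivedCategory.homologyFunctor (ModuleCat.{u} A) q).map T.mor₂) := fun q hq => by
      haveI := (DerivedCategory.HomologySequence.exact₂ _ hT q).mono_g ((hz₁ q (by omega)).eq_of_src _ _)
      haveI := (DerivedCategory.HomologySequence.exact₃ _ hT q (q + 1) rfl).epi_f ((hz₁ (q + 1) (by omega)).eq_of_tgt _ _)
      exact isIso_of_mono_of_epi _
    have ih3 := ih (c + 1) T.obj₃ h3 (by omega)
      (fun q => by
        rcases lt_or_ge q (c + 1) with hq | hq
        · haveI : Subsingleton (Dual.HD A T.obj₃ q) :=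
            ModuleCat.subsingleton_of_isZero (DerivedCategory.isZero_of_isGE T.obj₃ (c + 1) q hq)
          exact ⟨fun x => ⟨0, fun a _ => Subsingleton.elim _ _⟩, inferInstance⟩
        · haveI := hiso q hq
          let φ := (asIso ((DerivedCategory.homologyFunctor (ModuleCat.{u} A) q).map T.mor₂)).toLinearEquiv
          refine ⟨fun x => ?_, ?_⟩
          · obtain ⟨k, hk⟩ := (hcof q).1 (φ.symm x)
            exact ⟨k, fun a ha => φ.symm.injective (by rw [map_smul, hk a ha, map_zero])⟩
          · haveI := (hcof q).2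
            exact Module.Finite.equiv (φ.ofSubmodules _ (LocCoh.torsionBy (maximalIdeal A) _)
              (map_torsionBy_eq (maximalIdeal A) φ)))
      (fun q hq => by
        rcases lt_or_ge q (c + 1) with hq' | hq'
        · exact ModuleCat.subsingleton_of_isZero (DerivedCategory.isZero_of_isGE T.obj₃ (c + 1) q hq')
        · haveI := hb q hq
          haveI := hiso q hq'
          exact (asIso ((DerivedCategory.homologyFunctor (ModuleCat.{u} A) q).map T.mor₂)).toLinearEquiv.symm.toEquiv.subsingleton)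
    refine finite_completion_mid (T := (Triangle.shiftFunctor (Dual.D A) j).obj T)
      (Triangle.shift_distinguished _ hT j) ?_ ?_ i
    · refine finite_completion_of_iso ((shiftFunctorAdd' (Dual.D A) (-c) j (-c + j) rfl).app (Dual.inD A M) ≪≫
        (shiftFunctor (Dual.D A) j).mapIso (eqToIso h1.symm)) ?_
      exact finite_completion_shift_inD hf hω hn M hM.1 hM.2 (-c + j)
    · exact finite_completion_of_iso ((shiftFunctorAdd' (Dual.D A) j (-1 : ℤ) (j - 1) (by omega)).app T.obj₃) (ih3 (j - 1))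

end Groth.Agent.KFlatLib.Cofinite
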