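import Groth.Agent.KFlatLib.Ring.DualizingQuotTriangle
import Groth.Agent.KFlatLib.Ring.DualizingShriek

/-!
# The triangle of a regular element under `RHom(-, ω)`
-/

set_option linter.style.haveILetI false
set_option backward.isDefEq.respectTransparency false

universe u

open CategoryTheory CategoryTheory.Limits Pretriangulated

attribute [local instance] HasDerivedCategory.standard

namespace Groth.Agent.KFlatLib

variable {A : Type u} [CommRing A] [IsNoetherianRing A] {ω : Dual.D A}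

/-- The counit at a dualizing complex generates the maps into it, with annihilator the ideal. -/
lemma counit_generates (hω : Dual.IsDualizing A ω) (I : Ideal A)
    (R : Dual.D A ⥤ Dual.D (A ⧸ I)) (adj : DRing.restrictD (Ideal.Quotient.mk I) ⊣ R) :
    (∀ x : (DRing.restrictD (Ideal.Quotient.mk I)).obj (R.obj ω) ⟶ ω, ∃ a : A, x = a • adj.counit.app ω) ∧
    ∀ a : A, a • adj.counit.app ω = 0 ↔ a ∈ I := by
  have hB := isDualizing_shriek (A := A) (B := A ⧸ I) R adj hω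
  have key : ∀ a : A, (adj.homEquiv (R.obj ω) ω).symm (Ideal.Quotient.mk I a • 𝟙 (R.obj ω)) =
      a • adj.counit.app ω := fun a => by
    rw [Adjunction.homEquiv_counit, restrictD_map_smul, CategoryTheory.Functor.map_id, Linear.smul_comp,
      Category.id_comp]
  refine ⟨fun x => ?_, fun a => ⟨fun h => ?_, fun h => ?_⟩⟩
  · obtain ⟨b, hb⟩ := hB.toEnd_bijective.2 (adj.homEquiv _ _ x)
    obtain ⟨a, rfl⟩ := Ideal.Quotient.mk_surjective b
    exact ⟨a, by rw [← key, show Ideal.Quotient.mk I a • 𝟙 (R.obj ω) = adj.homEquiv _ _ x from hb,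
      Equiv.symm_apply_apply]⟩
  · have h0 : (adj.homEquiv (R.obj ω) ω).symm 0 = 0 := by
      rw [Adjunction.homEquiv_counit, Functor.map_zero, zero_comp]
    have h1 := (adj.homEquiv (R.obj ω) ω).symm.injective ((key a).trans (h.trans h0.symm))
    refine Ideal.Quotient.eq_zero_iff_mem.1 (hB.toEnd_bijective.1 ?_)
    exact h1.trans (zero_smul _ _).symm
  · rw [← key, Ideal.Quotient.eq_zero_iff_mem.2 h, zero_smul, Adjunction.homEquiv_counit, Functor.map_zero,
      zero_comp]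

omit [IsNoetherianRing A] in
/-- Shifting the source. -/
lemma exists_homShiftLEquiv' (X Y : Dual.D A) (i : ℤ) :
    Nonempty ((X⟦i⟧ ⟶ Y) ≃ₗ[A] (X ⟶ Y⟦-i⟧)) := by
  obtain ⟨e⟩ := exists_shiftHomLEquiv X Y (-i)
  exact ⟨(Linear.homCongr A (eqToIso (congrArg (fun j : ℤ => X⟦j⟧) (neg_neg i).symm)) (Iso.refl Y)).trans e.symm⟩

/-- The triangle of a regular element. -/
theorem exists_principal_triangle (hω : Dual.IsDualizing A ω) (f : A) (hf : f ∈ nonZeroDivisors A)
    (R : Dual.D A ⥤ Dual.D (A ⧸ Ideal.span {f})) (adj : DRing.restrictD (Ideal.Quotient.mk (Ideal.span {f})) ⊣ R) :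
    ∃ (u : (DRing.restrictD (Ideal.Quotient.mk (Ideal.span {f}))).obj (R.obj ω) ⟶ ω)
      (w : ω ⟶ ((DRing.restrictD (Ideal.Quotient.mk (Ideal.span {f}))).obj (R.obj ω))⟦(1 : ℤ)⟧),
      Triangle.mk u (f • 𝟙 ω) w ∈ distTriang (Dual.D A) := by
  haveI := hasLTen A
  haveI := hasRHom (A := A)
  let Q := (DRing.restrictD (Ideal.Quotient.mk (Ideal.span {f}))).obj (R.obj ω)
  have hinj : Function.Injective (LinearMap.mulLeft A f) := fun x y h =>
    mul_cancel_left_mem_nonZeroDivisors hf |>.1 h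
  have hex : Function.Exact (LinearMap.mulLeft A f) (Submodule.mkQ (Ideal.span {f})) := fun z => by
    refine ⟨fun hz => ?_, ?_⟩
    · obtain ⟨c, hc⟩ := Ideal.mem_span_singleton'.1 ((Submodule.Quotient.mk_eq_zero _).1 hz)
      exact ⟨c, by rw [LinearMap.mulLeft_apply, mul_comm]; exact hc⟩
    · rintro ⟨c, rfl⟩
      exact (Submodule.Quotient.mk_eq_zero _).2 (Ideal.mem_span_singleton.2 (dvd_mul_right f c))
  obtain ⟨w₀, hS⟩ := exists_ses_of_exact hinj (Submodule.mkQ_surjective _) hex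
  obtain ⟨c₀, hT⟩ := exists_triangle_RHomMap _ hS.singleTriangle_distinguished ω
  obtain ⟨e₂⟩ := nonempty_RHom_ring_iso (A := A) ω
  obtain ⟨e₁⟩ := nonempty_RHom_quot_iso (Ideal.span {f}) R adj ω
  let u : Q ⟶ ω := e₁.inv ≫ DTen.RHomMap hS.singleTriangle.mor₂ ω ≫ e₂.hom
  let m : ω ⟶ ω := e₂.inv ≫ DTen.RHomMap hS.singleTriangle.mor₁ ω ≫ e₂.hom
  let w : ω ⟶ Q⟦(1 : ℤ)⟧ := e₂.inv ≫ c₀ ≫ (shiftFunctor (Dual.D A) (1 : ℤ)).map e₁.hom
  have hT1 : Triangle.mk u m w ∈ distTriang (Dual.D A) :=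
    isomorphic_distinguished _ hT _ (Triangle.isoMk _ _ e₁.symm e₂.symm e₂.symm
      (comp_comp_hom_comp_inv e₁.inv (DTen.RHomMap hS.singleTriangle.mor₂ ω) e₂)
      (comp_comp_hom_comp_inv e₂.inv (DTen.RHomMap hS.singleTriangle.mor₁ ω) e₂)
      (comp_comp_hom_comp_inv e₂.inv c₀ ((shiftFunctor (Dual.D A) (1 : ℤ)).mapIso e₁)))
  obtain ⟨c, hc⟩ := hω.toEnd_bijective.2 m
  replace hc : c • 𝟙 ω = m := hc
  obtain ⟨hgen, hann⟩ := counit_generates hω (Ideal.span {f}) R adj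
  have hI := inv_rot_of_distTriang _ hT1
  -- every map into `ω` is a multiple of `u`
  have hu : ∀ x : Q ⟶ ω, ∃ a : A, x = a • u := by
    intro x
    haveI : Subsingleton (ω⟦(-1 : ℤ)⟧ ⟶ ω) := by
      obtain ⟨e⟩ := exists_homShiftLEquiv' ω ω (-1 : ℤ)
      haveI := hω.ext_self_subsingleton (-(-1 : ℤ)) (by omega)
      exact e.toEquiv.subsingleton
    obtain ⟨g, hg⟩ := Triangle.yoneda_exact₂ _ hI x
      (@Subsingleton.elim _ ‹Subsingleton (ω⟦(-1 : ℤ)⟧ ⟶ ω)› _ _)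
    obtain ⟨a, ha⟩ := hω.toEnd_bijective.2 g
    refine ⟨a, hg.trans ?_⟩
    show u ≫ g = a • u
    rw [← ha, Linear.comp_smul, Category.comp_id]
  have hu0 : ∀ a : A, a • u = 0 ↔ a ∈ Ideal.span {c} := by
    intro a
    constructor
    · intro h
      have h1 : u ≫ (a • 𝟙 ω) = 0 := by rw [Linear.comp_smul, Category.comp_id, h]
      obtain ⟨g, hg⟩ := Triangle.yoneda_exact₂ _ hT1 (a • 𝟙 ω) h1
      obtain ⟨b, hb⟩ := hω.toEnd_bijective.2 g
      refine Ideal.mem_span_singleton'.2 ⟨b, hω.toEnd_bijective.1 ?_⟩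
      show (b * c) • 𝟙 ω = a • 𝟙 ω
      rw [hg]
      show (b * c) • 𝟙 ω = m ≫ g
      rw [← hb, ← hc, Linear.comp_smul, Category.comp_id, mul_smul]
    · intro h
      obtain ⟨b, rfl⟩ := Ideal.mem_span_singleton'.1 h
      have h0 : u ≫ m = 0 := comp_distTriang_mor_zero₁₂ _ hT1
      rw [← hc, Linear.comp_smul, Category.comp_id] at h0
      rw [mul_smul, h0, smul_zero]
  -- hence the two ideals agree
  obtain ⟨a₀, ha₀⟩ := hu (adj.counit.app ω)
  obtain ⟨b₀, hb₀⟩ := hgen u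
  have hcf : Ideal.span {c} = Ideal.span {f} := by
    refine le_antisymm (fun a ha => (hann a).1 ?_) fun a ha => (hu0 a).1 ?_
    · rw [ha₀, smul_comm, (hu0 a).2 ha, smul_zero]
    · rw [hb₀, smul_comm, (hann a).2 ha, smul_zero]
  obtain ⟨t, ht⟩ := Ideal.mem_span_singleton'.1 (hcf.ge (Ideal.mem_span_singleton_self f))
  obtain ⟨s, hs⟩ := Ideal.mem_span_singleton'.1 (hcf.le (Ideal.mem_span_singleton_self c))
  have hst : t * s = 1 := by
    refine (mul_cancel_right_mem_nonZeroDivisors hf).1 ?_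
    rw [one_mul, mul_assoc, hs, ht]
  let et : ω ≅ ω :=
    { hom := t • 𝟙 ω
      inv := s • 𝟙 ω
      hom_inv_id := by rw [Linear.smul_comp, Category.id_comp, ← mul_smul, hst, one_smul]
      inv_hom_id := by rw [Linear.smul_comp, Category.id_comp, ← mul_smul, mul_comm, hst, one_smul] }
  refine ⟨u, et.inv ≫ w, isomorphic_distinguished _ hT1 _
    (Triangle.isoMk _ _ (Iso.refl Q) (Iso.refl ω) et.symm ?_ ?_ ?_)⟩
  · exact (Category.comp_id u).trans (Category.id_comp u).symm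
  · show (f • 𝟙 ω) ≫ et.inv = 𝟙 ω ≫ m
    rw [Category.id_comp, ← hc, ← ht]
    show ((t * c) • 𝟙 ω) ≫ (s • 𝟙 ω) = c • 𝟙 ω
    rw [Linear.smul_comp, Category.id_comp, ← mul_smul, mul_right_comm, hst, one_mul]
  · show (et.inv ≫ w) ≫ (shiftFunctor (Dual.D A) (1 : ℤ)).map (𝟙 Q) = et.inv ≫ w
    rw [CategoryTheory.Functor.map_id, Category.comp_id]

end Groth.Agent.KFlatLib
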