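import Groth.Agent.KFlatLib.Ring.ResPFAssoc
import Groth.Agent.KFlatLib.Ring.BaseChangeSquare

/-!
# Evaluation against an algebra is base change for derived hom
-/

set_option linter.style.haveILetI false
set_option backward.isDefEq.respectTransparency false

universe u

open CategoryTheory CategoryTheory.Limits MonoidalCategory

attribute [local instance] HasDerivedCategory.standard

namespace Groth.Agent.KFlatLib

variable {R A : Type u} [CommRing R] [CommRing A] (φ : R →+* A)
  [DTen.HasLTen R] [DTen.HasLTen A] [DTen.HasLBase φ] [DTen.HasResTen φ] [DTen.ResLegIso φ]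

/-- `A|_R ⊗ X ⟶ (X ⊗_R A)|_R`. -/
noncomputable def algTenCmp (X : Dual.D R) :
    (DTen.LTen₂ R).obj ((DRing.restrictD φ).obj (DTen.unit A), X) ⟶
      (DRing.restrictD φ).obj ((DTen.LBase φ).obj X) :=
  DTen.projPF φ (DTen.unit A) X ≫ (DRing.restrictD φ).map ((DTen.unitL A).app ((DTen.LBase φ).obj X))

/-- Tensoring with the algebra is base change. -/
theorem isIso_algTenCmp (X : Dual.D R) : IsIso (algTenCmp φ X) := by
  haveI := hasLTen₃ A
  haveI := isSymMonoidal A
  haveI := isIso_projPF φ (DTen.unit A) X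
  haveI : IsIso ((DTen.unitL A).app ((DTen.LBase φ).obj X)) := inferInstance
  dsimp only [algTenCmp]
  infer_instance

lemma algTenCmp_natural {X X' : Dual.D R} (f : X ⟶ X') :
    (DTen.LTen₂ R).map (Prod.mkHom (𝟙 ((DRing.restrictD φ).obj (DTen.unit A))) f) ≫ algTenCmp φ X' =
      algTenCmp φ X ≫ (DRing.restrictD φ).map ((DTen.LBase φ).map f) := by
  have hn := (DTen.resPF φ).naturality (Prod.mkHom (𝟙 (DTen.unit A)) ((DTen.LBase φ).map f))
  simp only [Functor.comp_map] at hn
  have hl : (DTen.LTen₂ A).map (Prod.mkHom (𝟙 (DTen.unit A)) ((DTen.LBase φ).map f)) ≫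
      (DTen.unitL A).app ((DTen.LBase φ).obj X') =
      (DTen.unitL A).app ((DTen.LBase φ).obj X) ≫ (DTen.LBase φ).map f :=
    (DTen.unitL A).naturality _
  dsimp only [algTenCmp, DTen.projPF]
  simp only [Category.assoc, ← Functor.map_comp]
  rw [← hl, Functor.map_comp]
  erw [← reassoc_of% hn]
  simp only [← Category.assoc, ← Functor.map_comp]
  refine congrArg (fun z => ((DTen.LTen₂ R).map z ≫ _) ≫ _) (Prod.ext ?_ ((DTen.baseAdj φ).unit.naturality f))
  exact (congrArg (_ ≫ ·) ((DRing.restrictD φ).map_id (DTen.unit A)).symm)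

variable [DTen.HasLTen₃ R] [DTen.IsSymMonoidal R]

/-- Tensoring with the algebra is compatible with tensor products. -/
lemma algTenCmp_tensor [DTen.HasLTen₃ A] [DTen.IsSymMonoidal A] (N M : Dual.D R) :
    (DTen.LTen₂ R).map (Prod.mkHom (algTenCmp φ N) ((DTen.baseAdj φ).unit.app M)) ≫
        (DTen.resPF φ).app ((DTen.LBase φ).obj N, (DTen.LBase φ).obj M) =
      (DTen.associator ((DRing.restrictD φ).obj (DTen.unit A)) N M).hom ≫
        algTenCmp φ ((DTen.LTen₂ R).obj (N, M)) ≫ (DRing.restrictD φ).map (lbaseTenCmp φ N M) := by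
  let S := DRing.restrictD φ
  let u := DTen.unit A
  let LN := (DTen.LBase φ).obj N
  let LM := (DTen.LBase φ).obj M
  let ηN := (DTen.baseAdj φ).unit.app N
  let ηM := (DTen.baseAdj φ).unit.app M
  have hu : (DTen.baseAdj φ).unit.app _ ≫ S.map (lbaseTenCmp φ N M) =
      (DTen.LTen₂ R).map (Prod.mkHom ηN ηM) ≫ (DTen.resPF φ).app (LN, LM) :=
    ((DTen.baseAdj φ).homEquiv_unit ..).symm.trans (Equiv.apply_symm_apply _ _)
  have nr := (DTen.resPF φ).naturality (Prod.mkHom (𝟙 u) (lbaseTenCmp φ N M))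
  simp only [Functor.comp_map] at nr
  have nl := (DTen.resPF φ).naturality (Prod.mkHom ((DTen.unitL A).app LN) (𝟙 LM))
  simp only [Functor.comp_map] at nl
  have hl : (DTen.LTen₂ A).map (Prod.mkHom (𝟙 u) (lbaseTenCmp φ N M)) ≫
      (DTen.unitL A).app ((DTen.LTen₂ A).obj (LN, LM)) =
      (DTen.unitL A).app _ ≫ lbaseTenCmp φ N M := (DTen.unitL A).naturality _
  -- the right hand side
  have hR : algTenCmp φ ((DTen.LTen₂ R).obj (N, M)) ≫ S.map (lbaseTenCmp φ N M) =
      (DTen.LTen₂ R).map (Prod.mkHom (𝟙 (S.obj u)) ((DTen.LTen₂ R).map (Prod.mkHom ηN ηM))) ≫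
        (DTen.LTen₂ R).map (Prod.mkHom (𝟙 (S.obj u)) ((DTen.resPF φ).app (LN, LM))) ≫
          (DTen.resPF φ).app (u, (DTen.LTen₂ A).obj (LN, LM)) ≫
            S.map ((DTen.unitL A).app ((DTen.LTen₂ A).obj (LN, LM))) := by
    dsimp only [algTenCmp, DTen.projPF]
    simp only [Category.assoc]
    erw [← Functor.map_comp, ← hl, Functor.map_comp, ← reassoc_of% nr]
    simp only [← Category.assoc]
    refine congrArg (fun z => (z ≫ _) ≫ _) ?_
    erw [← Functor.map_comp, ← Functor.map_comp]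
    refine congrArg _ (Prod.ext ?_ hu)
    exact congrArg (_ ≫ ·) (S.map_id u)
  -- the left hand side
  have hL : (DTen.LTen₂ R).map (Prod.mkHom (algTenCmp φ N) ηM) =
      (DTen.LTen₂ R).map (Prod.mkHom ((DTen.LTen₂ R).map (Prod.mkHom (𝟙 (S.obj u)) ηN)) ηM) ≫
        (DTen.LTen₂ R).map (Prod.mkHom ((DTen.resPF φ).app (u, LN)) (𝟙 (S.obj LM))) ≫
          (DTen.LTen₂ R).map (Prod.mkHom (S.map ((DTen.unitL A).app LN)) (S.map (𝟙 LM))) := by
    simp only [ten_map_comp]
    dsimp only [algTenCmp, DTen.projPF]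
    simp only [CategoryTheory.Functor.map_id, Category.comp_id, Category.assoc]
    erw [Category.comp_id]
  rw [hL]
  simp only [Category.assoc]
  erw [nl, ← associator_unitL, Functor.map_comp, reassoc_of% (resPF_assoc φ u LN LM),
    reassoc_of% (associator_naturality (𝟙 (S.obj u)) ηN ηM)]
  exact congrArg ((DTen.associator _ _ _).hom ≫ ·) hR.symm

variable [DTen.HasRHom R] [DTen.HasRHom A]

/-- Evaluation against the algebra is invertible exactly when base change for derived hom is. -/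
theorem isIso_evalTen_iff_bcRHom (M K : Dual.D R) [IsIso (DTen.rhomBC φ M ((DTen.LBase φ).obj K))] :
    IsIso (DTen.evalTen ((DRing.restrictD φ).obj (DTen.unit A)) K M) ↔ IsIso (DTen.bcRHom φ M K) := by
  haveI := hasLTen₃ A
  haveI := isSymMonoidal A
  let S := DRing.restrictD φ
  let N := (DTen.RHomR R M).obj K
  let Ku := S.obj (DTen.unit A)
  haveI := isIso_algTenCmp φ N
  haveI := isIso_algTenCmp φ K
  have key : algTenCmp φ N ≫ S.map (DTen.bcRHom φ M K) ≫ DTen.rhomBC φ M ((DTen.LBase φ).obj K) =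
      DTen.evalTen Ku K M ≫ (DTen.RHomR R M).map (algTenCmp φ K) := by
    rw [← Category.assoc]
    refine Eq.trans (rhomHomEquiv_comp (R := R) _ _).symm (Eq.trans ?_
      ((DTen.rhomAdj R M).homEquiv_naturality_right _ _))
    refine congrArg (DTen.rhomHomEquiv ((DTen.LTen₂ R).obj (Ku, N)) M _) ?_
    dsimp only [DTen.evalTenAux]
    rw [Category.assoc]
    erw [algTenCmp_natural φ (DTen.ev M K)]
    rw [← lbaseTenCmp_bcRHom (φ := φ) M K]
    simp only [Functor.map_comp, Category.assoc]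
    rw [← reassoc_of% (algTenCmp_tensor φ N M)]
    have hb : (DTen.rhomHomEquiv ((DTen.LBase φ).obj N) _ _).symm (DTen.bcRHom φ M K) =
        (DTen.LTen₂ A).map (Prod.mkHom (DTen.bcRHom φ M K) (𝟙 ((DTen.LBase φ).obj M))) ≫
          DTen.ev ((DTen.LBase φ).obj M) ((DTen.LBase φ).obj K) :=
      (DTen.rhomAdj A _).homEquiv_counit ..
    rw [hb]
    dsimp only [DTen.rhomBCCore]
    rw [Functor.map_comp]
    have nb := (DTen.resPF φ).naturality (Prod.mkHom (DTen.bcRHom φ M K) (𝟙 ((DTen.LBase φ).obj M)))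
    simp only [Functor.comp_map] at nb
    erw [← reassoc_of% nb]
    simp only [← Category.assoc]
    refine congrArg (fun z => (z ≫ _) ≫ _) ?_
    erw [← Functor.map_comp, ← Functor.map_comp]
    refine congrArg _ (Prod.ext ?_ ?_)
    · exact Category.comp_id _
    · change 𝟙 M ≫ _ = _ ≫ S.map (𝟙 _)
      rw [CategoryTheory.Functor.map_id, Category.id_comp]
      exact (Category.comp_id _).symm
  constructor
  · intro h
    haveI := h
    haveI : IsIso (algTenCmp φ N ≫ S.map (DTen.bcRHom φ M K) ≫ DTen.rhomBC φ M ((DTen.LBase φ).obj K)) := by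
      rw [key]; infer_instance
    haveI : IsIso (S.map (DTen.bcRHom φ M K) ≫ DTen.rhomBC φ M ((DTen.LBase φ).obj K)) :=
      IsIso.of_isIso_comp_left (algTenCmp φ N) _
    haveI : IsIso (S.map (DTen.bcRHom φ M K)) :=
      IsIso.of_isIso_comp_right _ (DTen.rhomBC φ M ((DTen.LBase φ).obj K))
    exact isIso_of_isIso_restrictScalars φ _
  · intro h
    haveI := h
    haveI : IsIso (DTen.evalTen Ku K M ≫ (DTen.RHomR R M).map (algTenCmp φ K)) := by
      rw [← key]; infer_instance
    exact IsIso.of_isIso_comp_right _ ((DTen.RHomR R M).map (algTenCmp φ K))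

end Groth.Agent.KFlatLib
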