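import Groth.Agent.KFlatLib.Ring.RegularExt

/-!
# `Ext` out of the quotient by a weakly regular sequence, below the length
-/

set_option autoImplicit false
set_option linter.style.haveILetI false

universe u

open CategoryTheory RingTheory.Sequence Abelian

namespace Groth.Agent.KFlatLib

variable {A : Type u} [CommRing A]

/-- Below the length of the sequence, `Ext` into the ring vanishes. -/
theorem ext_qList_below (l : List A) : IsWeaklyRegular A l → ∀ i : ℕ, i < l.length →
    Subsingleton (Ext (qList l) (ModuleCat.of A A) i) := by
  induction l using List.reverseRecOn with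
  | nil => intro _ i hi; simp at hi
  | append_singleton l x ih =>
    intro h i hi
    obtain ⟨hl, g, w, hS⟩ := exists_ses l x h
    obtain ⟨-, h2⟩ := (LC.isWeaklyRegular_concat_iff l x).1 h
    simp only [List.length_append, List.length_singleton] at hi
    have hreg : ∀ k, k ≤ l.length → ∀ y : Ext (qList l) (ModuleCat.of A A) k, x • y = 0 → y = 0 := by
      intro k hk y hy
      rcases Nat.lt_or_ge k l.length with hlt | hge
      · haveI := ih hl k hlt
        exact Subsingleton.elim _ _
      · obtain rfl : k = l.length := le_antisymm hk hge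
        obtain ⟨-, ⟨e⟩⟩ := ext_qList_top l hl A
        refine e.injective ((h2.right_eq_zero_of_smul ?_).trans (map_zero e).symm)
        rw [← map_smul, hy, map_zero]
    have hg : ∀ z : Ext (qList (l ++ [x])) (ModuleCat.of A A) i, (Ext.mk₀ g).comp z (zero_add i) = 0 := by
      intro z
      refine hreg i (by omega) _ ?_
      rw [← smul_comp_eq, Ext.mk₀_comp_mk₀_assoc, w, Ext.mk₀_zero, Ext.zero_comp]
    refine subsingleton_of_forall_eq 0 fun z => ?_
    rcases i with _ | j
    · haveI : Epi g := hS.epi_g
      obtain ⟨a, rfl⟩ := (Ext.mk₀_bijective _ _).2 z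
      have h1 := hg (Ext.mk₀ a)
      rw [Ext.mk₀_comp_mk₀] at h1
      have : g ≫ a = g ≫ 0 := by
        rw [Limits.comp_zero]
        exact (Ext.mk₀_bijective _ _).1 (h1.trans (Ext.mk₀_zero (X := _) (Y := _)).symm)
      rw [(cancel_epi g).1 this, Ext.mk₀_zero]
    · obtain ⟨y, rfl⟩ := exists_of_comp_eq_zero hS _ j z (hg z)
      haveI := ih hl j (by omega)
      rw [Subsingleton.elim y 0, map_zero]

end Groth.Agent.KFlatLib
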