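import Groth.Agent.KFlatLib.TotalMap
import Groth.Agent.KFlatLib.BaseChange
import Groth.Prelude.Def_DTen5

/-!
# Extension of scalars of complexes is monoidal, compatibly with restriction
-/

set_option linter.style.haveILetI false
set_option backward.isDefEq.respectTransparency false

universe u

open CategoryTheory CategoryTheory.Limits MonoidalCategory

attribute [local instance] HasDerivedCategory.standard

namespace Groth.Agent.KFlatLib

variable {R A : Type u} [CommRing R] [CommRing A] (φ : R →+* A)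

/-- `(M ⊗ N) ⊗_R A = (M ⊗_R A) ⊗_A (N ⊗_R A)`, as bifunctors. -/
noncomputable def extTenModIso :
    curriedTensor (ModuleCat.{u} R) ⋙ (Functor.whiskeringRight _ _ _).obj (ModuleCat.extendScalars φ) ≅
      ModuleCat.extendScalars φ ⋙ curriedTensor (ModuleCat.{u} A) ⋙
        (Functor.whiskeringLeft _ _ _).obj (ModuleCat.extendScalars φ) :=
  NatIso.ofComponents
    (fun M => NatIso.ofComponents (fun N => (Functor.Monoidal.μIso (ModuleCat.extendScalars φ) M N).symm)
      fun {N N'} g => Functor.OplaxMonoidal.δ_natural_right (ModuleCat.extendScalars φ) M g |>.symm)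
    fun {M M'} g => by
      ext N : 2
      exact (Functor.OplaxMonoidal.δ_natural_left (ModuleCat.extendScalars φ) g N).symm

/-- `(P ⊗ P') ⊗_R A = (P ⊗_R A) ⊗_A (P' ⊗_R A)` on complexes. -/
noncomputable def extTenIso (P P' : DRing.Cx R) :
    (DTen.tensorT A).obj ((DTen.extCx φ).obj P, (DTen.extCx φ).obj P') ≅
      (DTen.extCx φ).obj ((DTen.tensorT R).obj (P, P')) :=
  haveI : (ModuleCat.extendScalars φ : ModuleCat.{u} R ⥤ ModuleCat.{u} A).IsLeftAdjoint :=
    Adjunction.isLeftAdjoint (G := (ModuleCat.restrictScalars φ : ModuleCat.{u} A ⥤ ModuleCat.{u} R))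
      (ModuleCat.extendRestrictScalarsAdj φ)
  totalMapIso (extTenModIso φ) P P'

/-- The module identity behind `unit_extTenIso`. -/
lemma unit_μ (M N : ModuleCat.{u} R) :
    ((ModuleCat.extendRestrictScalarsAdj.{u, u, u} φ).unit.app M ⊗ₘ
        (ModuleCat.extendRestrictScalarsAdj.{u, u, u} φ).unit.app N) ≫
      DTen.resTen₀app φ _ _ ≫ (DTen.resM φ).map (Functor.LaxMonoidal.μ (ModuleCat.extendScalars φ) M N) =
      (ModuleCat.extendRestrictScalarsAdj.{u, u, u} φ).unit.app (M ⊗ N) := by
  letI : Algebra R A := φ.toAlgebra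
  refine ModuleCat.hom_ext (TensorProduct.ext' fun m n => ?_)
  change (Functor.LaxMonoidal.μ (ModuleCat.extendScalars φ) M N).hom
    (((1 : A) ⊗ₜ[R] m) ⊗ₜ[A] ((1 : A) ⊗ₜ[R] n)) = (1 : A) ⊗ₜ[R] (m ⊗ₜ[R] n)
  rw [ModuleCat.extendScalars_μ]
  refine (TensorProduct.AlgebraTensorModule.distribBaseChange R A M N).injective ?_
  refine (LinearEquiv.apply_symm_apply _ _).trans ?_
  rfl

/-- The unit of base change at a tensor product. -/
lemma unit_extTenIso (P P' : DRing.Cx R) :
    ((DTen.unitCx φ).app P ⊗ₘ (DTen.unitCx φ).app P') ≫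
      DTen.resTenCx φ ((DTen.extCx φ).obj P) ((DTen.extCx φ).obj P') ≫
        (DTen.resCx φ).map (extTenIso φ P P').hom =
      (DTen.unitCx φ).app ((DTen.tensorT R).obj (P, P')) := by
  haveI : (ModuleCat.extendScalars φ : ModuleCat.{u} R ⥤ ModuleCat.{u} A).IsLeftAdjoint :=
    Adjunction.isLeftAdjoint (G := (ModuleCat.restrictScalars φ : ModuleCat.{u} A ⥤ ModuleCat.{u} R))
      (ModuleCat.extendRestrictScalarsAdj φ)
  let η := (ModuleCat.extendRestrictScalarsAdj.{u, u, u} φ).unit
  change HomologicalComplex.mapBifunctorMap ((DTen.unitCx φ).app P) ((DTen.unitCx φ).app P')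
    (curriedTensor (ModuleCat.{u} R)) (ComplexShape.up ℤ) ≫ _ = _
  refine HomologicalComplex.hom_ext _ _ fun n => HomologicalComplex.mapBifunctor.hom_ext fun p q h => ?_
  rw [HomologicalComplex.comp_f, HomologicalComplex.comp_f]
  erw [HomologicalComplex.ι_mapBifunctorMap_assoc]
  erw [DTen.ι_resTenCx_assoc φ _ _ p q n h]
  erw [← Functor.map_comp]
  have hι := ι_totalMapHom (extTenModIso φ) P P' p q n h
  erw [hι]
  rw [totalMapι, Functor.map_comp]
  have hn := η.naturality (HomologicalComplex.ιMapBifunctor P P' (curriedTensor (ModuleCat.{u} R))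
    (ComplexShape.up ℤ) p q n h)
  simp only [Functor.id_map, Functor.comp_map] at hn
  refine Eq.trans ?_ hn.symm
  have hu := congrArg (· ≫ (DTen.resM φ).map ((ModuleCat.extendScalars φ).map
    (HomologicalComplex.ιMapBifunctor P P' (curriedTensor (ModuleCat.{u} R)) (ComplexShape.up ℤ) p q n h)))
    (unit_μ φ (P.X p) (P'.X q))
  simp only [MonoidalCategory.tensorHom_def, Category.assoc] at hu
  exact hu

end Groth.Agent.KFlatLib
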