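import Groth.Agent.KFlatLib.Ring.FlatFibreDepth
import Groth.Agent.FlatLoc6.Depth
import Groth.Agent.LocalCrit.Flatness
import Groth.Prelude.Def_EGA4b
import Groth.Prelude.Def_FlatCA
import Mathlib.RingTheory.Localization.BaseChange

/-!
# Flatness and depth from the closed fibre and flatness off a closed subset
-/

set_option autoImplicit false
set_option linter.style.haveILetI false

universe u

open TensorProduct IsLocalRing CategoryTheory

namespace Groth.Agent.KFlatLib

theorem le_idealDepth_pi_module {R : Type u} [CommRing R] [IsNoetherianRing R] (I : Ideal R) (Q : Type u)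
    [AddCommGroup Q] [Module R Q] [Module.Finite R Q] (k : ℕ) (h : (k : ℕ∞) ≤ LocCoh.idealDepth I Q) (n : ℕ) :
    (k : ℕ∞) ≤ LocCoh.idealDepth I (Fin n → Q) := by
  induction n with
  | zero => rw [LocCoh.idealDepth, if_pos (Subsingleton.elim _ _)]; exact le_top
  | succ n ih =>
    let f := LinearMap.single R (fun _ : Fin (n + 1) => Q) 0
    let g : (Fin (n + 1) → Q) →ₗ[R] (Fin n → Q) := LinearMap.funLeft R Q Fin.succ
    have hfg : Function.Exact f g := fun v =>
      ⟨fun h => ⟨v 0, funext fun i => Fin.cases (Pi.single_eq_same (M := fun _ : Fin (n + 1) => Q) 0 (v 0))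
          (fun j => (Pi.single_eq_of_ne (M := fun _ : Fin (n + 1) => Q) (Fin.succ_ne_zero j) (v 0)).trans
            (congrFun h j).symm) i⟩,
        fun ⟨w, hw⟩ => hw ▸ funext fun j => Pi.single_eq_of_ne (M := fun _ : Fin (n + 1) => Q) (Fin.succ_ne_zero j) w⟩
    let S : ShortComplex (ModuleCat.{u} R) := ShortComplex.mk (ModuleCat.ofHom f) (ModuleCat.ofHom g)
      (ModuleCat.hom_ext (LinearMap.ext fun x => hfg.apply_apply_eq_zero x))
    have hS : S.ShortExact :=
      { exact := (ShortComplex.ShortExact.moduleCat_exact_iff_function_exact S).mpr hfg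
        mono_f := (ModuleCat.mono_iff_injective _).mpr fun a b e => Pi.single_injective (M := fun _ : Fin (n + 1) => Q) 0 e
        epi_g := (ModuleCat.epi_iff_surjective _).mpr
          (LinearMap.funLeft_surjective_of_injective _ _ _ (Fin.succ_injective _)) }
    refine (LC.le_idealDepth_iff_ext I _ k).2 fun i hi => LC.ext_subsingleton_X₂ hS _ i
      ((LC.le_idealDepth_iff_ext I Q k).1 h i hi) ((LC.le_idealDepth_iff_ext I _ k).1 ih i hi)

variable {A B : Type u} [CommRing A] [CommRing B] [IsNoetherianRing A] [IsNoetherianRing B] [Algebra A B]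
variable (J : Ideal B) (M : Type u) [AddCommGroup M] [Module B M] [Module A M] [IsScalarTower A B M] [Module.Finite B M]
variable (hU : ∀ q : PrimeSpectrum B, ¬ J ≤ q.asIdeal → FlatCA.FlatAt A q.asIdeal M)

include hU in
/-- The kernel after tensoring is supported where flatness fails. -/
theorem support_ker_tmap {X Y : Type u} [AddCommGroup X] [Module A X]
    [AddCommGroup Y] [Module A Y] (f : X →ₗ[A] Y) (hf : Function.Injective f) :
    ∀ q ∈ Module.support B (LinearMap.ker (FlatLoc6.tmap (B := B) M f)), J ≤ q.asIdeal := by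
  intro q hq
  by_contra hJ
  obtain ⟨⟨z, hz⟩, hann⟩ := Module.mem_support_iff'.1 hq
  haveI : Module.Flat A (LocalizedModule q.asIdeal.primeCompl M) := hU q hJ
  let g := LocalizedModule.mkLinearMap q.asIdeal.primeCompl M
  have hcomm : ∀ w : M ⊗[A] X, AlgebraTensorModule.rTensor A Y g (FlatLoc6.tmap (B := B) M f w) =
      f.lTensor (LocalizedModule q.asIdeal.primeCompl M) (AlgebraTensorModule.rTensor A X g w) := fun w => by
    induction w using TensorProduct.induction_on with
    | zero => simp only [map_zero]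
    | tmul m x => simp [FlatLoc6.tmap]
    | add a b ha hb => simp only [map_add, ha, hb]
  have h0 : AlgebraTensorModule.rTensor A X g z = 0 := by
    refine Module.Flat.lTensor_preserves_injective_linearMap f hf ?_
    rw [← hcomm, LinearMap.mem_ker.1 hz, map_zero, map_zero]
  obtain ⟨s, hs⟩ := (IsLocalizedModule.eq_zero_iff q.asIdeal.primeCompl (AlgebraTensorModule.rTensor A X g)).1 h0
  exact hann s s.2 (Subtype.ext hs)

include hU in
/-- Tensoring keeps injectivity when the depth is positive and flatness holds off `V(J)`. -/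
theorem lTensor_injective_of_depth {X Y : Type u} [AddCommGroup X] [Module A X] [Module.Finite A X]
    [AddCommGroup Y] [Module A Y] (f : X →ₗ[A] Y) (hf : Function.Injective f)
    (h : 1 ≤ LocCoh.idealDepth J (M ⊗[A] X)) : Function.Injective (FlatLoc6.tmap (B := B) M f) := by
  haveI : Module.Finite B (M ⊗[A] X) := LocalCrit.finite_tensor (C := B) M X
  rw [← LinearMap.ker_eq_bot, ← Submodule.subsingleton_iff_eq_bot]
  exact subsingleton_of_support_le J _ (support_ker_tmap J M hU f hf)
    (le_idealDepth_of_injective J (LinearMap.ker (FlatLoc6.tmap (B := B) M f)).subtype Subtype.val_injective h)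

variable [IsLocalRing A]

include hU in
/-- Fibre depth spreads to tensor products with modules killed by a power of the maximal ideal. -/
theorem le_idealDepth_tensor {k : ℕ} (hk : 1 ≤ k) (h : (k : ℕ∞) ≤ LocCoh.idealDepth J (EGA4.FibMod A B M)) :
    ∀ (n : ℕ) (X : Type u) [AddCommGroup X] [Module A X] [Module.Finite A X],
      maximalIdeal A ^ n ≤ Module.annihilator A X → (k : ℕ∞) ≤ LocCoh.idealDepth J (M ⊗[A] X) := by
  intro n
  induction n with
  | zero =>
    intro X _ _ _ hX
    haveI : Subsingleton X := subsingleton_of_forall_eq 0 fun x => by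
      have := Module.mem_annihilator.1 (hX (show (1 : A) ∈ maximalIdeal A ^ 0 by simp)) x
      rwa [one_smul] at this
    rw [LocCoh.idealDepth, if_pos (Subsingleton.elim _ _)]
    exact le_top
  | succ n ih =>
    intro X _ _ _ hX
    let X' : Submodule A X := maximalIdeal A ^ n • ⊤
    let Q := X ⧸ X'
    have hkillQ : maximalIdeal A ^ n ≤ Module.annihilator A Q := fun a ha => Module.mem_annihilator.2 fun q => by
      obtain ⟨x, rfl⟩ := Submodule.Quotient.mk_surjective _ q
      exact (Submodule.Quotient.mk_eq_zero _).2 (Submodule.smul_mem_smul ha trivial)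
    have hkill' : Module.IsTorsionBySet A X' (maximalIdeal A : Set A) := by
      rintro ⟨x, hx⟩ ⟨a, ha⟩
      refine Subtype.ext ?_
      show a • x = 0
      induction hx using Submodule.smul_induction_on' with
      | smul b hb y _ =>
        rw [smul_smul]
        exact Module.mem_annihilator.1 (hX (by rw [pow_succ']; exact Ideal.mul_mem_mul ha hb)) y
      | add y _ z _ hy hz => rw [smul_add, hy, hz, add_zero]
    have h' : (k : ℕ∞) ≤ LocCoh.idealDepth J (M ⊗[A] X') := by
      letI : Module (ResidueField A) X' := hkill'.module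
      haveI : IsScalarTower A (ResidueField A) X' := hkill'.isScalarTower
      haveI : Module.Finite (ResidueField A) X' := Module.Finite.of_restrictScalars_finite A _ _
      let r := Module.finrank (ResidueField A) X'
      let e : X' ≃ₗ[A] (Fin r → ResidueField A) :=
        ((Module.finBasis (ResidueField A) X').equivFun).restrictScalars A
      obtain ⟨e1⟩ := FlatLoc6.exists_residueEquiv (A := A) (B := B) M
      let E : (M ⊗[A] X') ≃ₗ[B] (Fin r → EGA4.FibMod A B M) :=
        (AlgebraTensorModule.congr (LinearEquiv.refl B M) e).trans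
          ((TensorProduct.piRight A B M fun _ : Fin r => ResidueField A).trans (LinearEquiv.piCongrRight fun _ => e1))
      haveI : Module.Finite B (M ⊗[A] X') := LocalCrit.finite_tensor (C := B) M X'
      rw [LC.idealDepth_congr J E]
      exact le_idealDepth_pi_module J _ k h r
    haveI : Module.Finite B (M ⊗[A] X') := LocalCrit.finite_tensor (C := B) M X'
    haveI : Module.Finite B (M ⊗[A] X) := LocalCrit.finite_tensor (C := B) M X
    haveI : Module.Finite B (M ⊗[A] Q) := LocalCrit.finite_tensor (C := B) M Q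
    let f := FlatLoc6.tmap (B := B) M X'.subtype
    let g := FlatLoc6.tmap (B := B) M X'.mkQ
    have hfi : Function.Injective f := lTensor_injective_of_depth J M hU X'.subtype Subtype.val_injective
      ((Nat.cast_le (α := ℕ∞).2 hk).trans h')
    have hex : Function.Exact f g := fun z => by
      rw [FlatLoc6.tmap_apply]
      refine (lTensor_exact M (LinearMap.exact_subtype_mkQ X') (Submodule.mkQ_surjective X') z).trans ?_
      exact ⟨fun ⟨w, hw⟩ => ⟨w, by rw [FlatLoc6.tmap_apply]; exact hw⟩,
        fun ⟨w, hw⟩ => ⟨w, by rw [← FlatLoc6.tmap_apply (B := B)]; exact hw⟩⟩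
    let S : ShortComplex (ModuleCat.{u} B) := ShortComplex.mk (ModuleCat.ofHom f) (ModuleCat.ofHom g)
      (ModuleCat.hom_ext (LinearMap.ext fun x => hex.apply_apply_eq_zero x))
    have hS : S.ShortExact :=
      { exact := (ShortComplex.ShortExact.moduleCat_exact_iff_function_exact S).mpr hex
        mono_f := (ModuleCat.mono_iff_injective _).mpr hfi
        epi_g := (ModuleCat.epi_iff_surjective _).mpr fun z => by
          obtain ⟨w, hw⟩ := LinearMap.lTensor_surjective M (Submodule.mkQ_surjective X') z
          exact ⟨w, (FlatLoc6.tmap_apply _ _).trans hw⟩ }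
    exact (LC.le_idealDepth_iff_ext J _ k).2 fun i hi => LC.ext_subsingleton_X₂ hS _ i
      ((LC.le_idealDepth_iff_ext J _ k).1 h' i hi) ((LC.le_idealDepth_iff_ext J _ k).1 (ih Q hkillQ) i hi)

include hU in
/-- Flatness from fibre depth. -/
theorem flat_of_one_le_fibMod [IsLocalRing B] [IsLocalHom (algebraMap A B)]
    (h1 : 1 ≤ LocCoh.idealDepth J (EGA4.FibMod A B M)) : Module.Flat A M := by
  refine LocalCrit.flat_of_forall_sup_pow (B := B) (maximalIdeal A)
    ((IsLocalRing.map_maximalIdeal_le (algebraMap A B)).trans (IsLocalRing.maximalIdeal_le_jacobson _))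
    fun K n x hx => ?_
  set S : Submodule A K := Submodule.comap (Submodule.subtype K) (maximalIdeal A ^ n)
  let g : (↥K ⧸ S) →ₗ[A] A ⧸ (maximalIdeal A ^ n) := Submodule.mapQ _ _ K.subtype le_rfl
  have hg : Function.Injective g := by
    rw [← LinearMap.ker_eq_bot]; simp [g, S, Submodule.ker_mapQ]
  have hT : maximalIdeal A ^ n ≤ Module.annihilator A (↥K ⧸ S) := fun a ha => Module.mem_annihilator.2 fun q =>
    hg (by
      rw [map_smul, map_zero]
      obtain ⟨y, hy⟩ := Ideal.Quotient.mk_surjective (g q)
      rw [← hy]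
      exact (Submodule.Quotient.mk_eq_zero _).2 ((maximalIdeal A ^ n).mul_mem_right y ha))
  have hinj := lTensor_injective_of_depth J M hU g hg (by
    rw [← Nat.cast_one] at h1 ⊢
    exact le_idealDepth_tensor J M hU le_rfl h1 n _ hT)
  have hK' : ∀ y, LinearMap.lTensor M K.subtype (TensorProduct.comm A K M y) =
      TensorProduct.comm A A M (K.subtype.rTensor M y) := fun y => by
    induction y using TensorProduct.induction_on with
    | zero => simp
    | tmul a b => simp
    | add a b ha hb => simp only [map_add, ha, hb]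
  have h0 : S.mkQ.rTensor M x = 0 := by
    have hz : S.mkQ.lTensor M (TensorProduct.comm A K M x) = 0 := by
      refine hinj ?_
      rw [map_zero, FlatLoc6.tmap_apply, ← LinearMap.comp_apply, ← LinearMap.lTensor_comp, Submodule.mapQ_mkQ,
        LinearMap.lTensor_comp, LinearMap.comp_apply,
        hK' x, hx, map_zero, map_zero]
    have hc : ∀ y, TensorProduct.comm A (↥K ⧸ S) M (S.mkQ.rTensor M y) =
        S.mkQ.lTensor M (TensorProduct.comm A K M y) := fun y => by
      induction y using TensorProduct.induction_on with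
      | zero => simp
      | tmul a b => simp
      | add a b ha hb => simp only [map_add, ha, hb]
    exact (TensorProduct.comm A (↥K ⧸ S) M).map_eq_zero_iff.1 ((hc x).trans hz)
  exact (rTensor_exact M (LinearMap.exact_subtype_mkQ _) (Submodule.mkQ_surjective _) x).mp h0

omit [IsNoetherianRing A] [IsNoetherianRing B] [Module.Finite B M] in
theorem tmul_one_eq_zero_iff_pow (n : ℕ) (x : M) :
    x ⊗ₜ[A] (1 : A ⧸ maximalIdeal A ^ n) = 0 ↔ x ∈ ((EGA4.mB A B) ^ n • ⊤ : Submodule B M) := by
  let R' := (maximalIdeal A ^ n • ⊤ : Submodule A M)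
  rw [EGA4.mB, ← Ideal.map_pow]
  have h2 : x ∈ ((maximalIdeal A ^ n).map (algebraMap A B) • ⊤ : Submodule B M) ↔ x ∈ R' := by
    rw [show R' = (((maximalIdeal A ^ n).map (algebraMap A B) • ⊤ : Submodule B M)).restrictScalars A by
      rw [Ideal.smul_restrictScalars, Submodule.restrictScalars_top]]
    rfl
  rw [h2, ← Submodule.Quotient.mk_eq_zero (p := R'),
    ← (TensorProduct.tensorQuotEquivQuotSMul M (maximalIdeal A ^ n)).map_eq_zero_iff (x := x ⊗ₜ[A] (1 : A ⧸ maximalIdeal A ^ n))]
  have h3 : TensorProduct.tensorQuotEquivQuotSMul M (maximalIdeal A ^ n) (x ⊗ₜ[A] (1 : A ⧸ maximalIdeal A ^ n)) = Submodule.Quotient.mk x := by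
    show TensorProduct.tensorQuotEquivQuotSMul M (maximalIdeal A ^ n) (x ⊗ₜ[A] Ideal.Quotient.mk _ 1) = _
    rw [TensorProduct.tensorQuotEquivQuotSMul_tmul_mk, one_smul]
  rw [h3]

include hU in
/-- Depth of the infinitesimal reductions. -/
theorem le_idealDepth_quot_pow {k : ℕ} (hk : 1 ≤ k) (h : (k : ℕ∞) ≤ LocCoh.idealDepth J (EGA4.FibMod A B M)) (n : ℕ) :
    (k : ℕ∞) ≤ LocCoh.idealDepth J (M ⧸ ((EGA4.mB A B) ^ n • (⊤ : Submodule B M))) := by
  have hkill : maximalIdeal A ^ n ≤ Module.annihilator A (A ⧸ maximalIdeal A ^ n) := by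
    rw [Ideal.annihilator_quotient]
  have h1 := le_idealDepth_tensor J M hU hk h n (A ⧸ maximalIdeal A ^ n) hkill
  let f : M →ₗ[B] M ⊗[A] (A ⧸ maximalIdeal A ^ n) :=
    { toFun := fun x => x ⊗ₜ[A] (1 : A ⧸ maximalIdeal A ^ n)
      map_add' := fun a b => TensorProduct.add_tmul a b _
      map_smul' := fun b x => rfl }
  have hsurj : Function.Surjective f := fun z => by
    induction z using TensorProduct.induction_on with
    | zero => exact ⟨0, map_zero f⟩
    | tmul m q =>
      obtain ⟨a, rfl⟩ := Ideal.Quotient.mk_surjective q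
      refine ⟨a • m, ?_⟩
      show (a • m) ⊗ₜ[A] (1 : A ⧸ maximalIdeal A ^ n) = _
      rw [TensorProduct.smul_tmul, Algebra.smul_def, mul_one]
      rfl
    | add x y hx hy => obtain ⟨a, rfl⟩ := hx; obtain ⟨b, rfl⟩ := hy; exact ⟨a + b, map_add f a b⟩
  have hker : LinearMap.ker f = (EGA4.mB A B) ^ n • (⊤ : Submodule B M) := by
    ext x
    rw [← tmul_one_eq_zero_iff_pow (A := A) (B := B) M n x]
    rfl
  haveI : Module.Finite B (M ⊗[A] (A ⧸ maximalIdeal A ^ n)) := LocalCrit.finite_tensor (C := B) M _
  rw [LC.idealDepth_congr J ((Submodule.quotEquivOfEq _ _ hker.symm).trans (f.quotKerEquivOfSurjective hsurj))]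
  exact h1

end Groth.Agent.KFlatLib
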