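import Groth.Agent.KFlatLib.Ring.RelPerfectRows
import Groth.Agent.H9Misc.DRingTorLocal

/-!
# Homology of a derived base change seen over the base
-/

set_option linter.style.haveILetI false
set_option backward.isDefEq.respectTransparency false

universe u

open CategoryTheory CategoryTheory.Limits MonoidalCategory TensorProduct
open Groth.Agent.H9Misc

attribute [local instance] HasDerivedCategory.standard

namespace Groth.Agent.KFlatLib

/-- For `A` flat over `R`, the derived base change to `R' ⊗_R A` of a pseudo-coherent object has the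
homology of its derived tensor product with `R'` over `R`. -/
theorem subsingleton_hd_baseChange_iff (R A R' : Type u) [CommRing R] [CommRing A] [Algebra R A]
    [CommRing R'] [Algebra R R'] [Module.Flat R A] [DRing.HasLTensor R (ModuleCat.of R R')]
    [DRing.HasLBaseChange (Algebra.TensorProduct.includeRight.toRingHom : A →+* R' ⊗[R] A)]
    (K : Dual.D A) (hK : DRing.IsPseudoCoherent' A K) (i : ℤ) :
    Subsingleton (Dual.HD R ((DRing.LTensor R (ModuleCat.of R R')).obj
        ((DRing.restrictD (algebraMap R A)).obj K)) i) ↔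
      Subsingleton (Dual.HD (R' ⊗[R] A)
        ((DRing.LBaseChange (Algebra.TensorProduct.includeRight.toRingHom : A →+* R' ⊗[R] A)).obj K) i) := by
  obtain ⟨F, b, hb, hF, ⟨e⟩⟩ := id hK
  let α : A →+* R' ⊗[R] A := Algebra.TensorProduct.includeRight.toRingHom
  let φ := algebraMap R A
  let ρ := algebraMap R R'
  let φ' := algebraMap R' (R' ⊗[R] A)
  have h : α.comp φ = φ'.comp ρ := RingHom.ext fun r => by
    simp only [α, φ, φ', ρ, RingHom.comp_apply, AlgHom.toRingHom_eq_coe, RingHom.coe_coe, AlgHom.commutes]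
    exact IsScalarTower.algebraMap_apply R R' (R' ⊗[R] A) r
  letI : Algebra A (R' ⊗[R] A) := α.toAlgebra
  haveI : IsScalarTower R A (R' ⊗[R] A) := IsScalarTower.of_algebraMap_eq fun r =>
    ((Algebra.TensorProduct.includeRight : A →ₐ[R] R' ⊗[R] A).commutes r).symm
  haveI : Algebra.IsPushout R R' A (R' ⊗[R] A) := TensorProduct.isPushout
  haveI : ∀ j, IsIso ((sqCx h F).f j) := fun j => isIso_sqMod h rfl rfl rfl rfl (F.X j)
  let s : (DTen.extCx ρ).obj ((DTen.resCx φ).obj F) ≅ (DTen.resCx φ').obj ((DTen.extCx α).obj F) :=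
    @asIso _ _ _ _ (sqCx h F) (HomologicalComplex.Hom.isIso_of_components _)
  have hflat : DRing.TermwiseFlat ((DTen.resCx φ).obj F) := fun j => by
    haveI := (hF j).2
    letI : Module R (F.X j) := Module.compHom _ φ
    haveI : IsScalarTower R A (F.X j) := IsScalarTower.of_algebraMap_smul fun _ _ => rfl
    exact Module.Flat.trans R A (F.X j)
  have hX := DRingTor.isKF_of_flat hflat fun j hj =>
    (ModuleCat.restrictScalars φ).map_isZero (hb j hj)
  have hFk : DRingLTensor.IsKF F := DRingTor.isKF_of_flat (fun j => haveI := (hF j).2; inferInstance) hb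
  obtain ⟨e'⟩ := DRingLBase.nonempty_lbase_iso α hFk
  let eT : DRingTorDescent.resB ρ ≅ ModuleCat.of R R' :=
    LinearEquiv.toModuleIso (X₁ := (DRingTorDescent.resB ρ : Type u))
      (m₁ := (DRingTorDescent.resB ρ).isModule) (X₂ := R')
      { AddEquiv.refl R' with map_smul' := fun r (x : R') => (Algebra.smul_def r x).symm }
  rw [DRingTor.exactAt_tensC_iff (ModuleCat.of R R') hX
    (((DTen.resFactors φ).app F).symm ≪≫ (DRing.restrictD φ).mapIso e) i]
  have h₁ : ((DRingLTensor.tensC (ModuleCat.of R R')).obj ((DTen.resCx φ).obj F)).ExactAt i ↔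
      ((DTen.resCx ρ).obj ((DTen.extCx ρ).obj ((DTen.resCx φ).obj F))).ExactAt i := by
    let iso : tensorRight (ModuleCat.of R R') ≅ ModuleCat.extendScalars ρ ⋙ ModuleCat.restrictScalars ρ :=
      (tensoringRight (ModuleCat.{u} R)).mapIso eT.symm ≪≫ DRingTorLocal.extResIso ρ
    refine ⟨fun hx => ?_, fun hx => DRingRightExact.exactAt_iso_map iso.symm _ i ?_⟩
    · exact DRingRightExact.exactAt_iso_map iso _ i hx
    · exact hx
  have h₂ : ((DTen.extCx α).obj F).ExactAt i ↔
      Subsingleton (Dual.HD (R' ⊗[R] A) ((DRing.LBaseChange α).obj K) i) := by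
    let e'' := (DerivedCategory.homologyFunctor (ModuleCat.{u} (R' ⊗[R] A)) i).mapIso
      ((DRing.LBaseChange α).mapIso e.symm ≪≫ e') ≪≫
        (DerivedCategory.homologyFunctorFactors (ModuleCat.{u} (R' ⊗[R] A)) i).app _
    rw [HomologicalComplex.exactAt_iff_isZero_homology]
    exact ⟨fun hh => ModuleCat.subsingleton_of_isZero (hh.of_iso e''),
      fun hh => (DRingCompl.isZ hh).of_iso e''.symm⟩
  refine h₁.trans (Iff.trans ?_ h₂)
  have h₃ : ∀ {C : Type u} [CommRing C] {D : Type u} [CommRing D] (ψ : C →+* D) (Z : DRing.Cx D),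
      ((DTen.resCx ψ).obj Z).ExactAt i ↔ Z.ExactAt i := fun ψ Z =>
    ShortComplex.exact_map_iff_of_faithful (Z.sc i) (ModuleCat.restrictScalars ψ)
  rw [h₃, ← h₃ φ']
  exact ⟨fun hh => hh.of_iso s, fun hh => hh.of_iso s.symm⟩

end Groth.Agent.KFlatLib
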