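import Groth.Agent.KFlatLib.Ring.TenExact
import Groth.Agent.KFlatLib.Scheme.TildeD
import Groth.Agent.TriCat.KInjRes
import Mathlib.CategoryTheory.Adjunction.AdjointFunctorTheorems
import Mathlib.CategoryTheory.Abelian.GrothendieckCategory.Subobject
import Mathlib.CategoryTheory.Abelian.Subobject
import Mathlib.Algebra.Homology.GrothendieckAbelian
import Mathlib.Algebra.Category.ModuleCat.AB

/-!
# An internal hom of complexes of modules, by the adjoint functor theorem
-/

set_option linter.style.haveILetI false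

universe u v

open CategoryTheory CategoryTheory.Limits Pretriangulated MonoidalCategory

attribute [local instance] HasDerivedCategory.standard

namespace Groth.Agent.KFlatLib

section Extension

variable {C : Type u} [Category.{v} C] [Abelian C]

/-- A null-homotopic map into a complex of injectives extends along termwise monomorphisms. -/
lemma exists_extension_of_homotopy {X₁ X₂ I : CochainComplex C ℤ} (i : X₁ ⟶ X₂)
    [∀ n, Mono (i.f n)] [∀ n, Injective (I.X n)] (f : X₁ ⟶ I) (h : Homotopy f 0) :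
    ∃ e : X₂ ⟶ I, i ≫ e = f := by
  let k : ∀ a b, X₂.X a ⟶ I.X b := fun a b => Injective.factorThru (h.hom a b) (i.f a)
  refine ⟨Homotopy.nullHomotopicMap k, ?_⟩
  rw [Homotopy.comp_nullHomotopicMap]
  ext n
  have hk : (fun a b => i.f a ≫ k a b) = h.hom := by
    funext a b
    exact Injective.comp_factorThru _ _
  rw [hk, h.comm n]
  exact (add_zero _).symm

end Extension

variable {A : Type u} [CommRing A]

/-- `- ⊗ P` has a right adjoint. -/
lemma isLeftAdjoint_tenCx (P : DRing.Cx A) : (tenCx P).IsLeftAdjoint := by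
  haveI : PreservesColimitsOfSize.{u, u} (tenCx P) := ⟨fun {J} _ => by
    haveI : ∀ q : ℤ, PreservesColimitsOfShape J
        ((curriedTensor (ModuleCat.{u} A)).flip.obj (P.X q)) := fun q =>
      inferInstanceAs (PreservesColimitsOfShape J (tensorRight (P.X q)))
    exact preservesColimitsOfShape₁ (curriedTensor (ModuleCat.{u} A)) J P⟩
  haveI : WellPowered.{u} (DRing.Cx A) := inferInstance
  exact isLeftAdjoint_of_preservesColimits_of_isSeparating
    (P := ObjectProperty.singleton (separator (DRing.Cx A))) (isSeparator_separator _) _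

/-- The internal hom out of `P`. -/
noncomputable def innerHom (P : DRing.Cx A) : DRing.Cx A ⥤ DRing.Cx A :=
  haveI := isLeftAdjoint_tenCx P
  (tenCx P).rightAdjoint

/-- The adjunction defining the internal hom. -/
noncomputable def innerAdj (P : DRing.Cx A) : tenCx P ⊣ innerHom P :=
  haveI := isLeftAdjoint_tenCx P
  Adjunction.ofIsLeftAdjoint (tenCx P)

/-- Contravariance of the internal hom. -/
noncomputable def innerMap {P P' : DRing.Cx A} (g : P ⟶ P') : innerHom P' ⟶ innerHom P :=
  conjugateEquiv (innerAdj P') (innerAdj P)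
    ((curriedTensor (ModuleCat.{u} A)).map₂CochainComplex.flip.map g)

lemma innerMap_counit {P P' : DRing.Cx A} (g : P ⟶ P') (I : DRing.Cx A) :
    (tenCx P).map ((innerMap g).app I) ≫ (innerAdj P).counit.app I =
      ((curriedTensor (ModuleCat.{u} A)).map₂CochainComplex.flip.map g).app ((innerHom P').obj I) ≫
        (innerAdj P').counit.app I :=
  conjugateEquiv_counit _ _ _ I

lemma homEquiv_innerMap {P P' : DRing.Cx A} (g : P ⟶ P') {Z I : DRing.Cx A}
    (a : Z ⟶ (innerHom P').obj I) :
    ((innerAdj P).homEquiv Z I).symm (a ≫ (innerMap g).app I) =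
      ((curriedTensor (ModuleCat.{u} A)).map₂CochainComplex.flip.map g).app Z ≫
        ((innerAdj P').homEquiv Z I).symm a := by
  rw [Adjunction.homEquiv_counit, Adjunction.homEquiv_counit, Functor.map_comp, Category.assoc,
    innerMap_counit, ← Category.assoc, ← Category.assoc]
  exact congrArg (· ≫ _) (((curriedTensor (ModuleCat.{u} A)).map₂CochainComplex.flip.map g).naturality a)

lemma homEquiv_zero (P : DRing.Cx A) (Z I : DRing.Cx A) :
    ((innerAdj P).homEquiv Z I).symm 0 = 0 := by
  haveI : (tenCx P).PreservesZeroMorphisms := inferInstance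
  rw [Adjunction.homEquiv_counit, (tenCx P).map_zero, zero_comp]

/-- The internal hom turns degreewise split sequences into short exact ones, into injective terms. -/
lemma innerHom_shortExact (S : ShortComplex (DRing.Cx A))
    (hS : ∀ n, Nonempty (S.map (HomologicalComplex.eval _ _ n)).Splitting) (I : DRing.Cx A)
    [∀ n, Injective (I.X n)] :
    ∃ hz, (ShortComplex.mk ((innerMap S.g).app I) ((innerMap S.f).app I) hz).ShortExact := by
  let T := curriedTensor (ModuleCat.{u} A)
  have hten : ∀ Z : DRing.Cx A, (S.map (T.map₂CochainComplex.obj Z)).ShortExact := fun Z =>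
    shortExact₂_of_splitting Z S hS
  have hz : (innerMap S.g).app I ≫ (innerMap S.f).app I = 0 := by
    refine ((innerAdj S.X₁).homEquiv _ _).symm.injective ?_
    rw [homEquiv_innerMap, homEquiv_zero]
    have h := homEquiv_innerMap S.g (𝟙 ((innerHom S.X₃).obj I))
    rw [Category.id_comp] at h
    rw [h, ← Category.assoc]
    exact (congrArg (· ≫ _) (S.map (T.map₂CochainComplex.obj _)).zero).trans zero_comp
  refine ⟨hz, ?_⟩
  let H := ShortComplex.mk ((innerMap S.g).app I) ((innerMap S.f).app I) hz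
  have hmono : Mono H.f := Preadditive.mono_of_cancel_zero _ fun {Z} a ha => by
    refine ((innerAdj S.X₃).homEquiv _ _).symm.injective ?_
    rw [homEquiv_zero]
    haveI : Epi ((T.map₂CochainComplex.obj Z).map S.g) := (hten Z).epi_g
    refine (cancel_epi ((T.map₂CochainComplex.obj Z).map S.g)).1 (Eq.trans ?_ comp_zero.symm)
    have h := homEquiv_innerMap S.g a
    rw [show a ≫ (innerMap S.g).app I = 0 from ha, homEquiv_zero] at h
    exact h.symm
  have hepi : Epi H.g := by
    let X := (innerHom S.X₁).obj I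
    let D : DRing.Cx A := CochainComplex.mappingCone (𝟙 (X⟦(-1 : ℤ)⟧))
    let π : D ⟶ X := (CochainComplex.mappingCone.triangle (𝟙 (X⟦(-1 : ℤ)⟧))).mor₃ ≫
      (shiftFunctorCompIsoId (DRing.Cx A) (-1 : ℤ) 1 (by omega)).hom.app X
    haveI : Epi π := by
      haveI : Epi (CochainComplex.mappingCone.triangle (𝟙 (X⟦(-1 : ℤ)⟧))).mor₃ :=
        @HomologicalComplex.epi_of_epi_f _ _ _ _ _ _ _ (coneSeq (𝟙 (X⟦(-1 : ℤ)⟧))).g fun n =>
          (coneSeqSplitting (𝟙 (X⟦(-1 : ℤ)⟧)) n).shortExact.epi_g
      haveI h2 : Epi ((shiftFunctorCompIsoId (DRing.Cx A) (-1 : ℤ) 1 (by omega)).app X).hom := inferInstance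
      exact @epi_comp _ _ _ _ _ _ ‹_› _ h2
    obtain ⟨h₁⟩ := nonempty_homotopy₁ T S.X₁
      (CochainComplex.mappingCone.homotopyToZeroOfId (X⟦(-1 : ℤ)⟧))
    let f := ((innerAdj S.X₁).homEquiv D I).symm π
    haveI : ∀ n, Mono (((T.map₂CochainComplex.obj D).map S.f).f n) := fun n =>
      ((hten D).map_of_exact (HomologicalComplex.eval _ _ n)).mono_f
    obtain ⟨e, he⟩ := exists_extension_of_homotopy ((T.map₂CochainComplex.obj D).map S.f) f
      ((Homotopy.ofEq (Category.id_comp f).symm).trans
        ((((Homotopy.ofEq (CategoryTheory.Functor.map_id _ D).symm).trans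
          (h₁.trans (Homotopy.ofEq (Functor.map_zero _ _ _)))).compRight f).trans
            (Homotopy.ofEq zero_comp)))
    have : (innerAdj S.X₂).homEquiv D I e ≫ H.g = π := by
      refine ((innerAdj S.X₁).homEquiv _ _).symm.injective ?_
      refine (homEquiv_innerMap S.f _).trans ?_
      rw [Equiv.symm_apply_apply]
      exact he
    exact epi_of_epi_fac this
  refine { exact := ?_, mono_f := hmono, epi_g := hepi }
  refine ShortComplex.exact_of_f_is_kernel H (KernelFork.IsLimit.ofι' H.f H.zero fun {Z} a ha => ?_)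
  have hb : (T.map₂CochainComplex.obj Z).map S.f ≫ ((innerAdj S.X₂).homEquiv Z I).symm a = 0 := by
    have h := homEquiv_innerMap S.f a
    rw [show a ≫ (innerMap S.f).app I = 0 from ha, homEquiv_zero] at h
    exact h.symm
  haveI : Epi (S.map (T.map₂CochainComplex.obj Z)).g := (hten Z).epi_g
  refine ⟨(innerAdj S.X₃).homEquiv Z I ((hten Z).exact.desc (((innerAdj S.X₂).homEquiv Z I).symm a) hb), ?_⟩
  refine ((innerAdj S.X₂).homEquiv _ _).symm.injective ?_
  refine (homEquiv_innerMap S.g _).trans ?_
  rw [Equiv.symm_apply_apply]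
  exact (hten Z).exact.g_desc _ hb

lemma tenCx_acyclic {X : DRing.Cx A} (hX : X.Acyclic) {P : DRing.Cx A}
    (hP : KFlat (curriedTensor (ModuleCat.{u} A)) P) : ((tenCx P).obj X).Acyclic :=
  (kFlat_iff.1 hP) X hX

lemma nonempty_homotopy_of_homEquiv {P I X : DRing.Cx A} [∀ n, Injective (I.X n)]
    (g : X ⟶ (innerHom P).obj I) (h : Homotopy (((innerAdj P).homEquiv X I).symm g) 0) :
    Nonempty (Homotopy g 0) := by
  let ι : X ⟶ CochainComplex.mappingCone (𝟙 X) := CochainComplex.mappingCone.inr (𝟙 X)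
  have hι : ((coneSeq (𝟙 X)).map (tenCx P)).ShortExact :=
    shortExact₁_of_splitting P (coneSeq (𝟙 X)) fun n => ⟨coneSeqSplitting (𝟙 X) n⟩
  haveI : ∀ n, Mono (((tenCx P).map ι).f n) := fun n =>
    (hι.map_of_exact (HomologicalComplex.eval _ _ n)).mono_f
  obtain ⟨e, he⟩ := exists_extension_of_homotopy ((tenCx P).map ι) _ h
  have hg : g = ι ≫ (innerAdj P).homEquiv _ _ e := by
    rw [← (innerAdj P).homEquiv_naturality_left, he, Equiv.apply_symm_apply]
  exact ⟨(Homotopy.ofEq (hg.trans (by rw [Category.id_comp]))).trans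
    ((((CochainComplex.mappingCone.homotopyToZeroOfId X).compRight _).compLeft ι).trans
      (Homotopy.ofEq (by rw [zero_comp, comp_zero])))⟩

lemma isKInjective_innerHom {P : DRing.Cx A} (hP : KFlat (curriedTensor (ModuleCat.{u} A)) P)
    (I : DRing.Cx A) [I.IsKInjective] [∀ n, Injective (I.X n)] :
    ((innerHom P).obj I).IsKInjective where
  nonempty_homotopy_zero {X} g hX := by
    obtain ⟨h⟩ := CochainComplex.IsKInjective.nonempty_homotopy_zero
      (((innerAdj P).homEquiv X I).symm g) (tenCx_acyclic hX hP)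
    exact nonempty_homotopy_of_homEquiv g h

variable [DTen.HasLTen A] [DTen.HasRHom A]

/-- The comparison with the derived internal hom. -/
noncomputable def innerCmp (P I : DRing.Cx A) :
    DerivedCategory.Q.obj ((innerHom P).obj I) ⟶
      (DTen.RHomR A (DerivedCategory.Q.obj P)).obj (DerivedCategory.Q.obj I) :=
  DTen.rhomHomEquiv _ _ _ ((DTen.ε A).app ((innerHom P).obj I, P) ≫
    DerivedCategory.Q.map ((innerAdj P).counit.app I))

omit [DTen.HasRHom A] in
lemma ε_naturality_left {X X' : DRing.Cx A} (g : X ⟶ X') (P : DRing.Cx A) :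
    (DTen.LTen₂ A).map (Prod.mkHom (DerivedCategory.Q.map g) (𝟙 (DerivedCategory.Q.obj P))) ≫
        (DTen.ε A).app (X', P) =
      (DTen.ε A).app (X, P) ≫ DerivedCategory.Q.map ((tenCx P).map g) := by
  have h := (DTen.ε A).naturality (Prod.mkHom g (𝟙 P))
  refine (Eq.trans (congrArg (fun z => (DTen.LTen₂ A).map z ≫ _) ?_) h).trans
    (congrArg (_ ≫ ·) ?_)
  · exact Prod.ext rfl (DerivedCategory.Q.map_id P).symm
  · refine congrArg DerivedCategory.Q.map ?_
    change ((curriedTensor (ModuleCat.{u} A)).map₂CochainComplex.map g).app P ≫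
      ((curriedTensor (ModuleCat.{u} A)).map₂CochainComplex.obj X').map (𝟙 P) = _
    rw [CategoryTheory.Functor.map_id]
    exact Category.comp_id _

omit [DTen.HasRHom A] in
lemma ε_naturality_right (X : DRing.Cx A) {P P' : DRing.Cx A} (g : P ⟶ P') :
    (DTen.LTen₂ A).map (Prod.mkHom (𝟙 (DerivedCategory.Q.obj X)) (DerivedCategory.Q.map g)) ≫
        (DTen.ε A).app (X, P') =
      (DTen.ε A).app (X, P) ≫ DerivedCategory.Q.map
        (((curriedTensor (ModuleCat.{u} A)).map₂CochainComplex.flip.map g).app X) := by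
  have h := (DTen.ε A).naturality (Prod.mkHom (𝟙 X) g)
  refine (Eq.trans (congrArg (fun z => (DTen.LTen₂ A).map z ≫ _) ?_) h).trans
    (congrArg (_ ≫ ·) ?_)
  · exact Prod.ext (DerivedCategory.Q.map_id X).symm rfl
  · refine congrArg DerivedCategory.Q.map ?_
    change ((curriedTensor (ModuleCat.{u} A)).map₂CochainComplex.map (𝟙 X)).app P ≫
      ((curriedTensor (ModuleCat.{u} A)).map₂CochainComplex.obj X).map g = _
    rw [CategoryTheory.Functor.map_id]
    exact Category.id_comp _

/-- `Q Hom(P, I) = RHom(Q P, Q I)` for K-flat `P` and K-injective `I` with injective terms. -/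
lemma isIso_innerCmp {P : DRing.Cx A} (hP : KFlat (curriedTensor (ModuleCat.{u} A)) P)
    (I : DRing.Cx A) [I.IsKInjective] [∀ n, Injective (I.X n)] : IsIso (innerCmp P I) := by
  haveI := isKInjective_innerHom hP I
  refine isIso_of_yoneda_map_bijective _ fun Z => ?_
  let X := flatRep Z
  let e := flatRepIso Z
  let F := DTen.tensorRightD A (DerivedCategory.Q.obj P)
  have key : ∀ g : X ⟶ (innerHom P).obj I,
      (DTen.rhomHomEquiv (DerivedCategory.Q.obj X) _ _).symm
          (DerivedCategory.Q.map g ≫ innerCmp P I) =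
        (DTen.ε A).app (X, P) ≫ DerivedCategory.Q.map (((innerAdj P).homEquiv X I).symm g) := by
    intro g
    refine (Equiv.symm_apply_eq _).2 ?_
    refine (((DTen.rhomAdj A _).homEquiv_naturality_left _ _).symm).trans ?_
    refine congrArg (DTen.rhomHomEquiv (DerivedCategory.Q.obj X) (DerivedCategory.Q.obj P) _) ?_
    refine Eq.trans ?_ (congrArg (fun z => (DTen.ε A).app (X, P) ≫ DerivedCategory.Q.map z)
      ((innerAdj P).homEquiv_counit X I g).symm)
    refine Eq.trans ?_ (congrArg ((DTen.ε A).app (X, P) ≫ ·) (DerivedCategory.Q.map_comp _ _).symm)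
    exact ((Category.assoc _ _ _).symm.trans (congrArg (· ≫ _) (ε_naturality_left g P))).trans
      (Category.assoc _ _ _)
  haveI hε : IsIso ((DTen.ε A).app (X, P)) := isIso_ε_right hP X
  suffices h : Function.Bijective
      (fun a : DerivedCategory.Q.obj X ⟶ DerivedCategory.Q.obj ((innerHom P).obj I) =>
        a ≫ innerCmp P I) by
    refine ⟨fun z z' hz => (cancel_epi e.hom).1 (h.1 ?_), fun y => ?_⟩
    · simp only [Category.assoc] at hz ⊢
      exact congrArg (e.hom ≫ ·) hz
    · obtain ⟨z, hz⟩ := h.2 (e.hom ≫ y)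
      refine ⟨e.inv ≫ z, ?_⟩
      change (e.inv ≫ z) ≫ _ = y
      simp only [Category.assoc] at hz ⊢
      exact (congrArg (e.inv ≫ ·) hz).trans (Iso.inv_hom_id_assoc e y)
  refine ⟨fun a a' h => ?_, fun y => ?_⟩
  · obtain ⟨g, rfl⟩ := exists_Q_map a
    obtain ⟨g', rfl⟩ := exists_Q_map a'
    have h' := congrArg (DTen.rhomHomEquiv (DerivedCategory.Q.obj X) _ _).symm h
    simp only [key] at h'
    obtain ⟨H⟩ := homotopy_of_Q_map_eq _ _ ((cancel_epi _).1 h')
    have H' : Homotopy (((innerAdj P).homEquiv X I).symm (g - g')) 0 := by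
      refine (Homotopy.ofEq ?_).trans H.equivSubZero
      haveI : (tenCx P).Additive := inferInstance
      simp only [Adjunction.homEquiv_counit, Functor.map_sub, Preadditive.sub_comp]
      rfl
    obtain ⟨K⟩ := nonempty_homotopy_of_homEquiv _ H'
    exact DerivedCategory.Q_map_eq_of_homotopy _ (Homotopy.equivSubZero.symm K)
  · obtain ⟨b, hb⟩ := exists_Q_map
      (inv ((DTen.ε A).app (X, P)) ≫ (DTen.rhomHomEquiv (DerivedCategory.Q.obj X) _ _).symm y)
    refine ⟨DerivedCategory.Q.map ((innerAdj P).homEquiv X I b),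
      (DTen.rhomHomEquiv (DerivedCategory.Q.obj X) _ _).symm.injective ?_⟩
    rw [key, Equiv.symm_apply_apply, hb]
    exact IsIso.hom_inv_id_assoc _ _

omit [DTen.HasRHom A] in
lemma ten_swap {a a' b b' : Dual.D A} (f : a ⟶ a') (g : b ⟶ b') :
    (DTen.LTen₂ A).map (Prod.mkHom (𝟙 a) g) ≫ (DTen.LTen₂ A).map (Prod.mkHom f (𝟙 b')) =
      (DTen.LTen₂ A).map (Prod.mkHom f (𝟙 b)) ≫ (DTen.LTen₂ A).map (Prod.mkHom (𝟙 a') g) := by
  rw [← Functor.map_comp, ← Functor.map_comp]
  congr 1
  exact Prod.ext ((Category.id_comp f).trans (Category.comp_id f).symm)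
    ((Category.comp_id g).trans (Category.id_comp g).symm)

lemma innerCmp_naturality {P P' : DRing.Cx A} (g : P ⟶ P') (I : DRing.Cx A) :
    DerivedCategory.Q.map ((innerMap g).app I) ≫ innerCmp P I =
      innerCmp P' I ≫ DTen.RHomMap (DerivedCategory.Q.map g) (DerivedCategory.Q.obj I) := by
  let J := DerivedCategory.Q.obj ((innerHom P').obj I)
  let e := DTen.rhomHomEquiv J (DerivedCategory.Q.obj P) (DerivedCategory.Q.obj I)
  have h2 : (DTen.LTen₂ A).map (Prod.mkHom (innerCmp P' I) (𝟙 (DerivedCategory.Q.obj P'))) ≫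
      DTen.ev (DerivedCategory.Q.obj P') (DerivedCategory.Q.obj I) =
      (DTen.ε A).app ((innerHom P').obj I, P') ≫
        DerivedCategory.Q.map ((innerAdj P').counit.app I) :=
    ((DTen.rhomAdj A _).homEquiv_counit ..).symm.trans (Equiv.symm_apply_apply _ _)
  let m := (DTen.LTen₂ A).map (Prod.mkHom (𝟙 J) (DerivedCategory.Q.map g)) ≫
    (DTen.ε A).app ((innerHom P').obj I, P') ≫ DerivedCategory.Q.map ((innerAdj P').counit.app I)
  have lhs : DerivedCategory.Q.map ((innerMap g).app I) ≫ innerCmp P I = e m := by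
    refine (((DTen.rhomAdj A _).homEquiv_naturality_left _ _).symm).trans (congrArg e ?_)
    have h3 : DerivedCategory.Q.map ((tenCx P).map ((innerMap g).app I)) ≫
        DerivedCategory.Q.map ((innerAdj P).counit.app I) =
        DerivedCategory.Q.map
          (((curriedTensor (ModuleCat.{u} A)).map₂CochainComplex.flip.map g).app ((innerHom P').obj I)) ≫
          DerivedCategory.Q.map ((innerAdj P').counit.app I) := by
      rw [← Functor.map_comp, innerMap_counit, Functor.map_comp]
    calc (DTen.LTen₂ A).map (Prod.mkHom (DerivedCategory.Q.map ((innerMap g).app I))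
            (𝟙 (DerivedCategory.Q.obj P))) ≫
          (DTen.ε A).app ((innerHom P).obj I, P) ≫ DerivedCategory.Q.map ((innerAdj P).counit.app I)
        = (DTen.ε A).app ((innerHom P').obj I, P) ≫ _ :=
          ((Category.assoc _ _ _).symm.trans
            (congrArg (· ≫ _) (ε_naturality_left ((innerMap g).app I) P))).trans
            ((Category.assoc _ _ _).trans (congrArg (_ ≫ ·) h3))
      _ = m := ((Category.assoc _ _ _).symm.trans
          (congrArg (· ≫ _) (ε_naturality_right _ g).symm)).trans (Category.assoc _ _ _)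
  have rhs : innerCmp P' I ≫ DTen.RHomMap (DerivedCategory.Q.map g) (DerivedCategory.Q.obj I) = e m := by
    refine (Equiv.symm_apply_eq e).1 ?_
    have h5 : (DTen.LTen₂ A).map (Prod.mkHom
          (innerCmp P' I ≫ DTen.RHomMap (DerivedCategory.Q.map g) (DerivedCategory.Q.obj I))
          (𝟙 (DerivedCategory.Q.obj P))) =
        (DTen.LTen₂ A).map (Prod.mkHom (innerCmp P' I) (𝟙 (DerivedCategory.Q.obj P))) ≫
          (DTen.LTen₂ A).map (Prod.mkHom
            (DTen.RHomMap (DerivedCategory.Q.map g) (DerivedCategory.Q.obj I))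
            (𝟙 (DerivedCategory.Q.obj P))) := by
      rw [← Functor.map_comp]
      exact congrArg (DTen.LTen₂ A).map (Prod.ext rfl (Category.comp_id _).symm)
    refine ((DTen.rhomAdj A _).homEquiv_counit ..).trans ?_
    calc (DTen.LTen₂ A).map (Prod.mkHom
          (innerCmp P' I ≫ DTen.RHomMap (DerivedCategory.Q.map g) (DerivedCategory.Q.obj I))
          (𝟙 (DerivedCategory.Q.obj P))) ≫ DTen.ev (DerivedCategory.Q.obj P) (DerivedCategory.Q.obj I)
        = (DTen.LTen₂ A).map (Prod.mkHom (innerCmp P' I) (𝟙 (DerivedCategory.Q.obj P))) ≫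
            (DTen.LTen₂ A).map (Prod.mkHom (𝟙 _) (DerivedCategory.Q.map g)) ≫
              DTen.ev (DerivedCategory.Q.obj P') (DerivedCategory.Q.obj I) := by
          rw [h5, Category.assoc, DTen.RHom_map_ev]
      _ = (DTen.LTen₂ A).map (Prod.mkHom (𝟙 J) (DerivedCategory.Q.map g)) ≫
            (DTen.LTen₂ A).map (Prod.mkHom (innerCmp P' I) (𝟙 (DerivedCategory.Q.obj P'))) ≫
              DTen.ev (DerivedCategory.Q.obj P') (DerivedCategory.Q.obj I) := by
          rw [← Category.assoc, ← ten_swap, Category.assoc]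
      _ = m := congrArg (_ ≫ ·) h2
  exact lhs.trans rhs.symm

end Groth.Agent.KFlatLib
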