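import Groth.Agent.LC.DepthExt
import Groth.Agent.LC.DepthLoc
import Groth.Agent.LC.ExtDim
import Groth.Agent.LC.AdjDepth
import Groth.Agent.LC.DepthFlatFibre

/-!
# Depth of kernels
-/

set_option autoImplicit false
set_option linter.style.haveILetI false

universe u

open CategoryTheory IsLocalRing

namespace Groth.Agent.KFlatLib

variable {R : Type u} [CommRing R] [IsNoetherianRing R] (I : Ideal R)

theorem le_idealDepth_of_injective {M N : Type u} [AddCommGroup M] [Module R M] [Module.Finite R M]
    [AddCommGroup N] [Module R N] [Module.Finite R N] (f : M →ₗ[R] N) (hf : Function.Injective f)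
    (h : 1 ≤ LocCoh.idealDepth I N) : 1 ≤ LocCoh.idealDepth I M := by
  rw [← Nat.cast_one] at h ⊢
  refine (LC.le_idealDepth_iff_ext I M 1).2 fun i hi => ?_
  obtain rfl : i = 0 := by omega
  haveI : Mono (ModuleCat.ofHom f) := (ModuleCat.mono_iff_injective _).mpr hf
  exact LC.ext_zero_subsingleton_of_injective _ (ModuleCat.ofHom f) ((LC.le_idealDepth_iff_ext I N 1).1 h 0 hi)

/-- Depth bounds for the kernel in a left exact sequence. -/
theorem two_le_idealDepth_of_exact {K E0 E1 : Type u} [AddCommGroup K] [Module R K] [Module.Finite R K]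
    [AddCommGroup E0] [Module R E0] [Module.Finite R E0] [AddCommGroup E1] [Module R E1] [Module.Finite R E1]
    (g : K →ₗ[R] E0) (v : E0 →ₗ[R] E1) (hg : Function.Injective g) (hgv : Function.Exact g v)
    (h0 : 2 ≤ LocCoh.idealDepth I E0) (h1 : 1 ≤ LocCoh.idealDepth I E1) : 2 ≤ LocCoh.idealDepth I K := by
  have hr : 1 ≤ LocCoh.idealDepth I (LinearMap.range v) :=
    le_idealDepth_of_injective I (LinearMap.range v).subtype Subtype.val_injective h1
  let S : ShortComplex (ModuleCat.{u} R) := ShortComplex.mk (ModuleCat.ofHom g)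
    (ModuleCat.ofHom v.rangeRestrict)
    (ModuleCat.hom_ext (LinearMap.ext fun x => Subtype.ext (hgv.apply_apply_eq_zero x)))
  have hS : S.ShortExact :=
    { exact := (ShortComplex.ShortExact.moduleCat_exact_iff_function_exact S).mpr fun x =>
        ⟨fun h => (hgv x).1 (congrArg Subtype.val h), fun h => Subtype.ext ((hgv x).2 h)⟩
      mono_f := (ModuleCat.mono_iff_injective _).mpr hg
      epi_g := (ModuleCat.epi_iff_surjective _).mpr v.surjective_rangeRestrict }
  rw [← Nat.cast_ofNat (R := ℕ∞) (n := 2)] at h0 ⊢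
  rw [← Nat.cast_one] at hr
  refine (LC.le_idealDepth_iff_ext I K 2).2 fun i hi => ?_
  have e0 := (LC.le_idealDepth_iff_ext I E0 2).1 h0
  have e1 := (LC.le_idealDepth_iff_ext I (LinearMap.range v) 1).1 hr
  rcases i with _ | i
  · haveI : Mono (ModuleCat.ofHom g) := (ModuleCat.mono_iff_injective _).mpr hg
    exact LC.ext_zero_subsingleton_of_injective _ (ModuleCat.ofHom g) (e0 0 hi)
  · obtain rfl : i = 0 := by omega
    exact LC.ext_subsingleton_X₁ hS _ 0 (e0 1 hi) (e1 0 one_pos)

theorem le_idealDepth_pi (k : ℕ) (h : (k : ℕ∞) ≤ LocCoh.idealDepth I R) (n : ℕ) :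
    (k : ℕ∞) ≤ LocCoh.idealDepth I (Fin n → R) := by
  induction n with
  | zero => rw [LocCoh.idealDepth, if_pos (Subsingleton.elim _ _)]; exact le_top
  | succ n ih =>
    let f := LinearMap.single R (fun _ : Fin (n + 1) => R) 0
    let g : (Fin (n + 1) → R) →ₗ[R] (Fin n → R) := LinearMap.funLeft R R Fin.succ
    have hfg : Function.Exact f g := fun v =>
      ⟨fun h => ⟨v 0, funext fun i => Fin.cases (Pi.single_eq_same (M := fun _ : Fin (n + 1) => R) 0 (v 0))
          (fun j => (Pi.single_eq_of_ne (M := fun _ : Fin (n + 1) => R) (Fin.succ_ne_zero j) (v 0)).trans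
            (congrFun h j).symm) i⟩,
        fun ⟨w, hw⟩ => hw ▸ funext fun j => Pi.single_eq_of_ne (M := fun _ : Fin (n + 1) => R) (Fin.succ_ne_zero j) w⟩
    let S : ShortComplex (ModuleCat.{u} R) := ShortComplex.mk (ModuleCat.ofHom f) (ModuleCat.ofHom g)
      (ModuleCat.hom_ext (LinearMap.ext fun x => hfg.apply_apply_eq_zero x))
    have hS : S.ShortExact :=
      { exact := (ShortComplex.ShortExact.moduleCat_exact_iff_function_exact S).mpr hfg
        mono_f := (ModuleCat.mono_iff_injective _).mpr fun a b e => Pi.single_injective (M := fun _ : Fin (n + 1) => R) 0 e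
        epi_g := (ModuleCat.epi_iff_surjective _).mpr
          (LinearMap.funLeft_surjective_of_injective _ _ _ (Fin.succ_injective _)) }
    refine (LC.le_idealDepth_iff_ext I _ k).2 fun i hi => LC.ext_subsingleton_X₂ hS _ i
      ((LC.le_idealDepth_iff_ext I R k).1 h i hi) ((LC.le_idealDepth_iff_ext I _ k).1 ih i hi)

variable {K E0 E1 : Type u} [AddCommGroup K] [Module R K] [Module.Finite R K]
  [AddCommGroup E0] [Module R E0] [Module.Finite R E0] [AddCommGroup E1] [Module R E1] [Module.Finite R E1]
  (g : K →ₗ[R] E0) (v : E0 →ₗ[R] E1)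

theorem min_le_coe_iff (k : ℕ) (d : WithBot ℕ∞) (t : ℕ∞) :
    min (k : WithBot ℕ∞) d ≤ (t : WithBot ℕ∞) ↔
      ∀ j : ℕ, j ≤ k → (j : WithBot ℕ∞) ≤ d → (j : ℕ∞) ≤ t := by
  induction d with
  | bot => simp
  | coe d =>
    constructor
    · intro h j hjk hjd
      exact WithBot.coe_le_coe.1 ((le_min (Nat.cast_le.2 hjk) hjd).trans h)
    · intro h
      rw [show (k : WithBot ℕ∞) = ((k : ℕ∞) : WithBot ℕ∞) from rfl, ← WithBot.coe_min, WithBot.coe_le_coe]
      refine ENat.forall_natCast_le_iff_le.1 fun j hj => ?_
      rw [le_min_iff, Nat.cast_le] at hj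
      exact h j hj.1 (WithBot.coe_le_coe.2 hj.2)

omit [IsNoetherianRing R] [Module.Finite R K] [Module.Finite R E1] in
theorem support_localized_subset (p : Ideal R) [p.IsPrime] (h : Module.support R K ⊆ Module.support R E1) :
    Module.support (Localization.AtPrime p) (LocalizedModule p.primeCompl K) ⊆
      Module.support (Localization.AtPrime p) (LocalizedModule p.primeCompl E1) := by
  intro q hq
  let c := algebraMap R (Localization.AtPrime p)
  obtain ⟨z, hz⟩ := Module.mem_support_iff'.1 hq
  induction z using LocalizedModule.induction_on with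
  | h m s =>
    have hqR : (⟨q.asIdeal.comap c, inferInstance⟩ : PrimeSpectrum R) ∈ Module.support R K :=
      Module.mem_support_iff'.2 ⟨m, fun a ha h0 => hz (c a) ha (by
        rw [algebraMap_smul, LocalizedModule.smul'_mk, h0, LocalizedModule.zero_mk])⟩
    obtain ⟨x, hx⟩ := Module.mem_support_iff'.1 (h hqR)
    refine Module.mem_support_iff'.2 ⟨LocalizedModule.mk x 1, fun a ha h0 => ?_⟩
    obtain ⟨⟨r, t⟩, hrt⟩ := IsLocalization.surj (M := p.primeCompl) a
    have h1 : c r • LocalizedModule.mk x (1 : p.primeCompl) = 0 := by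
      rw [← show a * c t = c r from hrt, mul_comm, mul_smul, h0, smul_zero]
    rw [algebraMap_smul, ← LocalizedModule.mkLinearMap_apply, ← map_smul,
      IsLocalizedModule.eq_zero_iff p.primeCompl] at h1
    obtain ⟨v, hv⟩ := h1
    have hv' : ((v : R) * r) • x = 0 := by rw [mul_smul]; exact hv
    refine hx _ (fun hmem => ?_) hv'
    have hmem' : c v * (a * c t) ∈ q.asIdeal := by
      rw [show a * c t = c r from hrt, ← map_mul]; exact hmem
    rcases q.isPrime.mem_or_mem hmem' with h2 | h2
    · exact q.isPrime.ne_top (Ideal.eq_top_of_isUnit_mem _ h2 (IsLocalization.map_units _ v))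
    rcases q.isPrime.mem_or_mem h2 with h2 | h2
    · exact ha h2
    · exact q.isPrime.ne_top (Ideal.eq_top_of_isUnit_mem _ h2 (IsLocalization.map_units _ t))

omit [IsNoetherianRing R] [Module.Finite R K] [Module.Finite R E1] in
theorem supportDim_localized_le (p : Ideal R) [p.IsPrime] (h : Module.support R K ⊆ Module.support R E1) :
    Module.supportDim (Localization.AtPrime p) (LocalizedModule p.primeCompl K) ≤
      Module.supportDim (Localization.AtPrime p) (LocalizedModule p.primeCompl E1) :=
  Order.krullDim_le_of_strictMono (fun x => ⟨x.1, support_localized_subset p h x.2⟩) fun _ _ hxy => hxy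

theorem hasSk_one_of_injective (hg : Function.Injective g) (h0 : LocCoh.HasSk 1 R E0) :
    LocCoh.HasSk 1 R K := fun p hp => by
  haveI := hp
  let P := p.primeCompl
  haveI : Module.Finite (Localization.AtPrime p) (LocalizedModule P K) :=
    Module.Finite.of_isLocalizedModule P (LocalizedModule.mkLinearMap _ K)
  haveI : Module.Finite (Localization.AtPrime p) (LocalizedModule P E0) :=
    Module.Finite.of_isLocalizedModule P (LocalizedModule.mkLinearMap _ E0)
  refine (min_le_coe_iff _ _ _).2 fun j hj hjd => ?_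
  have h1 := (min_le_coe_iff _ _ _).1 (h0 p) j hj
    (hjd.trans (supportDim_localized_le p (Module.support_subset_of_injective g hg)))
  rcases Nat.le_one_iff_eq_zero_or_eq_one.1 hj with rfl | rfl
  · simp
  · rw [Nat.cast_one] at h1 ⊢
    exact le_idealDepth_of_injective _ _ (LocalizedModule.map_injective P g hg) h1

theorem hasSk_two_of_exact (hg : Function.Injective g) (hgv : Function.Exact g v)
    (h : Module.support R K ⊆ Module.support R E1) (h1 : LocCoh.HasSk 1 R E1) (h0 : LocCoh.HasSk 2 R E0) :
    LocCoh.HasSk 2 R K := fun p hp => by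
  haveI := hp
  let P := p.primeCompl
  haveI : Module.Finite (Localization.AtPrime p) (LocalizedModule P K) :=
    Module.Finite.of_isLocalizedModule P (LocalizedModule.mkLinearMap _ K)
  haveI : Module.Finite (Localization.AtPrime p) (LocalizedModule P E0) :=
    Module.Finite.of_isLocalizedModule P (LocalizedModule.mkLinearMap _ E0)
  haveI : Module.Finite (Localization.AtPrime p) (LocalizedModule P E1) :=
    Module.Finite.of_isLocalizedModule P (LocalizedModule.mkLinearMap _ E1)
  refine (min_le_coe_iff _ _ _).2 fun j hj hjd => ?_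
  have e0 := (min_le_coe_iff _ _ _).1 (h0 p) j hj
    (hjd.trans (supportDim_localized_le p (Module.support_subset_of_injective g hg)))
  have hinj := LocalizedModule.map_injective P g hg
  match j, hj with
  | 0, _ => simp
  | 1, _ =>
    rw [Nat.cast_one] at e0 ⊢
    exact le_idealDepth_of_injective _ _ hinj e0
  | 2, _ =>
    have e1 := (min_le_coe_iff _ _ _).1 (h1 p) 1 le_rfl
      ((Nat.cast_le.2 one_le_two).trans (hjd.trans (supportDim_localized_le p h)))
    rw [Nat.cast_one] at e1
    exact two_le_idealDepth_of_exact _ _ (LocalizedModule.map P v) hinj (LocalizedModule.map_exact P g v hgv) e0 e1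

/-- The kernel of a map of finite free modules inherits `S₁`, `S₂` and depth from the ring. -/
theorem hasSk_pi (k : ℕ) (h : LocCoh.HasSk k R R) (n : ℕ) : LocCoh.HasSk k R (Fin n → R) := fun p hp => by
  haveI := hp
  let P := p.primeCompl
  let A := Localization.AtPrime p
  haveI : Module.Finite A (LocalizedModule P R) :=
    Module.Finite.of_isLocalizedModule P (LocalizedModule.mkLinearMap _ R)
  haveI : Module.Finite A (LocalizedModule P (Fin n → R)) :=
    Module.Finite.of_isLocalizedModule P (LocalizedModule.mkLinearMap _ _)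
  refine (min_le_coe_iff _ _ _).2 fun j hj hjd => ?_
  have h1 := (min_le_coe_iff _ _ _).1 (h p) j hj (hjd.trans (supportDim_localized_le p (by
    exact fun q _ => Module.mem_support_iff'.2 ⟨1, fun r hr h0 => hr (by
      rw [smul_eq_mul, mul_one] at h0
      rw [h0]; exact q.asIdeal.zero_mem)⟩)))
  obtain ⟨e⟩ : Nonempty (LocalizedModule P R ≃ₗ[A] A) := ⟨(LocalizedModule.equivTensorProduct P R).trans
    (TensorProduct.AlgebraTensorModule.rid R A A)⟩
  obtain ⟨e'⟩ : Nonempty (LocalizedModule P (Fin n → R) ≃ₗ[A] (Fin n → A)) :=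
    ⟨(LocalizedModule.equivTensorProduct P _).trans (TensorProduct.piScalarRight R A A (Fin n))⟩
  rw [LocCoh.depth, LC.idealDepth_congr _ e']
  rw [LocCoh.depth, LC.idealDepth_congr _ e] at h1
  exact le_idealDepth_pi _ j h1 n

end Groth.Agent.KFlatLib
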