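import Groth.Agent.H9Misc.DRingLTensor
import Groth.Agent.H9Misc.DRingTor
import Groth.Agent.KFlatLib.Ring.LTen
import Groth.Agent.KFlatLib.SingleIso
import Groth.Prelude.Def_DerCA
import Groth.Prelude.Def_ega3
import Groth.Agent.S6587
import Mathlib.RingTheory.Noetherian.Basic
import Mathlib.Data.Int.Interval
import Mathlib.CategoryTheory.Abelian.FunctorCategory
import Mathlib.LinearAlgebra.DirectSum.Finsupp

/-!
# The derived and underived tensor product with powers of an ideal
-/

set_option linter.style.haveILetI false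
set_option linter.unusedVariables false
set_option linter.unusedSectionVars false
set_option backward.isDefEq.respectTransparency false

universe u

open CategoryTheory CategoryTheory.Limits Pretriangulated MonoidalCategory Opposite TensorProduct
open CochainComplex

attribute [local instance] HasDerivedCategory.standard

namespace Groth.Agent.KFlatLib.ProTensor

open H9Misc.DRingLTensor

variable {A : Type u} [CommRing A]

/-- The map `- ⊗ f` on complexes. -/
noncomputable def tensMap {N N' : ModuleCat.{u} A} (f : N ⟶ N') : tensC N ⟶ tensC N' :=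
  NatTrans.mapHomologicalComplex ((curriedTensor (ModuleCat.{u} A)).flip.map f) (ComplexShape.up ℤ)

lemma tensMap_f {N N' : ModuleCat.{u} A} (f : N ⟶ N') (P : DRing.Cx A) (i : ℤ) (x : P.X i ⊗[A] N) :
    (((tensMap f).app P).f i).hom x = f.hom.lTensor (P.X i) x := rfl

lemma tensMap_id (N : ModuleCat.{u} A) (P : DRing.Cx A) : (tensMap (𝟙 N)).app P = 𝟙 _ := by
  refine HomologicalComplex.hom_ext _ _ fun i => ModuleCat.hom_ext (LinearMap.ext fun x => ?_)
  exact LinearMap.lTensor_id_apply (P.X i) (N : Type u) x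

lemma tensMap_comp {N N' N'' : ModuleCat.{u} A} (f : N ⟶ N') (g : N' ⟶ N'') (P : DRing.Cx A) :
    (tensMap (f ≫ g)).app P = (tensMap f).app P ≫ (tensMap g).app P := by
  refine HomologicalComplex.hom_ext _ _ fun i => ModuleCat.hom_ext (LinearMap.ext fun x => ?_)
  exact LinearMap.lTensor_comp_apply (P.X i) g.hom f.hom x

variable {P K : DRing.Cx A} (ψ : P ⟶ K)

/-- The cone of `ψ ⊗ N`. -/
noncomputable def Cfun : ModuleCat.{u} A ⥤ DRing.Cx A where
  obj N := mappingCone ((tensC N).map ψ)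
  map {N N'} f := mappingCone.map _ _ ((tensMap f).app P) ((tensMap f).app K) ((tensMap f).naturality ψ)
  map_id N := by simp only [tensMap_id]; exact mappingCone.map_id _
  map_comp {N N' N''} f g := by
    simp only [tensMap_comp]
    exact mappingCone.map_comp _ _ _ _ _ _ _ _ _

section cone

variable {F G F' G' : DRing.Cx A} (φ : F ⟶ G)

lemma inl_fst_apply (i : ℤ) (a : F.X (i + 1)) :
    ((mappingCone.fst φ).1.v i (i + 1) rfl).hom (((mappingCone.inl φ).v (i + 1) i (by omega)).hom a) = a :=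
  ConcreteCategory.congr_hom (mappingCone.inl_v_fst_v φ (i + 1) i (by omega)) a

lemma inr_fst_apply (i : ℤ) (b : G.X i) :
    ((mappingCone.fst φ).1.v i (i + 1) rfl).hom (((mappingCone.inr φ).f i).hom b) = 0 :=
  ConcreteCategory.congr_hom (mappingCone.inr_f_fst_v φ i (i + 1) rfl) b

lemma inl_snd_apply (i : ℤ) (a : F.X (i + 1)) :
    ((mappingCone.snd φ).v i i (add_zero i)).hom (((mappingCone.inl φ).v (i + 1) i (by omega)).hom a) = 0 :=
  ConcreteCategory.congr_hom (mappingCone.inl_v_snd_v φ (i + 1) i (by omega)) a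

lemma inr_snd_apply (i : ℤ) (b : G.X i) :
    ((mappingCone.snd φ).v i i (add_zero i)).hom (((mappingCone.inr φ).f i).hom b) = b :=
  ConcreteCategory.congr_hom (mappingCone.inr_f_snd_v φ i) b

variable (φ' : F' ⟶ G') (u : F ⟶ F') (v : G ⟶ G') (comm : φ ≫ v = u ≫ φ')

lemma inl_map_apply (i : ℤ) (a : F.X (i + 1)) :
    ((mappingCone.map φ φ' u v comm).f i).hom (((mappingCone.inl φ).v (i + 1) i (by omega)).hom a) =
      ((mappingCone.inl φ').v (i + 1) i (by omega)).hom ((u.f (i + 1)).hom a) :=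
  ConcreteCategory.congr_hom (show (mappingCone.inl φ).v (i + 1) i (by omega) ≫
      (mappingCone.map φ φ' u v comm).f i = u.f (i + 1) ≫ (mappingCone.inl φ').v (i + 1) i (by omega) by
    rw [mappingCone.map, mappingCone.inl_v_desc_f]
    simp) a

lemma inr_map_apply (i : ℤ) (b : G.X i) :
    ((mappingCone.map φ φ' u v comm).f i).hom (((mappingCone.inr φ).f i).hom b) =
      ((mappingCone.inr φ').f i).hom ((v.f i).hom b) :=
  ConcreteCategory.congr_hom (show (mappingCone.inr φ).f i ≫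
      (mappingCone.map φ φ' u v comm).f i = v.f i ≫ (mappingCone.inr φ').f i by
    rw [mappingCone.map, mappingCone.inr_f_desc_f]
    simp) b

end cone

section elements

variable {N N' : ModuleCat.{u} A}

/-- First component. -/
noncomputable def c₁ (N : ModuleCat.{u} A) (i : ℤ) (y : ((Cfun ψ).obj N).X i) : P.X (i + 1) ⊗[A] N :=
  ((mappingCone.fst ((tensC N).map ψ)).1.v i (i + 1) rfl).hom y

/-- Second component. -/
noncomputable def c₂ (N : ModuleCat.{u} A) (i : ℤ) (y : ((Cfun ψ).obj N).X i) : K.X i ⊗[A] N :=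
  ((mappingCone.snd ((tensC N).map ψ)).v i i (add_zero i)).hom y

/-- An element with given components. -/
noncomputable def mkC (N : ModuleCat.{u} A) (i : ℤ) (a : P.X (i + 1) ⊗[A] N) (b : K.X i ⊗[A] N) :
    ((Cfun ψ).obj N).X i :=
  ((mappingCone.inl ((tensC N).map ψ)).v (i + 1) i (by omega)).hom a +
    ((mappingCone.inr ((tensC N).map ψ)).f i).hom b

lemma mkC_c (i : ℤ) (y : ((Cfun ψ).obj N).X i) : mkC ψ N i (c₁ ψ N i y) (c₂ ψ N i y) = y :=
  ConcreteCategory.congr_hom (mappingCone.id_X ((tensC N).map ψ) i (i + 1) rfl) y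

lemma map_mkC (f : N ⟶ N') (i : ℤ) (a : P.X (i + 1) ⊗[A] N) (b : K.X i ⊗[A] N) :
    (((Cfun ψ).map f).f i).hom (mkC ψ N i a b) =
      mkC ψ N' i (f.hom.lTensor _ a) (f.hom.lTensor _ b) := by
  exact (map_add _ _ _).trans (congrArg₂ (· + ·)
    (inl_map_apply ((tensC N).map ψ) ((tensC N').map ψ) ((tensMap f).app P) ((tensMap f).app K)
      ((tensMap f).naturality ψ) i a)
    (inr_map_apply ((tensC N).map ψ) ((tensC N').map ψ) ((tensMap f).app P) ((tensMap f).app K)
      ((tensMap f).naturality ψ) i b))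

lemma c₁_mkC (i : ℤ) (a : P.X (i + 1) ⊗[A] N) (b : K.X i ⊗[A] N) : c₁ ψ N i (mkC ψ N i a b) = a :=
  (map_add _ _ _).trans ((congrArg₂ (· + ·) (inl_fst_apply ((tensC N).map ψ) i a)
    (inr_fst_apply ((tensC N).map ψ) i b)).trans (add_zero a))

lemma c₂_mkC (i : ℤ) (a : P.X (i + 1) ⊗[A] N) (b : K.X i ⊗[A] N) : c₂ ψ N i (mkC ψ N i a b) = b :=
  (map_add _ _ _).trans ((congrArg₂ (· + ·) (inl_snd_apply ((tensC N).map ψ) i a)
    (inr_snd_apply ((tensC N).map ψ) i b)).trans (zero_add b))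

lemma c₁_smul (r : A) (i : ℤ) (y : ((Cfun ψ).obj N).X i) : c₁ ψ N i (r • y) = r • c₁ ψ N i y :=
  ((mappingCone.fst ((tensC N).map ψ)).1.v i (i + 1) rfl).hom.map_smul r y

lemma c₂_smul (r : A) (i : ℤ) (y : ((Cfun ψ).obj N).X i) : c₂ ψ N i (r • y) = r • c₂ ψ N i y :=
  ((mappingCone.snd ((tensC N).map ψ)).v i i (add_zero i)).hom.map_smul r y

lemma c₁_zero (i : ℤ) : c₁ ψ N i 0 = 0 :=
  ((mappingCone.fst ((tensC N).map ψ)).1.v i (i + 1) rfl).hom.map_zero

lemma c₂_zero (i : ℤ) : c₂ ψ N i 0 = 0 :=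
  ((mappingCone.snd ((tensC N).map ψ)).v i i (add_zero i)).hom.map_zero

lemma mkC_smul (r : A) (i : ℤ) (a : P.X (i + 1) ⊗[A] N) (b : K.X i ⊗[A] N) :
    mkC ψ N i (r • a) (r • b) = r • mkC ψ N i a b :=
  (congrArg₂ (· + ·) (((mappingCone.inl ((tensC N).map ψ)).v (i + 1) i (by omega)).hom.map_smul r a)
    (((mappingCone.inr ((tensC N).map ψ)).f i).hom.map_smul r b)).trans (smul_add _ _ _).symm

lemma mkC_zero (i : ℤ) : mkC ψ N i 0 0 = 0 :=
  (congrArg₂ (· + ·) ((mappingCone.inl ((tensC N).map ψ)).v (i + 1) i (by omega)).hom.map_zero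
    ((mappingCone.inr ((tensC N).map ψ)).f i).hom.map_zero).trans (add_zero 0)

lemma map_smul_hom (r : A) (f : N ⟶ N') (i : ℤ) (y : ((Cfun ψ).obj N).X i) :
    (((Cfun ψ).map (ModuleCat.ofHom (r • f.hom))).f i).hom y = r • (((Cfun ψ).map f).f i).hom y := by
  conv_lhs => rw [← mkC_c ψ i y]
  conv_rhs => rw [← mkC_c ψ i y]
  rw [map_mkC, map_mkC]
  simp only [ModuleCat.hom_ofHom, LinearMap.lTensor_smul, LinearMap.smul_apply]
  exact mkC_smul ψ r i _ _

lemma exact_levels {N'' : ModuleCat.{u} A} (f : N ⟶ N') (g : N' ⟶ N'')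
    (hfg : Function.Exact f.hom g.hom) (hg : Function.Surjective g.hom) (i : ℤ) :
    Function.Exact (((Cfun ψ).map f).f i).hom (((Cfun ψ).map g).f i).hom ∧
      Function.Surjective (((Cfun ψ).map g).f i).hom := by
  refine ⟨fun y => ⟨fun hy => ?_, ?_⟩, fun z => ?_⟩
  · rw [← mkC_c ψ i y, map_mkC] at hy
    have h1 := congrArg (c₁ ψ N'' i) hy
    have h2 := congrArg (c₂ ψ N'' i) hy
    rw [c₁_mkC, c₁_zero] at h1
    rw [c₂_mkC, c₂_zero] at h2
    obtain ⟨a, ha⟩ := (lTensor_exact (P.X (i + 1)) hfg hg _).1 h1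
    obtain ⟨b, hb⟩ := (lTensor_exact (K.X i) hfg hg _).1 h2
    exact ⟨mkC ψ N i a b, by rw [map_mkC, ha, hb, mkC_c]⟩
  · rintro ⟨x, rfl⟩
    rw [← mkC_c ψ i x, map_mkC, map_mkC, ← LinearMap.comp_apply, ← LinearMap.comp_apply,
      ← LinearMap.lTensor_comp, ← LinearMap.lTensor_comp, hfg.linearMap_comp_eq_zero]
    simp only [LinearMap.lTensor_zero, LinearMap.zero_apply]
    exact mkC_zero ψ i
  · obtain ⟨a, ha⟩ := LinearMap.lTensor_surjective (P.X (i + 1)) hg (c₁ ψ N'' i z)
    obtain ⟨b, hb⟩ := LinearMap.lTensor_surjective (K.X i) hg (c₂ ψ N'' i z)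
    exact ⟨mkC ψ N' i a b, by rw [map_mkC, ha, hb, mkC_c]⟩

end elements

section Torsion

/-- The powers of `g` kill the `g`-torsion of a Noetherian module uniformly. -/
lemma exists_torsion_bound (M : Type u) [AddCommGroup M] [Module A M] [IsNoetherian A M] (g : A) :
    ∃ c : ℕ, ∀ (k : ℕ) (y : M), g ^ k • y = 0 → g ^ c • y = 0 := by
  let S : ℕ →o Submodule A M :=
    { toFun := fun k => LinearMap.ker (LinearMap.lsmul A M (g ^ k))
      monotone' := monotone_nat_of_le_succ fun k y (hy : g ^ k • y = 0) =>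
        (show g ^ (k + 1) • y = 0 by rw [pow_succ', mul_smul, hy, smul_zero]) }
  obtain ⟨c, hc⟩ := monotone_stabilizes_iff_noetherian.mpr inferInstance S
  refine ⟨c, fun k y hy => ?_⟩
  rcases le_total k c with h | h
  · exact S.monotone h (show y ∈ S k from hy)
  · exact (congrArg (fun T : Submodule A M => y ∈ T) (hc k h)).mpr (show y ∈ S k from hy)

variable [IsNoetherianRing A]

/-- The terms of `P` are free and bounded above, those of `K` are finite and bounded. -/
theorem exists_cone_torsion_bound {a b : ℤ} (hK : DRing.VanishesOutside K a b)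
    (hKf : ∀ i : ℤ, Module.Finite A (K.X i)) (hP : ∀ i, Module.Free A (P.X i))
    (N : ModuleCat.{u} A) [Module.Finite A N] (g : A) :
    ∃ c : ℕ, ∀ (i : ℤ) (y : ((Cfun ψ).obj N).X i) (k : ℕ), g ^ k • y = 0 → g ^ c • y = 0 := by
  classical
  have hT : ∀ i : ℤ, ∃ c : ℕ, ∀ (k : ℕ) (y : K.X i ⊗[A] N), g ^ k • y = 0 → g ^ c • y = 0 := fun i => by
    haveI := hKf i
    exact exists_torsion_bound _ g
  choose cK hcK using hT
  obtain ⟨c₀, hc₀⟩ := exists_torsion_bound (N : Type u) g
  refine ⟨max c₀ ((Finset.Icc a b).sup cK), fun i y k hy => ?_⟩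
  let c := max c₀ ((Finset.Icc a b).sup cK)
  have up : ∀ {M : Type u} [AddCommGroup M] [Module A M] {d : ℕ} (z : M), d ≤ c → g ^ d • z = 0 →
      g ^ c • z = 0 := fun {M} _ _ d z hd hz => by
    obtain ⟨e, he⟩ := Nat.exists_eq_add_of_le hd
    rw [he, add_comm, pow_add, mul_smul, hz, smul_zero]
  have h1 : g ^ c • c₁ ψ N i y = 0 := by
    haveI := hP (i + 1)
    let e := (TensorProduct.congr (Module.Free.chooseBasis A (P.X (i + 1))).repr
      (LinearEquiv.refl A N)).trans (TensorProduct.finsuppScalarLeft A N _)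
    refine e.injective (Finsupp.ext fun l => ?_)
    rw [map_smul, map_zero, Finsupp.smul_apply, Finsupp.zero_apply]
    refine up _ (le_max_left _ _) (hc₀ k _ ?_)
    rw [← Finsupp.smul_apply, ← map_smul,
      show g ^ k • c₁ ψ N i y = 0 by
        rw [← c₁_smul, hy, c₁_zero], map_zero, Finsupp.zero_apply]
  have h2 : g ^ c • c₂ ψ N i y = 0 := by
    by_cases hi : a ≤ i ∧ i ≤ b
    · refine up _ ((Finset.le_sup (f := cK) (Finset.mem_Icc.2 hi)).trans (le_max_right _ _)) (hcK i k _ ?_)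
      rw [← c₂_smul, hy, c₂_zero]
    · haveI : Subsingleton (K.X i) := ModuleCat.subsingleton_of_isZero (hK i (by omega))
      exact Subsingleton.elim _ _
  have e := congrArg (fun z => g ^ c • z) (mkC_c ψ i y)
  simp only [← mkC_smul, h1, h2, mkC_zero] at e
  exact e.symm

end Torsion

section Systems

/-- Exactness in a functor category is detected levelwise. -/
lemma exact_of_levels {J : Type*} [Category J] {C : Type*} [Category C] [Abelian C]
    (S : ShortComplex (J ⥤ C)) (h : ∀ j, (S.map ((evaluation J C).obj j)).Exact) : S.Exact :=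
  S.exact_iff_isZero_homology.2 (Functor.isZero _ fun j =>
    ((S.map ((evaluation J C).obj j)).exact_iff_isZero_homology.1 (h j)).of_iso
      (S.mapHomologyIso ((evaluation J C).obj j)).symm)

/-- Pro-zero systems are closed under passing to the third term. -/
theorem isProZero_third (S : ShortComplex (ℕᵒᵖ ⥤ DRing.Cx A)) (hS : S.ShortExact)
    (h₁ : DerCA.IsProZero (S.X₁ ⋙ DerivedCategory.Q)) (h₂ : DerCA.IsProZero (S.X₂ ⋙ DerivedCategory.Q)) :
    DerCA.IsProZero (S.X₃ ⋙ DerivedCategory.Q) := by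
  intro k
  obtain ⟨n, hkn, hn⟩ := h₂ k
  obtain ⟨m, hnm, hm⟩ := h₁ n
  refine ⟨m, hkn.trans hnm, ?_⟩
  let ev := fun j : ℕ => (evaluation ℕᵒᵖ (DRing.Cx A)).obj (op j)
  have hj : ∀ j, (S.map (ev j)).ShortExact := fun j => by
    have := hS.mono_f
    have := hS.epi_g
    exact hS.map (ev j)
  let φ : S.map (ev m) ⟶ S.map (ev n) :=
    S.mapNatTrans ((evaluation ℕᵒᵖ (DRing.Cx A)).map (homOfLE hnm).op)
  have hδ := DerivedCategory.triangleOfSESδ_naturality (hj m) (hj n) φ
  have h0 : DerivedCategory.Q.map φ.τ₃ ≫ DerivedCategory.triangleOfSESδ (hj n) = 0 := by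
    rw [← hδ, show DerivedCategory.Q.map φ.τ₁ = 0 from hm, Functor.map_zero, comp_zero]
  obtain ⟨h, hh⟩ := Triangle.coyoneda_exact₃ _ (DerivedCategory.triangleOfSES_distinguished (hj n))
    (DerivedCategory.Q.map φ.τ₃) h0
  have hh' : ARSys.tr (S.X₃ ⋙ DerivedCategory.Q) hnm = h ≫ DerivedCategory.Q.map (S.g.app (op n)) := hh
  have e : ARSys.tr (S.X₃ ⋙ DerivedCategory.Q) (hkn.trans hnm) =
      ARSys.tr (S.X₃ ⋙ DerivedCategory.Q) hnm ≫ ARSys.tr (S.X₃ ⋙ DerivedCategory.Q) hkn :=
    (S.X₃ ⋙ DerivedCategory.Q).map_comp _ _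
  rw [e, hh', Category.assoc]
  have hn' : ARSys.tr (S.X₂ ⋙ DerivedCategory.Q) hkn ≫ DerivedCategory.Q.map (S.g.app (op k)) =
      DerivedCategory.Q.map (S.g.app (op n)) ≫ ARSys.tr (S.X₃ ⋙ DerivedCategory.Q) hkn :=
    (Functor.whiskerRight S.g DerivedCategory.Q).naturality _
  rw [← hn', hn, zero_comp, comp_zero]

/-- The ideals of the powers of a list. -/
def powIdeal : List A → ℕ → Ideal A
  | [], _ => ⊥
  | g :: l, n => powIdeal l n ⊔ Ideal.span {g ^ n}

lemma powIdeal_anti : ∀ (l : List A) {n m : ℕ}, n ≤ m → powIdeal l m ≤ powIdeal l n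
  | [], _, _, _ => le_rfl
  | g :: l, _, _, h => sup_le_sup (powIdeal_anti l h)
      (Ideal.span_singleton_le_span_singleton.2 (pow_dvd_pow g h))

/-- The system of quotients. -/
noncomputable def qSys (l : List A) : ℕᵒᵖ ⥤ ModuleCat.{u} A where
  obj n := ModuleCat.of A (A ⧸ powIdeal l n.unop)
  map f := ModuleCat.ofHom (Submodule.factor (powIdeal_anti l (leOfHom f.unop)))
  map_id n := ModuleCat.hom_ext (Submodule.linearMap_qext _ rfl)
  map_comp f g := ModuleCat.hom_ext (Submodule.linearMap_qext _ rfl)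

variable (g : A) (l : List A)

/-- The quotient system with transitions multiplied by powers of `g`. -/
noncomputable def twSys : ℕᵒᵖ ⥤ ModuleCat.{u} A where
  obj n := (qSys l).obj n
  map {n m} f := ModuleCat.ofHom (g ^ (n.unop - m.unop) • ((qSys l).map f).hom)
  map_id n := by
    rw [Nat.sub_self, pow_zero, one_smul, (qSys l).map_id]
    rfl
  map_comp {n m k} f f' := by
    refine ModuleCat.hom_ext (LinearMap.ext fun x => ?_)
    have h1 := leOfHom f.unop
    have h2 := leOfHom f'.unop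
    change g ^ (n.unop - k.unop) • ((qSys l).map (f ≫ f')).hom x =
      g ^ (m.unop - k.unop) • ((qSys l).map f').hom (g ^ (n.unop - m.unop) • ((qSys l).map f).hom x)
    rw [Functor.map_comp, map_smul, ← mul_smul, ← pow_add,
      show m.unop - k.unop + (n.unop - m.unop) = n.unop - k.unop by omega]
    rfl

/-- Multiplication by `g ^ n`. -/
noncomputable def mulSys : twSys g l ⟶ qSys l where
  app n := ModuleCat.ofHom (g ^ n.unop • (LinearMap.id : (A ⧸ powIdeal l n.unop) →ₗ[A] _))
  naturality {n m} f := by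
    refine ModuleCat.hom_ext (LinearMap.ext fun x => ?_)
    have h1 := leOfHom f.unop
    change g ^ m.unop • (g ^ (n.unop - m.unop) • ((qSys l).map f).hom x) =
      ((qSys l).map f).hom (g ^ n.unop • x)
    rw [map_smul, ← mul_smul, ← pow_add]
    congr 2
    omega

/-- The projection. -/
noncomputable def projSys : qSys l ⟶ qSys (g :: l) where
  app n := ModuleCat.ofHom (Submodule.factor le_sup_left)
  naturality _ _ _ := ModuleCat.hom_ext (Submodule.linearMap_qext _ rfl)

lemma mulSys_exact (n : ℕᵒᵖ) :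
    Function.Exact ((mulSys g l).app n).hom ((projSys g l).app n).hom ∧
      Function.Surjective ((projSys g l).app n).hom := by
  refine ⟨fun y => ?_, Submodule.factor_surjective le_sup_left⟩
  obtain ⟨a, rfl⟩ := Submodule.Quotient.mk_surjective _ y
  constructor
  · intro h
    have ha : a ∈ powIdeal l n.unop ⊔ Ideal.span {g ^ n.unop} := (Submodule.Quotient.mk_eq_zero _).1 h
    obtain ⟨b, hb, c, hc, rfl⟩ := Submodule.mem_sup.1 ha
    obtain ⟨d, rfl⟩ := Ideal.mem_span_singleton'.1 hc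
    refine ⟨Submodule.Quotient.mk d, ?_⟩
    change g ^ n.unop • (Submodule.Quotient.mk d : A ⧸ powIdeal l n.unop) = _
    rw [← Submodule.Quotient.mk_smul, Submodule.Quotient.eq, smul_eq_mul,
      show g ^ n.unop * d - (b + d * g ^ n.unop) = -b by ring]
    exact Submodule.neg_mem _ hb
  · rintro ⟨x, hx⟩
    obtain ⟨d, rfl⟩ := Submodule.Quotient.mk_surjective _ x
    rw [← hx]
    exact (Submodule.Quotient.mk_eq_zero _).2
      (Submodule.mem_sup_right (Ideal.mem_span_singleton'.2 ⟨d, by simp [mul_comm]⟩))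

variable {g l} [IsNoetherianRing A]

/-- Multiplication by powers on the cones. -/
noncomputable abbrev mulC : twSys g l ⋙ Cfun ψ ⟶ qSys l ⋙ Cfun ψ := Functor.whiskerRight (mulSys g l) _

/-- The projection on the cones. -/
noncomputable abbrev projC : qSys l ⋙ Cfun ψ ⟶ qSys (g :: l) ⋙ Cfun ψ := Functor.whiskerRight (projSys g l) _

lemma mulC_comp : mulC ψ (g := g) (l := l) ≫ projC ψ (g := g) = 0 :=
  NatTrans.ext (funext fun n => HomologicalComplex.hom_ext _ _ fun i =>
    ModuleCat.hom_ext (LinearMap.ext fun y =>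
      (exact_levels ψ _ _ (mulSys_exact g l n).1 (mulSys_exact g l n).2 i).1.apply_apply_eq_zero y))

lemma mulC_exact : (ShortComplex.mk (mulC ψ) (projC ψ (g := g)) (mulC_comp ψ (g := g) (l := l))).Exact :=
  exact_of_levels _ fun n => HomologicalComplex.exact_of_degreewise_exact _ fun i =>
    (ShortComplex.ShortExact.moduleCat_exact_iff_function_exact _).2
      (exact_levels ψ _ _ (mulSys_exact g l n).1 (mulSys_exact g l n).2 i).1

lemma epi_projC : Epi (projC ψ (g := g) (l := l)) := by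
  haveI : ∀ n, Epi ((projC ψ (g := g) (l := l)).app n) := fun n => by
    have hi : ∀ i, Epi (((projC ψ (g := g) (l := l)).app n).f i) := fun i => (ModuleCat.epi_iff_surjective _).2
      (exact_levels ψ _ _ (mulSys_exact g l n).1 (mulSys_exact g l n).2 i).2
    exact HomologicalComplex.epi_of_epi_f _ hi
  exact NatTrans.epi_of_epi_app _

lemma mulC_app_apply (n : ℕᵒᵖ) (i : ℤ) (y : ((Cfun ψ).obj ((qSys l).obj n)).X i) :
    (((mulC ψ (g := g) (l := l)).app n).f i).hom y = g ^ n.unop • y := by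
  refine (map_smul_hom ψ (g ^ n.unop) (𝟙 ((qSys l).obj n)) i y).trans ?_
  rw [(Cfun ψ).map_id]
  rfl

lemma twSys_map_apply {n m : ℕᵒᵖ} (f : n ⟶ m) (i : ℤ) (y : ((Cfun ψ).obj ((qSys l).obj n)).X i) :
    (((Cfun ψ).map ((twSys g l).map f)).f i).hom y =
      g ^ (n.unop - m.unop) • (((Cfun ψ).map ((qSys l).map f)).f i).hom y :=
  map_smul_hom ψ (g ^ (n.unop - m.unop)) ((qSys l).map f) i y

lemma isProZero_tw (h : DerCA.IsProZero (qSys l ⋙ Cfun ψ ⋙ DerivedCategory.Q)) :
    DerCA.IsProZero ((twSys g l ⋙ Cfun ψ) ⋙ DerivedCategory.Q) := fun n => by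
  obtain ⟨m, hnm, hm⟩ := h n
  refine ⟨m, hnm, ?_⟩
  have e : (twSys g l).map (homOfLE hnm).op = (qSys l).map (homOfLE hnm).op ≫
      ModuleCat.ofHom (g ^ (m - n) • LinearMap.id) := rfl
  change DerivedCategory.Q.map ((Cfun ψ).map ((twSys g l).map (homOfLE hnm).op)) = 0
  rw [e, Functor.map_comp, Functor.map_comp,
    show DerivedCategory.Q.map ((Cfun ψ).map ((qSys l).map (homOfLE hnm).op)) = 0 from hm, zero_comp]

lemma kernel_map_eq_zero {a b : ℤ} (hK : DRing.VanishesOutside K a b)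
    (hKf : ∀ i : ℤ, Module.Finite A (K.X i)) (hP : ∀ i, Module.Free A (P.X i))
    {G : ℕᵒᵖ ⥤ DRing.Cx A} (ι : G ⟶ twSys g l ⋙ Cfun ψ) [∀ n, Mono (ι.app n)]
    (hι : ι ≫ mulC ψ = 0) : DerCA.IsProZero (G ⋙ DerivedCategory.Q) := fun n => by
  haveI : Module.Finite A ((qSys l).obj (op n)) :=
    inferInstanceAs (Module.Finite A (A ⧸ powIdeal l n))
  obtain ⟨c, hc⟩ := exists_cone_torsion_bound ψ hK hKf hP ((qSys l).obj (op n)) g
  refine ⟨n + c, Nat.le_add_right n c, ?_⟩
  let f := (homOfLE (Nat.le_add_right n c)).op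
  suffices G.map f = 0 from (congrArg DerivedCategory.Q.map this).trans (Functor.map_zero _ _ _)
  rw [← cancel_mono (ι.app (op n)), zero_comp, ι.naturality]
  refine HomologicalComplex.hom_ext _ _ fun i => ModuleCat.hom_ext (LinearMap.ext fun x => ?_)
  let y : ((Cfun ψ).obj ((qSys l).obj (op (n + c)))).X i := ((ι.app (op (n + c))).f i).hom x
  have hy : g ^ (n + c) • y = 0 := (mulC_app_apply ψ (g := g) (op (n + c)) i y).symm.trans
    (ConcreteCategory.congr_hom (congrArg (fun t => (t.app (op (n + c))).f i) hι) x)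
  let t := (((Cfun ψ).map ((qSys l).map f)).f i).hom y
  have h1 : g ^ (n + c) • t = 0 := by
    change g ^ (n + c) • (((Cfun ψ).map ((qSys l).map f)).f i).hom y = 0
    rw [← map_smul, hy, map_zero]
  refine (twSys_map_apply ψ (g := g) f i y).trans ?_
  change g ^ (n + c - n) • t = 0
  rw [Nat.add_sub_cancel_left]
  exact hc i t (n + c) h1

/-- The pro-vanishing step. -/
theorem isProZero_step {a b : ℤ} (hK : DRing.VanishesOutside K a b)
    (hKf : ∀ i : ℤ, Module.Finite A (K.X i)) (hP : ∀ i, Module.Free A (P.X i))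
    (h : DerCA.IsProZero (qSys l ⋙ Cfun ψ ⋙ DerivedCategory.Q)) :
    DerCA.IsProZero (qSys (g :: l) ⋙ Cfun ψ ⋙ DerivedCategory.Q) := by
  let μ := mulC ψ (g := g) (l := l)
  let π := projC ψ (g := g) (l := l)
  haveI : Epi π := epi_projC ψ
  let u := kernel.lift π μ (mulC_comp ψ)
  haveI : Epi u := (mulC_exact ψ (g := g) (l := l)).epi_kernelLift
  have hu : kernel.ι u ≫ μ = 0 := by
    rw [show μ = u ≫ kernel.ι π from (kernel.lift_ι _ _ _).symm, kernel.condition_assoc, zero_comp]
  have hT := kernel_map_eq_zero ψ hK hKf hP (kernel.ι u) hu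
  have hG : DerCA.IsProZero (kernel π ⋙ DerivedCategory.Q) :=
    isProZero_third (ShortComplex.mk (kernel.ι u) u (kernel.condition u))
      ⟨ShortComplex.exact_of_f_is_kernel _ (kernelIsKernel u)⟩ hT (isProZero_tw ψ h)
  exact isProZero_third (ShortComplex.mk (kernel.ι π) π (kernel.condition π))
    ⟨ShortComplex.exact_of_f_is_kernel _ (kernelIsKernel π)⟩ hG h

/-- The cones vanish pro-systematically. -/
theorem isProZero_cone {a b : ℤ} (hK : DRing.VanishesOutside K a b)
    (hKf : ∀ i : ℤ, Module.Finite A (K.X i)) (hP : ∀ i, Module.Free A (P.X i)) [QuasiIso ψ] :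
    ∀ l : List A, DerCA.IsProZero (qSys l ⋙ Cfun ψ ⋙ DerivedCategory.Q)
  | [] => fun n => by
    refine ⟨n, le_rfl, IsZero.eq_of_src ?_ _ _⟩
    let e : (qSys ([] : List A)).obj (op n) ≅ 𝟙_ (ModuleCat.{u} A) :=
      (Submodule.quotEquivOfEqBot (⊥ : Ideal A) rfl).toModuleIso
    refine (?_ : IsZero (DerivedCategory.Q.obj ((Cfun ψ).obj (𝟙_ (ModuleCat.{u} A))))).of_iso
      (DerivedCategory.Q.mapIso ((Cfun ψ).mapIso e))
    let φ := (tensC (𝟙_ (ModuleCat.{u} A))).map ψ
    haveI : QuasiIso φ := by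
      let r := fun X : DRing.Cx A => HomologicalComplex.Hom.isoOfComponents (C₁ := (tensC (𝟙_ (ModuleCat.{u} A))).obj X)
        (fun i => ρ_ (X.X i)) (fun i j _ => (MonoidalCategory.rightUnitor_naturality (X.d i j)).symm)
      exact (quasiIso_iff_of_arrow_mk_iso φ ψ (Arrow.isoMk (r P) (r K)
        (HomologicalComplex.hom_ext _ _ fun i => (MonoidalCategory.rightUnitor_naturality (ψ.f i)).symm))).2
        inferInstance
    haveI : IsIso (DerivedCategory.Q.map φ) := (DerivedCategory.isIso_Q_map_iff_quasiIso _ _).2 inferInstance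
    exact Triangle.isZero₃_of_isIso₁ _ (DerivedCategory.mappingCone_triangle_distinguished φ) this
  | _ :: l => isProZero_step ψ hK hKf hP (isProZero_cone hK hKf hP l)

/-- `ψ ⊗ A/(f^n)` is a pro-isomorphism. -/
theorem isProIso_tens {a b : ℤ} (hK : DRing.VanishesOutside K a b)
    (hKf : ∀ i : ℤ, Module.Finite A (K.X i)) (hP : ∀ i, Module.Free A (P.X i)) [QuasiIso ψ] (l : List A)
    (X Y : ℕᵒᵖ ⥤ DRing.Cx A) (α : X ⟶ Y)
    (eX : ∀ n, X.obj n ≅ (tensC ((qSys l).obj n)).obj P) (eY : ∀ n, Y.obj n ≅ (tensC ((qSys l).obj n)).obj K)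
    (hX : ∀ n m (f : n ⟶ m), X.map f ≫ (eX m).hom = (eX n).hom ≫ (tensMap ((qSys l).map f)).app P)
    (hY : ∀ n m (f : n ⟶ m), Y.map f ≫ (eY m).hom = (eY n).hom ≫ (tensMap ((qSys l).map f)).app K)
    (hα : ∀ n, α.app n ≫ (eY n).hom = (eX n).hom ≫ (tensC ((qSys l).obj n)).map ψ) :
    DerCA.IsProIso (Functor.whiskerRight α DerivedCategory.Q) := by
  let TP : ℕᵒᵖ ⥤ DRing.Cx A :=
    { obj := fun n => (tensC ((qSys l).obj n)).obj P
      map := fun f => (tensMap ((qSys l).map f)).app P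
      map_id := fun n => by rw [(qSys l).map_id, tensMap_id]
      map_comp := fun f g => by rw [(qSys l).map_comp, tensMap_comp] }
  let TK : ℕᵒᵖ ⥤ DRing.Cx A :=
    { obj := fun n => (tensC ((qSys l).obj n)).obj K
      map := fun f => (tensMap ((qSys l).map f)).app K
      map_id := fun n => by rw [(qSys l).map_id, tensMap_id]
      map_comp := fun f g => by rw [(qSys l).map_comp, tensMap_comp] }
  let φ : TP ⟶ TK :=
    { app := fun n => (tensC ((qSys l).obj n)).map ψ
      naturality := fun n m f => ((tensMap ((qSys l).map f)).naturality ψ).symm }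
  let tri : ℕᵒᵖ → Triangle (Dual.D A) := fun n =>
    DerivedCategory.Q.mapTriangle.obj (mappingCone.triangle (φ.app n))
  let triMap : ∀ {n m : ℕᵒᵖ} (f : n ⟶ m), tri n ⟶ tri m := fun f =>
    DerivedCategory.Q.mapTriangle.map (mappingCone.triangleMap _ _ (TP.map f) (TK.map f) (φ.naturality f).symm)
  have hφ : DerCA.IsProIso (Functor.whiskerRight φ DerivedCategory.Q) :=
    Groth.Agent.S6587.result (TP ⋙ DerivedCategory.Q) (TK ⋙ DerivedCategory.Q)
      (qSys l ⋙ Cfun ψ ⋙ DerivedCategory.Q) _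
      { app := fun n => (tri n).mor₂
        naturality := fun n m f => (triMap f).comm₂.symm }
      { app := fun n => (tri n).mor₃
        naturality := fun n m f => (triMap f).comm₃.symm }
      (fun n => DerivedCategory.mappingCone_triangle_distinguished _) (isProZero_cone ψ hK hKf hP l)
  intro n
  obtain ⟨m, hnm, β, h1, h2⟩ := hφ n
  let qX := fun k => DerivedCategory.Q.mapIso (eX k)
  let qY := fun k => DerivedCategory.Q.mapIso (eY k)
  have h1' : DerivedCategory.Q.map (φ.app (op m)) ≫ β = DerivedCategory.Q.map (TP.map (homOfLE hnm).op) := h1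
  have h2' : β ≫ DerivedCategory.Q.map (φ.app (op n)) = DerivedCategory.Q.map (TK.map (homOfLE hnm).op) := h2
  refine ⟨m, hnm, (qY (op m)).hom ≫ β ≫ (qX (op n)).inv, ?_, ?_⟩
  · change DerivedCategory.Q.map (α.app (op m)) ≫ DerivedCategory.Q.map (eY (op m)).hom ≫ _ =
      DerivedCategory.Q.map (X.map (homOfLE hnm).op)
    rw [← Functor.map_comp_assoc, hα, Functor.map_comp_assoc, reassoc_of% h1', ← Functor.map_comp_assoc]
    erw [← hX]
    rw [Functor.map_comp_assoc]
    exact (congrArg (_ ≫ ·) (qX (op n)).hom_inv_id).trans (Category.comp_id _)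
  · change ((qY (op m)).hom ≫ β ≫ (qX (op n)).inv) ≫ DerivedCategory.Q.map (α.app (op n)) =
      DerivedCategory.Q.map (Y.map (homOfLE hnm).op)
    rw [← cancel_mono (qY (op n)).hom]
    simp only [qX, qY, Category.assoc, Functor.mapIso_hom, Functor.mapIso_inv, ← Functor.map_comp, hα]
    rw [Iso.inv_hom_id_assoc, h2', ← Functor.map_comp]
    exact congrArg _ (hY _ _ _).symm

end Systems

section Main

lemma singleIso_tensMap {N N' : ModuleCat.{u} A} (f : N ⟶ N') (L : DRing.Cx A) :
    (tensorLeft L).map ((HomologicalComplex.single (ModuleCat.{u} A) (ComplexShape.up ℤ) 0).map f) ≫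
        ((singleIso (curriedTensor (ModuleCat.{u} A)) N').app L).hom =
      ((singleIso (curriedTensor (ModuleCat.{u} A)) N).app L).hom ≫ (tensMap f).app L := by
  let T := curriedTensor (ModuleCat.{u} A)
  rw [← Iso.inv_comp_eq, ← Category.assoc, ← Iso.eq_comp_inv]
  refine HomologicalComplex.hom_ext _ _ fun n => ?_
  change singleSummand (T := T) L N 0 n n (add_zero n) ≫
      (HomologicalComplex.mapBifunctorMap (𝟙 L)
        ((HomologicalComplex.single (ModuleCat.{u} A) (ComplexShape.up ℤ) 0).map f) T (ComplexShape.up ℤ)).f n =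
    ((tensMap f).app L).f n ≫ singleSummand (T := T) L N' 0 n n (add_zero n)
  simp only [singleSummand, Category.assoc]
  erw [HomologicalComplex.ι_mapBifunctorMap]
  simp only [HomologicalComplex.id_f, CategoryTheory.Functor.map_id, NatTrans.id_app]
  erw [Category.id_comp, ← Functor.map_comp_assoc, HomologicalComplex.single_map_f_self, Iso.inv_hom_id_assoc,
    Functor.map_comp, Category.assoc]

variable [IsNoetherianRing A] [DTen.HasLTen A]

/-- The counit at quotient systems is a pro-isomorphism. -/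
theorem isProIso_εLeft (K : DRing.Cx A) {a b : ℤ} (hK : DRing.VanishesOutside K a b)
    (hKf : ∀ i : ℤ, Module.Finite A (K.X i)) {P : DRing.Cx A} (ψ : P ⟶ K) [QuasiIso ψ]
    (hP : ∀ i, Module.Free A (P.X i)) {c : ℤ} (hPc : DRing.VanishesAbove P c) (l : List A) :
    DerCA.IsProIso (Functor.whiskerLeft
      (qSys l ⋙ HomologicalComplex.single (ModuleCat.{u} A) (ComplexShape.up ℤ) 0) (DTen.εLeft A K)) := by
  let S := qSys l ⋙ HomologicalComplex.single (ModuleCat.{u} A) (ComplexShape.up ℤ) 0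
  let T := curriedTensor (ModuleCat.{u} A)
  let α : S ⋙ tensorLeft P ⟶ S ⋙ tensorLeft K :=
    Functor.whiskerLeft S ((curriedTensor (DRing.Cx A)).map ψ)
  have hα := isProIso_tens ψ hK hKf hP l _ _ α (fun n => (singleIso T ((qSys l).obj n)).app P)
    (fun n => (singleIso T ((qSys l).obj n)).app K) (fun n m f => singleIso_tensMap _ _)
    (fun n m f => singleIso_tensMap _ _) (fun n => (singleIso T ((qSys l).obj n)).hom.naturality ψ)
  have hKF : KFlat T P := kFlat_of_termwiseFlat (fun i => haveI := hP i; Module.Flat.of_free) hPc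
  haveI hψ : IsIso (DerivedCategory.Q.map ψ) := (DerivedCategory.isIso_Q_map_iff_quasiIso _ _).2 inferInstance
  intro n
  obtain ⟨m, hnm, β, h1, h2⟩ := hα n
  let w := fun k : ℕ => ((DTen.LTen A).map (DerivedCategory.Q.map ψ)).app (DerivedCategory.Q.obj (S.obj (op k)))
  have hεP : ∀ k : ℕ, IsIso ((DTen.εLeft A P).app (S.obj (op k))) := fun k => isIso_ε hKF _
  have sq : ∀ k : ℕ, w k ≫ (DTen.εLeft A K).app (S.obj (op k)) =
      (DTen.εLeft A P).app (S.obj (op k)) ≫ DerivedCategory.Q.map (α.app (op k)) := fun k => by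
    have e := (DTen.ε A).naturality (Prod.mkHom ψ (𝟙 (S.obj (op k))))
    dsimp at e
    refine (Eq.trans (congrArg (· ≫ _) ?_) e).trans (congrArg (_ ≫ ·) ?_)
    · change _ = (DTen.LTen₂ A).map (Prod.mkHom (DerivedCategory.Q.map ψ) (DerivedCategory.Q.map (𝟙 _)))
      rw [CategoryTheory.Functor.map_id]
      rfl
    · refine congrArg DerivedCategory.Q.map ?_
      simp [α]
  haveI := hεP m
  haveI := hεP n
  refine ⟨m, hnm, β ≫ inv ((DTen.εLeft A P).app (S.obj (op n))) ≫ w n, ?_, ?_⟩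
  · have h1' : DerivedCategory.Q.map (α.app (op m)) ≫ β =
        DerivedCategory.Q.map ((tensorLeft P).map (S.map (homOfLE hnm).op)) := h1
    let X := DerivedCategory.Q ⋙ (DTen.LTen A).obj (DerivedCategory.Q.obj K)
    change (DTen.εLeft A K).app (S.obj (op m)) ≫ _ = X.map (S.map (homOfLE hnm).op)
    haveI : IsIso (w m) := inferInstance
    rw [← cancel_epi (w m), reassoc_of% (sq m), reassoc_of% h1']
    have hn := (DTen.εLeft A P).naturality (S.map (homOfLE hnm).op)
    simp only [Functor.comp_map] at hn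
    rw [← reassoc_of% hn, IsIso.hom_inv_id_assoc]
    exact (((DTen.LTen A).map (DerivedCategory.Q.map ψ)).naturality _)
  · change (β ≫ inv _ ≫ w n) ≫ (DTen.εLeft A K).app (S.obj (op n)) = _
    rw [Category.assoc, Category.assoc, sq n, IsIso.inv_hom_id_assoc]
    exact h2

lemma powIdeal_le : ∀ (l : List A) (I : Ideal A), (∀ f ∈ l, f ∈ I) → ∀ n : ℕ, powIdeal l n ≤ I ^ n
  | [], _, _, _ => bot_le
  | g :: l, I, h, n => sup_le (powIdeal_le l I (fun f hf => h f (List.mem_cons_of_mem _ hf)) n)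
      ((Ideal.span_singleton_le_iff_mem (I ^ n)).2 (Ideal.pow_mem_pow (h g List.mem_cons_self) n))

lemma mem_radical_powIdeal : ∀ (l : List A) (n : ℕ) {f : A}, f ∈ l → f ∈ (powIdeal l n).radical
  | g :: l, n, f, hf => by
    rcases List.mem_cons.1 hf with rfl | hf
    · exact ⟨n, Submodule.mem_sup_right (Ideal.mem_span_singleton_self _)⟩
    · exact Ideal.radical_mono le_sup_left (mem_radical_powIdeal l n hf)

lemma adicSystem_tr (I : Ideal A) {n m : ℕ} (h : n ≤ m)
    (x : A) :
    ((CohIII.adicSystem I (ModuleCat.of A A)).map (homOfLE h).op).hom (Submodule.Quotient.mk x) =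
      Submodule.Quotient.mk x := by
  induction m, h using Nat.le_induction with
  | base =>
    change ((CohIII.adicSystem I (ModuleCat.of A A)).map (𝟙 (op n))).hom _ = _
    rw [CategoryTheory.Functor.map_id]
    rfl
  | succ m hm ih =>
    rw [show (homOfLE (hm.trans (Nat.le_succ m))).op = (homOfLE (Nat.le_succ m)).op ≫ (homOfLE hm).op from rfl,
      Functor.map_comp, ModuleCat.hom_comp, LinearMap.comp_apply]
    refine Eq.trans (congrArg _ ?_) ih
    simp only [CohIII.adicSystem, Functor.ofOpSequence_map_homOfLE_succ]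
    rfl

/-- The counit at the powers of an ideal is a pro-isomorphism. -/
theorem isProIso_εLeft_adic (I : Ideal A) (K : DRing.Cx A) {a b : ℤ} (hK : DRing.VanishesOutside K a b)
    (hKf : ∀ i : ℤ, Module.Finite A (K.X i)) {P : DRing.Cx A} (ψ : P ⟶ K) [QuasiIso ψ]
    (hP : ∀ i, Module.Free A (P.X i)) {c : ℤ} (hPc : DRing.VanishesAbove P c) :
    DerCA.IsProIso (Functor.whiskerLeft
      (CohIII.adicSystem I (ModuleCat.of A A) ⋙ HomologicalComplex.single (ModuleCat.{u} A) (ComplexShape.up ℤ) 0)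
      (DTen.εLeft A K)) := by
  obtain ⟨s, hs⟩ := IsNoetherian.noetherian (R := A) I
  let l := s.toList
  let sgl := HomologicalComplex.single (ModuleCat.{u} A) (ComplexShape.up ℤ) 0
  let Φ := sgl ⋙ DerivedCategory.Q ⋙ (DTen.LTen A).obj (DerivedCategory.Q.obj K)
  let Ψ := sgl ⋙ tensorLeft K ⋙ DerivedCategory.Q
  let ε : Φ ⟶ Ψ := Functor.whiskerLeft sgl (DTen.εLeft A K)
  let S := CohIII.adicSystem I (ModuleCat.of A A)
  have hmem : ∀ f ∈ l, f ∈ I := fun f hf => hs ▸ Submodule.subset_span (Finset.mem_toList.1 hf)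
  intro n
  -- from the generators to the powers
  obtain ⟨m', hm', β, h1, h2⟩ := isProIso_εLeft K hK hKf ψ hP hPc l (n + 1)
  have hle : I ≤ (powIdeal l m').radical := by
    rw [← hs, Submodule.span_le]
    exact fun f hf => mem_radical_powIdeal l m' (Finset.mem_toList.2 hf)
  obtain ⟨N, hN⟩ := Ideal.exists_pow_le_of_le_radical_of_fg hle (IsNoetherian.noetherian I)
  let m := max N n
  have hnm : n ≤ m := le_max_right _ _
  have e1 : I ^ (m + 1) • (⊤ : Submodule A A) ≤ powIdeal l m' := by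
    rw [smul_eq_mul, Ideal.mul_top]
    exact (Ideal.pow_le_pow_right ((le_max_left N n).trans (Nat.le_succ _))).trans hN
  have e2 : powIdeal l (n + 1) ≤ I ^ (n + 1) • (⊤ : Submodule A A) := by
    rw [smul_eq_mul, Ideal.mul_top]
    exact powIdeal_le l I hmem (n + 1)
  let u : S.obj (op m) ⟶ (qSys l).obj (op m') := ModuleCat.ofHom (Submodule.factor e1)
  let v : (qSys l).obj (op (n + 1)) ⟶ S.obj (op n) := ModuleCat.ofHom (Submodule.factor e2)
  have huv : S.map (homOfLE hnm).op = u ≫ (qSys l).map (homOfLE hm').op ≫ v :=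
    ModuleCat.hom_ext (Submodule.linearMap_qext _ (LinearMap.ext fun x => adicSystem_tr I hnm x))
  have h1' : ε.app ((qSys l).obj (op m')) ≫ β = Φ.map ((qSys l).map (homOfLE hm').op) := h1
  have h2' : β ≫ ε.app ((qSys l).obj (op (n + 1))) = Ψ.map ((qSys l).map (homOfLE hm').op) := h2
  refine ⟨m, hnm, Ψ.map u ≫ β ≫ Φ.map v, ?_, ?_⟩
  · change ε.app (S.obj (op m)) ≫ _ = Φ.map (S.map (homOfLE hnm).op)
    rw [← ε.naturality_assoc, reassoc_of% h1', huv, Functor.map_comp, Functor.map_comp]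
  · change (Ψ.map u ≫ β ≫ Φ.map v) ≫ ε.app (S.obj (op n)) = Ψ.map (S.map (homOfLE hnm).op)
    rw [Category.assoc, Category.assoc, ε.naturality, reassoc_of% h2', huv, Functor.map_comp, Functor.map_comp]

end Main

end Groth.Agent.KFlatLib.ProTensor
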