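import Groth.Agent.KFlatLib.Ring.RhomBC
import Groth.Agent.KFlatLib.Ring.MixRes
import Groth.Agent.KFlatLib.Ring.BcRHom

/-!
# The projection formula and the pairing of trivial duality
-/

set_option linter.style.haveILetI false
set_option backward.isDefEq.respectTransparency false

universe u

open CategoryTheory CategoryTheory.Limits MonoidalCategory

attribute [local instance] HasDerivedCategory.standard

namespace Groth.Agent.KFlatLib

variable {R A : Type u} [CommRing R] [CommRing A] (φ : R →+* A)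

/-- The module identity behind `unit_resTenCx_mix`. -/
lemma unit_mixMod (M : ModuleCat.{u} R) (L : ModuleCat.{u} A) :
    ((ModuleCat.extendRestrictScalarsAdj.{u, u, u} φ).unit.app M ⊗ₘ
        𝟙 ((ModuleCat.restrictScalars φ).obj L)) ≫
      DTen.resTen₀app φ _ _ ≫ ((mixModIso φ).hom.app M).app L = 𝟙 _ := by
  refine ModuleCat.hom_ext (TensorProduct.ext' fun m l => ?_)
  change @TensorProduct.tmul R _ _ _ _ _ _ _ m ((1 : A) • l) = _
  rw [one_smul]
  rfl

/-- The unit followed by the restriction comparison is the mixed comparison. -/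
lemma unit_resTenCx_mix (P : DRing.Cx R) (L : DRing.Cx A) :
    ((DTen.unitCx φ).app P ⊗ₘ 𝟙 ((DTen.resCx φ).obj L)) ≫
      DTen.resTenCx φ ((DTen.extCx φ).obj P) L ≫ (DTen.resCx φ).map (mixTIso φ P L).hom =
      (totalMapIso (mixModIso φ) P L).hom := by
  change HomologicalComplex.mapBifunctorMap ((DTen.unitCx φ).app P) (𝟙 _)
    (curriedTensor (ModuleCat.{u} R)) (ComplexShape.up ℤ) ≫ _ = _
  refine HomologicalComplex.hom_ext _ _ fun n => HomologicalComplex.mapBifunctor.hom_ext fun p q h => ?_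
  rw [HomologicalComplex.comp_f, HomologicalComplex.comp_f]
  erw [HomologicalComplex.ι_mapBifunctorMap_assoc]
  erw [DTen.ι_resTenCx_assoc φ _ _ p q n h]
  erw [← Functor.map_comp]
  have hι := ι_totalMapHom (Φ₁ := ModuleCat.extendScalars φ) (Φ₂ := 𝟭 (ModuleCat.{u} A))
    (Ψ := 𝟭 (ModuleCat.{u} A)) (T := mixMod φ) (T' := curriedTensor (ModuleCat.{u} A))
    (Iso.refl _) P L p q n h
  erw [hι]
  erw [ι_totalMapHom (mixModIso φ) P L p q n h]
  have hu := unit_mixMod φ (P.X p) (L.X q)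
  rw [MonoidalCategory.tensorHom_def] at hu
  have hu' : ((curriedTensor (ModuleCat.{u} R)).map
      ((ModuleCat.extendRestrictScalarsAdj.{u, u, u} φ).unit.app (P.X p))).app
        ((ModuleCat.restrictScalars φ).obj (L.X q)) ≫
      ((curriedTensor (ModuleCat.{u} R)).obj _).map (𝟙 _) ≫ DTen.resTen₀app φ _ _ =
      ((mixModIso φ).inv.app (P.X p)).app (L.X q) := by
    have e : ((mixModIso φ).hom.app (P.X p)).app (L.X q) ≫ ((mixModIso φ).inv.app (P.X p)).app (L.X q) =
        𝟙 _ := by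
      rw [← NatTrans.comp_app, ← NatTrans.comp_app, Iso.hom_inv_id]
      rfl
    have h₁ := congrArg (· ≫ ((mixModIso φ).inv.app (P.X p)).app (L.X q)) hu
    simp only [Category.assoc] at h₁
    erw [e, Category.comp_id, Category.id_comp] at h₁
    exact h₁
  simp only [totalMapι, Iso.refl_inv, NatTrans.id_app, Category.id_comp]
  erw [reassoc_of% hu']
  refine congrArg (_ ≫ ·) ?_
  exact congrArg ((ModuleCat.restrictScalars φ).map) (Category.id_comp _)

/-- The complex-level projection formula is invertible. -/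
lemma isIso_unit_resTenCx (P : DRing.Cx R) (L : DRing.Cx A) :
    IsIso (((DTen.unitCx φ).app P ⊗ₘ 𝟙 ((DTen.resCx φ).obj L)) ≫
      DTen.resTenCx φ ((DTen.extCx φ).obj P) L) := by
  haveI : IsIso ((((DTen.unitCx φ).app P ⊗ₘ 𝟙 ((DTen.resCx φ).obj L)) ≫
      DTen.resTenCx φ ((DTen.extCx φ).obj P) L) ≫ (DTen.resCx φ).map (mixTIso φ P L).hom) := by
    rw [Category.assoc, unit_resTenCx_mix]
    infer_instance
  exact IsIso.of_isIso_comp_right _ ((DTen.resCx φ).map (mixTIso φ P L).hom)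

variable [DTen.HasLTen R] [DTen.HasLTen A] [DTen.HasLBase φ] [DTen.HasResTen φ] [DTen.ResLegIso φ]

/-- `Z ⊗ X|_R ⟶ ((Z ⊗_R A) ⊗_A X)|_R`. -/
noncomputable def piD (Z : Dual.D R) (X : Dual.D A) :
    (DTen.LTen₂ R).obj (Z, (DRing.restrictD φ).obj X) ⟶
      (DRing.restrictD φ).obj ((DTen.LTen₂ A).obj ((DTen.LBase φ).obj Z, X)) :=
  (DTen.LTen₂ R).map (Prod.mkHom ((DTen.baseAdj φ).unit.app Z) (𝟙 _)) ≫
    (DTen.resPF φ).app ((DTen.LBase φ).obj Z, X)

lemma piD_natural {Z Z' : Dual.D R} {X X' : Dual.D A} (f : Z ⟶ Z') (g : X ⟶ X') :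
    (DTen.LTen₂ R).map (Prod.mkHom f ((DRing.restrictD φ).map g)) ≫ piD φ Z' X' =
      piD φ Z X ≫ (DRing.restrictD φ).map
        ((DTen.LTen₂ A).map (Prod.mkHom ((DTen.LBase φ).map f) g)) := by
  have h := (DTen.resPF φ).naturality (Prod.mkHom ((DTen.LBase φ).map f) g)
  simp only [Functor.comp_map] at h
  dsimp only [piD]
  simp only [Category.assoc]
  erw [← h]
  rw [← Functor.map_comp_assoc]
  erw [← Functor.map_comp_assoc]
  congr 2
  exact Prod.ext ((DTen.baseAdj φ).unit.naturality f)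
    ((Category.comp_id _).trans (Category.id_comp _).symm)

/-- The projection formula. -/
theorem isIso_piD (Z : Dual.D R) (X : Dual.D A) : IsIso (piD φ Z X) := by
  suffices h : ∀ {P : DRing.Cx R} (L : DRing.Cx A), KFlat (curriedTensor (ModuleCat.{u} R)) P →
      IsIso (piD φ (DerivedCategory.Q.obj P) (DerivedCategory.Q.obj L)) by
    let i := flatRepIso Z
    let j := DerivedCategory.Q.objObjPreimageIso X
    haveI := h (DerivedCategory.Q.objPreimage X) (kFlat_ringRes (DerivedCategory.Q.objPreimage Z))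
    haveI : IsIso (Prod.mkHom i.hom ((DRing.restrictD φ).map j.hom)) :=
      (isIso_prod_iff _ _).2 ⟨inferInstance, inferInstance⟩
    haveI : IsIso (Prod.mkHom ((DTen.LBase φ).map i.hom) j.hom) :=
      (isIso_prod_iff _ _).2 ⟨inferInstance, inferInstance⟩
    have e := piD_natural φ i.hom j.hom
    haveI : IsIso ((DTen.LTen₂ R).map (Prod.mkHom i.hom ((DRing.restrictD φ).map j.hom)) ≫
        piD φ Z X) := by
      rw [e]
      infer_instance
    exact IsIso.of_isIso_comp_left ((DTen.LTen₂ R).map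
      (Prod.mkHom i.hom ((DRing.restrictD φ).map j.hom))) _
  intro P L hP
  haveI := isIso_baseCmp φ hP
  haveI : IsIso ((DTen.ε R).app (P, (DTen.resCx φ).obj L)) := isIso_ε hP _
  haveI : IsIso ((DTen.ε A).app ((DTen.extCx φ).obj P, L)) := isIso_ε (kFlat_extendScalars φ hP) L
  haveI : IsIso (DerivedCategory.Q.map (((DTen.unitCx φ).app P ⊗ₘ 𝟙 ((DTen.resCx φ).obj L)) ≫
      DTen.resTenCx φ ((DTen.extCx φ).obj P) L)) := by
    haveI := isIso_unit_resTenCx φ P L
    infer_instance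
  let b := Prod.mkHom ((DTen.baseCmp φ).app P) (𝟙 (DerivedCategory.Q.obj L))
  haveI : IsIso b := (isIso_prod_iff _ _).2 ⟨inferInstance, inferInstance⟩
  let c := (DRing.restrictD φ).map ((DTen.LTen₂ A).map b ≫ (DTen.ε A).app ((DTen.extCx φ).obj P, L)) ≫
    (DTen.resFactors φ).hom.app _
  haveI : IsIso c := by dsimp only [c]; infer_instance
  have key : piD φ (DerivedCategory.Q.obj P) (DerivedCategory.Q.obj L) ≫ c =
      (DTen.LTen₂ R).map (Prod.mkHom (𝟙 (DerivedCategory.Q.obj P)) ((DTen.resFactors φ).hom.app L)) ≫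
        (DTen.ε R).app (P, (DTen.resCx φ).obj L) ≫
        DerivedCategory.Q.map (((DTen.unitCx φ).app P ⊗ₘ 𝟙 ((DTen.resCx φ).obj L)) ≫
          DTen.resTenCx φ ((DTen.extCx φ).obj P) L) := by
    have hn := (DTen.resPF φ).naturality b
    simp only [Functor.comp_map] at hn
    have hf := DTen.resPF_fac φ ((DTen.extCx φ).obj P, L)
    dsimp only [piD, c]
    simp only [Functor.map_comp, Category.assoc]
    erw [← reassoc_of% hn]
    simp only [DTen.resβB] at hf
    erw [hf]
    simp only [DTen.resβA]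
    erw [← Functor.map_comp_assoc, ← Functor.map_comp_assoc]
    have hε := (DTen.ε R).naturality
      (Prod.mkHom ((DTen.unitCx φ).app P) (𝟙 ((DTen.resCx φ).obj L)))
    simp only [Functor.comp_map] at hε
    have h₁ : (DTen.baseAdj φ).unit.app (DerivedCategory.Q.obj P) ≫
        (DRing.restrictD φ).map ((DTen.baseCmp φ).app P) ≫
          (DTen.resFactors φ).hom.app ((DTen.extCx φ).obj P) =
        DerivedCategory.Q.map ((DTen.unitCx φ).app P) := by
      rw [← Category.assoc, DTen.baseCmp_fac]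
      exact (Category.assoc _ _ _).trans ((congrArg (_ ≫ ·)
        ((DTen.resFactors φ).inv_hom_id_app _)).trans (Category.comp_id _))
    have hp : Prod.mkHom ((DTen.baseAdj φ).unit.app (DerivedCategory.Q.obj P))
          (𝟙 ((DRing.restrictD φ).obj (DerivedCategory.Q.obj L))) ≫
          ((DRing.restrictD φ).prod (DRing.restrictD φ)).map b ≫
            Prod.mkHom ((DTen.resFactors φ).hom.app ((DTen.extCx φ).obj P)) ((DTen.resFactors φ).hom.app L) =
        Prod.mkHom (𝟙 (DerivedCategory.Q.obj P)) ((DTen.resFactors φ).hom.app L) ≫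
          (DTen.QQ R).map (Prod.mkHom ((DTen.unitCx φ).app P) (𝟙 ((DTen.resCx φ).obj L))) := by
      refine Prod.ext (h₁.trans (Category.id_comp _).symm) ?_
      change 𝟙 _ ≫ (DRing.restrictD φ).map (𝟙 _) ≫ _ = _ ≫ DerivedCategory.Q.map (𝟙 _)
      rw [CategoryTheory.Functor.map_id, CategoryTheory.Functor.map_id, Category.id_comp,
        Category.id_comp, Category.comp_id]
    rw [← Category.assoc] at hp
    refine Eq.trans (congrArg (fun z => (DTen.LTen₂ R).map z ≫ _) hp) ?_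
    erw [Functor.map_comp, Category.assoc, reassoc_of% hε]
    refine congrArg (fun z => _ ≫ _ ≫ z) ?_
    rw [← Functor.map_comp, ← Functor.map_comp, MonoidalCategory.tensorHom_def]
    rfl
  haveI : IsIso (Prod.mkHom (𝟙 (DerivedCategory.Q.obj P)) ((DTen.resFactors φ).hom.app L)) :=
    (isIso_prod_iff _ _).2 ⟨inferInstance, inferInstance⟩
  haveI : IsIso (piD φ (DerivedCategory.Q.obj P) (DerivedCategory.Q.obj L) ≫ c) := by
    rw [key]
    infer_instance
  exact IsIso.of_isIso_comp_right _ c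

variable [DTen.HasRHom R]

omit [DTen.HasLTen A] [DTen.HasLBase φ] [DTen.HasResTen φ] [DTen.ResLegIso φ] in
lemma rhomHomEquiv_comp {X X' E K : Dual.D R} (f : X' ⟶ X)
    (p : (DTen.LTen₂ R).obj (X, E) ⟶ K) :
    DTen.rhomHomEquiv X' E K ((DTen.LTen₂ R).map (Prod.mkHom f (𝟙 E)) ≫ p) =
      f ≫ DTen.rhomHomEquiv X E K p :=
  (DTen.rhomAdj R E).homEquiv_naturality_left f p

omit [DTen.HasLTen A] [DTen.HasLBase φ] [DTen.HasResTen φ] [DTen.ResLegIso φ] in
lemma rhomHomEquiv_comp_right {X E E' K : Dual.D R} (g : E' ⟶ E)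
    (p : (DTen.LTen₂ R).obj (X, E) ⟶ K) :
    DTen.rhomHomEquiv X E' K ((DTen.LTen₂ R).map (Prod.mkHom (𝟙 X) g) ≫ p) =
      DTen.rhomHomEquiv X E K p ≫ DTen.RHomMap g K := by
  refine (DTen.rhomHomEquiv X E' K).symm.injective ?_
  rw [Equiv.symm_apply_apply]
  have h₁ : (DTen.LTen₂ R).map (Prod.mkHom (DTen.rhomHomEquiv X E K p) (𝟙 E)) ≫ DTen.ev E K = p :=
    ((DTen.rhomAdj R E).homEquiv_counit ..).symm.trans
      (((DTen.rhomAdj R E).homEquiv _ _).symm_apply_apply p)
  refine Eq.trans ?_ ((DTen.rhomAdj R E').homEquiv_counit ..).symm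
  change _ = (DTen.LTen₂ R).map (Prod.mkHom (DTen.rhomHomEquiv X E K p ≫ DTen.RHomMap g K) (𝟙 E')) ≫
    DTen.ev E' K
  conv_lhs => rw [← h₁]
  have h₂ : (DTen.LTen₂ R).map (Prod.mkHom (DTen.rhomHomEquiv X E K p ≫ DTen.RHomMap g K) (𝟙 E')) =
      (DTen.LTen₂ R).map (Prod.mkHom (DTen.rhomHomEquiv X E K p) (𝟙 E')) ≫
        (DTen.LTen₂ R).map (Prod.mkHom (DTen.RHomMap g K) (𝟙 E')) := by
    rw [← Functor.map_comp]
    exact congrArg _ (Prod.ext rfl (Category.comp_id _).symm)
  rw [h₂, Category.assoc, DTen.RHom_map_ev, ← Functor.map_comp_assoc, ← Functor.map_comp_assoc]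
  congr 2
  exact Prod.ext ((Category.id_comp _).trans (Category.comp_id _).symm)
    ((Category.comp_id _).trans (Category.id_comp _).symm)

/-- The pairing of trivial duality. -/
noncomputable def pairingD {Rφ : Dual.D R ⥤ Dual.D A} (adj : DRing.restrictD φ ⊣ Rφ) {O : Dual.D A}
    (rr : DTen.tensorRightD A O ≅ 𝟭 (Dual.D A)) (K : Dual.D R) :
    (DTen.LTen₂ R).obj ((DRing.restrictD φ).obj (Rφ.obj K), (DRing.restrictD φ).obj O) ⟶ K :=
  (DTen.resPF φ).app (Rφ.obj K, O) ≫ (DRing.restrictD φ).map (rr.hom.app (Rφ.obj K)) ≫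
    adj.counit.app K

/-- The pairing identifies `R Hom(A, K)|_R` with `R Hom(A|_R, K)`. -/
theorem isIso_rhomHomEquiv_pairing {Rφ : Dual.D R ⥤ Dual.D A} (adj : DRing.restrictD φ ⊣ Rφ)
    {O : Dual.D A} (rr : DTen.tensorRightD A O ≅ 𝟭 (Dual.D A)) (K : Dual.D R) :
    IsIso (DTen.rhomHomEquiv _ _ _ (pairingD φ adj rr K)) := by
  refine isIso_of_yoneda_map_bijective _ fun Z => ?_
  let N := Rφ.obj K
  let L := (DTen.LBase φ).obj Z
  haveI := isIso_piD φ Z O
  let e : (Z ⟶ (DRing.restrictD φ).obj N) ≃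
      (Z ⟶ (DTen.RHomR R ((DRing.restrictD φ).obj O)).obj K) :=
    ((DTen.baseAdj φ).homEquiv Z N).symm.trans ((Iso.homFromEquiv (rr.app L).symm).trans
      ((adj.homEquiv _ K).symm.trans ((Iso.homFromEquiv (asIso (piD φ Z O)).symm).trans
        (DTen.rhomHomEquiv Z ((DRing.restrictD φ).obj O) K))))
  convert e.bijective using 1
  funext g
  obtain ⟨h, rfl⟩ := ((DTen.baseAdj φ).homEquiv Z N).surjective g
  rw [← rhomHomEquiv_comp]
  simp only [e, Equiv.trans_apply, Equiv.symm_apply_apply, Iso.homFromEquiv_apply, Iso.symm_inv,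
    asIso_hom, Iso.app_hom]
  refine congrArg (DTen.rhomHomEquiv Z _ K) ?_
  rw [(DTen.baseAdj φ).homEquiv_unit, adj.homEquiv_counit]
  have hrr : (DTen.LTen₂ A).map (Prod.mkHom h (𝟙 O)) ≫ rr.hom.app N = rr.hom.app L ≫ h :=
    rr.hom.naturality h
  have hn := (DTen.resPF φ).naturality (Prod.mkHom h (𝟙 O))
  simp only [Functor.comp_map] at hn
  have hl : (DTen.LTen₂ R).map (Prod.mkHom ((DTen.baseAdj φ).unit.app Z ≫ (DRing.restrictD φ).map h)
      (𝟙 ((DRing.restrictD φ).obj O))) =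
      (DTen.LTen₂ R).map (Prod.mkHom ((DTen.baseAdj φ).unit.app Z) (𝟙 _)) ≫
        (DTen.LTen₂ R).map (((DRing.restrictD φ).prod (DRing.restrictD φ)).map (Prod.mkHom h (𝟙 O))) := by
    rw [← Functor.map_comp]
    refine congrArg _ (Prod.ext rfl ?_)
    exact ((congrArg (_ ≫ ·) ((DRing.restrictD φ).map_id O)).trans (Category.comp_id _)).symm
  dsimp only [pairingD, piD]
  rw [hl, Category.assoc]
  erw [reassoc_of% hn]
  erw [← (DRing.restrictD φ).map_comp_assoc, hrr]
  rw [Functor.map_comp]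
  simp only [Category.assoc]
  refine Eq.symm ?_
  change ((DTen.LTen₂ R).map (Prod.mkHom ((DTen.baseAdj φ).unit.app Z) (𝟙 _)) ≫
      (DTen.resPF φ).app (L, O)) ≫ (DRing.restrictD φ).map (rr.hom.app L ≫ h) ≫ adj.counit.app K = _
  rw [Functor.map_comp]
  simp only [Category.assoc]
  rfl

end Groth.Agent.KFlatLib
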