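import Groth.Agent.KFlatLib.Ring.LTen3
import Groth.Prelude.Def_DTen3
import Mathlib.Algebra.Homology.BifunctorShift
import Mathlib.Algebra.Homology.DerivedCategory.ShortExact
import Mathlib.CategoryTheory.Triangulated.Pretriangulated

/-!
# Exactness of the derived tensor product of a ring in one variable
-/

set_option linter.style.haveILetI false

universe u v v'

open CategoryTheory CategoryTheory.Limits Pretriangulated MonoidalCategory

attribute [local instance] HasDerivedCategory.standard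

namespace Groth.Agent.KFlatLib

section Formal

variable {C : Type u} [Category.{v} C] [HasZeroObject C] [HasShift C ℤ] [Preadditive C]
  [∀ n : ℤ, (shiftFunctor C n).Additive] [Pretriangulated C]
  {D : Type u} [Category.{v'} D] [Preadditive D]

/-- Exactness at the middle term of the image of every distinguished triangle, tested by maps in. -/
def HomExact (F : C ⥤ D) : Prop :=
  ∀ T : Triangle C, T ∈ distTriang C → ∀ (Z : D) (φ : Z ⟶ F.obj T.obj₂),
    φ ≫ F.map T.mor₂ = 0 → ∃ ψ : Z ⟶ F.obj T.obj₁, ψ ≫ F.map T.mor₁ = φ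

lemma HomExact.of_iso {F G : C ⥤ D} (hF : HomExact F) (e : F ≅ G) : HomExact G := fun T hT Z φ h => by
  obtain ⟨ψ, hψ⟩ := hF T hT Z (φ ≫ e.inv.app T.obj₂) (by
    rw [Category.assoc, ← e.inv.naturality, ← Category.assoc, h, zero_comp])
  refine ⟨ψ ≫ e.hom.app T.obj₁, ?_⟩
  rw [Category.assoc, ← e.hom.naturality, ← Category.assoc, hψ, Category.assoc, Iso.inv_hom_id_app,
    Category.comp_id]

lemma HomExact.comp_rightAdjoint {E : Type u} [Category.{v'} E] [Preadditive E] {F : C ⥤ D}
    (hF : HomExact F) {L : E ⥤ D} {R : D ⥤ E} (adj : L ⊣ R) [L.PreservesZeroMorphisms] :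
    HomExact (F ⋙ R) := fun T hT Z φ h => by
  obtain ⟨ψ, hψ⟩ := hF T hT (L.obj Z) ((adj.homEquiv _ _).symm φ) (by
    rw [← adj.homEquiv_naturality_right_symm]
    refine (congrArg _ h).trans ?_
    rw [Adjunction.homEquiv_counit, L.map_zero, zero_comp])
  refine ⟨adj.homEquiv _ _ ψ, ?_⟩
  change _ ≫ R.map (F.map T.mor₁) = φ
  rw [← adj.homEquiv_naturality_right, hψ, Equiv.apply_symm_apply]

/-- The five lemma for natural transformations between exact functors. -/
lemma isIso₂_of_homExact {F G : C ⥤ D} [F.PreservesZeroMorphisms] [G.PreservesZeroMorphisms]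
    (hF : HomExact F) (hG : HomExact G) (η : F ⟶ G) (T : Triangle C) (hT : T ∈ distTriang C)
    (h₀ : IsIso (η.app (T.obj₃⟦(-1 : ℤ)⟧))) (h₁ : IsIso (η.app T.obj₁))
    (h₃ : IsIso (η.app T.obj₃)) (h₄ : IsIso (η.app (T.obj₁⟦(1 : ℤ)⟧))) :
    IsIso (η.app T.obj₂) := by
  refine isIso_of_yoneda_map_bijective _ fun Z => ⟨fun φ φ' e => sub_eq_zero.1 ?_, fun y => ?_⟩
  · have h0 : (φ - φ') ≫ η.app T.obj₂ = 0 := by rw [Preadditive.sub_comp]; exact sub_eq_zero.2 e
    generalize φ - φ' = φ at h0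
    have h1 : φ ≫ F.map T.mor₂ = 0 := by
      refine (cancel_mono (η.app T.obj₃)).1 ?_
      rw [Category.assoc, η.naturality, ← Category.assoc, h0, zero_comp, zero_comp]
    obtain ⟨ψ, rfl⟩ := hF T hT Z φ h1
    have hT' := inv_rot_of_distTriang _ hT
    obtain ⟨χ, hχ⟩ := hG _ hT' Z (ψ ≫ η.app T.obj₁) (by
      change (ψ ≫ η.app T.obj₁) ≫ G.map T.mor₁ = 0
      rw [Category.assoc, ← η.naturality, ← Category.assoc]
      exact h0)
    haveI : IsIso (η.app T.invRotate.obj₁) := h₀
    have hψ : (χ ≫ inv (η.app T.invRotate.obj₁)) ≫ F.map T.invRotate.mor₁ = ψ := by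
      haveI := h₁
      refine (cancel_mono (η.app T.obj₁)).1 ?_
      refine ((Category.assoc _ _ _).trans ((congrArg (_ ≫ ·)
        (η.naturality T.invRotate.mor₁)).trans ?_)).trans hχ
      rw [← Category.assoc, Category.assoc χ, IsIso.inv_hom_id, Category.comp_id]
    rw [← hψ]
    refine (Category.assoc _ _ _).trans ((congrArg (_ ≫ ·)
      ((F.map_comp _ _).symm.trans ((congrArg F.map (comp_distTriang_mor_zero₁₂ _ hT')).trans
        (F.map_zero _ _)))).trans comp_zero)
  · have hT' := rot_of_distTriang _ hT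
    haveI := h₃
    let z := (y ≫ G.map T.mor₂) ≫ inv (η.app T.obj₃)
    obtain ⟨x, hx⟩ : ∃ x : Z ⟶ F.obj T.obj₂, x ≫ F.map T.mor₂ = z := hF _ hT' Z z (by
      haveI := h₄
      change z ≫ F.map T.mor₃ = 0
      refine (cancel_mono (η.app (T.obj₁⟦(1 : ℤ)⟧))).1 ?_
      rw [Category.assoc, η.naturality, zero_comp]
      simp only [z, Category.assoc, IsIso.inv_hom_id_assoc]
      exact (congrArg (y ≫ ·) ((G.map_comp _ _).symm.trans ((congrArg G.map
        (comp_distTriang_mor_zero₂₃ _ hT)).trans (G.map_zero _ _)))).trans comp_zero)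
    obtain ⟨w, hw⟩ := hG T hT Z (y - x ≫ η.app T.obj₂) (by
      rw [Preadditive.sub_comp, Category.assoc, ← η.naturality, ← Category.assoc]
      refine sub_eq_zero.2 (Eq.trans ?_ (congrArg (· ≫ η.app T.obj₃) hx.symm))
      simp only [z, Category.assoc, IsIso.inv_hom_id, Category.comp_id])
    haveI := h₁
    refine ⟨x + (w ≫ inv (η.app T.obj₁)) ≫ F.map T.mor₁, ?_⟩
    change (_ + _) ≫ η.app T.obj₂ = y
    rw [Preadditive.add_comp, Category.assoc, η.naturality, Category.assoc,
      IsIso.inv_hom_id_assoc, hw]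
    exact add_sub_cancel _ _

end Formal

variable {A : Type u} [CommRing A] [DTen.HasLTen A]

lemma isIso_ε_right {L : DRing.Cx A} (hL : KFlat (curriedTensor (ModuleCat.{u} A)) L) (K : DRing.Cx A) :
    IsIso ((DTen.ε A).app (K, L)) := by
  haveI := isIso_symm_app (DerivedCategory.Q.obj K) (DerivedCategory.Q.obj L)
  haveI := isIso_ε (A := A) hL K
  haveI : IsIso ((DTen.symm A).app (DerivedCategory.Q.obj K, DerivedCategory.Q.obj L) ≫
      (DTen.ε A).app (K, L)) := by
    rw [DTen.symm_fac A K L]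
    exact IsIso.comp_isIso' inferInstance inferInstance
  exact IsIso.of_isIso_comp_left ((DTen.symm A).app (DerivedCategory.Q.obj K, DerivedCategory.Q.obj L)) _

/-- `- ⊗ R` on complexes. -/
noncomputable abbrev tenCx (R : DRing.Cx A) : DRing.Cx A ⥤ DRing.Cx A :=
  (curriedTensor (ModuleCat.{u} A)).map₂CochainComplex.flip.obj R

/-- `- ⊗^L Q R` is computed by `- ⊗ R` for K-flat `R`. -/
lemma exists_tenCxIso {R : DRing.Cx A} (hR : KFlat (curriedTensor (ModuleCat.{u} A)) R) :
    Nonempty (DerivedCategory.Q ⋙ DTen.tensorRightD A (DerivedCategory.Q.obj R) ≅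
      tenCx R ⋙ DerivedCategory.Q) := by
  refine ⟨NatIso.ofComponents (fun K => @asIso _ _ _ _ ((DTen.ε A).app (K, R)) (isIso_ε_right hR K))
    fun {K K'} g => ?_⟩
  have h := (DTen.ε A).naturality (Prod.mkHom g (𝟙 R))
  refine (Eq.trans (congrArg (fun z => (DTen.LTen₂ A).map z ≫ _) ?_) h).trans
    (congrArg (_ ≫ ·) ?_)
  · exact Prod.ext rfl (DerivedCategory.Q.map_id R).symm
  · refine congrArg DerivedCategory.Q.map ?_
    change ((curriedTensor (ModuleCat.{u} A)).map₂CochainComplex.map g).app R ≫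
      ((curriedTensor (ModuleCat.{u} A)).map₂CochainComplex.obj K').map (𝟙 R) = _
    rw [CategoryTheory.Functor.map_id]
    exact Category.comp_id _

variable [DTen.HasRHom A]

instance preservesZeroMorphisms_tensorRightD (X : Dual.D A) :
    (DTen.tensorRightD A X).PreservesZeroMorphisms :=
  Functor.preservesZeroMorphisms_of_isLeftAdjoint _

/-- `- ⊗^L X` is exact. -/
lemma homExact_tensorRightD (X : Dual.D A) : HomExact (DTen.tensorRightD A X) := by
  let R := flatRep X
  have hR : KFlat (curriedTensor (ModuleCat.{u} A)) R := kFlat_ringRes _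
  refine HomExact.of_iso ?_ ((DTen.LTen A).flip.mapIso (flatRepIso X))
  obtain ⟨α⟩ := exists_tenCxIso hR
  intro T hT Z φ hφ
  obtain ⟨K, L, g, ⟨e⟩⟩ :=
    (DerivedCategory.mem_distTriang_iff T.invRotate).1 (inv_rot_of_distTriang _ hT)
  let F := DTen.tensorRightD A (DerivedCategory.Q.obj R)
  let S := coneSeq g
  -- the two maps out of the first two terms
  have e₂ : T.mor₁ ≫ e.hom.hom₃ = e.hom.hom₂ ≫ DerivedCategory.Q.map S.f := e.hom.comm₂
  have hS := shortExact₁_of_splitting (T := curriedTensor (ModuleCat.{u} A)) R S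
    (fun n => ⟨coneSeqSplitting g n⟩)
  have hg : (φ ≫ F.map e.hom.hom₃) ≫ F.map (DerivedCategory.Q.map S.g) = 0 := by
    have e₃ := e.hom.comm₃
    let cs := (DerivedCategory.Q.commShiftIso (1 : ℤ)).app K
    refine (cancel_mono (F.map cs.hom)).1 ?_
    refine Eq.trans ?_ zero_comp.symm
    erw [Category.assoc, Category.assoc, ← F.map_comp, ← F.map_comp]
    have e₄ : e.hom.hom₃ ≫ DerivedCategory.Q.map S.g ≫ cs.hom =
        T.mor₂ ≫ ((shiftFunctorCompIsoId (Dual.D A) (-1 : ℤ) 1 (by omega)).inv.app T.obj₃ ≫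
          (shiftFunctor (Dual.D A) (1 : ℤ)).map e.hom.hom₁) := by
      refine Eq.trans ?_ (Category.assoc _ _ _)
      exact e₃.symm
    erw [e₄, F.map_comp, ← Category.assoc, hφ, zero_comp]
  obtain ⟨ψ, hψ⟩ := Triangle.coyoneda_exact₂ _ (DerivedCategory.triangleOfSES_distinguished hS)
    ((φ ≫ F.map e.hom.hom₃) ≫ α.hom.app _) (by
      refine (Category.assoc _ _ _).trans ((congrArg (_ ≫ ·) (α.hom.naturality S.g).symm).trans ?_)
      exact (Category.assoc _ _ _).symm.trans ((congrArg (· ≫ α.hom.app _) hg).trans zero_comp))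
  refine ⟨ψ ≫ α.inv.app _ ≫ F.map e.inv.hom₂, ?_⟩
  have hψ' : (ψ ≫ α.inv.app _) ≫ F.map (DerivedCategory.Q.map S.f) = φ ≫ F.map e.hom.hom₃ := by
    refine (cancel_mono (α.hom.app _)).1 ?_
    refine Eq.trans ?_ hψ.symm
    refine (Category.assoc _ _ _).trans ((congrArg (_ ≫ ·) (α.hom.naturality S.f)).trans ?_)
    refine (Category.assoc _ _ _).trans (congrArg (ψ ≫ ·) ?_)
    exact Iso.inv_hom_id_app_assoc α _ _
  have e₅ : e.inv.hom₂ ≫ T.mor₁ = DerivedCategory.Q.map S.f ≫ e.inv.hom₃ := e.inv.comm₂.symm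
  refine (Category.assoc _ _ _).trans ?_
  rw [Category.assoc]
  erw [← F.map_comp, e₅, F.map_comp]
  rw [← Category.assoc, ← Category.assoc]
  erw [hψ', Category.assoc, ← F.map_comp]
  refine (congrArg (φ ≫ ·) ((congrArg F.map ?_).trans (F.map_id _))).trans (Category.comp_id φ)
  exact congrArg TriangleMorphism.hom₃ e.hom_inv_id

omit [DTen.HasLTen A] [DTen.HasRHom A] in
lemma kFlat_unit : KFlat (curriedTensor (ModuleCat.{u} A)) (𝟙_ (DRing.Cx A)) :=
  fun L hL i => (hL i).of_iso ((HomologicalComplex.homologyFunctor _ _ i).mapIso (ρ_ L))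

omit [DTen.HasRHom A] in
/-- Tensoring with a shift of the unit is the shift. -/
lemma nonempty_tensorLeft_shift_unit_iso (n : ℤ) :
    Nonempty ((DTen.LTen A).obj ((DTen.unit A)⟦n⟧) ≅ shiftFunctor (Dual.D A) n) := by
  let T := curriedTensor (ModuleCat.{u} A)
  let U : DRing.Cx A := 𝟙_ (DRing.Cx A)
  let P : DRing.Cx A := U⟦n⟧
  have hP : KFlat T P := (kFlat_unit (A := A)).shift n
  let Ln := T.map₂CochainComplex.obj P
  let eC : Ln ≅ shiftFunctor (DRing.Cx A) n :=
    NatIso.ofComponents (fun L => ((T.map₂CochainComplex.flip.obj L).commShiftIso n).app U ≪≫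
      (shiftFunctor (DRing.Cx A) n).mapIso (λ_ L)) fun {L L'} g => by
      have h1 := NatTrans.shift_app_comm (T.map₂CochainComplex.flip.map g) n U
      have h2 : (T.map₂CochainComplex.flip.map g).app U ≫ (λ_ L').hom = (λ_ L).hom ≫ g := by
        refine Eq.trans (congrArg (· ≫ (λ_ L').hom) ?_) (leftUnitor_naturality g)
        rfl
      dsimp only [Iso.trans_hom, Iso.app_hom, Functor.mapIso_hom]
      refine (Category.assoc _ _ _).symm.trans ?_
      erw [← h1]
      refine (Category.assoc _ _ _).trans (Eq.trans ?_ (Category.assoc _ _ _).symm)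
      refine congrArg (((T.map₂CochainComplex.flip.obj L).commShiftIso n).hom.app U ≫ ·) ?_
      erw [← Functor.map_comp, ← Functor.map_comp, h2]
      rfl
  let eε : DerivedCategory.Q ⋙ (DTen.LTen A).obj (DerivedCategory.Q.obj P) ≅
      Ln ⋙ DerivedCategory.Q :=
    NatIso.ofComponents (fun L => @asIso _ _ _ _ ((DTen.ε A).app (P, L)) (isIso_ε (A := A) hP L))
      fun {L L'} g => by
        have h := (DTen.ε A).naturality (Prod.mkHom (𝟙 P) g)
        refine (Eq.trans (congrArg (fun z => (DTen.LTen₂ A).map z ≫ _) ?_) h).trans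
          (congrArg (_ ≫ ·) ?_)
        · exact Prod.ext (DerivedCategory.Q.map_id P).symm rfl
        · refine congrArg DerivedCategory.Q.map ?_
          change (T.map₂CochainComplex.map (𝟙 P)).app L ≫ (T.map₂CochainComplex.obj P).map g = _
          rw [CategoryTheory.Functor.map_id]
          exact Category.id_comp _
  let e₁ : DerivedCategory.Q ⋙ (DTen.LTen A).obj (DerivedCategory.Q.obj P) ≅
      DerivedCategory.Q ⋙ shiftFunctor (Dual.D A) n :=
    eε ≪≫ Functor.isoWhiskerRight eC DerivedCategory.Q ≪≫ DerivedCategory.Q.commShiftIso n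
  let e₂ : (DTen.LTen A).obj (DerivedCategory.Q.obj P) ≅ shiftFunctor (Dual.D A) n :=
    Localization.liftNatIso DerivedCategory.Q
      (HomologicalComplex.quasiIso (ModuleCat.{u} A) (ComplexShape.up ℤ)) _ _ _ _ e₁
  exact ⟨(e₂.symm ≪≫ (DTen.LTen A).mapIso ((DerivedCategory.Q.commShiftIso n).app U)).symm⟩

omit [DTen.HasRHom A] in
/-- Tensoring with a shift of the unit is an equivalence. -/
lemma isEquivalence_tensorLeft_shift_unit (n : ℤ) :
    ((DTen.LTen A).obj ((DTen.unit A)⟦n⟧)).IsEquivalence := by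
  obtain ⟨e⟩ := nonempty_tensorLeft_shift_unit_iso (A := A) n
  exact Functor.isEquivalence_of_iso e.symm

end Groth.Agent.KFlatLib
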