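import Groth.Agent.KFlatLib.Ring.ProjPair
import Groth.Agent.KFlatLib.Ring.TenExact

/-!
# The restriction comparison commutes with the symmetry
-/

set_option linter.style.haveILetI false
set_option backward.isDefEq.respectTransparency false

universe u

open CategoryTheory CategoryTheory.Limits MonoidalCategory

attribute [local instance] HasDerivedCategory.standard

namespace Groth.Agent.KFlatLib

variable {R A : Type u} [CommRing R] [CommRing A] (φ : R →+* A)

/-- The module-level comparison commutes with the swap. -/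
lemma resTen₀app_braiding (M N : ModuleCat.{u} A) :
    (β_ ((DTen.resM φ).obj M) ((DTen.resM φ).obj N)).hom ≫ DTen.resTen₀app φ N M =
      DTen.resTen₀app φ M N ≫ (DTen.resM φ).map (β_ M N).hom :=
  ModuleCat.hom_ext (TensorProduct.ext' fun _ _ => rfl)

/-- The complex-level comparison commutes with the swap. -/
lemma resTenCx_braidCx (Y Y' : DRing.Cx A) :
    (DTen.braidCx ((DTen.resCx φ).obj Y) ((DTen.resCx φ).obj Y')).hom ≫ DTen.resTenCx φ Y' Y =
      DTen.resTenCx φ Y Y' ≫ (DTen.resCx φ).map (DTen.braidCx Y Y').hom := by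
  refine HomologicalComplex.hom_ext _ _ fun n => HomologicalComplex.mapBifunctor.hom_ext fun p q h => ?_
  rw [HomologicalComplex.comp_f, HomologicalComplex.comp_f]
  erw [DTen.ι_braidCx_hom_assoc _ _ p q n h, DTen.ι_resTenCx_assoc φ Y Y' p q n h]
  rw [Linear.units_smul_comp, Category.assoc]
  erw [DTen.ι_resTenCx φ Y' Y q p n (by change p + q = n at h; omega)]
  erw [← (DTen.resM φ).map_comp, DTen.ι_braidCx_hom Y Y' p q n h, Functor.map_units_smul,
    Linear.comp_units_smul]
  congr 1
  rw [Functor.map_comp]
  erw [← Category.assoc, resTen₀app_braiding]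
  rfl

variable [DTen.HasLTen R] [DTen.HasLTen A] [DTen.HasResTen φ] [DTen.ResLegIso φ]

/-- The derived comparison commutes with the symmetry. -/
theorem symm_resPF (E E' : Dual.D A) :
    (DTen.symm R).app ((DRing.restrictD φ).obj E, (DRing.restrictD φ).obj E') ≫
        (DTen.resPF φ).app (E, E') =
      (DTen.resPF φ).app (E', E) ≫ (DRing.restrictD φ).map ((DTen.symm A).app (E, E')) := by
  suffices h : ∀ {Y Y' : DRing.Cx A}, KFlat (curriedTensor (ModuleCat.{u} A)) Y →
      (DTen.symm R).app ((DRing.restrictD φ).obj (DerivedCategory.Q.obj Y),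
          (DRing.restrictD φ).obj (DerivedCategory.Q.obj Y')) ≫
        (DTen.resPF φ).app (DerivedCategory.Q.obj Y, DerivedCategory.Q.obj Y') =
      (DTen.resPF φ).app (DerivedCategory.Q.obj Y', DerivedCategory.Q.obj Y) ≫
        (DRing.restrictD φ).map ((DTen.symm A).app (DerivedCategory.Q.obj Y, DerivedCategory.Q.obj Y')) by
    let i := flatRepIso E
    let j := flatRepIso E'
    have h₀ := h (Y' := flatRep E') (kFlat_ringRes (DerivedCategory.Q.objPreimage E))
    let g := Prod.mkHom i.hom j.hom
    haveI : IsIso g := (isIso_prod_iff _ _).2 ⟨inferInstance, inferInstance⟩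
    have n₁ := (DTen.symm R).naturality (((DRing.restrictD φ).prod (DRing.restrictD φ)).map g)
    have n₂ := (DTen.resPF φ).naturality g
    have n₃ := (DTen.symm A).naturality g
    have n₄ := (DTen.resPF φ).naturality ((CategoryTheory.Prod.swap _ _).map g)
    simp only [Functor.comp_map] at n₁ n₂ n₃ n₄
    refine (cancel_epi ((DTen.LTen₂ R).map ((CategoryTheory.Prod.swap _ _).map
      (((DRing.restrictD φ).prod (DRing.restrictD φ)).map g)))).1 ?_
    erw [reassoc_of% n₁, n₂, reassoc_of% h₀, reassoc_of% n₄]
    rw [← Functor.map_comp, ← Functor.map_comp]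
    exact congrArg (fun z => _ ≫ (DRing.restrictD φ).map z) n₃.symm
  intro Y Y' hY
  haveI := isIso_ε (A := A) hY Y'
  haveI : IsIso ((DTen.resβB φ).app (Y, Y')) := by
    dsimp only [DTen.resβB]
    infer_instance
  refine (cancel_mono ((DTen.resβB φ).app (Y, Y'))).1 ?_
  have hL := DTen.resPF_fac φ (Y, Y')
  have hR := DTen.resPF_fac φ (Y', Y)
  refine Eq.trans ((Category.assoc _ _ _).trans (congrArg (_ ≫ ·) hL)) ?_
  simp only [DTen.resβB] at hR ⊢
  rw [Category.assoc, ← Functor.map_comp_assoc]
  erw [DTen.symm_fac A Y Y']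
  rw [Functor.map_comp, Category.assoc]
  have nF := (DTen.resFactors φ).hom.naturality (DTen.braidCx Y' Y).hom
  simp only [Functor.comp_map] at nF
  erw [nF, reassoc_of% hR]
  simp only [DTen.resβA, Category.assoc]
  have n₁ := (DTen.symm R).naturality
    (Prod.mkHom ((DTen.resFactors φ).hom.app Y) ((DTen.resFactors φ).hom.app Y'))
  simp only [Functor.comp_map] at n₁
  erw [← reassoc_of% n₁, reassoc_of% (DTen.symm_fac R ((DTen.resCx φ).obj Y) ((DTen.resCx φ).obj Y'))]
  erw [← Functor.map_comp, ← Functor.map_comp, resTenCx_braidCx φ Y' Y]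
  rfl

variable [DTen.HasLBase φ]

/-- The projection formula, with the base changed factor on the right. -/
theorem isIso_projPF (E : Dual.D A) (K : Dual.D R) : IsIso (DTen.projPF φ E K) := by
  haveI := isIso_piD φ K E
  haveI := isIso_symm_app E ((DTen.LBase φ).obj K)
  haveI := isIso_symm_app ((DRing.restrictD φ).obj E) K
  have h : (DTen.symm R).app ((DRing.restrictD φ).obj E, K) ≫ DTen.projPF φ E K = piD φ K E ≫
      (DRing.restrictD φ).map ((DTen.symm A).app (E, (DTen.LBase φ).obj K)) := by
    have n := (DTen.symm R).naturality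
      (Prod.mkHom (𝟙 ((DRing.restrictD φ).obj E)) ((DTen.baseAdj φ).unit.app K))
    simp only [Functor.comp_map] at n
    dsimp only [piD, DTen.projPF]
    rw [Category.assoc, ← symm_resPF φ E ((DTen.LBase φ).obj K)]
    erw [← reassoc_of% n]
    rfl
  haveI : IsIso ((DTen.symm R).app ((DRing.restrictD φ).obj E, K) ≫ DTen.projPF φ E K) := by
    rw [h]
    infer_instance
  exact IsIso.of_isIso_comp_left ((DTen.symm R).app ((DRing.restrictD φ).obj E, K)) _

end Groth.Agent.KFlatLib
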