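import Groth.Agent.LC.DepthExt
import Mathlib.Algebra.Homology.DerivedCategory.Ext.Linear
import Mathlib.Algebra.Category.ModuleCat.EnoughInjectives

/-!
# `Ext` out of the quotient by a weakly regular sequence
-/

set_option autoImplicit false
set_option linter.style.haveILetI false

universe u

open CategoryTheory RingTheory.Sequence Abelian

namespace Groth.Agent.KFlatLib

variable {A : Type u} [CommRing A]

/-- The quotient by a sequence. -/
abbrev qList (l : List A) : ModuleCat.{u} A := ModuleCat.of A (A ⧸ Ideal.ofList l)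

theorem exists_ses (l : List A) (x : A) (h : IsWeaklyRegular A (l ++ [x])) :
    IsWeaklyRegular A l ∧ ∃ (g : qList l ⟶ qList (l ++ [x])) (w : (x • 𝟙 (qList l)) ≫ g = 0),
      (ShortComplex.mk (x • 𝟙 (qList l)) g w).ShortExact := by
  obtain ⟨h1, h2⟩ := (LC.isWeaklyRegular_concat_iff l x).1 h
  refine ⟨h1, ?_⟩
  have hJ : Ideal.ofList (l ++ [x]) = Ideal.ofList l ⊔ Ideal.span {x} := by
    rw [Ideal.ofList_append, Ideal.ofList_singleton]
  have hle : Ideal.ofList l ≤ Ideal.ofList (l ++ [x]) := hJ ▸ le_sup_left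
  let g : qList l ⟶ qList (l ++ [x]) := ModuleCat.ofHom (Submodule.factor hle)
  have hx : x ∈ Ideal.ofList (l ++ [x]) := hJ ▸ Ideal.mem_sup_right (Ideal.mem_span_singleton_self x)
  have w : (x • 𝟙 (qList l)) ≫ g = 0 := by
    refine ModuleCat.hom_ext (Submodule.linearMap_qext _ (LinearMap.ext fun z => ?_))
    show Submodule.factor hle (x • Submodule.Quotient.mk z) = 0
    rw [← Submodule.Quotient.mk_smul]
    refine (Submodule.Quotient.mk_eq_zero _).2 ?_
    exact Ideal.mul_mem_right _ _ hx
  refine ⟨g, w, ?_⟩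
  refine { exact := ?_, mono_f := ?_, epi_g := ?_ }
  · rw [ShortComplex.ShortExact.moduleCat_exact_iff_function_exact]
    intro z
    obtain ⟨z, rfl⟩ := Submodule.Quotient.mk_surjective _ z
    show Submodule.Quotient.mk (p := Ideal.ofList (l ++ [x])) z = 0 ↔ _
    rw [Submodule.Quotient.mk_eq_zero, hJ, Submodule.mem_sup]
    constructor
    · rintro ⟨a, ha, b, hb, rfl⟩
      obtain ⟨c, rfl⟩ := Ideal.mem_span_singleton'.1 hb
      refine ⟨Submodule.Quotient.mk c, ?_⟩
      show x • Submodule.Quotient.mk (p := Ideal.ofList l) c = _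
      rw [← Submodule.Quotient.mk_smul, eq_comm, Submodule.Quotient.eq, smul_eq_mul, mul_comm c x, add_sub_cancel_right]
      exact ha
    · rintro ⟨c, hc⟩
      obtain ⟨c, rfl⟩ := Submodule.Quotient.mk_surjective _ c
      refine ⟨z - x • c, ?_, x • c, Ideal.mem_span_singleton'.2 ⟨c, mul_comm c x⟩, sub_add_cancel _ _⟩
      rw [← Submodule.Quotient.eq, Submodule.Quotient.mk_smul]
      exact hc.symm
  · rw [ModuleCat.mono_iff_injective, injective_iff_map_eq_zero]
    intro z hz
    obtain ⟨z, rfl⟩ := Submodule.Quotient.mk_surjective _ z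
    change x • Submodule.Quotient.mk (p := Ideal.ofList l) z = 0 at hz
    rw [isSMulRegular_iff_right_eq_zero_of_smul] at h2
    have hsm : (Ideal.ofList l • ⊤ : Submodule A A) = Ideal.ofList l := by
      rw [Ideal.smul_eq_mul, Ideal.mul_top]
    have := h2 (Submodule.Quotient.mk z) (by
      rw [← Submodule.Quotient.mk_smul, Submodule.Quotient.mk_eq_zero, hsm]
      rwa [← Submodule.Quotient.mk_smul, Submodule.Quotient.mk_eq_zero] at hz)
    rw [Submodule.Quotient.mk_eq_zero, hsm] at this
    exact (Submodule.Quotient.mk_eq_zero _).2 this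
  · rw [ModuleCat.epi_iff_surjective]
    exact Submodule.factor_surjective hle

theorem subsingleton_ext_qList_nil (Y : ModuleCat.{u} A) (i : ℕ) :
    Subsingleton (Ext (qList ([] : List A)) Y (i + 1)) := by
  haveI : Module.Projective A (A ⧸ Ideal.ofList ([] : List A)) :=
    Module.Projective.of_equiv (Submodule.quotEquivOfEqBot (Ideal.ofList ([] : List A)) Ideal.ofList_nil).symm
  haveI : Projective (qList ([] : List A)) :=
    (IsProjective.iff_projective (R := A) (A ⧸ Ideal.ofList ([] : List A))).1 inferInstance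
  exact subsingleton_of_forall_eq 0 Ext.eq_zero_of_projective

/-- `Ext⁰` out of `A/(∅)`. -/
noncomputable def extNilEquiv (M : ModuleCat.{u} A) : Ext (qList ([] : List A)) M 0 ≃ₗ[A] M :=
  (Ext.linearEquiv₀ (R := A)).trans (ModuleCat.homLinearEquiv.trans
    (((Submodule.quotEquivOfEqBot (Ideal.ofList ([] : List A)) Ideal.ofList_nil).congrLeft M A).trans
      (LinearMap.ringLmapEquivSelf A A M)))

theorem extNilEquiv_mk₀ (M : ModuleCat.{u} A) (f : qList ([] : List A) ⟶ M) :
    extNilEquiv M (Ext.mk₀ f) = f.hom (Submodule.Quotient.mk 1) := by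
  have h : Ext.linearEquiv₀ (R := A) (Ext.mk₀ f) = f :=
    (Ext.mk₀_bijective _ _).1 (Ext.mk₀_linearEquiv₀_apply _)
  simp only [extNilEquiv, LinearEquiv.trans_apply, h]
  rfl

section Step

variable {X X' : ModuleCat.{u} A} {x : A} {g : X ⟶ X'} {w : (x • 𝟙 X) ≫ g = 0}
  (hS : (ShortComplex.mk (x • 𝟙 X) g w).ShortExact) (Y : ModuleCat.{u} A)

/-- The connecting map. -/
noncomputable def deltaExt (n : ℕ) : Ext X Y n →ₗ[A] Ext X' Y (n + 1) :=
  hS.extClass.precompOfLinear A Y (add_comm 1 n)

theorem deltaExt_apply (n : ℕ) (y : Ext X Y n) : deltaExt hS Y n y = hS.extClass.comp y (add_comm 1 n) := rfl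

theorem smul_comp_eq (n : ℕ) (y : Ext X Y n) : (Ext.mk₀ (x • 𝟙 X)).comp y (zero_add n) = x • y := by
  rw [Ext.mk₀_smul, Ext.smul_comp, Ext.mk₀_id_comp]

theorem deltaExt_smul (n : ℕ) (y : Ext X Y n) : deltaExt hS Y n (x • y) = 0 := by
  rw [deltaExt_apply, ← smul_comp_eq Y n y]
  exact hS.extClass_comp_assoc y

theorem exists_of_deltaExt_eq_zero (n : ℕ) (y : Ext X Y n) (h : deltaExt hS Y n y = 0) :
    ∃ y', x • y' = y := by
  obtain ⟨y', hy⟩ := Ext.contravariant_sequence_exact₁ hS Y y (add_comm 1 n) h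
  exact ⟨y', (smul_comp_eq Y n y').symm.trans hy⟩

theorem comp_deltaExt (n : ℕ) (y : Ext X Y n) :
    (Ext.mk₀ g).comp (deltaExt hS Y n y) (zero_add (n + 1)) = 0 :=
  hS.comp_extClass_assoc y (add_comm 1 n)

theorem exists_of_comp_eq_zero (n : ℕ) (z : Ext X' Y (n + 1)) (h : (Ext.mk₀ g).comp z (zero_add _) = 0) :
    ∃ y, deltaExt hS Y n y = z :=
  Ext.contravariant_sequence_exact₃ hS Y z h (add_comm 1 n)

end Step

/-- The top `Ext` out of the quotient by a weakly regular sequence, and vanishing above it. -/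
theorem ext_qList_top (l : List A) : IsWeaklyRegular A l → ∀ (M : Type u) [AddCommGroup M] [Module A M],
    (∀ i, l.length < i → Subsingleton (Ext (qList l) (ModuleCat.of A M) i)) ∧
      Nonempty (Ext (qList l) (ModuleCat.of A M) l.length ≃ₗ[A] (M ⧸ (Ideal.ofList l • ⊤ : Submodule A M))) := by
  induction l using List.reverseRecOn with
  | nil =>
    intro _ M _ _
    refine ⟨fun i hi => ?_, ⟨(extNilEquiv (ModuleCat.of A M)).trans
      (Submodule.quotEquivOfEqBot _ (by rw [Ideal.ofList_nil, Submodule.bot_smul])).symm⟩⟩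
    obtain ⟨j, rfl⟩ : ∃ j, i = j + 1 := ⟨i - 1, by simp at hi; omega⟩
    exact subsingleton_ext_qList_nil _ j
  | append_singleton l x ih =>
    intro h M _ _
    obtain ⟨hl, g, w, hS⟩ := exists_ses l x h
    obtain ⟨hvan, ⟨e⟩⟩ := ih hl M
    let Y := ModuleCat.of A M
    have hsurj : ∀ j, l.length ≤ j → Function.Surjective (deltaExt hS Y j) := fun j hj z => by
      haveI := hvan (j + 1) (by omega)
      exact exists_of_comp_eq_zero hS Y j z (Subsingleton.elim _ _)
    refine ⟨fun i hi => ?_, ?_⟩
    · simp only [List.length_append, List.length_singleton] at hi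
      obtain ⟨j, rfl⟩ : ∃ j, i = j + 1 := ⟨i - 1, by omega⟩
      haveI := hvan j (by omega)
      exact (hsurj j (by omega)).subsingleton
    · rw [List.length_append, List.length_singleton]
      let J0 := (Ideal.ofList l • ⊤ : Submodule A M)
      let φ : M →ₗ[A] Ext (qList (l ++ [x])) Y (l.length + 1) :=
        deltaExt hS Y l.length ∘ₗ e.symm.toLinearMap ∘ₗ J0.mkQ
      have hφ : Function.Surjective φ :=
        (hsurj _ le_rfl).comp (e.symm.surjective.comp (Submodule.mkQ_surjective _))
      have hker : LinearMap.ker φ = (Ideal.ofList (l ++ [x]) • ⊤ : Submodule A M) := by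
        rw [Ideal.ofList_append, Ideal.ofList_singleton, Submodule.sup_smul]
        refine le_antisymm (fun m hm => ?_) (sup_le (fun m hm => ?_) ?_)
        · obtain ⟨y, hy⟩ := exists_of_deltaExt_eq_zero hS Y _ _ (LinearMap.mem_ker.1 hm)
          obtain ⟨m', hm'⟩ := Submodule.mkQ_surjective J0 (e y)
          have h2 : Submodule.Quotient.mk (p := J0) m = Submodule.Quotient.mk (x • m') := by
            rw [Submodule.Quotient.mk_smul, ← Submodule.mkQ_apply, ← Submodule.mkQ_apply, hm', ← map_smul, hy]
            simp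
          rw [Submodule.Quotient.eq] at h2
          exact Submodule.mem_sup.2 ⟨_, h2, x • m',
            Submodule.smul_mem_smul (Ideal.mem_span_singleton_self x) trivial, sub_add_cancel _ _⟩
        · show deltaExt hS Y _ (e.symm (Submodule.Quotient.mk m)) = 0
          rw [(Submodule.Quotient.mk_eq_zero _).2 hm, map_zero, map_zero]
        · refine Submodule.smul_le.2 fun a ha m _ => ?_
          obtain ⟨c, rfl⟩ := Ideal.mem_span_singleton'.1 ha
          show deltaExt hS Y _ (e.symm (J0.mkQ ((c * x) • m))) = 0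
          rw [mul_comm, mul_smul, map_smul, map_smul, deltaExt_smul]
      exact ⟨((Submodule.quotEquivOfEq _ _ hker.symm).trans (φ.quotKerEquivOfSurjective hφ)).symm⟩

section Killed

variable (J : Ideal A) (M : Type u) [AddCommGroup M] [Module A M] (hM : J • (⊤ : Submodule A M) = ⊥)

/-- The map `A/J → M` of an element. -/
noncomputable def actMap (m : M) : ModuleCat.of A (A ⧸ J) ⟶ ModuleCat.of A M :=
  ModuleCat.ofHom (Submodule.liftQ J (LinearMap.toSpanSingleton A M m) fun a ha => by
    rw [LinearMap.mem_ker, LinearMap.toSpanSingleton_apply, ← Submodule.mem_bot A, ← hM]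
    exact Submodule.smul_mem_smul ha trivial)

theorem actMap_add (m m' : M) : actMap J M hM (m + m') = actMap J M hM m + actMap J M hM m' := by
  refine ModuleCat.hom_ext (Submodule.linearMap_qext _ (LinearMap.ext fun z => ?_))
  exact smul_add z m m'

theorem actMap_smul (a : A) (m : M) : actMap J M hM (a • m) = a • actMap J M hM m := by
  refine ModuleCat.hom_ext (Submodule.linearMap_qext _ (LinearMap.ext fun z => ?_))
  exact smul_comm z a m

/-- Combination of classes with coefficients in `M`. -/
noncomputable def combExt {X : ModuleCat.{u} A} {i : ℕ} {ι : Type} [Fintype ι]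
    (e : ι → Ext X (ModuleCat.of A (A ⧸ J)) i) : (ι → M) →ₗ[A] Ext X (ModuleCat.of A M) i where
  toFun v := ∑ j, (e j).comp (Ext.mk₀ (actMap J M hM (v j))) (add_zero i)
  map_add' v w := by
    simp only [Pi.add_apply, actMap_add, Ext.mk₀_add, Ext.comp_add, Finset.sum_add_distrib]
  map_smul' a v := by
    simp only [Pi.smul_apply, actMap_smul, Ext.mk₀_smul, Ext.comp_smul, Finset.smul_sum, RingHom.id_apply]

theorem combExt_apply {X : ModuleCat.{u} A} {i : ℕ} {ι : Type} [Fintype ι]
    (e : ι → Ext X (ModuleCat.of A (A ⧸ J)) i) (v : ι → M) :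
    combExt J M hM e v = ∑ j, (e j).comp (Ext.mk₀ (actMap J M hM (v j))) (add_zero i) := rfl

theorem comp_combExt {X X' : ModuleCat.{u} A} (g : X ⟶ X') {i : ℕ} {ι : Type} [Fintype ι]
    (e : ι → Ext X' (ModuleCat.of A (A ⧸ J)) i) (v : ι → M) :
    (Ext.mk₀ g).comp (combExt J M hM e v) (zero_add i) =
      combExt J M hM (fun j => (Ext.mk₀ g).comp (e j) (zero_add i)) v := by
  rw [combExt_apply, combExt_apply, Ext.comp_sum]
  exact Finset.sum_congr rfl fun j _ => (Ext.comp_assoc_of_third_deg_zero _ _ _ _).symm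

theorem combExt_reindex {X : ModuleCat.{u} A} {i : ℕ} {ι κ : Type} [Fintype ι] [Fintype κ] (σ : κ ≃ ι)
    (e : ι → Ext X (ModuleCat.of A (A ⧸ J)) i) (h : Function.Bijective (combExt J M hM e)) :
    Function.Bijective (combExt J M hM (e ∘ σ)) := by
  have : ⇑(combExt J M hM (e ∘ σ)) = combExt J M hM e ∘ fun v => v ∘ σ.symm := funext fun v => by
    rw [Function.comp_apply, combExt_apply, combExt_apply]
    exact Fintype.sum_equiv σ _ _ fun j => by simp
  rw [this]
  exact h.comp (σ.symm.bijective.comp_right)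

end Killed

theorem smul_ext_eq_zero {J : Ideal A} {M : Type u} [AddCommGroup M] [Module A M]
    (hM : J • (⊤ : Submodule A M) = ⊥) {x : A} (hx : x ∈ J) {X : ModuleCat.{u} A} {i : ℕ}
    (z : Ext X (ModuleCat.of A M) i) : x • z = 0 := by
  have h0 : x • 𝟙 (ModuleCat.of A M) = 0 := by
    ext m
    exact (Submodule.eq_bot_iff _).1 hM (x • m) (Submodule.smul_mem_smul hx trivial)
  rw [Ext.smul_eq_comp_mk₀, h0, Ext.mk₀_zero, Ext.comp_zero]

/-- All `Ext` groups into modules killed by the sequence are free on common classes. -/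
theorem ext_qList_killed (J : Ideal A) (l : List A) : IsWeaklyRegular A l → Ideal.ofList l ≤ J → ∀ i : ℕ,
    ∃ e : Fin (l.length.choose i) → Ext (qList l) (ModuleCat.of A (A ⧸ J)) i,
      ∀ (M : Type u) [AddCommGroup M] [Module A M] (hM : J • (⊤ : Submodule A M) = ⊥),
        Function.Bijective (combExt J M hM e) := by
  induction l using List.reverseRecOn with
  | nil =>
    intro _ _ i
    rcases i with _ | i
    · refine ⟨fun _ => (extNilEquiv _).symm (Ideal.Quotient.mk J 1), fun M _ _ hM => ?_⟩
      let E := extNilEquiv (ModuleCat.of A M)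
      haveI : Unique (Fin (([] : List A).length.choose 0)) := inferInstanceAs (Unique (Fin 1))
      have key : ∀ v : Fin (([] : List A).length.choose 0) → M,
          E (combExt J M hM (fun _ => (extNilEquiv _).symm (Ideal.Quotient.mk J 1)) v) = v default := by
        intro v
        rw [combExt_apply, Fintype.sum_unique]
        obtain ⟨φ, hφ⟩ := (Ext.mk₀_bijective _ _).2
          ((extNilEquiv (ModuleCat.of A (A ⧸ J))).symm (Ideal.Quotient.mk J 1))
        have h1 := congrArg (extNilEquiv _) hφ
        rw [LinearEquiv.apply_symm_apply, extNilEquiv_mk₀] at h1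
        rw [← hφ, Ext.mk₀_comp_mk₀]
        show extNilEquiv _ _ = _
        rw [extNilEquiv_mk₀]
        show (actMap J M hM (v default)).hom (φ.hom (Submodule.Quotient.mk 1)) = _
        rw [h1]
        exact one_smul A (v default)
      have : ⇑(combExt J M hM (fun _ => (extNilEquiv _).symm (Ideal.Quotient.mk J 1))) =
          E.symm ∘ (Equiv.funUnique (Fin (([] : List A).length.choose 0)) M) :=
        funext fun v => E.injective ((key v).trans (by simp))
      rw [this]
      exact E.symm.bijective.comp (Equiv.bijective _)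
    · haveI : IsEmpty (Fin (([] : List A).length.choose (i + 1))) := inferInstanceAs (IsEmpty (Fin 0))
      refine ⟨isEmptyElim, fun M _ _ hM => ⟨fun v w _ => funext isEmptyElim, fun z => ⟨0, ?_⟩⟩⟩
      haveI := subsingleton_ext_qList_nil (ModuleCat.of A M) i
      exact Subsingleton.elim _ _
  | append_singleton l x ih =>
    intro h hJ i
    obtain ⟨hl, g, w, hS⟩ := exists_ses l x h
    have hx : x ∈ J := hJ (by rw [Ideal.ofList_append, Ideal.ofList_singleton]; exact Ideal.mem_sup_right (Ideal.mem_span_singleton_self x))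
    have hJl : Ideal.ofList l ≤ J := le_trans (by rw [Ideal.ofList_append]; exact le_sup_left) hJ
    have hself : J • (⊤ : Submodule A (A ⧸ J)) = ⊥ := by
      rw [eq_bot_iff, Submodule.smul_le]
      intro a ha q _
      obtain ⟨q, rfl⟩ := Submodule.Quotient.mk_surjective _ q
      rw [Submodule.mem_bot, ← Submodule.Quotient.mk_smul]
      exact (Submodule.Quotient.mk_eq_zero _).2 (Ideal.mul_mem_right _ _ ha)
    have hlift : ∀ (k : ℕ) (M : Type u) [AddCommGroup M] [Module A M], J • (⊤ : Submodule A M) = ⊥ →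
        ∀ z : Ext (qList l) (ModuleCat.of A M) k,
          ∃ z', (Ext.mk₀ g).comp z' (zero_add k) = z := fun k M _ _ hM z =>
      Ext.contravariant_sequence_exact₂ hS _ z ((smul_comp_eq _ _ _).trans (smul_ext_eq_zero hM hx z))
    obtain ⟨e2, he2⟩ := ih hl hJl i
    choose L hL using fun j => hlift i _ hself (e2 j)
    have hL2 : ∀ (M : Type u) [AddCommGroup M] [Module A M] (hM : J • (⊤ : Submodule A M) = ⊥) v,
        (Ext.mk₀ g).comp (combExt J M hM L v) (zero_add i) = combExt J M hM e2 v := fun M _ _ hM v => by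
      rw [comp_combExt, show (fun j => (Ext.mk₀ g).comp (L j) (zero_add i)) = e2 from funext hL]
    rcases i with _ | i
    · refine ⟨L ∘ finCongr (by simp), fun M _ _ hM => combExt_reindex J M hM _ L ⟨fun v v' hv => ?_, fun z => ?_⟩⟩
      · exact (he2 M hM).1 (by rw [← hL2, ← hL2, hv])
      · obtain ⟨v, hv⟩ := (he2 M hM).2 ((Ext.mk₀ g).comp z (zero_add 0))
        refine ⟨v, ?_⟩
        haveI : Epi g := hS.epi_g
        obtain ⟨a, rfl⟩ := (Ext.mk₀_bijective _ _).2 z
        obtain ⟨b, hb⟩ := (Ext.mk₀_bijective _ _).2 (combExt J M hM L v)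
        rw [← hb]
        have h1 := hL2 M hM v
        rw [hv, ← hb, Ext.mk₀_comp_mk₀, Ext.mk₀_comp_mk₀] at h1
        rw [(cancel_epi g).1 ((Ext.mk₀_bijective _ _).1 h1)]
    · obtain ⟨e1, he1⟩ := ih hl hJl i
      let e := Sum.elim (fun j => deltaExt hS _ i (e1 j)) L
      have hsplit : ∀ (M : Type u) [AddCommGroup M] [Module A M] (hM : J • (⊤ : Submodule A M) = ⊥) v,
          combExt J M hM e v = deltaExt hS _ i (combExt J M hM e1 (v ∘ Sum.inl)) +
            combExt J M hM L (v ∘ Sum.inr) := fun M _ _ hM v => by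
        rw [combExt_apply, Fintype.sum_sum_type, combExt_apply, combExt_apply, map_sum]
        congr 1
        exact Finset.sum_congr rfl fun j _ => Ext.comp_assoc_of_third_deg_zero _ _ _ (add_comm 1 i)
      refine ⟨e ∘ ((finCongr (by simp [Nat.choose_succ_succ])).trans finSumFinEquiv.symm),
        fun M _ _ hM => combExt_reindex J M hM _ e ⟨?_, fun z => ?_⟩⟩
      · rw [injective_iff_map_eq_zero]
        intro v hv
        rw [hsplit] at hv
        have h2 : combExt J M hM e2 (v ∘ Sum.inr) = 0 := by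
          have h3 := congrArg (fun z => (Ext.mk₀ g).comp z (zero_add (i + 1))) hv
          simp only [Ext.comp_add, Ext.comp_zero, comp_deltaExt hS, zero_add, hL2] at h3
          exact h3
        have hr : v ∘ Sum.inr = 0 := (he2 M hM).1 (h2.trans (map_zero _).symm)
        rw [hr, map_zero, add_zero] at hv
        obtain ⟨y, hy⟩ := exists_of_deltaExt_eq_zero hS _ _ _ hv
        rw [smul_ext_eq_zero hM hx] at hy
        have hl0 : v ∘ Sum.inl = 0 := (he1 M hM).1 (hy.symm.trans (map_zero _).symm)
        funext j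
        rcases j with j | j
        · exact congrFun hl0 j
        · exact congrFun hr j
      · obtain ⟨v2, hv2⟩ := (he2 M hM).2 ((Ext.mk₀ g).comp z (zero_add (i + 1)))
        obtain ⟨y, hy⟩ := exists_of_comp_eq_zero hS _ i (z - combExt J M hM L v2) (by
          rw [sub_eq_add_neg, Ext.comp_add, Ext.comp_neg, hL2, hv2, add_neg_cancel])
        obtain ⟨v1, rfl⟩ := (he1 M hM).2 y
        refine ⟨Sum.elim v1 v2, ?_⟩
        rw [hsplit, Sum.elim_comp_inl, Sum.elim_comp_inr, hy, sub_add_cancel]

end Groth.Agent.KFlatLib
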