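import Groth.Agent.KFlatLib.Ring.RegularExt
import Groth.Agent.TorBridge.LES
import Groth.Agent.CAlgOdd.TorSymm.Main
import Groth.Agent.FlatCxLib.Local
import Mathlib.CategoryTheory.Monoidal.Tor

/-!
# `Tor` out of the quotient by a weakly regular sequence
-/

set_option autoImplicit false
set_option linter.style.haveILetI false

universe u

open CategoryTheory Limits MonoidalCategory RingTheory.Sequence

namespace Groth.Agent.KFlatLib

variable {A : Type u} [CommRing A]

/-- `Tor'` is `Tor`. -/
theorem nonempty_tor'_iso_tor (X Y : ModuleCat.{u} A) (n : ℕ) :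
    Nonempty (((Tor' (ModuleCat.{u} A) n).obj X).obj Y ≅ ((Tor (ModuleCat.{u} A) n).obj X).obj Y) := by
  let α : (tensoringRight (ModuleCat.{u} A)).obj Y ≅ (tensoringLeft (ModuleCat.{u} A)).obj Y :=
    NatIso.ofComponents (fun Z => β_ Z Y) (fun f => BraidedCategory.braiding_naturality_left f Y)
  let φ : ((tensoringRight (ModuleCat.{u} A)).obj Y).leftDerived n ≅
      ((tensoringLeft (ModuleCat.{u} A)).obj Y).leftDerived n :=
    { hom := NatTrans.leftDerived α.hom n
      inv := NatTrans.leftDerived α.inv n
      hom_inv_id := by rw [← NatTrans.leftDerived_comp, α.hom_inv_id, NatTrans.leftDerived_id]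
      inv_hom_id := by rw [← NatTrans.leftDerived_comp, α.inv_hom_id, NatTrans.leftDerived_id] }
  obtain ⟨ψ⟩ := CAlgOdd.TorSymm.nonempty_flip (R := A) n
  exact ⟨φ.app X ≪≫ (ψ.app Y).app X⟩

/-- Torsion by an ideal as maps out of the quotient. -/
noncomputable def torsionEquivHom (J : Ideal A) (M : Type u) [AddCommGroup M] [Module A M] :
    ((A ⧸ J) →ₗ[A] M) ≃ₗ[A] Submodule.torsionBySet A M (J : Set A) where
  toFun φ := ⟨φ (Submodule.Quotient.mk 1), (Submodule.mem_torsionBySet_iff _ _).2 fun a => by
    rw [← map_smul, ← Submodule.Quotient.mk_smul, smul_eq_mul, mul_one,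
      (Submodule.Quotient.mk_eq_zero J).2 a.2, map_zero]⟩
  map_add' _ _ := rfl
  map_smul' _ _ := rfl
  invFun m := Submodule.liftQ J (LinearMap.toSpanSingleton A M (m : M)) fun a ha =>
    (Submodule.mem_torsionBySet_iff _ _).1 m.2 ⟨a, ha⟩
  left_inv φ := Submodule.linearMap_qext _ (LinearMap.ext fun a => by
    show a • φ (Submodule.Quotient.mk 1) = φ (Submodule.Quotient.mk a)
    rw [← map_smul, ← Submodule.Quotient.mk_smul, smul_eq_mul, mul_one])
  right_inv m := Subtype.ext (one_smul A (m : M))

/-- The complex computing `Tor(-, M)`. -/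
noncomputable abbrev torCx (M X : ModuleCat.{u} A) : ChainComplex (ModuleCat.{u} A) ℕ :=
  ((TorBridge.tenF X).mapHomologicalComplex (ComplexShape.down ℕ)).obj (ProjectiveResolution.of M).complex

/-- The homology of `torCx` is `Tor`. -/
noncomputable def torCxIso (M X : ModuleCat.{u} A) (n : ℕ) :
    ((Tor (ModuleCat.{u} A) n).obj X).obj M ≅ (torCx M X).homology n :=
  (ProjectiveResolution.of M).isoLeftDerivedObj (TorBridge.tenF X) n

/-- Functoriality of `torCx`. -/
noncomputable abbrev torCxMap (M : ModuleCat.{u} A) {X Y : ModuleCat.{u} A} (f : X ⟶ Y) : torCx M X ⟶ torCx M Y :=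
  (NatTrans.mapHomologicalComplex ((tensoringLeft (ModuleCat.{u} A)).map f) (ComplexShape.down ℕ)).app
    (ProjectiveResolution.of M).complex

theorem torCxMap_smul (M X : ModuleCat.{u} A) (a : A) : torCxMap M (a • 𝟙 X) = a • 𝟙 (torCx M X) := by
  refine HomologicalComplex.hom_ext _ _ fun j => ModuleCat.hom_ext ?_
  show (a • 𝟙 X : X ⟶ X).hom.rTensor ((ProjectiveResolution.of M).complex.X j) = _
  rw [ModuleCat.hom_smul, ModuleCat.hom_id, LinearMap.rTensor_smul, LinearMap.rTensor_id]
  rfl

theorem exists_shortExact_torCx (M : ModuleCat.{u} A) (S : ShortComplex (ModuleCat.{u} A)) (hS : S.ShortExact) :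
    ∃ w : torCxMap M S.f ≫ torCxMap M S.g = 0, (ShortComplex.mk (torCxMap M S.f) (torCxMap M S.g) w).ShortExact := by
  let P := ProjectiveResolution.of M
  have w : torCxMap M S.f ≫ torCxMap M S.g = 0 := by
    refine HomologicalComplex.hom_ext _ _ fun j => ModuleCat.hom_ext ?_
    show S.g.hom.rTensor (P.complex.X j) ∘ₗ S.f.hom.rTensor (P.complex.X j) = 0
    rw [← LinearMap.rTensor_comp, ← ModuleCat.hom_comp, S.zero, ModuleCat.hom_zero, LinearMap.rTensor_zero]
  refine ⟨w, HomologicalComplex.shortExact_of_degreewise_shortExact _ fun j => ?_⟩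
  haveI : Module.Projective A (P.complex.X j) := (IsProjective.iff_projective _).2 (P.projective j)
  have he : Function.Exact S.f.hom S.g.hom :=
    (ShortComplex.ShortExact.moduleCat_exact_iff_function_exact _).1 hS.exact
  exact
    { exact := (ShortComplex.ShortExact.moduleCat_exact_iff_function_exact _).2
        (rTensor_exact (P.complex.X j) he ((ModuleCat.epi_iff_surjective _).1 hS.epi_g))
      mono_f := (ModuleCat.mono_iff_injective _).2 (Module.Flat.rTensor_preserves_injective_linearMap
        (M := P.complex.X j) S.f.hom ((ModuleCat.mono_iff_injective _).1 hS.mono_f))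
      epi_g := (ModuleCat.epi_iff_surjective _).2
        (LinearMap.rTensor_surjective (P.complex.X j) ((ModuleCat.epi_iff_surjective _).1 hS.epi_g)) }

theorem tor_qList_top (l : List A) : IsWeaklyRegular A l → ∀ (M : Type u) [AddCommGroup M] [Module A M],
    (∀ i, l.length < i → Subsingleton ((torCx (ModuleCat.of A M) (qList l)).homology i)) ∧
      Nonempty ((torCx (ModuleCat.of A M) (qList l)).homology l.length ≃ₗ[A]
        Submodule.torsionBySet A M (Ideal.ofList l : Set A)) := by
  induction l using List.reverseRecOn with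
  | nil =>
    intro _ M _ _
    let Mc := ModuleCat.of A M
    haveI : Module.Flat A (qList ([] : List A)) :=
      Module.Flat.of_linearEquiv (Submodule.quotEquivOfEqBot (Ideal.ofList ([] : List A)) Ideal.ofList_nil)
    refine ⟨fun i hi => ?_, ?_⟩
    · obtain ⟨j, rfl⟩ : ∃ j, i = j + 1 := ⟨i - 1, by simp at hi; omega⟩
      exact ModuleCat.isZero_iff_subsingleton.1
        ((TorBridge.isZero_tor_succ_of_flat (qList ([] : List A)) Mc j).of_iso (torCxIso Mc _ (j + 1)).symm)
    · let e0 : (torCx Mc (qList ([] : List A))).homology 0 ≅ qList ([] : List A) ⊗ Mc :=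
        (torCxIso Mc _ 0).symm ≪≫ (TorBridge.tenF (qList ([] : List A))).leftDerivedZeroIsoSelf.app Mc
      let e1 : TensorProduct A (qList ([] : List A)) M ≃ₗ[A] M :=
        (TensorProduct.congr (Submodule.quotEquivOfEqBot (Ideal.ofList ([] : List A)) Ideal.ofList_nil)
          (LinearEquiv.refl A M)).trans (TensorProduct.lid A M)
      refine ⟨(e0.toLinearEquiv.trans e1).trans (LinearEquiv.ofTop _ ?_).symm⟩
      refine eq_top_iff.2 fun m _ => (Submodule.mem_torsionBySet_iff _ _).2 fun a => ?_
      obtain ⟨a, ha⟩ := a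
      rw [SetLike.mem_coe, Ideal.ofList_nil, Submodule.mem_bot] at ha
      subst ha
      exact zero_smul A m
  | append_singleton l x ih =>
    intro h M _ _
    obtain ⟨hl, g, w, hS⟩ := exists_ses l x h
    obtain ⟨hvan, ⟨e⟩⟩ := ih hl M
    let Mc := ModuleCat.of A M
    obtain ⟨wT, hT⟩ := exists_shortExact_torCx Mc _ hS
    have hex1 : ∀ j, Function.Exact (hT.δ (j + 1) j rfl).hom (HomologicalComplex.homologyMap (torCxMap Mc (x • 𝟙 (qList l))) j).hom :=
      fun j => (ShortComplex.ShortExact.moduleCat_exact_iff_function_exact _).1 (hT.homology_exact₁ (j + 1) j rfl)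
    have hex3 : ∀ j, Function.Exact (HomologicalComplex.homologyMap (torCxMap Mc g) (j + 1)).hom (hT.δ (j + 1) j rfl).hom :=
      fun j => (ShortComplex.ShortExact.moduleCat_exact_iff_function_exact _).1 (hT.homology_exact₃ (j + 1) j rfl)
    have hsm : ∀ j (z : (torCx Mc (qList l)).homology j),
        (HomologicalComplex.homologyMap (torCxMap Mc (x • 𝟙 (qList l))) j).hom z = x • z := fun j z => by
      rw [torCxMap_smul, FlatCxLib.homologyMap_smul_id]
      rfl
    have hinj : ∀ j, l.length ≤ j → Function.Injective (hT.δ (j + 1) j rfl).hom := fun j hj => by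
      haveI := hvan (j + 1) (by omega)
      refine (injective_iff_map_eq_zero _).2 fun z hz => ?_
      obtain ⟨y, rfl⟩ := (hex3 j z).1 hz
      rw [Subsingleton.elim (α := (torCx Mc (qList l)).homology (j + 1)) y 0, map_zero]
    refine ⟨fun i hi => ?_, ?_⟩
    · simp only [List.length_append, List.length_singleton] at hi
      obtain ⟨j, rfl⟩ : ∃ j, i = j + 1 := ⟨i - 1, by omega⟩
      haveI := hvan j (by omega)
      exact (hinj j (by omega)).subsingleton
    · rw [List.length_append, List.length_singleton]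
      let n := l.length
      let ψ : (torCx Mc (qList (l ++ [x]))).homology (n + 1) →ₗ[A] M :=
        (Submodule.torsionBySet A M (Ideal.ofList l : Set A)).subtype ∘ₗ e.toLinearMap ∘ₗ (hT.δ (n + 1) n rfl).hom
      have hψ : Function.Injective ψ := Subtype.val_injective.comp (e.injective.comp (hinj n le_rfl))
      have hr : LinearMap.range ψ = Submodule.torsionBySet A M (Ideal.ofList (l ++ [x]) : Set A) := by
        ext m
        rw [Submodule.mem_torsionBySet_iff]
        constructor
        · rintro ⟨z, rfl⟩ ⟨a, ha⟩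
          rw [SetLike.mem_coe, Ideal.ofList_append, Ideal.ofList_singleton, Submodule.mem_sup] at ha
          obtain ⟨b, hb, c, hc, rfl⟩ := ha
          obtain ⟨d, rfl⟩ := Ideal.mem_span_singleton'.1 hc
          let y := (hT.δ (n + 1) n rfl).hom z
          have h0 : x • y = 0 := (hsm n y).symm.trans ((hex1 n).apply_apply_eq_zero z)
          show (b + d * x) • (e y : M) = 0
          rw [add_smul, mul_smul, (Submodule.mem_torsionBySet_iff _ _).1 (e y).2 ⟨b, hb⟩, ← Submodule.coe_smul,
            ← map_smul, h0, map_zero, Submodule.coe_zero, smul_zero, add_zero]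
        · intro hm
          have hml : m ∈ Submodule.torsionBySet A M (Ideal.ofList l : Set A) :=
            (Submodule.mem_torsionBySet_iff _ _).2 fun a => hm ⟨a, by
              rw [SetLike.mem_coe, Ideal.ofList_append]; exact Ideal.mem_sup_left a.2⟩
          have hxm : x • (⟨m, hml⟩ : Submodule.torsionBySet A M (Ideal.ofList l : Set A)) = 0 :=
            Subtype.ext (hm ⟨x, by rw [SetLike.mem_coe, Ideal.ofList_append, Ideal.ofList_singleton]; exact Ideal.mem_sup_right (Ideal.mem_span_singleton_self x)⟩)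
          obtain ⟨z, hz⟩ := (hex1 n (e.symm ⟨m, hml⟩)).1 (by
            rw [hsm, ← map_smul, hxm, map_zero])
          refine ⟨z, ?_⟩
          show (e ((hT.δ (n + 1) n rfl).hom z) : M) = m
          rw [hz, LinearEquiv.apply_symm_apply]
      exact ⟨(LinearEquiv.ofInjective ψ hψ).trans (LinearEquiv.ofEq _ _ hr)⟩

/-- The top `Tor` out of the quotient by a weakly regular sequence. -/
theorem tor'_qList_top (l : List A) (h : IsWeaklyRegular A l) (M : Type u) [AddCommGroup M] [Module A M] :
    Nonempty (↑(((Tor' (ModuleCat.{u} A) l.length).obj (qList l)).obj (ModuleCat.of A M)) ≃ₗ[A]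
      ((A ⧸ Ideal.ofList l) →ₗ[A] M)) := by
  obtain ⟨φ⟩ := nonempty_tor'_iso_tor (qList l) (ModuleCat.of A M) l.length
  obtain ⟨-, ⟨e⟩⟩ := tor_qList_top l h M
  exact ⟨((φ ≪≫ torCxIso _ _ _).toLinearEquiv.trans e).trans (torsionEquivHom _ M).symm⟩

end Groth.Agent.KFlatLib
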