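import Groth.Agent.KFlatLib.Ring.BaseChangeShriekVia

/-!
# The shriek of a composite
-/

set_option linter.style.haveILetI false
set_option backward.isDefEq.respectTransparency false

universe u

open CategoryTheory CategoryTheory.Limits MonoidalCategory

attribute [local instance] HasDerivedCategory.standard

namespace Groth.Agent.KFlatLib

attribute [local instance] MvPolynomial.algebraMvPolynomial

/-- Base change of the shriek along the adjunction of polynomial variables. -/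
theorem nonempty_shriek_baseChange_poly {P B : Type u} [CommRing P] [CommRing B] [IsNoetherianRing P]
    (ψ : P →+* B) (hψ : Function.Surjective ψ) {R : Dual.D P ⥤ Dual.D B} (a : DRing.restrictD ψ ⊣ R)
    (m : ℕ) [DTen.HasLBase (MvPolynomial.C : P →+* MvPolynomial (Fin m) P)]
    [DTen.HasLBase (MvPolynomial.C : B →+* MvPolynomial (Fin m) B)]
    {R' : Dual.D (MvPolynomial (Fin m) P) ⥤ Dual.D (MvPolynomial (Fin m) B)}
    (a' : DRing.restrictD (MvPolynomial.map (σ := Fin m) ψ) ⊣ R') (X : Dual.D P) (c : ℤ) [X.IsGE c] :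
    Nonempty ((DTen.LBase (MvPolynomial.C : B →+* MvPolynomial (Fin m) B)).obj (R.obj X) ≅
      R'.obj ((DTen.LBase (MvPolynomial.C : P →+* MvPolynomial (Fin m) P)).obj X)) := by
  let Q := MvPolynomial (Fin m) P
  let B' := MvPolynomial (Fin m) B
  have h : (MvPolynomial.C : B →+* B').comp ψ = (MvPolynomial.map (σ := Fin m) ψ).comp MvPolynomial.C :=
    RingHom.ext fun r => (MvPolynomial.map_C _ _).symm
  have hflat : (MvPolynomial.C : P →+* Q).Flat :=
    RingHom.flat_algebraMap_iff.2 (inferInstance : Module.Flat P Q)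
  letI : Algebra P B := ψ.toAlgebra
  haveI : Algebra.IsPushout P B Q B' := inferInstance
  haveI : Algebra.IsPushout P Q B B' := Algebra.IsPushout.symm inferInstance
  haveI := isIso_sqMod h rfl rfl rfl rfl (ModuleCat.of B B)
  exact nonempty_shriek_baseChange_of_pseudoCoherent h
    (fun Y => isIso_cmpBC h (fun k => isIso_baseCmp_of_flat _ hflat _) Y) a a'
    (isPseudoCoherent_res_unit ψ (RingHom.Finite.of_surjective ψ hψ))
    (hasTorAmplitudeIn_resUnitCx _ hflat) X c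

/-- The shriek of a composite is the composite of the shrieks on bounded below objects. -/
theorem nonempty_shriekVia_comp {A B C : Type u} [CommRing A] [CommRing B] [CommRing C] [IsNoetherianRing A]
    (n : ℕ) (ψ : MvPolynomial (Fin n) A →+* B) (hψ : Function.Surjective ψ)
    (ι₁ : A →+* MvPolynomial (Fin n) A) (h₁ : ι₁ = MvPolynomial.C) [DTen.HasLBase ι₁]
    {Rψ : Dual.D (MvPolynomial (Fin n) A) ⥤ Dual.D B} (a₁ : DRing.restrictD ψ ⊣ Rψ)
    (m : ℕ) (χ : MvPolynomial (Fin m) B →+* C) (hχ : Function.Surjective χ)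
    (ι₂ : B →+* MvPolynomial (Fin m) B) (h₂ : ι₂ = MvPolynomial.C) [DTen.HasLBase ι₂]
    {Rχ : Dual.D (MvPolynomial (Fin m) B) ⥤ Dual.D C} (a₂ : DRing.restrictD χ ⊣ Rχ)
    (k : ℕ) (θ : MvPolynomial (Fin k) A →+* C) (hθ : Function.Surjective θ)
    (hcomp : θ.comp MvPolynomial.C = (χ.comp MvPolynomial.C).comp (ψ.comp MvPolynomial.C))
    (ι₃ : A →+* MvPolynomial (Fin k) A) (h₃ : ι₃ = MvPolynomial.C) [DTen.HasLBase ι₃]
    {Rθ : Dual.D (MvPolynomial (Fin k) A) ⥤ Dual.D C} (a₃ : DRing.restrictD θ ⊣ Rθ)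
    (K : Dual.D A) (c : ℤ) [K.IsGE c] :
    Nonempty ((Rθ.obj ((DTen.LBase ι₃).obj K))⟦(k : ℤ)⟧ ≅
      (Rχ.obj ((DTen.LBase ι₂).obj ((Rψ.obj ((DTen.LBase ι₁).obj K))⟦(n : ℤ)⟧)))⟦(m : ℤ)⟧) := by
  subst h₁ h₂
  let P := MvPolynomial (Fin n) A
  let Q := MvPolynomial (Fin m) P
  let M := MvPolynomial (Fin (n + m)) A
  let e : M ≃+* Q := ((MvPolynomial.renameEquiv A
    (finSumFinEquiv.symm.trans (Equiv.sumComm (Fin n) (Fin m)))).trans
      (MvPolynomial.sumAlgEquiv A (Fin m) (Fin n))).toRingEquiv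
  have he : e.toRingHom.comp MvPolynomial.C = (MvPolynomial.C : P →+* Q).comp MvPolynomial.C :=
    RingHom.ext fun r => by simp [e, P, Q, M]
  let ψQ : Q →+* C := χ.comp (MvPolynomial.map ψ)
  have hψQ : Function.Surjective ψQ := hχ.comp (MvPolynomial.map_surjective ψ hψ)
  let θ₀ : M →+* C := ψQ.comp e.toRingHom
  have hθ₀ : θ₀.comp MvPolynomial.C = θ.comp MvPolynomial.C := by
    refine RingHom.ext fun r => ?_
    have hr : e.toRingHom (MvPolynomial.C r) = MvPolynomial.C (MvPolynomial.C r) := RingHom.congr_fun he r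
    rw [hcomp]
    change χ (MvPolynomial.map ψ (e.toRingHom (MvPolynomial.C r))) = _
    rw [hr, MvPolynomial.map_C]
    rfl
  haveI := hasLBase (MvPolynomial.C : A →+* M)
  haveI := hasLBase (MvPolynomial.C : P →+* Q)
  haveI := hasLBase ((MvPolynomial.C : P →+* Q).comp MvPolynomial.C)
  haveI := hasLBase e.toRingHom
  obtain ⟨R', ⟨a'⟩⟩ := exists_shriek (MvPolynomial.map (σ := Fin m) ψ)
  obtain ⟨RQ, ⟨aQ⟩⟩ := exists_shriek ψQ
  obtain ⟨Re, ⟨ae⟩⟩ := exists_shriek e.toRingHom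
  obtain ⟨R₀, ⟨a₀⟩⟩ := exists_shriek θ₀
  obtain ⟨i₁⟩ := nonempty_shriek_independent k (n + m) θ hθ θ₀ (hψQ.comp e.surjective) hθ₀.symm ι₃ h₃
    (MvPolynomial.C : A →+* M) rfl a₃ a₀
  obtain ⟨i₂⟩ := nonempty_shriek_comp (χ := θ₀) rfl ae aQ a₀
  obtain ⟨i₃⟩ := nonempty_iso_of_inverse e.toRingHom e.symm.toRingHom
    (RingHom.ext fun x => e.symm_apply_apply x) (RingHom.ext fun x => e.apply_symm_apply x) ae
  obtain ⟨i₄⟩ := nonempty_LBase_comp (MvPolynomial.C : A →+* M) e.toRingHom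
    ((MvPolynomial.C : P →+* Q).comp MvPolynomial.C) he
  obtain ⟨i₅⟩ := nonempty_LBase_comp (MvPolynomial.C : A →+* P) (MvPolynomial.C : P →+* Q) _ rfl
  obtain ⟨i₆⟩ := nonempty_shriek_comp (χ := ψQ) rfl a' a₂ aQ
  let X : Dual.D P := (DTen.LBase (MvPolynomial.C : A →+* P)).obj K
  haveI := hasLTen A
  haveI : X.IsGE (c + 0) := isGE_LBase (hasTorAmplitudeIn_resUnitCx (MvPolynomial.C : A →+* P)
    (RingHom.flat_algebraMap_iff.2 (inferInstance : Module.Flat A P))) K c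
  obtain ⟨i₇⟩ := nonempty_shriek_baseChange_poly ψ hψ a₁ m a' X (c + 0)
  obtain ⟨i₈⟩ := nonempty_LBase_shift (MvPolynomial.C : B →+* MvPolynomial (Fin m) B) (n : ℤ)
  obtain ⟨i₉⟩ := nonempty_shriek_shift a₂ (n : ℤ)
  exact ⟨i₁.app K ≪≫ (shiftFunctor _ ((n + m : ℕ) : ℤ)).mapIso
      ((i₂.app _).symm ≪≫ RQ.mapIso (i₃.app _ ≪≫ i₄.app K ≪≫ (i₅.app K).symm) ≪≫ (i₆.app _).symm ≪≫
        Rχ.mapIso i₇.symm) ≪≫
    (shiftFunctorAdd' (Dual.D C) (n : ℤ) (m : ℤ) _ (by push_cast; rfl)).app _ ≪≫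
    (shiftFunctor _ (m : ℤ)).mapIso ((i₉.app _).symm ≪≫ Rχ.mapIso (i₈.app _).symm)⟩

end Groth.Agent.KFlatLib
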