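import Groth.Agent.KFlatLib.Ring.RelDualizingGeneral
import Groth.Agent.KFlatLib.Ring.ShriekComp
import Groth.Agent.KFlatLib.Ring.ShriekPerfect

/-!
# Composing relative dualizing complexes over an arbitrary base
-/

set_option linter.style.haveILetI false
set_option backward.isDefEq.respectTransparency false

universe u

open CategoryTheory Limits
open scoped TensorProduct

attribute [local instance] HasDerivedCategory.standard
attribute [local instance] MvPolynomial.algebraMvPolynomial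

namespace Groth.Agent.KFlatLib

/-- Relative dualizing complexes are stable under isomorphism. -/
lemma isRelDualizing_of_iso {R A : Type u} [CommRing R] [CommRing A] [Algebra R A]
    [DRing.HasLBaseChange (Algebra.TensorProduct.includeLeftRingHom : A →+* A ⊗[R] A)]
    (Rμ : Dual.D (A ⊗[R] A) ⥤ Dual.D A) {K L : Dual.D A} (e : K ≅ L) (h : Dual2.IsRelDualizing R A Rμ K) :
    Dual2.IsRelDualizing R A Rμ L := by
  obtain ⟨⟨hpc, p, q, E, hz, hf, ⟨i⟩⟩, ⟨d⟩⟩ := h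
  exact ⟨⟨H9Misc.DRingPC.of_iso' e hpc, p, q, E, hz, hf, ⟨i ≪≫ (DRing.restrictD (algebraMap R A)).mapIso e⟩⟩,
    ⟨Rμ.mapIso ((DRing.LBaseChange _).mapIso e.symm) ≪≫ d⟩⟩

variable {R A : Type u} [CommRing R] [CommRing A] [Algebra R A] [Module.Flat R A] [Algebra.FinitePresentation R A]

/-- The shriek of a flat algebra is base change tensored with the shriek of the ring, over any base. -/
theorem nonempty_shriekVia_iso_ten' {n : ℕ} (ψ : MvPolynomial (Fin n) R →+* A) (hψ : Function.Surjective ψ)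
    (hR : ψ.comp MvPolynomial.C = algebraMap R A) (ι : R →+* MvPolynomial (Fin n) R) (hι : ι = MvPolynomial.C)
    [DTen.HasLBase ι] [DTen.HasLBase (algebraMap R A)] [DTen.HasLTen A]
    {Rψ : Dual.D (MvPolynomial (Fin n) R) ⥤ Dual.D A} (a : DRing.restrictD ψ ⊣ Rψ) (K : Dual.D R) :
    Nonempty ((Rψ.obj ((DTen.LBase ι).obj K))⟦(n : ℤ)⟧ ≅
      (DTen.LTen₂ A).obj ((DTen.LBase (algebraMap R A)).obj K, Rψ.obj ((DTen.unit _)⟦(n : ℤ)⟧))) := by
  haveI := hasLBase ψ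
  obtain ⟨i⟩ := nonempty_shriek_iso_of_perfect (isPerfect_res_presentation' ψ hψ hR) a
  obtain ⟨l⟩ := nonempty_LBase_comp ι ψ (algebraMap R A) (hι ▸ hR : ψ.comp ι = algebraMap R A)
  obtain ⟨t⟩ := nonempty_ten_shift ((DTen.LBase ψ).obj ((DTen.LBase ι).obj K))
    (Rψ.obj (DTen.unit (MvPolynomial (Fin n) R))) (n : ℤ)
  obtain ⟨s⟩ := nonempty_shriek_shift a (n : ℤ)
  exact ⟨(shiftFunctor (Dual.D A) (n : ℤ)).mapIso (i.app _) ≪≫ t ≪≫
    (DTen.LTen₂ A).mapIso (Iso.prod (l.app K) (s.app _).symm)⟩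

variable {B : Type u} [CommRing B]

/-- The shriek of the ring along a composite presentation. -/
theorem exists_shriek_unit_comp {n : ℕ} (ψ : MvPolynomial (Fin n) R →+* A) (hψ : Function.Surjective ψ)
    (hR : ψ.comp MvPolynomial.C = algebraMap R A)
    {Rψ : Dual.D (MvPolynomial (Fin n) R) ⥤ Dual.D A} (a₁ : DRing.restrictD ψ ⊣ Rψ)
    {m : ℕ} (χ : MvPolynomial (Fin m) A →+* B) (hχ : Function.Surjective χ)
    [DTen.HasLBase (MvPolynomial.C : A →+* MvPolynomial (Fin m) A)]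
    {Rχ : Dual.D (MvPolynomial (Fin m) A) ⥤ Dual.D B} (a₂ : DRing.restrictD χ ⊣ Rχ) :
    ∃ (θ : MvPolynomial (Fin (n + m)) R →+* B) (Rθ : Dual.D (MvPolynomial (Fin (n + m)) R) ⥤ Dual.D B),
      Function.Surjective θ ∧ θ.comp MvPolynomial.C = (χ.comp MvPolynomial.C).comp (algebraMap R A) ∧
      Nonempty (DRing.restrictD θ ⊣ Rθ) ∧
      Nonempty (Rθ.obj ((DTen.unit _)⟦((n + m : ℕ) : ℤ)⟧) ≅
        (Rχ.obj ((DTen.LBase (MvPolynomial.C : A →+* MvPolynomial (Fin m) A)).obj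
          (Rψ.obj ((DTen.unit _)⟦(n : ℤ)⟧))))⟦(m : ℤ)⟧) := by
  let P := MvPolynomial (Fin n) R
  let Q := MvPolynomial (Fin m) P
  let M := MvPolynomial (Fin (n + m)) R
  let e : M ≃+* Q := ((MvPolynomial.renameEquiv R
    (finSumFinEquiv.symm.trans (Equiv.sumComm (Fin n) (Fin m)))).trans
      (MvPolynomial.sumAlgEquiv R (Fin m) (Fin n))).toRingEquiv
  have he : e.toRingHom.comp MvPolynomial.C = (MvPolynomial.C : P →+* Q).comp MvPolynomial.C :=
    RingHom.ext fun r => by simp [e, P, Q, M]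
  let ψQ : Q →+* B := χ.comp (MvPolynomial.map ψ)
  have hψQ : Function.Surjective ψQ := hχ.comp (MvPolynomial.map_surjective ψ hψ)
  let θ : M →+* B := ψQ.comp e.toRingHom
  have hθ : θ.comp MvPolynomial.C = (χ.comp MvPolynomial.C).comp (algebraMap R A) := by
    refine RingHom.ext fun r => ?_
    have hr : e.toRingHom (MvPolynomial.C r) = MvPolynomial.C (MvPolynomial.C r) := RingHom.congr_fun he r
    change χ (MvPolynomial.map ψ (e.toRingHom (MvPolynomial.C r))) = _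
    rw [hr, MvPolynomial.map_C, ← hR]
    rfl
  haveI := hasLBase (MvPolynomial.C : P →+* Q)
  haveI := hasLBase e.toRingHom
  obtain ⟨R', ⟨a'⟩⟩ := exists_shriek (MvPolynomial.map (σ := Fin m) ψ)
  obtain ⟨RQ, ⟨aQ⟩⟩ := exists_shriek ψQ
  obtain ⟨Re, ⟨ae⟩⟩ := exists_shriek e.toRingHom
  obtain ⟨R₀, ⟨a₀⟩⟩ := exists_shriek θ
  obtain ⟨i₂⟩ := nonempty_shriek_comp (χ := θ) rfl ae aQ a₀
  obtain ⟨i₃⟩ := nonempty_iso_of_inverse e.toRingHom e.symm.toRingHom
    (RingHom.ext fun x => e.symm_apply_apply x) (RingHom.ext fun x => e.apply_symm_apply x) ae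
  obtain ⟨i₆⟩ := nonempty_shriek_comp (χ := ψQ) rfl a' a₂ aQ
  have h : (MvPolynomial.C : A →+* MvPolynomial (Fin m) A).comp ψ =
      (MvPolynomial.map (σ := Fin m) ψ).comp MvPolynomial.C :=
    RingHom.ext fun r => (MvPolynomial.map_C _ _).symm
  have hflat : (MvPolynomial.C : P →+* Q).Flat :=
    RingHom.flat_algebraMap_iff.2 (inferInstance : Module.Flat P Q)
  have hsq : ∀ Y, IsIso (cmpBC h Y) := by
    letI : Algebra P A := ψ.toAlgebra
    haveI : Algebra.IsPushout P A Q (MvPolynomial (Fin m) A) := inferInstance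
    haveI : Algebra.IsPushout P Q A (MvPolynomial (Fin m) A) := Algebra.IsPushout.symm inferInstance
    haveI := isIso_sqMod h rfl rfl rfl rfl (ModuleCat.of A A)
    exact fun Y => isIso_cmpBC h (fun k => isIso_baseCmp_of_flat _ hflat _) Y
  obtain ⟨i₇⟩ := nonempty_shriek_baseChange_of_perfect h hsq a₁ a' (isPerfect_res_presentation' ψ hψ hR)
  obtain ⟨le⟩ := nonempty_LBase_unit e.toRingHom
  obtain ⟨lC⟩ := nonempty_LBase_unit (MvPolynomial.C : P →+* Q)
  obtain ⟨se⟩ := nonempty_LBase_shift e.toRingHom ((n + m : ℕ) : ℤ)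
  obtain ⟨sC⟩ := nonempty_LBase_shift (MvPolynomial.C : P →+* Q) ((n + m : ℕ) : ℤ)
  obtain ⟨sψ⟩ := nonempty_shriek_shift a₁ (m : ℤ)
  obtain ⟨sA⟩ := nonempty_LBase_shift (MvPolynomial.C : A →+* MvPolynomial (Fin m) A) (m : ℤ)
  obtain ⟨sχ⟩ := nonempty_shriek_shift a₂ (m : ℤ)
  let sh := (shiftFunctorAdd' (Dual.D P) (n : ℤ) (m : ℤ) ((n + m : ℕ) : ℤ) (by push_cast; rfl)).app (DTen.unit P)
  exact ⟨θ, R₀, hψQ.comp e.surjective, hθ, ⟨a₀⟩, ⟨(i₂.app _).symm ≪≫
    RQ.mapIso (i₃.app _ ≪≫ se.app _ ≪≫ (shiftFunctor _ _).mapIso (le ≪≫ lC.symm) ≪≫ (sC.app _).symm) ≪≫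
    (i₆.app _).symm ≪≫ Rχ.mapIso ((i₇.app _).symm ≪≫
      (DTen.LBase _).mapIso (Rψ.mapIso sh ≪≫ sψ.app _) ≪≫ sA.app _) ≪≫ sχ.app _⟩⟩

end Groth.Agent.KFlatLib
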