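import Groth.Agent.KFlatLib.Ring.RelDualizing
import Groth.Agent.KFlatLib.Ring.ShriekComp
import Groth.Prelude.Def_DualSh

/-!
# The relative dualizing complex of a flat algebra of finite presentation
-/

set_option linter.style.haveILetI false
set_option backward.isDefEq.respectTransparency false

universe u

open CategoryTheory Limits
open scoped TensorProduct

attribute [local instance] HasDerivedCategory.standard

namespace Groth.Agent.KFlatLib

/-- The shriek of the identity presented by a polynomial ring in no variables. -/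
lemma nonempty_shriek_isEmpty {A B : Type u} [CommRing A] [CommRing B] [Algebra A B] [Module.Finite A B]
    (χ : MvPolynomial (Fin 0) A →+* B) (hχ : Function.Surjective χ) (hC : χ.comp MvPolynomial.C = algebraMap A B)
    [DTen.HasLBase (MvPolynomial.C : A →+* MvPolynomial (Fin 0) A)]
    {Rχ : Dual.D (MvPolynomial (Fin 0) A) ⥤ Dual.D B} (a : DRing.restrictD χ ⊣ Rχ)
    {R' : Dual.D A ⥤ Dual.D B} (a' : DRing.restrictD (algebraMap A B) ⊣ R') (K : Dual.D A) :
    Nonempty (Rχ.obj ((DTen.LBase (MvPolynomial.C : A →+* MvPolynomial (Fin 0) A)).obj K) ≅ R'.obj K) := by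
  obtain ⟨i⟩ := nonempty_shriek_finite 0 χ hχ MvPolynomial.C rfl hC a a'
  exact ⟨((shiftFunctorZero (Dual.D B) ℤ).app _).symm ≪≫ i.app K⟩

variable {R A : Type u} [CommRing R] [CommRing A] [Algebra R A] [IsNoetherianRing R] [Module.Flat R A]
  [IsNoetherianRing A] {n : ℕ} (ψ : MvPolynomial (Fin n) R →+* A) (hψ : Function.Surjective ψ)
  (hR : ψ.comp MvPolynomial.C = algebraMap R A)
  {Rψ : Dual.D (MvPolynomial (Fin n) R) ⥤ Dual.D A} (a : DRing.restrictD ψ ⊣ Rψ)

include hψ hR a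

/-- The shriek of the ring is perfect relative to the base. -/
theorem isRelPerfect_shriek_unit :
    Dual2.IsRelPerfect R A ((Rψ.obj (DTen.unit _))⟦(n : ℤ)⟧) := by
  obtain ⟨⟨p, q, hpq⟩, hfin⟩ := bounded_finite_shriek_unit ψ hψ hR a
  haveI : DerivedCategory.IsLE ((Rψ.obj (DTen.unit _))⟦(n : ℤ)⟧) q :=
    (DerivedCategory.isLE_iff _ _).2 fun i hi => by
      haveI := hpq i (Or.inr hi)
      exact ModuleCat.isZero_of_subsingleton _
  haveI := hasLTen A
  haveI := hasRHom (A := A)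
  exact ⟨pc'_of_finite_hd _ q hfin, hasFiniteTorDimCx_shriek_unit ψ hψ hR a⟩

/-- The diagonal shriek of the relative dualizing complex is the ring. -/
theorem nonempty_diagonal_shriek [DRing.HasLBaseChange (Algebra.TensorProduct.includeLeftRingHom : A →+* A ⊗[R] A)]
    (Rμ : Dual.D (A ⊗[R] A) ⥤ Dual.D A)
    (adjμ : DRing.restrictD (Algebra.TensorProduct.lmul' R (S := A)).toRingHom ⊣ Rμ) :
    Nonempty (Rμ.obj ((DRing.LBaseChange (Algebra.TensorProduct.includeLeftRingHom : A →+* A ⊗[R] A)).obj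
      ((Rψ.obj (DTen.unit _))⟦(n : ℤ)⟧)) ≅ Dual.inD A A) := by
  let incL : A →+* A ⊗[R] A := Algebra.TensorProduct.includeLeftRingHom
  let μ : A ⊗[R] A →+* A := (Algebra.TensorProduct.lmul' R (S := A)).toRingHom
  let τ : A ⊗[R] A →+* A ⊗[R] A := (Algebra.TensorProduct.comm R A A).toRingHom
  haveI := hasLTen A
  haveI := hasLBase incL
  haveI := hasLBase (incRight R A A)
  haveI := hasLBase τ
  obtain ⟨eB⟩ := nonempty_LBaseChange_iso incL
  let W := (Rψ.obj (DTen.unit (MvPolynomial (Fin n) R)))⟦(n : ℤ)⟧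
  -- the left inclusion is the swap of the right one
  have hτ : τ.comp (incRight R A A) = incL := RingHom.ext fun x => by simp [τ, incL]
  obtain ⟨iτ⟩ := nonempty_LBase_comp (incRight R A A) τ incL hτ
  obtain ⟨Rτ, ⟨aτ⟩⟩ := exists_shriek τ
  have hττ : τ.comp τ = RingHom.id (A ⊗[R] A) := RingHom.ext fun x => by
    induction x with
    | zero => simp
    | tmul x y => simp [τ]
    | add x y hx hy => simp [map_add, hx, hy]
  obtain ⟨iR⟩ := nonempty_iso_of_inverse τ τ hττ hττ aτ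
  have hμτ : μ.comp τ = μ := RingHom.ext fun x => by
    induction x with
    | zero => simp
    | tmul x y => simp [τ, μ, mul_comm]
    | add x y hx hy => simp [map_add, hx, hy]
  let iμ : Rτ ⋙ Rμ ≅ Rμ := Adjunction.rightAdjointUniq
    ((adjμ.comp aτ).ofNatIsoLeft ((H9Misc.DRingRelPC.restrictDCompIso τ μ).symm ≪≫ eqToIso (by rw [hμτ]))) adjμ
  let e₁ : Rμ.obj ((DRing.LBaseChange incL).obj W) ≅ Rμ.obj ((DTen.LBase (incRight R A A)).obj W) :=
    Rμ.mapIso (eB.app W ≪≫ (iτ.app W).symm ≪≫ (iR.app _).symm) ≪≫ iμ.app _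
  -- the left-flat base change
  haveI := hasLBase (algebraMap R (MvPolynomial (Fin n) R))
  haveI := hasLBase (algebraMap A (MvPolynomial (Fin n) A))
  haveI := hasLBase (algebraMap R A)
  obtain ⟨R'', ⟨a''⟩⟩ := exists_shriek (presBC A ψ)
  obtain ⟨t⟩ := nonempty_shriek_baseChange_of_flat_left ψ hψ hR (algebraMap R _) rfl a (presBC A ψ)
    (surjective_presBC ψ hψ hR) (presBC_C ψ) (algebraMap A _) rfl a'' (DTen.unit R)
  obtain ⟨u₁⟩ := nonempty_LBase_unit (algebraMap R (MvPolynomial (Fin n) R))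
  obtain ⟨u₂⟩ := nonempty_LBase_unit (algebraMap R A)
  -- the composition `A → A ⊗ A → A`
  let e₀ := (MvPolynomial.isEmptyAlgEquiv (A ⊗[R] A) (Fin 0)).toRingEquiv
  let χ : MvPolynomial (Fin 0) (A ⊗[R] A) →+* A := μ.comp e₀.toRingHom
  have hμs : Function.Surjective μ := fun x => ⟨x ⊗ₜ 1, by simp [μ]⟩
  have hχ : Function.Surjective χ := hμs.comp e₀.surjective
  have hχC : χ.comp MvPolynomial.C = μ := RingHom.ext fun x =>
    congrArg μ ((MvPolynomial.isEmptyAlgEquiv (A ⊗[R] A) (Fin 0)).commutes x)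
  let θ : MvPolynomial (Fin 0) A →+* A := (MvPolynomial.isEmptyAlgEquiv A (Fin 0)).toRingEquiv.toRingHom
  have hθ : Function.Surjective θ := (MvPolynomial.isEmptyAlgEquiv A (Fin 0)).surjective
  have hθC : θ.comp MvPolynomial.C = RingHom.id A := RingHom.ext fun x =>
    (MvPolynomial.isEmptyAlgEquiv A (Fin 0)).commutes x
  haveI := hasLBase (MvPolynomial.C : (A ⊗[R] A) →+* MvPolynomial (Fin 0) (A ⊗[R] A))
  haveI := hasLBase (MvPolynomial.C : A →+* MvPolynomial (Fin 0) A)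
  obtain ⟨Rχ, ⟨aχ⟩⟩ := exists_shriek χ
  obtain ⟨Rθ, ⟨aθ⟩⟩ := exists_shriek θ
  have hcomp : θ.comp MvPolynomial.C = (χ.comp MvPolynomial.C).comp ((presBC A ψ).comp MvPolynomial.C) := by
    rw [hχC, presBC_C, hθC]
    exact RingHom.ext fun x => by simp [μ]
  haveI : DerivedCategory.IsGE (DTen.unit A) 0 := DerivedCategory.TStructure.t.isGE_of_iso
    ((DerivedCategory.singleFunctorIsoCompQ (ModuleCat.{u} A) 0).app (ModuleCat.of A A)) 0
  obtain ⟨c⟩ := nonempty_shriekVia_comp n (presBC A ψ) (surjective_presBC ψ hψ hR) (algebraMap A _) rfl a''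
    0 χ hχ MvPolynomial.C rfl aχ 0 θ hθ hcomp MvPolynomial.C rfl aθ (DTen.unit A) 0
  have hid : θ.comp MvPolynomial.C = algebraMap A A := hθC
  obtain ⟨iθ⟩ := nonempty_shriek_isEmpty θ hθ hid aθ
    (R' := 𝟭 (Dual.D A)) (Adjunction.id.ofNatIsoLeft (restrictDIdIso A).symm) (DTen.unit A)
  letI : Algebra (A ⊗[R] A) A := μ.toAlgebra
  haveI : Module.Finite (A ⊗[R] A) A := Module.Finite.of_surjective (Algebra.linearMap (A ⊗[R] A) A) hμs
  obtain ⟨iχ⟩ := nonempty_shriek_isEmpty χ hχ hχC aχ (R' := Rμ) adjμ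
    ((R''.obj ((DTen.LBase (algebraMap A _)).obj (DTen.unit A)))⟦(n : ℤ)⟧)
  let z := shiftFunctorZero (Dual.D A) ℤ
  exact ⟨e₁ ≪≫ Rμ.mapIso ((DTen.LBase _).mapIso ((shiftFunctor _ (n : ℤ)).mapIso (Rψ.mapIso u₁.symm)) ≪≫ t ≪≫
      (shiftFunctor _ (n : ℤ)).mapIso (R''.mapIso ((DTen.LBase _).mapIso u₂))) ≪≫
    iχ.symm ≪≫ (z.app _).symm ≪≫ c.symm ≪≫ z.app _ ≪≫ iθ ≪≫
    ((DerivedCategory.singleFunctorIsoCompQ (ModuleCat.{u} A) 0).app (ModuleCat.of A A)).symm⟩

end Groth.Agent.KFlatLib
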