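import Groth.Agent.KFlatLib.Ring.RelPerfectLocal
import Groth.Agent.FlatSyz5.Resolution
import Mathlib.RingTheory.Spectrum.Prime.FreeLocus

/-!
# Finite tor dimension from bounded fibres
-/

set_option linter.style.haveILetI false
set_option backward.isDefEq.respectTransparency false

universe u

open CategoryTheory CategoryTheory.Limits MonoidalCategory
open scoped TensorProduct

attribute [local instance] HasDerivedCategory.standard

namespace Groth.Agent.KFlatLib

open H9Misc

section Free

variable {P : Type u} [CommRing P] {F : DRing.Cx P}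

/-- The quotient of a term by the boundaries. -/
abbrev coker (F : DRing.Cx P) (i : ℤ) : Type u := F.X i ⧸ LinearMap.range (F.d (i - 1) i).hom

lemma finitePresentation_coker (hF : DRing.TermwiseFiniteFree F) (i : ℤ) :
    Module.FinitePresentation P (coker F i) := by
  haveI := (hF i).1
  haveI := (hF (i - 1)).1
  haveI := (hF i).2
  haveI : Module.FinitePresentation P (F.X i) := Module.finitePresentation_of_projective P _
  refine Module.finitePresentation_of_surjective (Submodule.mkQ _) (Submodule.mkQ_surjective _) ?_
  rw [Submodule.ker_mkQ, LinearMap.range_eq_map]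
  exact (Module.Finite.fg_top).map _

/-- Universal exactness at a point makes the next quotient free there. -/
lemma mem_freeLocus_coker (hF : DRing.TermwiseFiniteFree F) (q : PrimeSpectrum P) (j : ℤ)
    (h : ∀ N : ModuleCat.{u} (Localization.AtPrime q.asIdeal),
      ((DRingLTensor.tensC N).obj ((DRingLTensor.extC' (algebraMap P (Localization.AtPrime q.asIdeal))).obj F)).ExactAt (j - 1)) :
    q ∈ Module.freeLocus P (coker F j) := by
  let S := Localization.AtPrime q.asIdeal
  let φ := algebraMap P S
  haveI : Module.Flat P S := IsLocalization.flat _ q.asIdeal.primeCompl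
  let S₀ : ModuleCat.{u} P := ModuleCat.of P S
  let G : DRing.Cx P := ((tensorRight S₀).mapHomologicalComplex (ComplexShape.up ℤ)).obj F
  have hG : ∀ n, Module.Flat P (G.X n) := fun n => by
    haveI := (hF n).2
    exact inferInstanceAs (Module.Flat P (F.X n ⊗[P] S))
  have hC := DRingTor.flat_range_quotient hG (j - 1 - 1) (j - 1) j (by omega) (by omega) fun M => by
    -- read exactness over the local ring
    have h₁ := DRingNilp.exactAt_restrict φ ((ModuleCat.extendScalars φ).obj M) (j - 1)
      (h ((ModuleCat.extendScalars φ).obj M))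
    let e : tensorRight ((ModuleCat.restrictScalars φ).obj ((ModuleCat.extendScalars φ).obj M)) ≅
        tensorRight S₀ ⋙ tensorRight M :=
      (tensoringRight (ModuleCat.{u} P)).mapIso
        ((DRingTorLocal.extResIso φ).symm.app M ≪≫ β_ M (DRingTorDescent.resB φ) ≪≫
          whiskerRightIso (LinearEquiv.toModuleIso (X₁ := (DRingTorDescent.resB φ : Type u))
            (m₁ := (DRingTorDescent.resB φ).isModule) (X₂ := S) (m₂ := inferInstance)
            { toFun := fun x => x
              invFun := fun x => x
              map_add' := fun _ _ => rfl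
              left_inv := fun _ => rfl
              right_inv := fun _ => rfl
              map_smul' := fun r (x : S) => (Algebra.smul_def r x).symm } : DRingTorDescent.resB φ ≅ S₀) M) ≪≫
        NatIso.ofComponents (fun X => (α_ X S₀ M).symm) (fun f => (associator_inv_naturality_left f S₀ M))
    exact DRingRightExact.exactAt_iso_map e F (j - 1) h₁
  have hflat : Module.Flat P (coker F j ⊗[P] S) := by
    let g := (LinearMap.range (F.d (j - 1) j).hom).mkQ
    have hex : Function.Exact ((F.d (j - 1) j).hom.rTensor S) (g.rTensor S) :=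
      rTensor_exact S (LinearMap.exact_map_mkQ_range _) (Submodule.mkQ_surjective _)
    haveI : Module.Flat P ((F.X j ⊗[P] S) ⧸ LinearMap.range ((F.d (j - 1) j).hom.rTensor S)) := hC
    exact Module.Flat.of_linearEquiv
      (Function.Exact.linearEquivOfSurjective hex (LinearMap.rTensor_surjective S (Submodule.mkQ_surjective _))).symm
  haveI := finitePresentation_coker hF j
  haveI : Module.Flat P (S ⊗[P] coker F j) := Module.Flat.of_linearEquiv (TensorProduct.comm P _ _)
  haveI : Module.Flat S (S ⊗[P] coker F j) :=
    (Module.flat_iff_of_isLocalization (S := S) (p := q.asIdeal.primeCompl) (M := S ⊗[P] coker F j)).2 inferInstance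
  rw [Module.mem_freeLocus_iff_tensor q S]
  exact Module.free_of_flat_of_isLocalRing

/-- Where the cohomology below vanishes the free loci increase downwards. -/
lemma freeLocus_coker_anti (hF : DRing.TermwiseFiniteFree F) (i : ℤ) (h : F.ExactAt (i - 1)) :
    Module.freeLocus P (coker F i) ⊆ Module.freeLocus P (coker F (i - 1)) := by
  intro q hq
  let S := Localization.AtPrime q.asIdeal
  haveI : Module.Flat P S := IsLocalization.flat _ q.asIdeal.primeCompl
  rw [Module.mem_freeLocus_iff_tensor q S] at hq ⊢
  rw [HomologicalComplex.exactAt_iff' _ (i - 1 - 1) (i - 1) i (by simp) (by simp),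
    ShortComplex.ShortExact.moduleCat_exact_iff_function_exact] at h
  let u : coker F (i - 1) →ₗ[P] F.X i := Submodule.liftQ _ (F.d (i - 1) i).hom
    (LinearMap.range_le_ker_iff.2 (LinearMap.ext fun x => h.apply_apply_eq_zero x))
  have hu : Function.Injective u := by
    rw [← LinearMap.ker_eq_bot, LinearMap.ker_eq_bot']
    intro x hx
    obtain ⟨x, rfl⟩ := Submodule.Quotient.mk_surjective _ x
    exact (Submodule.Quotient.mk_eq_zero _).2 ((h x).1 hx)
  let g : F.X i →ₗ[P] coker F i := Submodule.mkQ _
  have hex : Function.Exact u g := fun x => by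
    rw [show g x = Submodule.Quotient.mk x from rfl, Submodule.Quotient.mk_eq_zero]
    constructor
    · rintro ⟨y, rfl⟩
      exact ⟨Submodule.Quotient.mk y, rfl⟩
    · rintro ⟨y, rfl⟩
      obtain ⟨y, rfl⟩ := Submodule.Quotient.mk_surjective _ y
      exact ⟨y, rfl⟩
  haveI := (hF i).2
  haveI : Module.Free S (S ⊗[P] coker F i) := hq
  have hex' : Function.Exact (u.baseChange S) (g.baseChange S) := Module.Flat.lTensor_exact S hex
  have hu' : Function.Injective (u.baseChange S) := Module.Flat.lTensor_preserves_injective_linearMap (M := S) u hu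
  haveI := FlatSyz5.flat_ker S (g.baseChange S) (LinearMap.lTensor_surjective S (Submodule.mkQ_surjective _))
  haveI : Module.Flat S (S ⊗[P] coker F (i - 1)) :=
    Module.Flat.of_linearEquiv (LinearEquiv.ofInjective _ hu' ≪≫ₗ LinearEquiv.ofEq _ _ hex'.linearMap_ker_eq.symm)
  haveI := finitePresentation_coker hF (i - 1)
  exact Module.free_of_flat_of_isLocalRing

end Free

section Main

variable {R P : Type u} [CommRing R] [CommRing P] [Algebra R P] {d : ℕ} (eP : MvPolynomial (Fin d) R ≃ₐ[R] P)

include eP in
/-- A pseudo-coherent complex over affine space, bounded below with bounded below fibres, has finite tor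
dimension over the base. -/
theorem finiteTorDim_of_fibres {F : DRing.Cx P} (hF : DRing.TermwiseFiniteFree F) (b : ℤ)
    (hb : DRing.VanishesAbove F b) (a₀ : ℤ) (hbelow : ∀ i, i < a₀ → F.ExactAt i)
    (hfib : ∀ p : PrimeSpectrum R, ∃ a : ℤ, ∀ i, i < a →
      ((DRingLTensor.tensC (ModuleCat.of R p.asIdeal.ResidueField)).obj
        ((DTen.resCx (algebraMap R P)).obj F)).ExactAt i) :
    DRing.HasFiniteTorDimCx R ((DRing.restrictD (algebraMap R P)).obj (DerivedCategory.Q.obj F)) := by
  let U : ℕ → Set (PrimeSpectrum P) := fun k => Module.freeLocus P (coker F (min a₀ b - k))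
  have hUo : ∀ k, IsOpen (U k) := fun k => by
    haveI := finitePresentation_coker hF (min a₀ b - k)
    exact Module.isOpen_freeLocus
  have hUm : Monotone U := monotone_nat_of_le_succ fun k => by
    have := freeLocus_coker_anti hF (min a₀ b - k) (hbelow _ (by omega))
    refine this.trans (le_of_eq ?_)
    show Module.freeLocus P (coker F (min a₀ b - k - 1)) = Module.freeLocus P (coker F (min a₀ b - ((k + 1 : ℕ) : ℤ)))
    rw [show min a₀ b - ((k + 1 : ℕ) : ℤ) = min a₀ b - k - 1 by push_cast; ring]
  have hcov : ∀ q : PrimeSpectrum P, ∃ k, q ∈ U k := by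
    intro q
    let p := q.asIdeal.comap (algebraMap R P)
    let kk := p.ResidueField
    obtain ⟨a, ha⟩ := hfib ⟨p, inferInstance⟩
    let S := Localization.AtPrime q.asIdeal
    let φ := algebraMap P S
    let g₀ : kk →ₐ[R] IsLocalRing.ResidueField S :=
      Ideal.ResidueField.mapₐ p q.asIdeal (IsScalarTower.toAlgHom R R P) rfl
    have hFS : DRing.TermwiseFiniteFree ((DRingLTensor.extC' φ).obj F) := fun i =>
      DRingRestrict.finFree_extendScalars φ _ (hF i).1 (hF i).2
    have hbS : DRing.VanishesAbove ((DRingLTensor.extC' φ).obj F) b := fun i hi =>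
      (ModuleCat.extendScalars.{u, u, u} φ).map_isZero (hb i hi)
    let a' := min a (min a₀ b)
    have hfibS : ∀ i : ℤ, (i < a' ∨ b < i) →
        ((DRingLTensor.extC' (incRight R kk S)).obj ((DRingLTensor.extC' φ).obj F)).ExactAt i := by
      intro i hi
      rcases hi with hi | hi
      · haveI : IsLocalization (⊥ : Submonoid R) R := IsLocalization.self bot_le
        have hP : ((DRingLTensor.extC' (incRight R kk P)).obj F).ExactAt i :=
          exactAt_fibre_of_atPrime (Rp := R) ⊥ i (algebraMap R P) (by simp) (ha i (by omega))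
        let f : kk ⊗[R] P →+* kk ⊗[R] S :=
          (Algebra.TensorProduct.map (AlgHom.id kk kk) (IsScalarTower.toAlgHom R P S)).toRingHom
        have hf : f.Flat := flat_map_localization (kk := kk) q.asIdeal.primeCompl
        have hc : (incRight R kk S).comp φ = f.comp (incRight R kk P) := RingHom.ext fun x =>
          (Algebra.TensorProduct.map_tmul (AlgHom.id kk kk) (IsScalarTower.toAlgHom R P S) 1 x).symm
        refine (DRingFibre.exactAt_extC_comp φ (incRight R kk S) _ rfl i).2 ?_
        rw [hc]
        refine (DRingFibre.exactAt_extC_comp (incRight R kk P) f _ rfl i).1 ?_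
        haveI := ModuleCat.preservesFiniteLimits_extendScalars_of_flat hf
        haveI : PreservesFiniteColimits (ModuleCat.extendScalars.{u, u, u} f) := by
          haveI : (ModuleCat.extendScalars.{u, u, u} f).IsLeftAdjoint :=
            (ModuleCat.extendRestrictScalarsAdj f).isLeftAdjoint
          infer_instance
        exact hP.map (ModuleCat.extendScalars.{u, u, u} f)
      · refine (HomologicalComplex.exactAt_iff_isZero_homology _ i).2 (ShortComplex.isZero_homology_of_isZero_X₂ _ ?_)
        exact (ModuleCat.extendScalars.{u, u, u} (incRight R kk S)).map_isZero (hbS i hi)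
    refine ⟨(min a₀ b - (a' - d)).toNat, mem_freeLocus_coker hF q _ fun N => ?_⟩
    exact exactAt_tensC_of_localized_fibre q.asIdeal.primeCompl eP g₀ hFS hbS a' b hfibS _
      (Or.inl (by omega)) N
  obtain ⟨t, ht⟩ := isCompact_univ.elim_finite_subcover U hUo fun q _ => Set.mem_iUnion.2 (hcov q)
  let k := t.sup id
  have huniv : Module.freeLocus P (coker F (min a₀ b - k)) = Set.univ := Set.eq_univ_of_forall fun q => by
    obtain ⟨j, hj, hq⟩ := Set.mem_iUnion₂.1 (ht (Set.mem_univ q))
    exact hUm (Finset.le_sup (f := id) hj) hq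
  let c := min a₀ b - k
  haveI := finitePresentation_coker hF c
  haveI : Module.Projective P (coker F c) := (Module.freeLocus_eq_univ_iff).1 huniv
  haveI : F.IsGE c := (CochainComplex.isGE_iff F c).2 fun i hi => hbelow i (by omega)
  haveI : IsIso (DerivedCategory.Q.map (F.πTruncGE c)) :=
    (DerivedCategory.isIso_Q_map_iff_quasiIso _ _).2 inferInstance
  let emb := ComplexShape.embeddingUpIntGE c
  let φ := algebraMap R P
  haveI : Module.Flat R P := Module.Flat.of_linearEquiv eP.symm.toLinearEquiv
  have hflatP : ∀ (X : ModuleCat.{u} P), Module.Flat P X → Module.Flat R ((ModuleCat.restrictScalars φ).obj X) := by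
    intro X hX
    letI : Module R X := Module.compHom _ φ
    haveI : IsScalarTower R P X := IsScalarTower.of_algebraMap_smul fun _ _ => rfl
    exact Module.Flat.trans R P X
  refine ⟨c, b, (DTen.resCx φ).obj (F.truncGE c), fun i hi => ?_, fun i => ?_,
    ⟨((DTen.resFactors φ).app _).symm ≪≫
      (DRing.restrictD φ).mapIso (asIso (DerivedCategory.Q.map (F.πTruncGE c))).symm⟩⟩
  · refine (ModuleCat.restrictScalars φ).map_isZero ?_
    rcases hi with hi | hi
    · exact CochainComplex.isZero_of_isStrictlyGE _ c i hi
    · obtain ⟨n, rfl⟩ : ∃ n : ℕ, c + n = i := ⟨(i - c).toNat, by omega⟩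
      exact (hb _ hi).of_iso (HomologicalComplex.truncGEXIso F emb (i := n) rfl
        (fun hbd => by have := (ComplexShape.boundaryGE_embeddingUpIntGE_iff c n).1 hbd; omega))
  · refine hflatP _ ?_
    rcases lt_or_ge i c with hia | hia
    · haveI := ModuleCat.subsingleton_of_isZero (CochainComplex.isZero_of_isStrictlyGE (F.truncGE c) c i hia)
      infer_instance
    obtain ⟨n, rfl⟩ : ∃ n : ℕ, c + n = i := ⟨(i - c).toNat, by omega⟩
    rcases Nat.eq_zero_or_pos n with rfl | hn
    · let ι₀ : (F.truncGE c).X (c + (0 : ℕ)) ≅ ModuleCat.of P (coker F c) :=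
        HomologicalComplex.truncGEXIsoOpcycles F emb (i := 0) rfl
          ((ComplexShape.boundaryGE_embeddingUpIntGE_iff c 0).2 rfl) ≪≫
        eqToIso (congrArg (fun j : ℤ => F.opcycles j) (show c + ((0 : ℕ) : ℤ) = c by simp)) ≪≫
        ((cokernelIsCokernel (F.d (c - 1) c)).coconePointUniqueUpToIso
          (F.opcyclesIsCokernel (c - 1) c (by simp))).symm ≪≫ ModuleCat.cokernelIsoRangeQuotient _
      exact Module.Flat.of_linearEquiv ι₀.toLinearEquiv
    · let ι₁ := HomologicalComplex.truncGEXIso F emb (i := n) rfl
        (fun hbd => by have := (ComplexShape.boundaryGE_embeddingUpIntGE_iff c n).1 hbd; omega)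
      haveI := (hF (c + n)).2
      exact Module.Flat.of_linearEquiv (M := F.X (c + n)) ι₁.toLinearEquiv

end Main

end Groth.Agent.KFlatLib
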