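import Groth.Agent.KFlatLib.Ring.RelPerfect
import Groth.Agent.TriCat.GrothInst

/-!
# `RHom(A, -) = - ⊗^L RHom(A, R)` for a perfect algebra
-/

set_option linter.style.haveILetI false
set_option backward.isDefEq.respectTransparency false

universe u

open CategoryTheory CategoryTheory.Limits Pretriangulated MonoidalCategory

attribute [local instance] HasDerivedCategory.standard

namespace Groth.Agent.KFlatLib

instance additive_mixN {R A : Type u} [CommRing R] [CommRing A] (φ : R →+* A) (N : DRing.Cx A) :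
    (mixN φ N).Additive :=
  inferInstanceAs (DTen.extCx φ ⋙
    (curriedTensor (ModuleCat.{u} A)).map₂CochainComplex.flip.obj N).Additive

variable {R A : Type u} [CommRing R] [CommRing A] {φ : R →+* A} [DTen.HasLTenMix φ] (D : EvData φ)

/-- `E ↦ E ⊗^L_R N`. -/
noncomputable def EvData.G : Dual.D R ⥤ Dual.D A :=
  (Functor.curry.obj (DTen.LTenMix φ)).flip.obj (DerivedCategory.Q.obj D.N)

/-- The counit of the mixed tensor product with `N` fixed. -/
noncomputable def EvData.εN : DerivedCategory.Q ⋙ D.G ⟶ mixN φ D.N ⋙ DerivedCategory.Q where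
  app K := (DTen.εMix φ).app (K, D.N)
  naturality K K' f := by
    have h := (DTen.εMix φ).naturality (Prod.mkHom f (𝟙 D.N))
    refine (Eq.trans (congrArg (fun z => (DTen.LTenMix φ).map z ≫ _) ?_) h).trans
      (congrArg (_ ≫ ·) ?_)
    · exact Prod.ext rfl (DerivedCategory.Q.map_id D.N).symm
    · exact congrArg DerivedCategory.Q.map (mixT_map_left φ f D.N)

lemma EvData.isIso_εN {K : DRing.Cx R} (hK : KFlat (curriedTensor (ModuleCat.{u} R)) K) :
    IsIso (D.εN.app K) := isIso_εMix φ hK D.N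

/-- The map to the chosen resolution, in `D(R)`. -/
noncomputable abbrev coverQ (K : DRing.Cx R) :
    DerivedCategory.Q.obj ((ringCover R).P.obj K) ⟶ DerivedCategory.Q.obj K :=
  DerivedCategory.Q.map ((ringCover R).ψ.app K)

instance isIso_coverQ (K : DRing.Cx R) : IsIso (coverQ K) :=
  (DerivedCategory.isIso_Q_map_iff_quasiIso _ _).2 ((ringCover R).quasiIso_ψ K)

/-- The evaluation on complexes. -/
noncomputable def EvData.τ₀ :
    DerivedCategory.Q ⋙ D.G ⋙ DRing.restrictD φ ⟶ (DerivedCategory.Q : DRing.Cx R ⥤ Dual.D R) where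
  app K := (DRing.restrictD φ).map (inv (D.G.map (coverQ K)) ≫ D.εN.app ((ringCover R).P.obj K)) ≫
    D.γ _ (kFlat_ringRes K) ≫ coverQ K
  naturality K K' f := by
    let f' := (ringCover R).P.map f
    have hψ : coverQ K ≫ DerivedCategory.Q.map f = DerivedCategory.Q.map f' ≫ coverQ K' := by
      rw [coverQ, coverQ, ← Functor.map_comp, ← Functor.map_comp]
      exact congrArg _ ((ringCover R).ψ.naturality f).symm
    have hG : D.G.map (DerivedCategory.Q.map f) ≫ inv (D.G.map (coverQ K')) =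
        inv (D.G.map (coverQ K)) ≫ D.G.map (DerivedCategory.Q.map f') := by
      rw [IsIso.comp_inv_eq, Category.assoc, IsIso.eq_inv_comp]
      exact ((D.G.map_comp _ _).symm.trans (congrArg _ hψ)).trans (D.G.map_comp _ _)
    have hε := D.εN.naturality f'
    simp only [Functor.comp_map] at hε
    have hγ := D.γ_natural (kFlat_ringRes K) (kFlat_ringRes K') f'
    simp only [Functor.comp_map, Category.assoc]
    rw [← Functor.map_comp_assoc, reassoc_of% hG, hε, ← Category.assoc (inv _), Functor.map_comp,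
      Category.assoc, reassoc_of% hγ, hψ]

/-- The evaluation. -/
noncomputable def EvData.τ : D.G ⋙ DRing.restrictD φ ⟶ 𝟭 (Dual.D R) :=
  Localization.liftNatTrans DerivedCategory.Q (HomologicalComplex.quasiIso _ (ComplexShape.up ℤ))
    (DerivedCategory.Q ⋙ D.G ⋙ DRing.restrictD φ) DerivedCategory.Q _ _ D.τ₀

lemma EvData.τ_app_Q {K : DRing.Cx R} (hK : KFlat (curriedTensor (ModuleCat.{u} R)) K) :
    D.τ.app (DerivedCategory.Q.obj K) = (DRing.restrictD φ).map (D.εN.app K) ≫ D.γ K hK := by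
  have h : D.τ.app (DerivedCategory.Q.obj K) = D.τ₀.app K := by
    rw [EvData.τ, Localization.liftNatTrans_app]
    exact (Category.id_comp _).trans (Category.comp_id _)
  have hε := D.εN.naturality ((ringCover R).ψ.app K)
  simp only [Functor.comp_map] at hε
  rw [h]
  refine (cancel_epi ((DRing.restrictD φ).map (D.G.map (coverQ K)))).1 ?_
  dsimp only [EvData.τ₀]
  rw [← Functor.map_comp_assoc, IsIso.hom_inv_id_assoc, ← Functor.map_comp_assoc]
  erw [hε]
  rw [Functor.map_comp, Category.assoc, D.γ_natural (kFlat_ringRes K) hK ((ringCover R).ψ.app K)]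

variable [DTen.HasRHomRel φ]

/-- The comparison with the relative internal hom. -/
noncomputable def EvData.η : D.G ⟶ DTen.RHomRel φ where
  app E := (DTen.relAdj φ).homEquiv _ _ (D.τ.app E)
  naturality E E' f := by
    rw [← Adjunction.homEquiv_naturality_right, ← Adjunction.homEquiv_naturality_left]
    exact congrArg _ (D.τ.naturality f)

lemma EvData.isIso_η_of_bijective {E : Dual.D R}
    (h : ∀ m : ℤ, Function.Bijective fun g : (DTen.unit A)⟦m⟧ ⟶ D.G.obj E =>
      (DRing.restrictD φ).map g ≫ D.τ.app E) : IsIso (D.η.app E) :=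
  isIso_of_bijective_unit _ fun m => by
    have : (fun g : (DTen.unit A)⟦m⟧ ⟶ D.G.obj E => g ≫ D.η.app E) =
        fun g => (DTen.relAdj φ).homEquiv _ _ ((DRing.restrictD φ).map g ≫ D.τ.app E) :=
      funext fun g => ((DTen.relAdj φ).homEquiv_naturality_left g (D.τ.app E)).symm
    rw [this]
    exact ((DTen.relAdj φ).homEquiv _ _).bijective.comp (h m)

lemma EvData.bijective_of_isIso_η {E : Dual.D R} [IsIso (D.η.app E)] (Z : Dual.D A) :
    Function.Bijective fun g : Z ⟶ D.G.obj E => (DRing.restrictD φ).map g ≫ D.τ.app E := by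
  have : (fun g : Z ⟶ D.G.obj E => (DRing.restrictD φ).map g ≫ D.τ.app E) =
      fun g => ((DTen.relAdj φ).homEquiv _ _).symm (g ≫ D.η.app E) :=
    funext fun g => ((((DTen.relAdj φ).homEquiv _ _).symm_apply_eq).2
      ((DTen.relAdj φ).homEquiv_naturality_left g (D.τ.app E)).symm).symm
  rw [this]
  exact ((DTen.relAdj φ).homEquiv _ _).symm.bijective.comp
    (Iso.homToEquiv (asIso (D.η.app E)) (Z := Z)).bijective

variable (hD : ∀ Z : Dual.D A, Function.Bijective
  fun g : Z ⟶ DerivedCategory.Q.obj D.N => (DRing.restrictD φ).map g ≫ D.ev)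

include hD in
lemma EvData.isIso_η_unit (n : ℤ) : IsIso (D.η.app ((DTen.unit R)⟦n⟧)) := by
  refine (NatTrans.isIso_app_iff_of_iso D.η ((DerivedCategory.Q.commShiftIso n).app
    (𝟙_ (DRing.Cx R)))).1 (D.isIso_η_of_bijective fun m => ?_)
  haveI := D.isIso_εN (kFlat_unitSh (A := R) n)
  have : (fun g : (DTen.unit A)⟦m⟧ ⟶ D.G.obj (DerivedCategory.Q.obj (unitSh R n)) =>
      (DRing.restrictD φ).map g ≫ D.τ.app (DerivedCategory.Q.obj (unitSh R n))) =
      (fun g => (DRing.restrictD φ).map g ≫ D.γ (unitSh R n) (kFlat_unitSh n)) ∘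
        (fun g => g ≫ D.εN.app (unitSh R n)) := funext fun g => by
    simp only [Function.comp_apply, D.τ_app_Q (kFlat_unitSh n), Functor.map_comp, Category.assoc]
  change Function.Bijective fun g : (DTen.unit A)⟦m⟧ ⟶ D.G.obj (DerivedCategory.Q.obj (unitSh R n)) =>
    (DRing.restrictD φ).map g ≫ D.τ.app (DerivedCategory.Q.obj (unitSh R n))
  rw [this]
  exact (D.bijective_γ_unitSh hD n _).comp
    (Iso.homToEquiv (asIso (D.εN.app (unitSh R n))) (Z := (DTen.unit A)⟦m⟧)).bijective

omit [DTen.HasRHomRel φ] in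
lemma shortExact_mixN (N : DRing.Cx A) {F G : DRing.Cx R} (g : F ⟶ G) :
    ((coneSeq g).map (mixN φ N)).ShortExact := by
  refine shortExact₁_of_splitting (T := curriedTensor (ModuleCat.{u} A)) N ((coneSeq g).map (DTen.extCx φ))
    fun n => ⟨?_⟩
  exact (coneSeqSplitting g n).map (ModuleCat.extendScalars.{u, u, u} φ)

omit [DTen.HasRHomRel φ] in
lemma EvData.preservesZeroMorphisms_G : D.G.PreservesZeroMorphisms := by
  refine Functor.preservesZeroMorphisms_of_map_zero_object ?_
  let Z : DRing.Cx R := HomologicalComplex.zero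
  have hZ : IsZero Z := HomologicalComplex.isZero_zero
  have hk : KFlat (curriedTensor (ModuleCat.{u} R)) Z :=
    kFlat_of_contractible (Homotopy.ofEq (hZ.eq_of_src _ _))
  haveI := D.isIso_εN hk
  exact IsZero.isoZero ((((mixN φ D.N).map_isZero hZ |> DerivedCategory.Q.map_isZero).of_iso
    (asIso (D.εN.app Z))).of_iso (D.G.mapIso
      ((DerivedCategory.Q.map_isZero hZ).isoZero).symm))

omit [DTen.HasRHomRel φ] in
lemma EvData.homExact_G : HomExact D.G := by
  intro T hT Z φ' hφ'
  obtain ⟨K₀, L₀, g₀, ⟨e₀⟩⟩ :=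
    (DerivedCategory.mem_distTriang_iff T.invRotate).1 (inv_rot_of_distTriang _ hT)
  let g := (ringCover R).P.map g₀
  let K := (ringCover R).P.obj K₀
  let L := (ringCover R).P.obj L₀
  obtain ⟨e, -⟩ : ∃ e : T.invRotate ≅
      DerivedCategory.Q.mapTriangle.obj (CochainComplex.mappingCone.triangle g), True :=
    ⟨e₀ ≪≫ isoTriangleOfIso₁₂ _ _ (DerivedCategory.mappingCone_triangle_distinguished g₀)
      (DerivedCategory.mappingCone_triangle_distinguished g)
      (asIso (coverQ K₀)).symm (asIso (coverQ L₀)).symm (by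
        change DerivedCategory.Q.map g₀ ≫ inv (coverQ L₀) = inv (coverQ K₀) ≫ DerivedCategory.Q.map g
        rw [IsIso.comp_inv_eq, Category.assoc, IsIso.eq_inv_comp, coverQ, coverQ, ← Functor.map_comp,
          ← Functor.map_comp]
        exact congrArg _ ((ringCover R).ψ.naturality g₀).symm), trivial⟩
  let S := coneSeq g
  let F := D.G
  have hK := kFlat_ringRes (R := R) K₀
  have hL := kFlat_ringRes (R := R) L₀
  haveI i₁ : IsIso (D.εN.app S.X₁) := D.isIso_εN hL
  haveI i₂ : IsIso (D.εN.app S.X₂) := D.isIso_εN (kFlat_cone g hK hL)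
  haveI i₃ : IsIso (D.εN.app S.X₃) := D.isIso_εN (hK.shift 1)
  have hg : (φ' ≫ F.map e.hom.hom₃) ≫ F.map (DerivedCategory.Q.map S.g) = 0 := by
    have e₃ := e.hom.comm₃
    let cs := (DerivedCategory.Q.commShiftIso (1 : ℤ)).app K
    haveI := D.preservesZeroMorphisms_G
    refine (cancel_mono (F.map cs.hom)).1 ?_
    refine Eq.trans ?_ zero_comp.symm
    erw [Category.assoc, Category.assoc, ← F.map_comp, ← F.map_comp]
    have e₄ : e.hom.hom₃ ≫ DerivedCategory.Q.map S.g ≫ cs.hom =
        T.mor₂ ≫ ((shiftFunctorCompIsoId (Dual.D R) (-1 : ℤ) 1 (by omega)).inv.app T.obj₃ ≫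
          (shiftFunctor (Dual.D R) (1 : ℤ)).map e.hom.hom₁) := by
      refine Eq.trans ?_ (Category.assoc _ _ _)
      exact e₃.symm
    erw [e₄, F.map_comp, ← Category.assoc, hφ', zero_comp]
  obtain ⟨ψ, hψ⟩ := Triangle.coyoneda_exact₂ _
    (DerivedCategory.triangleOfSES_distinguished (shortExact_mixN (φ := φ) D.N g))
    ((φ' ≫ F.map e.hom.hom₃) ≫ D.εN.app S.X₂) (by
      refine (Category.assoc _ _ _).trans ((congrArg (_ ≫ ·) (D.εN.naturality S.g).symm).trans ?_)
      exact (Category.assoc _ _ _).symm.trans ((congrArg (· ≫ _) hg).trans zero_comp))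
  refine ⟨ψ ≫ inv (D.εN.app S.X₁) ≫ F.map e.inv.hom₂, ?_⟩
  have hψ' : (ψ ≫ inv (D.εN.app S.X₁)) ≫ F.map (DerivedCategory.Q.map S.f) = φ' ≫ F.map e.hom.hom₃ := by
    refine (cancel_mono (D.εN.app S.X₂)).1 ?_
    refine Eq.trans ?_ hψ.symm
    refine (Category.assoc _ _ _).trans ((congrArg (_ ≫ ·) (D.εN.naturality S.f)).trans ?_)
    refine (Category.assoc _ _ _).trans (congrArg (ψ ≫ ·) ?_)
    exact IsIso.inv_hom_id_assoc _ _
  have e₅ : e.inv.hom₂ ≫ T.mor₁ = DerivedCategory.Q.map S.f ≫ e.inv.hom₃ := e.inv.comm₂.symm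
  refine (Category.assoc _ _ _).trans ?_
  rw [Category.assoc]
  erw [← F.map_comp, e₅, F.map_comp]
  rw [← Category.assoc, ← Category.assoc]
  erw [hψ', Category.assoc, ← F.map_comp]
  refine (congrArg (φ' ≫ ·) ((congrArg F.map ?_).trans (F.map_id _))).trans (Category.comp_id φ')
  exact congrArg TriangleMorphism.hom₃ e.hom_inv_id

omit [DTen.HasLTenMix φ] in
lemma homExact_RHomRel : HomExact (DTen.RHomRel φ) := by
  haveI : (DRing.restrictD φ).PreservesZeroMorphisms :=
    Functor.preservesZeroMorphisms_of_isLeftAdjoint _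
  exact ((show HomExact (𝟭 (Dual.D R)) from fun T hT _ ψ h => by
    obtain ⟨χ, hχ⟩ := Triangle.coyoneda_exact₂ T hT ψ h
    exact ⟨χ, hχ.symm⟩).comp_rightAdjoint (DTen.relAdj φ)).of_iso (Functor.leftUnitor _)

omit [DTen.HasLTenMix φ] [DTen.HasRHomRel φ] in
lemma isPerfect_shift_of {M : Dual.D R} (h : DRing.IsPerfect R M) (m : ℤ) :
    DRing.IsPerfect R (M⟦m⟧) := by
  obtain ⟨E, a, b, hv, hp, ⟨e⟩⟩ := h
  exact ⟨E⟦m⟧, a - m, b - m, fun i hi => hv (i + m) (by omega), fun i => hp (i + m),
    ⟨(DerivedCategory.Q.commShiftIso m).app E ≪≫ (shiftFunctor (Dual.D R) m).mapIso e⟩⟩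

omit [DTen.HasLTenMix φ] [DTen.HasRHomRel φ] in
lemma preservesColimitsOfShape_mixN (N : DRing.Cx A) (J : Type u) :
    PreservesColimitsOfShape (Discrete J) (mixN φ N) := by
  haveI : (ModuleCat.extendScalars φ : ModuleCat.{u} R ⥤ ModuleCat.{u} A).IsLeftAdjoint :=
    Adjunction.isLeftAdjoint (G := (ModuleCat.restrictScalars φ : ModuleCat.{u} A ⥤ ModuleCat.{u} R))
      (ModuleCat.extendRestrictScalarsAdj φ)
  haveI : PreservesColimitsOfShape (Discrete J) (DTen.extCx φ) :=
    ⟨fun {K} => ⟨fun {c} hc => ⟨HomologicalComplex.isColimitOfEval _ _ fun n =>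
      isColimitOfPreserves (HomologicalComplex.eval (ModuleCat.{u} R) (ComplexShape.up ℤ) n ⋙
        ModuleCat.extendScalars φ) hc⟩⟩⟩
  let T := curriedTensor (ModuleCat.{u} A)
  haveI : ∀ M : ModuleCat.{u} A, PreservesColimitsOfShape (Discrete J) (T.obj M) := fun M =>
    inferInstanceAs (PreservesColimitsOfShape (Discrete J) (tensorLeft M))
  haveI := preservesColimitsOfShape₂ T (Discrete J) N
  haveI : PreservesColimitsOfShape (Discrete J) (T.map₂CochainComplex.flip.obj N) :=
    preservesColimitsOfShape_of_natIso (symmIso curriedTensorFlipIso N).symm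
  exact comp_preservesColimitsOfShape (DTen.extCx φ) _

lemma EvData.isIso_η_sigma (hA : DRing.IsPerfect R ((DRing.restrictD φ).obj (DTen.unit A)))
    {J : Type u} (K : J → DRing.Cx R) (hK : ∀ j, KFlat (curriedTensor (ModuleCat.{u} R)) (K j))
    (h : ∀ j, IsIso (D.η.app (DerivedCategory.Q.obj (K j)))) :
    IsIso (D.η.app (DerivedCategory.Q.obj (∐ K))) := by
  classical
  haveI := preservesColimitsOfShape_mixN (φ := φ) D.N J
  haveI : ∀ M : ModuleCat.{u} R, PreservesColimitsOfShape (Discrete J)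
      ((curriedTensor (ModuleCat.{u} R)).obj M) := fun M =>
    inferInstanceAs (PreservesColimitsOfShape (Discrete J) (tensorLeft M))
  have hS : KFlat (curriedTensor (ModuleCat.{u} R)) (∐ K) := kFlat_sigma K hK
  haveI := D.isIso_εN hS
  haveI : (DRing.restrictD φ).Additive := inferInstance
  refine D.isIso_η_of_bijective fun m => ?_
  let Z := (DTen.unit A)⟦m⟧
  let Gι := fun j => D.G.map (DerivedCategory.Q.map (Sigma.ι K j))
  have hτ : ∀ j (g : Z ⟶ D.G.obj (DerivedCategory.Q.obj (K j))),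
      (DRing.restrictD φ).map (g ≫ Gι j) ≫ D.τ.app (DerivedCategory.Q.obj (∐ K)) =
        ((DRing.restrictD φ).map g ≫ D.τ.app (DerivedCategory.Q.obj (K j))) ≫
          DerivedCategory.Q.map (Sigma.ι K j) := fun j g => by
    rw [Functor.map_comp, Category.assoc, Category.assoc]
    exact congrArg (_ ≫ ·) (D.τ.naturality _)
  have hsum : ∀ (s : Finset J) (g : ∀ j, Z ⟶ D.G.obj (DerivedCategory.Q.obj (K j))),
      (DRing.restrictD φ).map (∑ j ∈ s, g j ≫ Gι j) ≫ D.τ.app (DerivedCategory.Q.obj (∐ K)) =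
        ∑ j ∈ s, ((DRing.restrictD φ).map (g j) ≫ D.τ.app (DerivedCategory.Q.obj (K j))) ≫
          DerivedCategory.Q.map (Sigma.ι K j) := fun s g => by
    rw [Functor.map_sum, Preadditive.sum_comp]
    exact Finset.sum_congr rfl fun j _ => hτ j (g j)
  refine ⟨fun g₁ g₂ hg => sub_eq_zero.1 ?_, fun f => ?_⟩
  · have h0 : (DRing.restrictD φ).map (g₁ - g₂) ≫ D.τ.app (DerivedCategory.Q.obj (∐ K)) = 0 := by
      rw [Functor.map_sub, Preadditive.sub_comp]
      exact sub_eq_zero.2 hg
    generalize g₁ - g₂ = g at h0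
    let c := PreservesCoproduct.iso (mixN φ D.N) K
    obtain ⟨s, a, ha⟩ := finF_of_iso (Iso.refl _) (finF_shift_unit (A := A) m) J
      (fun j => (mixN φ D.N).obj (K j)) ((g ≫ D.εN.app (∐ K)) ≫ DerivedCategory.Q.map c.hom)
    have hε : ∀ j, Gι j ≫ D.εN.app (∐ K) ≫ DerivedCategory.Q.map c.hom =
        D.εN.app (K j) ≫ DerivedCategory.Q.map (Sigma.ι (fun j => (mixN φ D.N).obj (K j)) j) := fun j => by
      have hn := D.εN.naturality (Sigma.ι K j)
      simp only [Functor.comp_map] at hn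
      have hc : (mixN φ D.N).map (Sigma.ι K j) ≫ c.hom =
          Sigma.ι (fun j => (mixN φ D.N).obj (K j)) j := by
        rw [← ι_comp_sigmaComparison (G := mixN φ D.N) (f := K) j, Category.assoc,
          ← PreservesCoproduct.inv_hom]
        exact (congrArg (_ ≫ ·) c.inv_hom_id).trans (Category.comp_id _)
      erw [reassoc_of% hn]
      rw [← Functor.map_comp, hc]
    haveI := fun j => D.isIso_εN (hK j)
    let a' := fun j => a j ≫ inv (D.εN.app (K j))
    have hg' : g = ∑ j ∈ s, a' j ≫ Gι j := by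
      rw [← cancel_mono (D.εN.app (∐ K) ≫ DerivedCategory.Q.map c.hom), ← Category.assoc, ha,
        Preadditive.sum_comp]
      refine Finset.sum_congr rfl fun j _ => ?_
      rw [Category.assoc, hε j]
      simp only [a', Category.assoc]
      exact congrArg (a j ≫ ·) (IsIso.inv_hom_id_assoc _ _).symm
    rw [hg', hsum] at h0
    rw [hg']
    refine Finset.sum_eq_zero fun i hi => ?_
    have hi0 := congrArg (· ≫ DerivedCategory.Q.map (sigmaProj K i)) h0
    simp only [Preadditive.sum_comp, Category.assoc, zero_comp, ← Functor.map_comp] at hi0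
    rw [Finset.sum_eq_single i (fun j _ hj => by
        rw [ι_sigmaProj_ne K hj, Functor.map_zero, comp_zero, comp_zero]) (fun h => absurd hi h),
      ι_sigmaProj_self, CategoryTheory.Functor.map_id] at hi0
    erw [Category.comp_id] at hi0
    haveI := h i
    have ha0 : a' i = 0 := (D.bijective_of_isIso_η Z).1 (by
      simp only [Functor.map_zero, zero_comp]
      exact hi0)
    rw [ha0, zero_comp]
  · obtain ⟨s, a, ha⟩ := finF_of_isPerfect
      (M := (DRing.restrictD φ).obj Z) (by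
        obtain ⟨E, p, q, hv, hp, ⟨e⟩⟩ := isPerfect_shift_of hA m
        exact ⟨E, p, q, hv, hp, ⟨e ≪≫ (((DRing.restrictD φ).commShiftIso m).app _).symm⟩⟩) J K f
    choose g hg using fun j => haveI := h j; (D.bijective_of_isIso_η (E := DerivedCategory.Q.obj (K j)) Z).2 (a j)
    refine ⟨∑ j ∈ s, g j ≫ Gι j, ?_⟩
    change (DRing.restrictD φ).map _ ≫ _ = f
    rw [hsum, ha]
    exact Finset.sum_congr rfl fun j _ => congrArg (· ≫ _) (hg j)

include hD in
theorem EvData.isIso_η (hA : DRing.IsPerfect R ((DRing.restrictD φ).obj (DTen.unit A))) :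
    IsIso D.η := by
  suffices h : ∀ E n, IsIso (D.η.app (E⟦(n : ℤ)⟧)) by
    haveI : ∀ E, IsIso (D.η.app E) := fun E =>
      (NatTrans.isIso_app_iff_of_iso D.η ((shiftFunctorZero (Dual.D R) ℤ).app E)).1 (h E 0)
    exact NatIso.isIso_of_isIso_app _
  let P : ObjectProperty (Dual.D R) := fun E => ∀ n : ℤ, IsIso (D.η.app (E⟦n⟧))
  haveI : P.IsClosedUnderIsomorphisms := ⟨fun e h n =>
    (NatTrans.isIso_app_iff_of_iso D.η ((shiftFunctor (Dual.D R) n).mapIso e)).1 (h n)⟩
  refine fun E => derived_induction P ?_ ?_ ?_ E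
  · intro T hT h₁ h₂ n
    haveI := D.preservesZeroMorphisms_G
    haveI : (DTen.RHomRel φ).PreservesZeroMorphisms :=
      haveI := (DTen.relAdj φ).isRightAdjoint; inferInstance
    have hT' := rot_of_distTriang _ (Triangle.shift_distinguished T hT n)
    refine isIso₂_of_homExact D.homExact_G homExact_RHomRel D.η _ hT' ?_ (h₂ n) ?_ ?_
    · refine (NatTrans.isIso_app_iff_of_iso D.η ?_).1 (h₁ n)
      exact ((shiftFunctorCompIsoId (Dual.D R) (1 : ℤ) (-1) (by omega)).app _).symm
    · refine (NatTrans.isIso_app_iff_of_iso D.η ?_).1 (h₁ (n + 1))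
      exact (shiftFunctorAdd' (Dual.D R) n 1 (n + 1) rfl).app T.obj₁
    · refine (NatTrans.isIso_app_iff_of_iso D.η ?_).1 (h₂ (n + 1))
      exact (shiftFunctorAdd' (Dual.D R) n 1 (n + 1) rfl).app T.obj₂
  · intro J K h n
    let K' := fun j => (ringCover R).P.obj ((K j)⟦n⟧)
    haveI : IsIso (DerivedCategory.Q.map (Limits.Sigma.map (f := K') fun j => (ringCover R).ψ.app ((K j)⟦n⟧))) :=
      (DerivedCategory.isIso_Q_map_iff_quasiIso _ _).2
        (TriCat.quasiIso_sigmaMap _ fun j => (ringCover R).quasiIso_ψ _)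
    haveI : PreservesColimit (Discrete.functor K) (shiftFunctor (DRing.Cx R) n) := inferInstance
    refine (NatTrans.isIso_app_iff_of_iso D.η
      (asIso (DerivedCategory.Q.map (Limits.Sigma.map (f := K') fun j => (ringCover R).ψ.app ((K j)⟦n⟧))) ≪≫
        DerivedCategory.Q.mapIso (PreservesCoproduct.iso (shiftFunctor (DRing.Cx R) n) K).symm ≪≫
          (DerivedCategory.Q.commShiftIso n).app (∐ K))).1
      (D.isIso_η_sigma hA K' (fun j => kFlat_ringRes _) fun j => ?_)
    exact (NatTrans.isIso_app_iff_of_iso D.η (asIso (coverQ _) ≪≫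
      (DerivedCategory.Q.commShiftIso n).app (K j))).2 (h j n)
  · intro k n
    let e : DerivedCategory.Q.obj (unitSh R (-k)) ≅ DerivedCategory.Q.obj
        ((HomologicalComplex.single (ModuleCat.{u} R) (ComplexShape.up ℤ) k).obj (ModuleCat.of R R)) :=
      DerivedCategory.Q.mapIso (((CochainComplex.singleFunctors (ModuleCat.{u} R)).shiftIso (-k) k 0
        (by omega)).app _)
    refine (NatTrans.isIso_app_iff_of_iso D.η (?_ : (DTen.unit R)⟦-k + n⟧ ≅ _)).1 (D.isIso_η_unit hD _)
    exact (shiftFunctorAdd' (Dual.D R) (-k) n (-k + n) rfl).app _ ≪≫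
      (shiftFunctor (Dual.D R) n).mapIso
        (((DerivedCategory.Q.commShiftIso (-k)).app (𝟙_ (DRing.Cx R))).symm ≪≫ e)

variable (φ) in
theorem nonempty_RHomRel_iso (hA : DRing.IsPerfect R ((DRing.restrictD φ).obj (DTen.unit A))) :
    Nonempty (DTen.RHomRel φ ≅
      (Functor.curry.obj (DTen.LTenMix φ)).flip.obj ((DTen.RHomRel φ).obj (DTen.unit R))) := by
  let B := (DTen.RHomRel φ).obj (DTen.unit R)
  let N := DerivedCategory.Q.objPreimage B
  let eN : DerivedCategory.Q.obj N ≅ B := DerivedCategory.Q.objObjPreimageIso B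
  obtain ⟨M, b, hM, hb, -, -⟩ := TriCat.exists_kInjective_resolution'.{u} (𝟙_ (DRing.Cx R))
  haveI := hM
  obtain ⟨a, ha⟩ := exists_Q_map ((DTen.resFactors φ).inv.app N ≫
    (DRing.restrictD φ).map eN.hom ≫ (DTen.relAdj φ).counit.app (DTen.unit R) ≫ DerivedCategory.Q.map b)
  let D : EvData φ := ⟨N, M, a, b, hb⟩
  haveI : QuasiIso b := hb
  have hev : D.ev = (DRing.restrictD φ).map eN.hom ≫ (DTen.relAdj φ).counit.app (DTen.unit R) := by
    change (DTen.resFactors φ).hom.app N ≫ DerivedCategory.Q.map a ≫ inv (DerivedCategory.Q.map b) = _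
    rw [ha]
    simp
  have hD : ∀ Z : Dual.D A, Function.Bijective
      fun g : Z ⟶ DerivedCategory.Q.obj D.N => (DRing.restrictD φ).map g ≫ D.ev := fun Z => by
    have : (fun g : Z ⟶ DerivedCategory.Q.obj D.N => (DRing.restrictD φ).map g ≫ D.ev) =
        fun g => ((DTen.relAdj φ).homEquiv _ _).symm (g ≫ eN.hom) := funext fun g => by
      rw [hev, Adjunction.homEquiv_counit, Functor.map_comp, Category.assoc]
    rw [this]
    exact ((DTen.relAdj φ).homEquiv _ _).symm.bijective.comp (Iso.homToEquiv eN (Z := Z)).bijective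
  haveI := D.isIso_η hD hA
  exact ⟨(asIso D.η).symm ≪≫ (Functor.curry.obj (DTen.LTenMix φ)).flip.mapIso eN⟩

end Groth.Agent.KFlatLib
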