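import Groth.Agent.KFlatLib.Ring.RelPerfectRows
import Groth.Agent.KFlatLib.Ring.TorPoly
import Groth.Agent.KFlatLib.Ring.ResLBase
import Groth.Agent.KFlatLib.Ring.BaseChangeShriekVia
import Groth.Agent.H9Misc.DRingFibre
import Groth.Agent.H9Misc.DRingTorLTensor
import Groth.Agent.H9Misc.DRingRelPC
import Groth.Agent.H9Misc.DRingTorLocal

/-!
# Tor amplitude at a point from the fibre
-/

set_option linter.style.haveILetI false
set_option backward.isDefEq.respectTransparency false

universe u

open CategoryTheory CategoryTheory.Limits MonoidalCategory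
open scoped TensorProduct

attribute [local instance] HasDerivedCategory.standard

namespace Groth.Agent.KFlatLib

open H9Misc

variable {R P S kk : Type u} [CommRing R] [CommRing P] [CommRing S] [Field kk] [Algebra R P] [Algebra R S]
  [Algebra P S] [IsScalarTower R P S] [Algebra R kk] (M₁ : Submonoid P) [IsLocalization M₁ S] {d : ℕ}
  (eP : MvPolynomial (Fin d) R ≃ₐ[R] P)

include M₁ in
/-- The localized fibre is flat over the fibre. -/
theorem flat_map_localization :
    (Algebra.TensorProduct.map (AlgHom.id kk kk) (IsScalarTower.toAlgHom R P S)).toRingHom.Flat := by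
  let f : kk ⊗[R] P →ₐ[kk] kk ⊗[R] S :=
    Algebra.TensorProduct.map (AlgHom.id kk kk) (IsScalarTower.toAlgHom R P S)
  letI : Algebra (kk ⊗[R] P) (kk ⊗[R] S) := f.toRingHom.toAlgebra
  letI : Algebra P (kk ⊗[R] P) := (incRight R kk P).toAlgebra
  letI : Algebra S (kk ⊗[R] S) := (incRight R kk S).toAlgebra
  letI : Algebra P (kk ⊗[R] S) := ((incRight R kk S).comp (algebraMap P S)).toAlgebra
  haveI : IsScalarTower P S (kk ⊗[R] S) := IsScalarTower.of_algebraMap_eq fun _ => rfl
  haveI : IsScalarTower kk (kk ⊗[R] P) (kk ⊗[R] S) :=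
    IsScalarTower.of_algebraMap_eq fun r => (f.commutes r).symm
  haveI : IsScalarTower P (kk ⊗[R] P) (kk ⊗[R] S) := IsScalarTower.of_algebraMap_eq fun x =>
    ((Algebra.TensorProduct.map_tmul (AlgHom.id kk kk) (IsScalarTower.toAlgHom R P S) 1 x)).symm
  haveI : IsScalarTower R P (kk ⊗[R] P) := IsScalarTower.of_algebraMap_eq fun r =>
    ((Algebra.TensorProduct.includeRight : P →ₐ[R] kk ⊗[R] P).commutes r).symm
  haveI : IsScalarTower R S (kk ⊗[R] S) := IsScalarTower.of_algebraMap_eq fun r =>
    ((Algebra.TensorProduct.includeRight : S →ₐ[R] kk ⊗[R] S).commutes r).symm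
  haveI : IsScalarTower R P (kk ⊗[R] S) := IsScalarTower.of_algebraMap_eq fun r => by
    rw [IsScalarTower.algebraMap_apply R S (kk ⊗[R] S), IsScalarTower.algebraMap_apply R P S,
      ← IsScalarTower.algebraMap_apply P S (kk ⊗[R] S)]
  haveI : IsScalarTower R (kk ⊗[R] P) (kk ⊗[R] S) := IsScalarTower.of_algebraMap_eq fun r => by
    rw [IsScalarTower.algebraMap_apply R kk (kk ⊗[R] P), IsScalarTower.algebraMap_apply R kk (kk ⊗[R] S)]
    exact (IsScalarTower.algebraMap_apply kk (kk ⊗[R] P) (kk ⊗[R] S) _)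
  haveI : Algebra.IsPushout R kk P (kk ⊗[R] P) := TensorProduct.isPushout
  haveI : Algebra.IsPushout R kk S (kk ⊗[R] S) := TensorProduct.isPushout
  haveI : Algebra.IsPushout R P kk (kk ⊗[R] P) := Algebra.IsPushout.symm inferInstance
  haveI : Algebra.IsPushout R S kk (kk ⊗[R] S) := Algebra.IsPushout.symm inferInstance
  haveI : Algebra.IsPushout P S (kk ⊗[R] P) (kk ⊗[R] S) :=
    (Algebra.IsPushout.comp_iff R P kk (kk ⊗[R] P)).1 inferInstance
  haveI : IsLocalization (Algebra.algebraMapSubmonoid (kk ⊗[R] P) M₁) (kk ⊗[R] S) :=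
    (Algebra.isLocalization_iff_isPushout (R := P) M₁ S).2
      (Algebra.IsPushout.symm inferInstance)
  haveI : Module.Flat (kk ⊗[R] P) (kk ⊗[R] S) :=
    IsLocalization.flat _ (Algebra.algebraMapSubmonoid (kk ⊗[R] P) M₁)
  exact RingHom.flat_algebraMap_iff.2 (inferInstance : Module.Flat (kk ⊗[R] P) (kk ⊗[R] S))

include M₁ eP in
/-- The localized fibre of affine space has tor dimension at most its number of variables. -/
theorem torDimLE_localized_fibre (N : Type u) [AddCommGroup N] [Module (kk ⊗[R] S) N] :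
    DRing.HasTorDimLE (kk ⊗[R] S) d N := by
  let f : kk ⊗[R] P →ₐ[kk] kk ⊗[R] S :=
    Algebra.TensorProduct.map (AlgHom.id kk kk) (IsScalarTower.toAlgHom R P S)
  letI : Algebra (kk ⊗[R] P) (kk ⊗[R] S) := f.toRingHom.toAlgebra
  letI : Algebra P (kk ⊗[R] P) := (incRight R kk P).toAlgebra
  letI : Algebra S (kk ⊗[R] S) := (incRight R kk S).toAlgebra
  letI : Algebra P (kk ⊗[R] S) := ((incRight R kk S).comp (algebraMap P S)).toAlgebra
  haveI : IsScalarTower P S (kk ⊗[R] S) := IsScalarTower.of_algebraMap_eq fun _ => rfl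
  haveI : IsScalarTower kk (kk ⊗[R] P) (kk ⊗[R] S) :=
    IsScalarTower.of_algebraMap_eq fun r => (f.commutes r).symm
  haveI : IsScalarTower P (kk ⊗[R] P) (kk ⊗[R] S) := IsScalarTower.of_algebraMap_eq fun x =>
    ((Algebra.TensorProduct.map_tmul (AlgHom.id kk kk) (IsScalarTower.toAlgHom R P S) 1 x)).symm
  haveI : IsScalarTower R P (kk ⊗[R] P) := IsScalarTower.of_algebraMap_eq fun r =>
    ((Algebra.TensorProduct.includeRight : P →ₐ[R] kk ⊗[R] P).commutes r).symm
  haveI : IsScalarTower R S (kk ⊗[R] S) := IsScalarTower.of_algebraMap_eq fun r =>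
    ((Algebra.TensorProduct.includeRight : S →ₐ[R] kk ⊗[R] S).commutes r).symm
  haveI : IsScalarTower R P (kk ⊗[R] S) := IsScalarTower.of_algebraMap_eq fun r => by
    rw [IsScalarTower.algebraMap_apply R S (kk ⊗[R] S), IsScalarTower.algebraMap_apply R P S,
      ← IsScalarTower.algebraMap_apply P S (kk ⊗[R] S)]
  haveI : IsScalarTower R (kk ⊗[R] P) (kk ⊗[R] S) := IsScalarTower.of_algebraMap_eq fun r => by
    rw [IsScalarTower.algebraMap_apply R kk (kk ⊗[R] P), IsScalarTower.algebraMap_apply R kk (kk ⊗[R] S)]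
    exact (IsScalarTower.algebraMap_apply kk (kk ⊗[R] P) (kk ⊗[R] S) _)
  haveI : Algebra.IsPushout R kk P (kk ⊗[R] P) := TensorProduct.isPushout
  haveI : Algebra.IsPushout R kk S (kk ⊗[R] S) := TensorProduct.isPushout
  haveI : Algebra.IsPushout R P kk (kk ⊗[R] P) := Algebra.IsPushout.symm inferInstance
  haveI : Algebra.IsPushout R S kk (kk ⊗[R] S) := Algebra.IsPushout.symm inferInstance
  haveI : Algebra.IsPushout P S (kk ⊗[R] P) (kk ⊗[R] S) :=
    (Algebra.IsPushout.comp_iff R P kk (kk ⊗[R] P)).1 inferInstance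
  haveI : IsLocalization (Algebra.algebraMapSubmonoid (kk ⊗[R] P) M₁) (kk ⊗[R] S) :=
    (Algebra.isLocalization_iff_isPushout (R := P) M₁ S).2
      (Algebra.IsPushout.symm inferInstance)
  let M₀ := Algebra.algebraMapSubmonoid (kk ⊗[R] P) M₁
  haveI : Module.Flat (kk ⊗[R] P) (kk ⊗[R] S) := IsLocalization.flat _ M₀
  letI : Module (kk ⊗[R] P) N := Module.compHom N f.toRingHom
  haveI : IsScalarTower (kk ⊗[R] P) (kk ⊗[R] S) N := IsScalarTower.of_algebraMap_smul fun _ _ => rfl
  letI : Module kk N := Module.compHom N (algebraMap kk (kk ⊗[R] P))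
  haveI : IsScalarTower kk (kk ⊗[R] P) N := IsScalarTower.of_algebraMap_smul fun _ _ => rfl
  have h := torDimLE_of_flat_base d (kk ⊗[R] P) ((MvPolynomial.algebraTensorAlgEquiv (σ := Fin d) R kk).symm.trans
    (Algebra.TensorProduct.congr AlgEquiv.refl eP)) N
  have h' := torDimLE_baseChange (B := kk ⊗[R] S) d N h
  haveI := IsLocalization.tensorProduct_compatibleSMul M₀ (kk ⊗[R] S) (kk ⊗[R] S) N
  let u : (kk ⊗[R] S) ⊗[kk ⊗[R] P] N →ₗ[kk ⊗[R] S] N :=
    LinearMap.liftBaseChange (kk ⊗[R] S) (LinearMap.id : N →ₗ[kk ⊗[R] P] N)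
  have hu : Function.Bijective u := by
    refine Function.bijective_iff_has_inverse.2 ⟨fun x => 1 ⊗ₜ x, fun z => ?_, fun x => by simp [u]⟩
    induction z using TensorProduct.induction_on with
    | zero => simp
    | tmul s x =>
      simp only [u, LinearMap.liftBaseChange_tmul, LinearMap.id_apply]
      rw [← TensorProduct.smul_tmul, smul_eq_mul, mul_one]
    | add x y hx hy =>
      simp only [map_add, TensorProduct.tmul_add] at hx hy ⊢
      rw [hx, hy]
  rw [H9Misc.DRingTor.torDimLE_iff d (ModuleCat.of _ _)] at h'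
  exact (H9Misc.DRingTor.torDimLE_iff d (ModuleCat.of (kk ⊗[R] S) N)).2
    (H9Misc.DRingTor.of_iso ((DerivedCategory.singleFunctor (ModuleCat.{u} (kk ⊗[R] S)) 0).mapIso
      (LinearEquiv.ofBijective u hu).toModuleIso) h')

include M₁ eP in
/-- The localized fibre bounds the complex at the closed point. -/
theorem exactAt_tensC_of_localized_fibre [IsLocalRing S] (g₀ : kk →ₐ[R] IsLocalRing.ResidueField S) {F : DRing.Cx S}
    (hF : DRing.TermwiseFiniteFree F) {b₀ : ℤ} (hb₀ : DRing.VanishesAbove F b₀) (a b : ℤ)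
    (h : ∀ i : ℤ, (i < a ∨ b < i) → ((DRingLTensor.extC' (incRight R kk S)).obj F).ExactAt i)
    (i : ℤ) (hi : i < a - d ∨ b < i) (M : ModuleCat.{u} S) :
    ((DRingLTensor.tensC M).obj F).ExactAt i := by
  let B := kk ⊗[R] S
  let α : S →+* B := incRight R kk S
  let E := (DRingLTensor.extC' α).obj F
  let W : Dual.D B := DerivedCategory.Q.obj E
  haveI hWge : W.IsGE a := (DerivedCategory.isGE_Q_obj_iff E a).2
    ((CochainComplex.isGE_iff E a).2 fun i hi => h i (Or.inl hi))
  haveI hWle : W.IsLE b := (DerivedCategory.isLE_Q_obj_iff E b).2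
    ((CochainComplex.isLE_iff E b).2 fun i hi => h i (Or.inr hi))
  have hFk : DRingLTensor.IsKF F := DRingFibre.isKF hF hb₀
  -- the residue field
  let k := IsLocalRing.ResidueField S
  let π : S →+* k := IsLocalRing.residue S
  let g : B →+* k := (Algebra.TensorProduct.lift g₀ (IsScalarTower.toAlgHom R S k) fun _ _ => mul_comm _ _).toRingHom
  have hg : π = g.comp α := RingHom.ext fun x => by
    change π x = Algebra.TensorProduct.lift g₀ (IsScalarTower.toAlgHom R S k) (fun _ _ => mul_comm _ _) ((1 : kk) ⊗ₜ[R] x)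
    rw [Algebra.TensorProduct.lift_tmul, map_one, one_mul]
    rfl
  haveI := hasLTen B
  haveI := hasLBase g
  letI : Algebra B k := g.toAlgebra
  have hA : DRing.HasTorAmplitudeIn B (-(d : ℤ)) 0 (DerivedCategory.Q.obj (resUnitCx g)) := by
    obtain ⟨r⟩ := nonempty_resUnit_iso (R := B) (A := k)
    exact DRingTor.of_iso r ((DRingTor.torDimLE_iff d (ModuleCat.of B k)).1 (torDimLE_localized_fibre M₁ eP k))
  haveI := isGE_LBase (φ := g) hA W a
  haveI := isLE_LBase (φ := g) W b
  have hE : DRingLTensor.IsKF E := kFlat_extendScalars α hFk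
  haveI := isIso_baseCmp g hE
  have hres : ∀ i : ℤ, (i < a + -(d : ℤ) ∨ b < i) → ((DRingLTensor.extC' π).obj F).ExactAt i := by
    intro i hi
    refine (DRingFibre.exactAt_extC_comp α g π hg i).1 ?_
    rw [HomologicalComplex.exactAt_iff_isZero_homology]
    have hz : IsZero ((DerivedCategory.homologyFunctor (ModuleCat.{u} k) i).obj ((DTen.LBase g).obj W)) := by
      rcases hi with hi | hi
      · exact DerivedCategory.isZero_of_isGE _ (a + -(d : ℤ)) i hi
      · exact DerivedCategory.isZero_of_isLE _ b i hi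
    exact hz.of_iso (((DerivedCategory.homologyFunctor (ModuleCat.{u} k) i).mapIso
      (asIso ((DTen.baseCmp g).app E))) ≪≫
        (DerivedCategory.homologyFunctorFactors (ModuleCat.{u} k) i).app _).symm
  exact DRingFibre.exactAt_of_fibre π IsLocalRing.residue_surjective hF i (hres i (by omega)) M

include M₁ eP in
/-- Tor amplitude over the base, from exactness on the fibre. -/
theorem amp_of_localized_fibre [IsLocalRing S] (g₀ : kk →ₐ[R] IsLocalRing.ResidueField S) {F : DRing.Cx S} (hF : DRing.TermwiseFiniteFree F) {b₀ : ℤ}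
    (hb₀ : DRing.VanishesAbove F b₀) (a b : ℤ)
    (h : ∀ i : ℤ, (i < a ∨ b < i) → ((DRingLTensor.extC' (incRight R kk S)).obj F).ExactAt i) :
    DRing.HasTorAmplitudeIn R (a - d) b ((DRing.restrictD (algebraMap R S)).obj (DerivedCategory.Q.obj F)) := by
  -- back to the base
  let φ := algebraMap R S
  have hXflat : DRing.TermwiseFlat ((DTen.resCx φ).obj F) := fun i => by
    haveI := (hF i).2
    letI : Module R (F.X i) := Module.compHom _ φ
    haveI : IsScalarTower R S (F.X i) := IsScalarTower.of_algebraMap_smul fun _ _ => rfl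
    haveI : Module.Flat P S := IsLocalization.flat _ M₁
    haveI : Module.Flat R P := Module.Flat.of_linearEquiv eP.symm.toLinearEquiv
    haveI : Module.Flat R S := Module.Flat.trans R P S
    exact Module.Flat.trans R S (F.X i)
  refine DRingTor.hasTorAmplitudeIn_of_van
    (DRingTor.isKF_of_flat hXflat fun i hi => (ModuleCat.restrictScalars φ).map_isZero (hb₀ i hi))
    (fun M i hi => ?_) ((DTen.resFactors φ).app F).symm
  have hv : ((DRingLTensor.tensC ((ModuleCat.extendScalars φ).obj M)).obj F).ExactAt i :=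
    exactAt_tensC_of_localized_fibre M₁ eP g₀ hF hb₀ a b h i hi _
  let T := curriedTensor (ModuleCat.{u} R)
  let T' := curriedTensor (ModuleCat.{u} S)
  refine (DRingTorLTensor.exactAt_iff_of_iso ((singleIso T M).app ((DTen.resCx φ).obj F)) i).1 ?_
  refine (DRingTorLTensor.exactAt_projection φ F _ i).1 ?_
  refine (DRingTorLTensor.exactAt_iff_of_iso ((T'.map₂CochainComplex.obj F).mapIso
    ((HomologicalComplex.singleMapHomologicalComplex (ModuleCat.extendScalars φ) (ComplexShape.up ℤ) 0).app M)) i).2 ?_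
  exact (DRingTorLTensor.exactAt_iff_of_iso ((singleIso T' ((ModuleCat.extendScalars φ).obj M)).app F) i).2 hv

omit [Algebra P S] [IsScalarTower R P S] in
/-- The fibre over the localized base computes the fibre. -/
theorem exactAt_fibre_of_atPrime {Rp : Type u} [CommRing Rp] [Algebra R Rp] (M₂ : Submonoid R)
    [IsLocalization M₂ Rp] [Algebra Rp kk] [IsScalarTower R Rp kk] {F : DRing.Cx S} (i : ℤ) (ι : Rp →+* S)
    (hι : ι.comp (algebraMap R _) = algebraMap R S)
    (h : ((DRingLTensor.tensC (ModuleCat.of Rp kk)).obj ((DTen.resCx ι).obj F)).ExactAt i) :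
    ((DRingLTensor.extC' (incRight R kk S)).obj F).ExactAt i := by
  let α : S →+* kk ⊗[R] S := incRight R kk S
  letI : Algebra Rp S := ι.toAlgebra
  haveI : IsScalarTower R Rp S := IsScalarTower.of_algebraMap_eq fun r => (RingHom.congr_fun hι r).symm
  let T := curriedTensor (ModuleCat.{u} Rp)
  let T' := curriedTensor (ModuleCat.{u} S)
  let N := ModuleCat.of Rp kk
  have h₁ : (((DTen.resCx ι).obj F) ⊗ (HomologicalComplex.single (ModuleCat.{u} Rp) (ComplexShape.up ℤ) 0).obj N).ExactAt i :=
    (DRingTorLTensor.exactAt_iff_of_iso ((singleIso T N).app _) i).2 h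
  have h₂ := (DRingTorLTensor.exactAt_projection ι F _ i).2 h₁
  have h₃ := (DRingTorLTensor.exactAt_iff_of_iso ((T'.map₂CochainComplex.obj F).mapIso
    ((HomologicalComplex.singleMapHomologicalComplex (ModuleCat.extendScalars ι) (ComplexShape.up ℤ) 0).app N)) i).1 h₂
  have h₄ := (DRingTorLTensor.exactAt_iff_of_iso ((singleIso T' ((ModuleCat.extendScalars ι).obj N)).app F) i).1 h₃
  let e : (ModuleCat.extendScalars ι).obj N ≅ DRingTorDescent.resB α := by
    haveI := IsLocalization.tensorProduct_compatibleSMul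
      M₂ Rp S kk
    let c : S ⊗[Rp] kk ≃ₗ[R] kk ⊗[R] S :=
      (TensorProduct.equivOfCompatibleSMul R Rp R S kk).trans (TensorProduct.comm R S kk)
    refine LinearEquiv.toModuleIso (X₁ := ((ModuleCat.extendScalars ι).obj N : Type u))
      (m₁ := ((ModuleCat.extendScalars ι).obj N).isModule)
      (X₂ := (DRingTorDescent.resB α : Type u)) (m₂ := (DRingTorDescent.resB α).isModule)
      { c.toAddEquiv with map_smul' := fun s z => ?_ }
    induction z using TensorProduct.induction_on with
    | zero =>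
      erw [smul_zero]
      exact (map_zero c).trans (by change 0 = α s * c 0; rw [map_zero, mul_zero])
    | tmul t x =>
      obtain ⟨t', rfl⟩ : ∃ t' : S, (t' : (ModuleCat.restrictScalars ι).obj (ModuleCat.of S S)) = t := ⟨t, rfl⟩
      change (x : kk) ⊗ₜ[R] (s * t') = ((1 : kk) ⊗ₜ[R] s) * ((x : kk) ⊗ₜ[R] t')
      rw [Algebra.TensorProduct.tmul_mul_tmul, one_mul]
    | add x y hx hy =>
      erw [smul_add]
      change c (_ + _) = α s * c (x + y)
      rw [map_add, map_add, mul_add]
      exact congrArg₂ (· + ·) hx hy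
  have h₅ : (((tensorRight (DRingTorDescent.resB α)).mapHomologicalComplex (ComplexShape.up ℤ)).obj F).ExactAt i :=
    DRingRightExact.exactAt_iso_map ((tensoringRight (ModuleCat.{u} S)).mapIso e) F i h₄
  exact (ShortComplex.exact_map_iff_of_faithful _ (ModuleCat.restrictScalars α)).1
    (DRingRightExact.exactAt_iso_map (DRingTorLocal.extResIso α) F i h₅)

end Groth.Agent.KFlatLib
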