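import Groth.Agent.KFlatLib.Ring.RelPerfectRows
import Groth.Agent.S6971

/-!
# Relative perfection along nilpotent thickenings
-/

set_option linter.style.haveILetI false
set_option backward.isDefEq.respectTransparency false

universe u

open CategoryTheory CategoryTheory.Limits MonoidalCategory
open scoped TensorProduct

attribute [local instance] HasDerivedCategory.standard

namespace Groth.Agent.KFlatLib

open H9Misc

variable {R A : Type u} [CommRing R] [CommRing A] [Algebra R A] [Module.Flat R A]
  (R' : Type u) [CommRing R'] [Algebra R R']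

/-- Restriction to the base commutes with base change, on pseudo-coherent objects. -/
theorem nonempty_restrict_lbase_iso
    [DRing.HasLBaseChange (Algebra.TensorProduct.includeRight.toRingHom : A →+* R' ⊗[R] A)]
    [DRing.HasLBaseChange (algebraMap R R')] {K : Dual.D A} (hK : DRing.IsPseudoCoherent' A K) :
    Nonempty ((DRing.LBaseChange (algebraMap R R')).obj ((DRing.restrictD (algebraMap R A)).obj K) ≅
      (DRing.restrictD (algebraMap R' (R' ⊗[R] A))).obj
        ((DRing.LBaseChange (Algebra.TensorProduct.includeRight.toRingHom : A →+* R' ⊗[R] A)).obj K)) := by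
  obtain ⟨F, b, hb, hF, ⟨e⟩⟩ := hK
  let α : A →+* R' ⊗[R] A := Algebra.TensorProduct.includeRight.toRingHom
  let φ := algebraMap R A
  let ρ := algebraMap R R'
  let φ' := algebraMap R' (R' ⊗[R] A)
  have h : α.comp φ = φ'.comp ρ := RingHom.ext fun r => by
    simp only [α, φ, φ', ρ, RingHom.comp_apply, AlgHom.toRingHom_eq_coe, RingHom.coe_coe, AlgHom.commutes]
    exact IsScalarTower.algebraMap_apply R R' (R' ⊗[R] A) r
  letI : Algebra A (R' ⊗[R] A) := α.toAlgebra
  haveI : IsScalarTower R A (R' ⊗[R] A) := IsScalarTower.of_algebraMap_eq fun r =>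
    ((Algebra.TensorProduct.includeRight : A →ₐ[R] R' ⊗[R] A).commutes r).symm
  haveI : Algebra.IsPushout R R' A (R' ⊗[R] A) := TensorProduct.isPushout
  haveI : ∀ i, IsIso ((sqCx h F).f i) := fun i => isIso_sqMod h rfl rfl rfl rfl (F.X i)
  let s : (DTen.extCx ρ).obj ((DTen.resCx φ).obj F) ≅ (DTen.resCx φ').obj ((DTen.extCx α).obj F) :=
    @asIso _ _ _ _ (sqCx h F) (HomologicalComplex.Hom.isIso_of_components _)
  have hFk : DRingLTensor.IsKF F := DRingTor.isKF_of_flat (fun i => haveI := (hF i).2; inferInstance) hb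
  have hflat : DRing.TermwiseFlat ((DTen.resCx φ).obj F) := fun i => by
    haveI := (hF i).2
    letI : Module R (F.X i) := Module.compHom _ φ
    haveI : IsScalarTower R A (F.X i) := IsScalarTower.of_algebraMap_smul fun _ _ => rfl
    exact Module.Flat.trans R A (F.X i)
  have hXk : DRingLTensor.IsKF ((DTen.resCx φ).obj F) := DRingTor.isKF_of_flat hflat fun i hi =>
    (ModuleCat.restrictScalars φ).map_isZero (hb i hi)
  obtain ⟨e'⟩ := DRingLBase.nonempty_lbase_iso α hFk
  obtain ⟨e''⟩ := DRingLBase.nonempty_lbase_iso ρ hXk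
  exact ⟨(DRing.LBaseChange ρ).mapIso ((DRing.restrictD φ).mapIso e.symm ≪≫ (DTen.resFactors φ).app F) ≪≫
    e'' ≪≫ DerivedCategory.Q.mapIso s ≪≫ ((DTen.resFactors φ').app _).symm ≪≫
      (DRing.restrictD φ').mapIso (e'.symm ≪≫ (DRing.LBaseChange α).mapIso e)⟩

/-- Relative perfection descends along nilpotent thickenings. -/
theorem isRelPerfect_of_nilpotent
    [DRing.HasLBaseChange (Algebra.TensorProduct.includeRight.toRingHom : A →+* R' ⊗[R] A)]
    (hs : Function.Surjective (algebraMap R R')) (hn : IsNilpotent (RingHom.ker (algebraMap R R')))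
    {K : Dual.D A}
    (hK : Dual2.IsRelPerfect R' (R' ⊗[R] A)
      ((DRing.LBaseChange (Algebra.TensorProduct.includeRight.toRingHom : A →+* R' ⊗[R] A)).obj K)) :
    Dual2.IsRelPerfect R A K := by
  obtain ⟨hpc', a, b, hamp⟩ := hK
  let α : A →+* R' ⊗[R] A := Algebra.TensorProduct.includeRight.toRingHom
  have hα : Function.Surjective α := by
    intro z
    induction z using TensorProduct.induction_on with
    | zero => exact ⟨0, map_zero _⟩
    | tmul r x =>
      obtain ⟨r, rfl⟩ := hs r
      refine ⟨r • x, ?_⟩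
      change (1 : R') ⊗ₜ[R] (r • x) = algebraMap R R' r ⊗ₜ[R] x
      rw [Algebra.algebraMap_eq_smul_one, TensorProduct.smul_tmul]
    | add x y hx hy =>
      obtain ⟨x, rfl⟩ := hx
      obtain ⟨y, rfl⟩ := hy
      exact ⟨x + y, map_add _ _ _⟩
  have hker : IsNilpotent (RingHom.ker α) := by
    obtain ⟨k, hk⟩ := hn
    have hle : RingHom.ker α ≤ (RingHom.ker (algebraMap R R')).map (algebraMap R A) := by
      intro x hx
      let J := (RingHom.ker (algebraMap R R')).map (algebraMap R A)
      let g : R' →+* A ⧸ J := (algebraMap R R').liftOfSurjective hs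
        ⟨(Ideal.Quotient.mk J).comp (algebraMap R A), fun r hr => by
          change Ideal.Quotient.mk J (algebraMap R A r) = 0
          exact Ideal.Quotient.eq_zero_iff_mem.2 (Ideal.mem_map_of_mem _ hr)⟩
      have hg : g.comp (algebraMap R R') = (Ideal.Quotient.mk J).comp (algebraMap R A) :=
        RingHom.liftOfRightInverse_comp _ _ _ _
      let g' : R' →ₐ[R] A ⧸ J := { g with commutes' := fun r => RingHom.congr_fun hg r }
      let T : R' ⊗[R] A →ₐ[R] A ⧸ J :=
        Algebra.TensorProduct.lift g' (Ideal.Quotient.mkₐ R J) fun _ _ => mul_comm _ _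
      have h0 : T ((1 : R') ⊗ₜ[R] x) = 0 := by rw [show (1 : R') ⊗ₜ[R] x = 0 from hx, map_zero]
      rw [Algebra.TensorProduct.lift_tmul, map_one, one_mul] at h0
      exact Ideal.Quotient.eq_zero_iff_mem.1 h0
    refine ⟨k, le_bot_iff.1 ((Ideal.pow_right_mono hle k).trans ?_)⟩
    rw [← Ideal.map_pow, hk, Submodule.zero_eq_bot, Ideal.map_bot]
  have hpc := (Groth.Agent.S6971.result α hα hker K).1 hpc'
  haveI := DRingLBase.hasLBaseChange (algebraMap R R')
  obtain ⟨e⟩ := nonempty_restrict_lbase_iso (R := R) (A := A) R' hpc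
  exact ⟨hpc, a, b, (DRingNilp.amp_lbase_iff (algebraMap R R') hs hn _ a b).1 (DRingTor.of_iso e.symm hamp)⟩

end Groth.Agent.KFlatLib
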