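import Groth.Agent.KFlatLib.Ring.RelPerfectIso
import Groth.Agent.KFlatLib.PsiC
import Groth.Agent.H9Misc.DRingPC
import Mathlib.RingTheory.PicardGroup
import Mathlib.Algebra.Homology.DerivedCategory.SingleTriangle

/-!
# The relative internal hom of a quotient by an invertible ideal
-/

set_option linter.style.haveILetI false
set_option backward.isDefEq.respectTransparency false

universe u

open CategoryTheory CategoryTheory.Limits Pretriangulated MonoidalCategory
open scoped TensorProduct

attribute [local instance] HasDerivedCategory.standard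

namespace Groth.Agent.KFlatLib

/-- `M[0]`. -/
noncomputable abbrev sD (R : Type u) [CommRing R] : ModuleCat.{u} R ⥤ Dual.D R :=
  DerivedCategory.singleFunctor (ModuleCat.{u} R) 0

lemma eq_zero_sD_shift {R : Type u} [CommRing R] (P M : ModuleCat.{u} R) [Projective P] {j : ℤ}
    (hj : j ≠ 0) (g : (sD R).obj P ⟶ ((sD R).obj M)⟦j⟧) : g = 0 := by
  refine (bijective_psiC_of_projective (P := P) 0 (((sD R).obj M)⟦j⟧)).1 ?_
  refine IsZero.eq_of_tgt ?_ _ _
  exact ((HomologicalComplex.isZero_single_obj_X (ComplexShape.up ℤ) 0 M j hj) |>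
    (fun h => ShortComplex.isZero_homology_of_isZero_X₂
      (((HomologicalComplex.single (ModuleCat.{u} R) (ComplexShape.up ℤ) 0).obj M).sc j) h)).of_iso
    (((DerivedCategory.homologyFunctor (ModuleCat.{u} R) 0).shiftIso j 0 j (add_zero j)).app _ ≪≫
      (DerivedCategory.homologyFunctor _ j).mapIso
        ((DerivedCategory.singleFunctorIsoCompQ (ModuleCat.{u} R) 0).app M) ≪≫
      (DerivedCategory.homologyFunctorFactors _ j).app _)

variable {R A : Type u} [CommRing R] [CommRing A] [Algebra R A]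
  (hsurj : Function.Surjective (algebraMap R A))
  [Module.Invertible R (RingHom.ker (algebraMap R A))]
  (N : Type u) [AddCommGroup N] [Module A N]
  (eN : N ≃ₗ[A] ((RingHom.ker (algebraMap R A)) →ₗ[R] A))

/-- `A` restricted. -/
noncomputable abbrev resA : ModuleCat.{u} R :=
  (ModuleCat.restrictScalars (algebraMap R A)).obj (ModuleCat.of A A)

/-- `I ⟶ R ⟶ A`. -/
noncomputable def idealSeq : ShortComplex (ModuleCat.{u} R) :=
  ShortComplex.mk (X₁ := ModuleCat.of R (RingHom.ker (algebraMap R A))) (X₂ := ModuleCat.of R R)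
    (X₃ := resA (R := R) (A := A)) (ModuleCat.ofHom (RingHom.ker (algebraMap R A)).subtype)
    (ModuleCat.ofHom (Y := (resA (R := R) (A := A) : Type u))
      { toFun := fun r => algebraMap R A r
        map_add' := map_add _
        map_smul' := fun r s => (map_mul (algebraMap R A) r s :) })
    (by ext x; exact x.2)

include hsurj in
omit [Module.Invertible R (RingHom.ker (algebraMap R A))] in
lemma idealSeq_shortExact : (idealSeq (R := R) (A := A)).ShortExact where
  exact := (ShortComplex.moduleCat_exact_iff _).2 fun x hx => ⟨⟨x, hx⟩, rfl⟩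
  mono_f := (ModuleCat.mono_iff_injective _).2 Subtype.val_injective
  epi_g := (ModuleCat.epi_iff_surjective _).2 hsurj

include hsurj in
lemma isPerfect_res_unit :
    DRing.IsPerfect R ((DRing.restrictD (algebraMap R A)).obj (DTen.unit A)) := by
  have hp : ∀ M : ModuleCat.{u} R, Module.Finite R M → Module.Projective R M →
      DRing.IsPerfect R ((sD R).obj M) := fun M _ _ => by
    refine ⟨(HomologicalComplex.single (ModuleCat.{u} R) (ComplexShape.up ℤ) 0).obj M, 0, 0,
      fun i hi => HomologicalComplex.isZero_single_obj_X (ComplexShape.up ℤ) 0 M i (by omega),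
      fun i => ?_, ⟨((DerivedCategory.singleFunctorIsoCompQ (ModuleCat.{u} R) 0).app M).symm⟩⟩
    by_cases h : i = 0
    · subst h
      let e := (HomologicalComplex.singleObjXSelf (ComplexShape.up ℤ) 0 M).toLinearEquiv
      exact ⟨Module.Finite.equiv e.symm, Module.Projective.of_equiv e.symm⟩
    · haveI := ModuleCat.subsingleton_of_isZero
        (HomologicalComplex.isZero_single_obj_X (ComplexShape.up ℤ) 0 M i h)
      exact ⟨inferInstance, Module.Projective.of_free⟩
  have h₁ : DRing.IsPerfect R ((sD R).obj (idealSeq (R := R) (A := A)).X₁) :=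
    hp _ (inferInstanceAs (Module.Finite R (RingHom.ker (algebraMap R A))))
      (inferInstanceAs (Module.Projective R (RingHom.ker (algebraMap R A))))
  have h₂ : DRing.IsPerfect R ((sD R).obj (idealSeq (R := R) (A := A)).X₂) :=
    hp _ (inferInstanceAs (Module.Finite R R)) (inferInstanceAs (Module.Projective R R))
  have h₃ := H9Misc.DRingPC.isPerfect₃ _ (idealSeq_shortExact hsurj).singleTriangle_distinguished h₁ h₂
  exact H9Misc.DRingPC.isPerfect_of_iso
    ((((ModuleCat.restrictScalars.{u} (algebraMap R A)).mapDerivedCategorySingleFunctor 0).app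
        (ModuleCat.of A A)).symm ≪≫
      (DRing.restrictD (algebraMap R A)).mapIso
        ((DerivedCategory.singleFunctorIsoCompQ (ModuleCat.{u} A) 0).app (ModuleCat.of A A))) h₃

/-- `N` restricted. -/
noncomputable abbrev resN : ModuleCat.{u} R :=
  (ModuleCat.restrictScalars (algebraMap R A)).obj (ModuleCat.of A N)

/-- `R ⟶ I^∨ ⟶ N`. -/
noncomputable def dualSeq : ShortComplex (ModuleCat.{u} R) :=
  ShortComplex.mk (X₁ := ModuleCat.of R R)
    (X₂ := ModuleCat.of R ((RingHom.ker (algebraMap R A)) →ₗ[R] R)) (X₃ := resN (R := R) (A := A) N)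
    (ModuleCat.ofHom (LinearMap.toSpanSingleton R _ (RingHom.ker (algebraMap R A)).subtype))
    (ModuleCat.ofHom (Y := (resN (R := R) (A := A) N : Type u))
      { toFun := fun f => eN.symm ((Algebra.linearMap R A).comp f)
        map_add' := fun f g => (congrArg eN.symm (LinearMap.comp_add _ _ _)).trans (map_add _ _ _)
        map_smul' := fun r f => by
          refine (congrArg eN.symm ?_).trans (eN.symm.map_smul (algebraMap R A r) _)
          rw [LinearMap.comp_smul, IsScalarTower.algebraMap_smul] })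
    (by
      refine ModuleCat.hom_ext (LinearMap.ext_ring ?_)
      change eN.symm ((Algebra.linearMap R A).comp ((1 : R) • (RingHom.ker (algebraMap R A)).subtype)) = 0
      rw [one_smul, show (Algebra.linearMap R A).comp (RingHom.ker (algebraMap R A)).subtype = 0 from
        LinearMap.ext fun x => x.2, map_zero])

include hsurj in
lemma dualSeq_shortExact : (dualSeq N eN).ShortExact where
  exact := (ShortComplex.moduleCat_exact_iff _).2 fun f hf => by
    have h0 : (Algebra.linearMap R A).comp f = 0 := by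
      have := congrArg eN hf
      exact (eN.apply_symm_apply _).symm.trans (this.trans (map_zero eN))
    let f' : RingHom.ker (algebraMap R A) →ₗ[R] RingHom.ker (algebraMap R A) :=
      f.codRestrict (RingHom.ker (algebraMap R A)) fun x => LinearMap.congr_fun h0 x
    obtain ⟨r, hr⟩ := (Module.Invertible.toModuleEnd_bijective R (RingHom.ker (algebraMap R A))).2 f'
    refine ⟨r, ?_⟩
    refine LinearMap.ext fun x => ?_
    exact congrArg Subtype.val (LinearMap.congr_fun hr x)
  mono_f := (ModuleCat.mono_iff_injective _).2 fun (r : R) (s : R) hrs => by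
    have h : r • (RingHom.ker (algebraMap R A)).subtype = s • (RingHom.ker (algebraMap R A)).subtype :=
      hrs
    exact FaithfulSMul.eq_of_smul_eq_smul (M := R) (α := RingHom.ker (algebraMap R A))
      fun x => Subtype.ext (LinearMap.congr_fun h x)
  epi_g := (ModuleCat.epi_iff_surjective _).2 fun y => by
    obtain ⟨f, hf⟩ := Module.projective_lifting_property (Algebra.linearMap R A) (eN y) hsurj
    exact ⟨f, (congrArg eN.symm hf).trans (eN.symm_apply_apply y)⟩

omit [Module.Invertible R (RingHom.ker (algebraMap R A))] in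
lemma smul_resA (i : RingHom.ker (algebraMap R A)) (a : (resA (R := R) (A := A) : Type u)) :
    (i : R) • a = 0 := by
  change algebraMap R A i * (show A from a) = 0
  rw [i.2, zero_mul]

/-- No homomorphism from `A` to a dual of `I`. -/
lemma hom_resA_dual (g : resA (R := R) (A := A) ⟶
    ModuleCat.of R ((RingHom.ker (algebraMap R A)) →ₗ[R] R)) : g = 0 := by
  refine ModuleCat.hom_ext (LinearMap.ext fun a => LinearMap.ext fun j => ?_)
  refine FaithfulSMul.eq_of_smul_eq_smul (α := RingHom.ker (algebraMap R A)) fun x => Subtype.ext ?_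
  have h := LinearMap.congr_fun (g.hom.map_smul (x : R) a) j
  rw [smul_resA, map_zero] at h
  simp only [LinearMap.zero_apply, LinearMap.smul_apply, smul_eq_mul] at h
  change (show (RingHom.ker (algebraMap R A)) →ₗ[R] R from g.hom a) j * (x : R) = 0 * (x : R)
  rw [mul_comm, zero_mul]
  exact h.symm

/-- No homomorphism from `A` to `R`. -/
lemma hom_resA_self (g : resA (R := R) (A := A) ⟶ ModuleCat.of R R) : g = 0 := by
  refine ModuleCat.hom_ext (LinearMap.ext fun a => ?_)
  refine FaithfulSMul.eq_of_smul_eq_smul (α := RingHom.ker (algebraMap R A)) fun x => Subtype.ext ?_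
  have h := g.hom.map_smul (x : R) a
  rw [smul_resA, map_zero] at h
  change (show R from g.hom a) * (x : R) = 0 * (x : R)
  rw [mul_comm, zero_mul]
  exact h.symm

include hsurj in
/-- `Hom(A, R[1])` comes from the boundary of the dual sequence. -/
lemma bijective_singleδ :
    Function.Bijective fun f : resA (R := R) (A := A) ⟶ resN (R := R) (A := A) N =>
      (sD R).map f ≫ (dualSeq_shortExact hsurj N eN).singleδ := by
  let S := dualSeq (R := R) (A := A) N eN
  have hS := dualSeq_shortExact hsurj N eN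
  let T := hS.singleTriangle
  have hT : T ∈ distTriang (Dual.D R) := hS.singleTriangle_distinguished
  constructor
  · intro f g h
    refine sub_eq_zero.1 ?_
    have h0 : (sD R).map (f - g) ≫ hS.singleδ = 0 := by
      rw [Functor.map_sub, Preadditive.sub_comp]
      exact sub_eq_zero.2 h
    obtain ⟨y, hy⟩ := Triangle.coyoneda_exact₃ T hT ((sD R).map (f - g)) h0
    obtain ⟨y', rfl⟩ := (sD R).map_surjective y
    rw [hom_resA_dual y', Functor.map_zero] at hy
    refine (sD R).map_injective ?_
    rw [hy, Functor.map_zero]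
    exact zero_comp
  · intro x
    have hI := (idealSeq_shortExact (R := R) (A := A) hsurj)
    let U := hI.singleTriangle
    have hU : U ∈ distTriang (Dual.D R) := hI.singleTriangle_distinguished
    have hx : (sD R).map (idealSeq (R := R) (A := A)).g ≫ x = 0 := by
      haveI : Projective (idealSeq (R := R) (A := A)).X₂ :=
        inferInstanceAs (Projective (ModuleCat.of R R))
      exact eq_zero_sD_shift _ _ one_ne_zero _
    obtain ⟨y, hy⟩ := Triangle.yoneda_exact₃ U hU x hx
    obtain ⟨y₁, rfl⟩ := (shiftFunctor (Dual.D R) (1 : ℤ)).map_surjective y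
    obtain ⟨f, rfl⟩ := (sD R).map_surjective y₁
    let q : ModuleCat.of R R ⟶ S.X₂ :=
      ModuleCat.ofHom (LinearMap.toSpanSingleton R _ f.hom)
    have hq : f ≫ S.f = (idealSeq (R := R) (A := A)).f ≫ q := by
      refine ModuleCat.hom_ext (LinearMap.ext fun (i : RingHom.ker (algebraMap R A)) =>
        LinearMap.ext fun (j : RingHom.ker (algebraMap R A)) => ?_)
      change (show R from f.hom i) * (j : R) = (i : R) * (show R from f.hom j)
      have h₁ := f.hom.map_smul (j : R) i
      have h₂ := f.hom.map_smul (i : R) j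
      have hij : (j : R) • i = (i : R) • j := Subtype.ext (mul_comm _ _)
      rw [hij] at h₁
      exact ((mul_comm _ _).trans (h₁.symm.trans h₂))
    have hx' : x ≫ ((sD R).map S.f)⟦(1 : ℤ)⟧' = 0 := by
      rw [hy, Category.assoc]
      erw [← Functor.map_comp, ← Functor.map_comp, hq, Functor.map_comp, Functor.map_comp,
        ← Category.assoc, comp_distTriang_mor_zero₃₁ _ hU, zero_comp]
    obtain ⟨z, hz⟩ := Triangle.coyoneda_exact₃ T.rotate (rot_of_distTriang _ hT) x (by
      change x ≫ (-((sD R).map S.f)⟦(1 : ℤ)⟧') = 0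
      rw [Preadditive.comp_neg, hx', neg_zero])
    obtain ⟨g, rfl⟩ := (sD R).map_surjective z
    exact ⟨g, hz.symm⟩

include hsurj in
/-- `Hom(A[k], R[1])` vanishes for `k ≠ 0`. -/
lemma eq_zero_resA_shift {k : ℤ} (hk : k ≠ 0)
    (x : ((sD R).obj (resA (R := R) (A := A)))⟦k⟧ ⟶ ((sD R).obj (ModuleCat.of R R))⟦(1 : ℤ)⟧) :
    x = 0 := by
  suffices h : ∀ j : ℤ, j ≠ 1 →
      ∀ y : (sD R).obj (resA (R := R) (A := A)) ⟶ ((sD R).obj (ModuleCat.of R R))⟦j⟧, y = 0 by
    let e := (shiftFunctorAdd' (Dual.D R) (1 - k) k 1 (by omega)).app ((sD R).obj (ModuleCat.of R R))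
    obtain ⟨y, hy⟩ := (shiftFunctor (Dual.D R) k).map_surjective (x ≫ e.hom)
    rw [h (1 - k) (by omega) y, Functor.map_zero] at hy
    exact (cancel_mono e.hom).1 (hy.symm.trans zero_comp.symm)
  intro j hj y
  rcases eq_or_ne j 0 with rfl | hj0
  · let e := (shiftFunctorZero (Dual.D R) ℤ).app ((sD R).obj (ModuleCat.of R R))
    obtain ⟨g, hg⟩ := (sD R).map_surjective (y ≫ e.hom)
    rw [hom_resA_self g, Functor.map_zero] at hg
    exact (cancel_mono e.hom).1 (hg.symm.trans zero_comp.symm)
  · have hI := (idealSeq_shortExact (R := R) (A := A) hsurj)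
    have hU := hI.singleTriangle_distinguished
    have hy : (sD R).map (idealSeq (R := R) (A := A)).g ≫ y = 0 := by
      haveI : Projective (idealSeq (R := R) (A := A)).X₂ :=
        inferInstanceAs (Projective (ModuleCat.of R R))
      exact eq_zero_sD_shift _ _ hj0 _
    obtain ⟨z, hz⟩ := Triangle.yoneda_exact₃ _ hU y hy
    let e := (shiftFunctorAdd' (Dual.D R) (j - 1) 1 j (by omega)).app ((sD R).obj (ModuleCat.of R R))
    obtain ⟨w, hw⟩ := (shiftFunctor (Dual.D R) (1 : ℤ)).map_surjective (z ≫ e.hom)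
    haveI : Projective (idealSeq (R := R) (A := A)).X₁ :=
      (IsProjective.iff_projective _).1
        (inferInstanceAs (Module.Projective R (RingHom.ker (algebraMap R A))))
    have hw0 : w = 0 := eq_zero_sD_shift _ _ (by omega) _
    rw [hw0, Functor.map_zero] at hw
    have : z = 0 := (cancel_mono e.hom).1 (hw.symm.trans zero_comp.symm)
    rw [hz, this, comp_zero]

/-- The extension class, out of the restriction of `N`. -/
noncomputable def extClassN : (DRing.restrictD (algebraMap R A)).obj ((sD A).obj (ModuleCat.of A N)) ⟶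
    ((sD R).obj (ModuleCat.of R R))⟦(1 : ℤ)⟧ :=
  ((ModuleCat.restrictScalars.{u} (algebraMap R A)).mapDerivedCategorySingleFunctor 0).hom.app _ ≫
    (dualSeq_shortExact hsurj N eN).singleδ

include hsurj in
lemma bijective_extClassN (k : ℤ) :
    Function.Bijective fun g : ((sD A).obj (ModuleCat.of A A))⟦k⟧ ⟶ (sD A).obj (ModuleCat.of A N) =>
      (DRing.restrictD (algebraMap R A)).map g ≫ extClassN hsurj N eN := by
  let φ := algebraMap R A
  let s := (ModuleCat.restrictScalars.{u} φ).mapDerivedCategorySingleFunctor 0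
  rcases eq_or_ne k 0 with rfl | hk
  · let z := (shiftFunctorZero (Dual.D A) ℤ).app ((sD A).obj (ModuleCat.of A A))
    have hf : ∀ f : ModuleCat.of A A ⟶ ModuleCat.of A N,
        (DRing.restrictD φ).map (z.hom ≫ (sD A).map f) ≫ extClassN hsurj N eN =
          ((DRing.restrictD φ).map z.hom ≫ s.hom.app _) ≫
            ((sD R).map ((ModuleCat.restrictScalars φ).map f) ≫
              (dualSeq_shortExact hsurj N eN).singleδ) := fun f => by
      rw [Functor.map_comp, Category.assoc, Category.assoc]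
      exact congrArg (_ ≫ ·) (s.hom.naturality_assoc f _)
    have hbf : Function.Bijective fun f : ModuleCat.of A A ⟶ ModuleCat.of A N =>
        (ModuleCat.restrictScalars φ).map f := by
      refine ⟨fun f g h => (ModuleCat.restrictScalars φ).map_injective h, fun g => ?_⟩
      refine ⟨ModuleCat.ofHom
        { toFun := fun a => g.hom a
          map_add' := fun a b => g.hom.map_add a b
          map_smul' := fun a x => ?_ }, rfl⟩
      obtain ⟨r, rfl⟩ := hsurj a
      exact g.hom.map_smul r x
    refine ⟨fun g₁ g₂ h => ?_, fun y => ?_⟩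
    · obtain ⟨f₁, h₁⟩ := (sD A).map_surjective (z.inv ≫ g₁)
      obtain ⟨f₂, h₂⟩ := (sD A).map_surjective (z.inv ≫ g₂)
      obtain rfl : g₁ = z.hom ≫ (sD A).map f₁ := by rw [h₁, Iso.hom_inv_id_assoc]
      obtain rfl : g₂ = z.hom ≫ (sD A).map f₂ := by rw [h₂, Iso.hom_inv_id_assoc]
      have h' := ((hf f₁).symm.trans h).trans (hf f₂)
      rw [hbf.1 ((bijective_singleδ hsurj N eN).1 ((cancel_epi _).1 h'))]
    · obtain ⟨g, hg⟩ := (bijective_singleδ hsurj N eN).2
        (inv ((DRing.restrictD φ).map z.hom ≫ s.hom.app _) ≫ y)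
      obtain ⟨f, rfl⟩ := hbf.2 g
      refine ⟨z.hom ≫ (sD A).map f, ?_⟩
      simp only at hg
      exact (hf f).trans ((congrArg (_ ≫ ·) hg).trans (IsIso.hom_inv_id_assoc _ _))
  · refine ⟨fun g₁ g₂ _ => ?_, fun y => ⟨0, ?_⟩⟩
    · suffices h : ∀ g : ((sD A).obj (ModuleCat.of A A))⟦k⟧ ⟶ (sD A).obj (ModuleCat.of A N), g = 0 by
        rw [h g₁, h g₂]
      intro g
      let e := shiftFunctorCompIsoId (Dual.D A) k (-k) (by omega)
      refine (shiftFunctor (Dual.D A) (-k)).map_injective ?_
      rw [Functor.map_zero, ← cancel_epi (e.inv.app _), comp_zero]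
      exact eq_zero_sD_shift _ _ (by omega) _
    · let e := ((DRing.restrictD φ).commShiftIso k).app ((sD A).obj (ModuleCat.of A A)) ≪≫
        (shiftFunctor (Dual.D R) k).mapIso (s.app _)
      simp only [Functor.map_zero, zero_comp]
      rw [← cancel_epi e.inv, comp_zero]
      exact (eq_zero_resA_shift hsurj hk _).symm

include hsurj eN in
/-- `RHom(A, R) = N[-1]`. -/
theorem nonempty_RHomRel_unit_iso [DTen.HasRHomRel (algebraMap R A)] :
    Nonempty ((DTen.RHomRel (algebraMap R A)).obj (DTen.unit R) ≅ (Dual.inD A N)⟦(-1 : ℤ)⟧) := by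
  let φ := algebraMap R A
  let d := extClassN hsurj N eN
  let c : (DRing.restrictD φ).obj (((sD A).obj (ModuleCat.of A N))⟦(-1 : ℤ)⟧) ⟶ DTen.unit R :=
    ((DRing.restrictD φ).commShiftIso (-1 : ℤ)).hom.app _ ≫ d⟦(-1 : ℤ)⟧' ≫
      (shiftFunctorCompIsoId (Dual.D R) (1 : ℤ) (-1) (by omega)).hom.app _ ≫
      ((DerivedCategory.singleFunctorIsoCompQ (ModuleCat.{u} R) 0).app (ModuleCat.of R R)).hom
  let ζ := (DTen.relAdj φ).homEquiv _ _ c
  suffices IsIso ζ from ⟨(@asIso _ _ _ _ ζ this).symm⟩
  refine isIso_of_bijective_unit _ fun j => ?_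
  have hζ : ∀ g : (DTen.unit A)⟦j⟧ ⟶ ((sD A).obj (ModuleCat.of A N))⟦(-1 : ℤ)⟧,
      g ≫ ζ = (DTen.relAdj φ).homEquiv _ _ ((DRing.restrictD φ).map g ≫ c) := fun g =>
    ((DTen.relAdj φ).homEquiv_naturality_left g c).symm
  simp only [hζ]
  refine ((DTen.relAdj φ).homEquiv _ _).bijective.comp ?_
  let a : (DTen.unit A)⟦j⟧ ≅ (((sD A).obj (ModuleCat.of A A))⟦j + 1⟧)⟦(-1 : ℤ)⟧ :=
    (shiftFunctor (Dual.D A) j).mapIso
      ((DerivedCategory.singleFunctorIsoCompQ (ModuleCat.{u} A) 0).app (ModuleCat.of A A)).symm ≪≫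
      (shiftFunctorAdd' (Dual.D A) (j + 1) (-1) j (by omega)).app _
  have hn : ∀ g : ((sD A).obj (ModuleCat.of A A))⟦j + 1⟧ ⟶ (sD A).obj (ModuleCat.of A N),
      (DRing.restrictD φ).map (a.hom ≫ g⟦(-1 : ℤ)⟧') ≫ c =
        ((DRing.restrictD φ).map a.hom ≫ ((DRing.restrictD φ).commShiftIso (-1 : ℤ)).hom.app _) ≫
          ((DRing.restrictD φ).map g ≫ d)⟦(-1 : ℤ)⟧' ≫
          (shiftFunctorCompIsoId (Dual.D R) (1 : ℤ) (-1) (by omega)).hom.app _ ≫
          ((DerivedCategory.singleFunctorIsoCompQ (ModuleCat.{u} R) 0).app (ModuleCat.of R R)).hom := by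
    intro g
    simp only [c, Functor.map_comp, Category.assoc]
    exact congrArg (_ ≫ ·) (((DRing.restrictD φ).commShiftIso (-1 : ℤ)).hom.naturality_assoc g _)
  have hsg : ∀ g : (DTen.unit A)⟦j⟧ ⟶ ((sD A).obj (ModuleCat.of A N))⟦(-1 : ℤ)⟧,
      ∃ g', a.hom ≫ g'⟦(-1 : ℤ)⟧' = g := fun g => by
    obtain ⟨g', hg'⟩ := (shiftFunctor (Dual.D A) (-1 : ℤ)).map_surjective (a.inv ≫ g)
    exact ⟨g', by rw [hg', Iso.hom_inv_id_assoc]⟩
  refine ⟨fun g₁ g₂ h => ?_, fun y => ?_⟩
  · obtain ⟨g₁, rfl⟩ := hsg g₁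
    obtain ⟨g₂, rfl⟩ := hsg g₂
    simp only [hn, ← Category.assoc, cancel_mono] at h
    rw [(bijective_extClassN hsurj N eN (j + 1)).1
      ((shiftFunctor (Dual.D R) (-1 : ℤ)).map_injective ((cancel_epi _).1 h))]
  · let u₀ := (shiftFunctorCompIsoId (Dual.D R) (1 : ℤ) (-1) (by omega)).hom.app _ ≫
      ((DerivedCategory.singleFunctorIsoCompQ (ModuleCat.{u} R) 0).app (ModuleCat.of R R)).hom
    obtain ⟨w, hw⟩ := (shiftFunctor (Dual.D R) (-1 : ℤ)).map_surjective
      (inv ((DRing.restrictD φ).map a.hom ≫ ((DRing.restrictD φ).commShiftIso (-1 : ℤ)).hom.app _) ≫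
        y ≫ inv u₀)
    obtain ⟨g, hg⟩ := (bijective_extClassN hsurj N eN (j + 1)).2 w
    refine ⟨a.hom ≫ g⟦(-1 : ℤ)⟧', ?_⟩
    simp only at hg ⊢
    rw [hn, hg, hw]
    simp only [Category.assoc, IsIso.hom_inv_id_assoc, u₀, IsIso.inv_comp]
    simp
    exact Category.comp_id y

/-- `N ≅ Hom(I, A)` for an inverse `N` of `I/I²`. -/
noncomputable def invConormalEquiv
    (e : (A ⊗[R] (RingHom.ker (algebraMap R A))) ⊗[A] N ≃ₗ[A] A) :
    N ≃ₗ[A] ((RingHom.ker (algebraMap R A)) →ₗ[R] A) :=
  (Module.Invertible.linearEquivDual ((TensorProduct.comm A N _).trans e)).trans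
    (LinearMap.liftBaseChangeEquiv A).symm

include hsurj in
theorem nonempty_RHomRel_iso_shift_inverse [DTen.HasRHomRel (algebraMap R A)]
    [DTen.HasLTenMix (algebraMap R A)]
    (e : (A ⊗[R] (RingHom.ker (algebraMap R A))) ⊗[A] N ≃ₗ[A] A) :
    Nonempty (DTen.RHomRel (algebraMap R A) ≅
      (Functor.curry.obj (DTen.LTenMix (algebraMap R A))).flip.obj ((Dual.inD A N)⟦(-1 : ℤ)⟧)) := by
  obtain ⟨i⟩ := nonempty_RHomRel_iso (algebraMap R A) (isPerfect_res_unit hsurj)
  obtain ⟨k⟩ := nonempty_RHomRel_unit_iso hsurj N (invConormalEquiv N e)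
  exact ⟨i ≪≫ (Functor.curry.obj (DTen.LTenMix (algebraMap R A))).flip.mapIso k⟩

end Groth.Agent.KFlatLib
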