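import Groth.Agent.KFlatLib.Ring.ProjPairSymm
import Groth.Agent.KFlatLib.Ring.SymMonoidal
import Groth.Agent.KFlatLib.Ring.EvalTen
import Groth.Agent.H9Misc.DRingHomTensor

/-!
# The restriction comparison is associative
-/

set_option linter.style.haveILetI false
set_option backward.isDefEq.respectTransparency false

universe u

open CategoryTheory CategoryTheory.Limits MonoidalCategory
open Groth.Agent.H9Misc.DRingHomTensor

attribute [local instance] HasDerivedCategory.standard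

namespace Groth.Agent.KFlatLib

variable {R A : Type u} [CommRing R] [CommRing A] (φ : R →+* A)

/-- A tensor of maps on pure tensors. -/
lemma tensorHom_pure {K K' L L' : DRing.Cx A} (f : K ⟶ K') (g : L ⟶ L') (p q a : ℤ) (h : p + q = a)
    (x : K.X p) (y : L.X q) :
    ((f ⊗ₘ g).f a).hom (pure K L p q a h x y) = pure K' L' p q a h ((f.f p).hom x) ((g.f q).hom y) :=
  ConcreteCategory.congr_hom (HomologicalComplex.ι_mapBifunctorMap (f₁ := f) (f₂ := g)
    (F := curriedTensor (ModuleCat.{u} A)) (c := ComplexShape.up ℤ) p q a h) (x ⊗ₜ[A] y)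

/-- The associator on pure tensors. -/
lemma associator_pure (K L M : DRing.Cx A) (p q r b a : ℤ) (hb : p + q = b) (ha : b + r = a)
    (x : K.X p) (y : L.X q) (z : M.X r) :
    ((α_ K L M).hom.f a).hom (pure (K ⊗ L) M b r a ha (pure K L p q b hb x y) z) =
      pure K (L ⊗ M) p (q + r) a (by omega) x (pure L M q r (q + r) rfl y z) := by
  have h : ComplexShape.r (ComplexShape.up ℤ) (ComplexShape.up ℤ) (ComplexShape.up ℤ) (ComplexShape.up ℤ)
      (ComplexShape.up ℤ) (p, q, r) = a := show p + q + r = a by omega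
  have e := HomologicalComplex.ι_mapBifunctorAssociatorX_hom
    (associator := curriedAssociatorNatIso (ModuleCat.{u} A)) (K₁ := K) (K₂ := L) (K₃ := M)
    (c₁₂ := ComplexShape.up ℤ) (c₂₃ := ComplexShape.up ℤ) (c₄ := ComplexShape.up ℤ) p q r a h
  rw [HomologicalComplex.mapBifunctor₁₂.ι_eq _ _ _ _ _ _ _ p q r b a hb ha,
    HomologicalComplex.mapBifunctor₂₃.ι_eq _ _ _ _ _ _ _ _ p q r (q + r) a rfl
      (show p + (q + r) = a by omega)] at e
  exact ConcreteCategory.congr_hom e ((x ⊗ₜ[A] y) ⊗ₜ[A] z)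

/-- The complex-level comparison on pure tensors. -/
lemma resTenCx_pure (Y Y' : DRing.Cx A) (p q a : ℤ) (h : p + q = a) (x : Y.X p) (y : Y'.X q) :
    ((DTen.resTenCx φ Y Y').f a).hom
        (pure ((DTen.resCx φ).obj Y) ((DTen.resCx φ).obj Y') p q a h x y) =
      (show ((DTen.resCx φ).obj (Y ⊗ Y')).X a from pure Y Y' p q a h x y) :=
  ConcreteCategory.congr_hom (DTen.ι_resTenCx φ Y Y' p q a h)
    ((show (DTen.resM φ).obj (Y.X p) from x) ⊗ₜ[R] (show (DTen.resM φ).obj (Y'.X q) from y))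

/-- The complex-level comparison is associative. -/
lemma resTenCx_assoc (Y Y' Y'' : DRing.Cx A) :
    (DTen.resTenCx φ Y Y' ⊗ₘ 𝟙 ((DTen.resCx φ).obj Y'')) ≫ DTen.resTenCx φ (Y ⊗ Y') Y'' ≫
        (DTen.resCx φ).map (α_ Y Y' Y'').hom =
      (α_ ((DTen.resCx φ).obj Y) ((DTen.resCx φ).obj Y') ((DTen.resCx φ).obj Y'')).hom ≫
        (𝟙 ((DTen.resCx φ).obj Y) ⊗ₘ DTen.resTenCx φ Y' Y'') ≫ DTen.resTenCx φ Y (Y' ⊗ Y'') := by
  refine HomologicalComplex.hom_ext _ _ fun a => H9Misc.DRingHomTensor.hom_ext fun b r ha w z => ?_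
  let f := (DTen.resTenCx φ Y Y' ⊗ₘ 𝟙 ((DTen.resCx φ).obj Y'')) ≫ DTen.resTenCx φ (Y ⊗ Y') Y'' ≫
        (DTen.resCx φ).map (α_ Y Y' Y'').hom
  let g := (α_ ((DTen.resCx φ).obj Y) ((DTen.resCx φ).obj Y') ((DTen.resCx φ).obj Y'')).hom ≫
        (𝟙 ((DTen.resCx φ).obj Y) ⊗ₘ DTen.resTenCx φ Y' Y'') ≫ DTen.resTenCx φ Y (Y' ⊗ Y'')
  let P := pure ((DTen.resCx φ).obj Y ⊗ (DTen.resCx φ).obj Y') ((DTen.resCx φ).obj Y'') b r a ha
  suffices h : ModuleCat.ofHom ((f.f a).hom ∘ₗ P.flip z) = ModuleCat.ofHom ((g.f a).hom ∘ₗ P.flip z) from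
    LinearMap.congr_fun (congrArg ModuleCat.Hom.hom h) w
  refine H9Misc.DRingHomTensor.hom_ext fun p q hb x y => ?_
  change (f.f a).hom (P (pure _ _ p q b hb x y) z) = (g.f a).hom (P (pure _ _ p q b hb x y) z)
  simp only [f, g, P, HomologicalComplex.comp_f, ModuleCat.hom_comp, LinearMap.comp_apply]
  refine ((congrArg (fun t => (((DTen.resCx φ).map (α_ Y Y' Y'').hom).f a).hom
      (((DTen.resTenCx φ (Y ⊗ Y') Y'').f a).hom t))
    ((tensorHom_pure (DTen.resTenCx φ Y Y') (𝟙 ((DTen.resCx φ).obj Y'')) b r a ha _ z).trans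
      (congrArg (fun t => pure ((DTen.resCx φ).obj (Y ⊗ Y')) ((DTen.resCx φ).obj Y'') b r a ha t z)
        (resTenCx_pure φ Y Y' p q b hb x y)))).trans ?_)
  refine ((congrArg (((DTen.resCx φ).map (α_ Y Y' Y'').hom).f a).hom
    (resTenCx_pure φ (Y ⊗ Y') Y'' b r a ha (pure Y Y' p q b hb x y) z)).trans ?_)
  refine (associator_pure Y Y' Y'' p q r b a hb ha x y z).trans ?_
  refine Eq.symm ?_
  refine ((congrArg (fun t => ((DTen.resTenCx φ Y (Y' ⊗ Y'')).f a).hom
      (((𝟙 ((DTen.resCx φ).obj Y) ⊗ₘ DTen.resTenCx φ Y' Y'').f a).hom t))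
    (associator_pure ((DTen.resCx φ).obj Y) ((DTen.resCx φ).obj Y') ((DTen.resCx φ).obj Y'')
      p q r b a hb ha x y z)).trans ?_)
  refine ((congrArg ((DTen.resTenCx φ Y (Y' ⊗ Y'')).f a).hom
    ((tensorHom_pure (𝟙 ((DTen.resCx φ).obj Y)) (DTen.resTenCx φ Y' Y'') p (q + r) a (by omega) x _).trans
      (congrArg (fun t => pure ((DTen.resCx φ).obj Y) ((DTen.resCx φ).obj (Y' ⊗ Y'')) p (q + r) a (by omega) x t)
        (resTenCx_pure φ Y' Y'' q r (q + r) rfl y z)))).trans ?_)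
  exact resTenCx_pure φ Y (Y' ⊗ Y'') p (q + r) a (by omega) x (pure Y' Y'' q r (q + r) rfl y z)

variable [DTen.HasLTen R] [DTen.HasLTen A] [DTen.HasLTen₃ R] [DTen.HasLTen₃ A]
  [DTen.IsSymMonoidal R] [DTen.IsSymMonoidal A] [DTen.HasResTen φ] [DTen.ResLegIso φ]

/-- The derived comparison is associative. -/
theorem resPF_assoc (E E' E'' : Dual.D A) :
    (DTen.LTen₂ R).map (Prod.mkHom ((DTen.resPF φ).app (E, E')) (𝟙 ((DRing.restrictD φ).obj E''))) ≫
        (DTen.resPF φ).app ((DTen.LTen₂ A).obj (E, E'), E'') ≫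
          (DRing.restrictD φ).map (DTen.associator E E' E'').hom =
      (DTen.associator ((DRing.restrictD φ).obj E) ((DRing.restrictD φ).obj E')
          ((DRing.restrictD φ).obj E'')).hom ≫
        (DTen.LTen₂ R).map (Prod.mkHom (𝟙 ((DRing.restrictD φ).obj E)) ((DTen.resPF φ).app (E', E''))) ≫
          (DTen.resPF φ).app (E, (DTen.LTen₂ A).obj (E', E'')) := by
  let S := DRing.restrictD φ
  suffices h : ∀ {Y Y' : DRing.Cx A} (Y'' : DRing.Cx A), KFlat (curriedTensor (ModuleCat.{u} A)) Y →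
      KFlat (curriedTensor (ModuleCat.{u} A)) Y' →
      (DTen.LTen₂ R).map (Prod.mkHom ((DTen.resPF φ).app (DerivedCategory.Q.obj Y, DerivedCategory.Q.obj Y'))
          (𝟙 (S.obj (DerivedCategory.Q.obj Y'')))) ≫
        (DTen.resPF φ).app ((DTen.LTen₂ A).obj (DerivedCategory.Q.obj Y, DerivedCategory.Q.obj Y'),
          DerivedCategory.Q.obj Y'') ≫
          S.map (DTen.associator _ _ _).hom =
      (DTen.associator (S.obj (DerivedCategory.Q.obj Y)) (S.obj (DerivedCategory.Q.obj Y'))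
          (S.obj (DerivedCategory.Q.obj Y''))).hom ≫
        (DTen.LTen₂ R).map (Prod.mkHom (𝟙 _) ((DTen.resPF φ).app (DerivedCategory.Q.obj Y', DerivedCategory.Q.obj Y''))) ≫
          (DTen.resPF φ).app (DerivedCategory.Q.obj Y,
            (DTen.LTen₂ A).obj (DerivedCategory.Q.obj Y', DerivedCategory.Q.obj Y'')) by
    let i := flatRepIso E
    let j := flatRepIso E'
    let k := flatRepIso E''
    have h₀ := h (flatRep E'') (kFlat_ringRes (DerivedCategory.Q.objPreimage E))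
      (kFlat_ringRes (DerivedCategory.Q.objPreimage E'))
    have n₁ := (DTen.resPF φ).naturality (Prod.mkHom i.hom j.hom)
    have n₂ := (DTen.resPF φ).naturality (Prod.mkHom j.hom k.hom)
    have n₃ := (DTen.resPF φ).naturality (Prod.mkHom ((DTen.LTen₂ A).map (Prod.mkHom i.hom j.hom)) k.hom)
    have n₄ := (DTen.resPF φ).naturality (Prod.mkHom i.hom ((DTen.LTen₂ A).map (Prod.mkHom j.hom k.hom)))
    simp only [Functor.comp_map] at n₁ n₂ n₃ n₄
    let T := (DTen.LTen₂ R).map (Prod.mkHom ((DTen.LTen₂ R).map (Prod.mkHom (S.map i.hom) (S.map j.hom))) (S.map k.hom))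
    haveI : IsIso (Prod.mkHom (S.map i.hom) (S.map j.hom)) := (isIso_prod_iff _ _).2 ⟨inferInstance, inferInstance⟩
    haveI : IsIso (Prod.mkHom ((DTen.LTen₂ R).map (Prod.mkHom (S.map i.hom) (S.map j.hom))) (S.map k.hom)) :=
      (isIso_prod_iff _ _).2 ⟨inferInstance, inferInstance⟩
    refine (cancel_epi T).1 ?_
    have hl : T ≫ (DTen.LTen₂ R).map (Prod.mkHom ((DTen.resPF φ).app (E, E')) (𝟙 (S.obj E''))) =
        (DTen.LTen₂ R).map (Prod.mkHom ((DTen.resPF φ).app (DerivedCategory.Q.obj (flatRep E),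
          DerivedCategory.Q.obj (flatRep E'))) (𝟙 _)) ≫
          (DTen.LTen₂ R).map (Prod.mkHom (S.map ((DTen.LTen₂ A).map (Prod.mkHom i.hom j.hom))) (S.map k.hom)) := by
      dsimp only [T]
      rw [ten_map_comp, ten_map_comp, Category.comp_id, Category.id_comp]
      exact congrArg (fun z => (DTen.LTen₂ R).map (Prod.mkHom z _)) n₁
    have hr : (DTen.LTen₂ R).map (Prod.mkHom (S.map i.hom)
          ((DTen.LTen₂ R).map (Prod.mkHom (S.map j.hom) (S.map k.hom)))) ≫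
        (DTen.LTen₂ R).map (Prod.mkHom (𝟙 (S.obj E)) ((DTen.resPF φ).app (E', E''))) =
        (DTen.LTen₂ R).map (Prod.mkHom (𝟙 _) ((DTen.resPF φ).app (DerivedCategory.Q.obj (flatRep E'),
          DerivedCategory.Q.obj (flatRep E'')))) ≫
          (DTen.LTen₂ R).map (Prod.mkHom (S.map i.hom) (S.map ((DTen.LTen₂ A).map (Prod.mkHom j.hom k.hom)))) := by
      rw [ten_map_comp, ten_map_comp, Category.comp_id, Category.id_comp]
      exact congrArg (fun z => (DTen.LTen₂ R).map (Prod.mkHom _ z)) n₂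
    erw [reassoc_of% hl, reassoc_of% n₃]
    rw [← Functor.map_comp, associator_naturality, Functor.map_comp, reassoc_of% h₀]
    dsimp only [T]
    erw [reassoc_of% (associator_naturality (S.map i.hom) (S.map j.hom) (S.map k.hom))]
    erw [reassoc_of% hr, n₄]
  intro Y Y' Y'' hY hY'
  let F := fun Z : DRing.Cx A => (DTen.resFactors φ).hom.app Z
  haveI := isIso_ε (A := A) hY' Y''
  haveI := isIso_ε (A := A) hY (Y' ⊗ Y'')
  haveI : IsIso (Prod.mkHom (𝟙 (DerivedCategory.Q.obj Y)) ((DTen.ε A).app (Y', Y''))) :=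
    (isIso_prod_iff _ _).2 ⟨inferInstanceAs (IsIso (𝟙 (DerivedCategory.Q.obj Y))), ‹_›⟩
  let c := S.map ((DTen.LTen₂ A).map (Prod.mkHom (𝟙 (DerivedCategory.Q.obj Y)) ((DTen.ε A).app (Y', Y''))) ≫
    (DTen.ε A).app (Y, Y' ⊗ Y'')) ≫ F (Y ⊗ (Y' ⊗ Y''))
  haveI : IsIso c := by dsimp only [c, F]; infer_instance
  refine (cancel_mono c).1 ?_
  have hβ : ∀ {B : Type u} [CommRing B] [DTen.HasLTen B] [DTen.HasLTen₃ B] [DTen.IsSymMonoidal B]
      (K L M : DRing.Cx B), (DTen.associator (DerivedCategory.Q.obj K) (DerivedCategory.Q.obj L)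
          (DerivedCategory.Q.obj M)).hom ≫
        (DTen.LTen₂ B).map (Prod.mkHom (𝟙 (DerivedCategory.Q.obj K)) ((DTen.ε B).app (L, M))) ≫
          (DTen.ε B).app (K, L ⊗ M) =
      (DTen.LTen₂ B).map (Prod.mkHom ((DTen.ε B).app (K, L)) (𝟙 (DerivedCategory.Q.obj M))) ≫
        (DTen.ε B).app (K ⊗ L, M) ≫ DerivedCategory.Q.map (α_ K L M).hom := by
    intro B _ _ _ _ K L M
    have h₁ := DTen.assocR_fac B (K, (L, M))
    have h₂ := DTen.assocL_fac B (K, (L, M))
    simp only [DTen.βR, DTen.βL] at h₁ h₂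
    erw [← h₁, ← h₂]
    rw [← Category.assoc]
    congr 1
    exact DTen.associator_hom_assocR _ _ _
  have hA : ∀ Z Z' : DRing.Cx A, (DTen.resPF φ).app (DerivedCategory.Q.obj Z, DerivedCategory.Q.obj Z') ≫
      S.map ((DTen.ε A).app (Z, Z')) ≫ F (Z ⊗ Z') =
      (DTen.LTen₂ R).map (Prod.mkHom (F Z) (F Z')) ≫
        (DTen.ε R).app ((DTen.resCx φ).obj Z, (DTen.resCx φ).obj Z') ≫
        DerivedCategory.Q.map (DTen.resTenCx φ Z Z') := fun Z Z' => DTen.resPF_fac φ (Z, Z')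
  have hε : ∀ {K K' L L' : DRing.Cx R} (f : K ⟶ K') (g : L ⟶ L'),
      (DTen.LTen₂ R).map (Prod.mkHom (DerivedCategory.Q.map f) (DerivedCategory.Q.map g)) ≫ (DTen.ε R).app (K', L') =
        (DTen.ε R).app (K, L) ≫ DerivedCategory.Q.map (f ⊗ₘ g) := by
    intro K K' L L' f g
    refine ((DTen.ε R).naturality (Prod.mkHom f g)).trans ?_
    rw [MonoidalCategory.tensorHom_def]
    rfl
  have hF : ∀ {Z Z' : DRing.Cx A} (f : Z ⟶ Z'), S.map (DerivedCategory.Q.map f) ≫ F Z' =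
      F Z ≫ DerivedCategory.Q.map ((DTen.resCx φ).map f) := fun f => (DTen.resFactors φ).hom.naturality f
  simp only [Category.assoc]
  dsimp only [c]
  rw [← Functor.map_comp_assoc, hβ]
  simp only [Functor.map_comp, Category.assoc]
  rw [hF (α_ Y Y' Y'').hom]
  have n₁ := (DTen.resPF φ).naturality
    (Prod.mkHom ((DTen.ε A).app (Y, Y')) (𝟙 (DerivedCategory.Q.obj Y'')))
  simp only [Functor.comp_map] at n₁
  have n₂ := (DTen.resPF φ).naturality
    (Prod.mkHom (𝟙 (DerivedCategory.Q.obj Y)) ((DTen.ε A).app (Y', Y'')))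
  simp only [Functor.comp_map] at n₂
  erw [← reassoc_of% n₁, ← reassoc_of% n₂, reassoc_of% (hA (Y ⊗ Y') Y''), hA Y (Y' ⊗ Y'')]
  -- collect the identifications of restriction
  let X := (DTen.resCx φ).obj Y; let X' := (DTen.resCx φ).obj Y'; let X'' := (DTen.resCx φ).obj Y''
  have hL : (DTen.LTen₂ R).map (Prod.mkHom ((DTen.resPF φ).app (DerivedCategory.Q.obj Y, DerivedCategory.Q.obj Y'))
        (𝟙 (S.obj (DerivedCategory.Q.obj Y'')))) ≫
      (DTen.LTen₂ R).map (Prod.mkHom (S.map ((DTen.ε A).app (Y, Y'))) (S.map (𝟙 (DerivedCategory.Q.obj Y'')))) ≫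
        (DTen.LTen₂ R).map (Prod.mkHom (F (Y ⊗ Y')) (F Y'')) =
      (DTen.LTen₂ R).map (Prod.mkHom ((DTen.LTen₂ R).map (Prod.mkHom (F Y) (F Y'))) (F Y'')) ≫
        (DTen.LTen₂ R).map (Prod.mkHom ((DTen.ε R).app (X, X')) (𝟙 (DerivedCategory.Q.obj X''))) ≫
          (DTen.LTen₂ R).map (Prod.mkHom (DerivedCategory.Q.map (DTen.resTenCx φ Y Y'))
            (DerivedCategory.Q.map (𝟙 X''))) := by
    simp only [ten_map_comp]
    erw [hA Y Y']
    simp only [CategoryTheory.Functor.map_id, Category.id_comp, Category.comp_id]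
    erw [Category.comp_id]
  have hR : (DTen.LTen₂ R).map (Prod.mkHom (𝟙 (S.obj (DerivedCategory.Q.obj Y)))
        ((DTen.resPF φ).app (DerivedCategory.Q.obj Y', DerivedCategory.Q.obj Y''))) ≫
      (DTen.LTen₂ R).map (Prod.mkHom (S.map (𝟙 (DerivedCategory.Q.obj Y))) (S.map ((DTen.ε A).app (Y', Y'')))) ≫
        (DTen.LTen₂ R).map (Prod.mkHom (F Y) (F (Y' ⊗ Y''))) =
      (DTen.LTen₂ R).map (Prod.mkHom (F Y) ((DTen.LTen₂ R).map (Prod.mkHom (F Y') (F Y'')))) ≫
        (DTen.LTen₂ R).map (Prod.mkHom (𝟙 (DerivedCategory.Q.obj X)) ((DTen.ε R).app (X', X''))) ≫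
          (DTen.LTen₂ R).map (Prod.mkHom (DerivedCategory.Q.map (𝟙 X))
            (DerivedCategory.Q.map (DTen.resTenCx φ Y' Y''))) := by
    simp only [ten_map_comp]
    erw [hA Y' Y'']
    simp only [CategoryTheory.Functor.map_id, Category.id_comp, Category.comp_id]
    erw [Category.comp_id]
  erw [reassoc_of% hL, reassoc_of% hR]
  erw [reassoc_of% (hε (DTen.resTenCx φ Y Y') (𝟙 X'')), reassoc_of% (hε (𝟙 X) (DTen.resTenCx φ Y' Y''))]
  erw [← reassoc_of% (associator_naturality (F Y) (F Y') (F Y''))]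
  erw [reassoc_of% (hβ X X' X'')]
  simp only [← Functor.map_comp]
  exact congrArg (fun t => _ ≫ _ ≫ _ ≫ DerivedCategory.Q.map t) (resTenCx_assoc φ Y Y' Y'')

omit φ [CommRing R] [DTen.HasLTen R] [DTen.HasLTen₃ R] [DTen.IsSymMonoidal R] [DTen.HasResTen φ] [DTen.ResLegIso φ] in
/-- The left unit is compatible with the associator. -/
theorem associator_unitL (X Y : Dual.D A) :
    (DTen.associator (DTen.unit A) X Y).hom ≫ (DTen.unitL A).app ((DTen.LTen₂ A).obj (X, Y)) =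
      (DTen.LTen₂ A).map (Prod.mkHom ((DTen.unitL A).app X) (𝟙 Y)) := by
  let l := fun Z : Dual.D A => (DTen.unitL A).app Z
  have hl : ∀ {Z Z' : Dual.D A} (f : Z ⟶ Z'),
      (DTen.LTen₂ A).map (Prod.mkHom (𝟙 (DTen.unit A)) f) ≫ l Z' = l Z ≫ f :=
    fun f => (DTen.unitL A).naturality f
  suffices h : ∀ {K : DRing.Cx A} (L : DRing.Cx A), KFlat (curriedTensor (ModuleCat.{u} A)) K →
      (DTen.associator (DTen.unit A) (DerivedCategory.Q.obj K) (DerivedCategory.Q.obj L)).hom ≫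
        l ((DTen.LTen₂ A).obj (DerivedCategory.Q.obj K, DerivedCategory.Q.obj L)) =
      (DTen.LTen₂ A).map (Prod.mkHom (l (DerivedCategory.Q.obj K)) (𝟙 (DerivedCategory.Q.obj L))) by
    let i := flatRepIso X
    let j := flatRepIso Y
    have h₀ := h (flatRep Y) (kFlat_ringRes (DerivedCategory.Q.objPreimage X))
    haveI : IsIso (Prod.mkHom (𝟙 (DTen.unit A)) i.hom) :=
      (isIso_prod_iff _ _).2 ⟨inferInstanceAs (IsIso (𝟙 (DTen.unit A))), inferInstance⟩
    haveI : IsIso (Prod.mkHom ((DTen.LTen₂ A).map (Prod.mkHom (𝟙 (DTen.unit A)) i.hom)) j.hom) :=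
      (isIso_prod_iff _ _).2 ⟨inferInstance, inferInstance⟩
    refine (cancel_epi ((DTen.LTen₂ A).map
      (Prod.mkHom ((DTen.LTen₂ A).map (Prod.mkHom (𝟙 (DTen.unit A)) i.hom)) j.hom))).1 ?_
    erw [reassoc_of% (associator_naturality (𝟙 (DTen.unit A)) i.hom j.hom), hl, reassoc_of% h₀,
      ten_map_comp, ten_map_comp, hl]
    simp only [Category.id_comp, Category.comp_id]
  intro K L hK
  haveI := isIso_ε (A := A) hK L
  refine (cancel_mono ((DTen.ε A).app (K, L))).1 ?_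
  rw [Category.assoc, ← hl]
  dsimp only [l]
  rw [DTen.unitL_app]
  erw [DTen.unitL_app]
  have h₁ := DTen.assocR_fac A (𝟙_ (DRing.Cx A), (K, L))
  have h₂ := DTen.assocL_fac A (𝟙_ (DRing.Cx A), (K, L))
  simp only [DTen.βR, DTen.βL] at h₁ h₂
  erw [reassoc_of% h₁.symm]
  erw [DTen.associator_hom_assocR_assoc]
  erw [reassoc_of% h₂]
  have hsplit : (DTen.LTen₂ A).map (Prod.mkHom ((DTen.ε A).app (𝟙_ (DRing.Cx A), K) ≫
        DerivedCategory.Q.map (λ_ K).hom) (𝟙 (DerivedCategory.Q.obj L))) ≫ (DTen.ε A).app (K, L) =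
      (DTen.LTen₂ A).map (Prod.mkHom ((DTen.ε A).app (𝟙_ (DRing.Cx A), K)) (𝟙 (DerivedCategory.Q.obj L))) ≫
        (DTen.ε A).app (𝟙_ (DRing.Cx A) ⊗ K, L) ≫ DerivedCategory.Q.map ((λ_ K).hom ▷ L) := by
    have n := (DTen.ε A).naturality (Prod.mkHom (λ_ K).hom (𝟙 L))
    simp only [Functor.comp_map] at n
    refine Eq.trans ?_ (congrArg (_ ≫ ·) (n.trans ?_))
    · erw [← Category.assoc, ten_map_comp]
      refine congrArg (fun z => (DTen.LTen₂ A).map z ≫ _) (Prod.ext rfl ?_)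
      exact ((congrArg (_ ≫ ·) (DerivedCategory.Q.map_id L)).trans (Category.comp_id _)).symm
    · refine congrArg (fun z => _ ≫ DerivedCategory.Q.map z) ?_
      change (λ_ K).hom ▷ L ≫ K ◁ 𝟙 L = _
      rw [MonoidalCategory.whiskerLeft_id, Category.comp_id]
  erw [hsplit, ← Functor.map_comp]
  exact congrArg (fun t => _ ≫ _ ≫ DerivedCategory.Q.map t) (by monoidal)

end Groth.Agent.KFlatLib
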