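import Groth.Agent.H9Misc.DRingComplAmp
import Groth.Agent.H9Misc.DRingRHomCompl
import Groth.Agent.KFlatLib.Ring.CompletionDuality

/-!
# Derived torsion and derived completion determine each other
-/

set_option linter.style.haveILetI false
set_option backward.isDefEq.respectTransparency false

universe u

open CategoryTheory CategoryTheory.Limits Pretriangulated

attribute [local instance] HasDerivedCategory.standard

namespace Groth.Agent.KFlatLib.RgammaCompletion

open H9Misc H9Misc.DRingCompl H9Misc.DRingRHomCompl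

variable {A : Type u} [CommRing A]

/-- Objects on which an element of the ideal is invertible have no derived torsion. -/
theorem isZero_rgamma_of_loc (I : Ideal A) [DRing.HasRgammaI I] {f : A} (hf : f ∈ I) {W : Dual.D A}
    (hW : RlimSmul.Loc f W) : IsZero ((DRing.RgammaI I).obj W) := by
  refine isZero_of_forall_hd _ fun q => ?_
  obtain ⟨e⟩ := RgammaHDI.nonempty_hd_equiv I W q
  have hs : Subsingleton (Dual2.HDI A I W q) := subsingleton_of_forall_eq 0 fun w => by
    obtain ⟨n, u, rfl⟩ := RgammaHDI.exists_inc I (W⟦q⟧) w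
    haveI : IsIso (f • 𝟙 (W⟦q⟧)) := hW.shift f q
    have hpow : ∀ k : ℕ, ∀ v : (DerivedCategory.singleFunctor (ModuleCat.{u} A) 0).obj
        (RgammaHDI.qp I n) ⟶ W⟦q⟧, f ^ k • v = 0 → v = 0 := by
      intro k
      induction k with
      | zero => intro v h; rwa [pow_zero, one_smul] at h
      | succ k ih =>
        intro v h
        rw [pow_succ, mul_smul] at h
        have h1 := ih _ h
        rw [← cancel_mono (f • 𝟙 (W⟦q⟧)), zero_comp, Linear.comp_smul, Category.comp_id]
        exact h1
    have h0 : (f ^ n) • 𝟙 (RgammaHDI.qp I n) = 0 :=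
      ModuleCat.hom_ext (Submodule.linearMap_qext _ (LinearMap.ext_ring
        ((Submodule.Quotient.mk_eq_zero _).2 (by simpa using Ideal.pow_mem_pow hf n))))
    rw [hpow n u ?_, map_zero]
    calc f ^ n • u = (DerivedCategory.singleFunctor (ModuleCat.{u} A) 0).map
          ((f ^ n) • 𝟙 (RgammaHDI.qp I n)) ≫ u := by
            rw [Functor.map_smul, CategoryTheory.Functor.map_id, Linear.smul_comp, Category.id_comp]
      _ = 0 := by rw [h0, Functor.map_zero, zero_comp]
  haveI : Subsingleton (Dual.HD A ((DRing.RgammaI I).obj W) q) := e.toEquiv.subsingleton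
  exact ModuleCat.isZero_of_subsingleton _

variable [IsNoetherianRing A] (I : Ideal A) [DRing.HasRgammaI I]

/-- Torsion objects do not map to objects on which an element of the ideal is invertible. -/
theorem eq_zero_of_loc {f : A} (hf : f ∈ I) {W L : Dual.D A} (hW : RlimSmul.Loc f W)
    (hL : ∀ q, LocCoh.IsPowerTorsion I (Dual.HD A L q)) (x : L ⟶ W) : x = 0 := by
  obtain ⟨g, rfl⟩ := (rgammaε_bijective I L W hL).2 x
  show g ≫ _ = 0
  rw [(isZero_rgamma_of_loc I hf hW).eq_of_tgt g 0, zero_comp]

/-- Maps with invertible cone are bijective on maps out of torsion objects. -/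
theorem bijective_of_loc_cone {X Y W : Dual.D A} {η : X ⟶ Y} {j : Y ⟶ W} {d : W ⟶ X⟦(1 : ℤ)⟧}
    (hT : Triangle.mk η j d ∈ distTriang _) {f : A} (hf : f ∈ I) (hW : RlimSmul.Loc f W) (L : Dual.D A)
    (hL : ∀ q, LocCoh.IsPowerTorsion I (Dual.HD A L q)) :
    Function.Bijective (fun g : L ⟶ X => g ≫ η) := by
  refine ⟨fun a b h => sub_eq_zero.1 ?_, fun x => ?_⟩
  · obtain ⟨k, hk⟩ := Triangle.coyoneda_exact₂ _ (inv_rot_of_distTriang _ hT) (a - b)
      (show (a - b) ≫ η = 0 by rw [Preadditive.sub_comp, sub_eq_zero]; exact h)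
    rw [hk, eq_zero_of_loc I hf (hW.shift f (-1)) hL k]
    exact zero_comp
  · obtain ⟨g, hg⟩ := Triangle.coyoneda_exact₂ _ hT x (eq_zero_of_loc I hf hW hL _)
    exact ⟨g, hg.symm⟩

/-- A map bijective on maps out of torsion objects is inverted by derived torsion. -/
theorem isIso_rgamma_map {X Y : Dual.D A} (η : X ⟶ Y)
    (h : ∀ L : Dual.D A, (∀ q, LocCoh.IsPowerTorsion I (Dual.HD A L q)) →
      Function.Bijective (fun g : L ⟶ X => g ≫ η)) : IsIso ((DRing.RgammaI I).map η) := by
  have hb : ∀ L : Dual.D A, (∀ q, LocCoh.IsPowerTorsion I (Dual.HD A L q)) →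
      Function.Bijective (fun g : L ⟶ (DRing.RgammaI I).obj X => g ≫ (DRing.RgammaI I).map η) := fun L hL => by
    refine (Function.Bijective.of_comp_iff' (rgammaε_bijective I L Y hL) _).1 ?_
    convert (h L hL).comp (rgammaε_bijective I L X hL) using 1
    funext g
    show (g ≫ _) ≫ _ = (g ≫ _) ≫ η
    simp only [Category.assoc, (DRing.RgammaIε I).naturality η, Functor.id_map]
  obtain ⟨s, hs⟩ := (hb _ (isPowerTorsion_hd_rgamma I Y)).2 (𝟙 _)
  refine ⟨s, (hb _ (isPowerTorsion_hd_rgamma I X)).1 ?_, hs⟩
  show ((DRing.RgammaI I).map η ≫ s) ≫ _ = 𝟙 _ ≫ _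
  rw [Category.assoc, show s ≫ (DRing.RgammaI I).map η = 𝟙 _ from hs, Category.comp_id, Category.id_comp]

/-- The completion along a list, with maps out of torsion objects. -/
theorem exists_refl_torsion (l : List A) (hl : ∀ f ∈ l, f ∈ I) (X : Dual.D A) :
    ∃ (Y : Dual.D A) (η : X ⟶ Y), Refl (fun Z => ∀ f ∈ l, Cg f Z) η ∧
      ∀ L : Dual.D A, (∀ q, LocCoh.IsPowerTorsion I (Dual.HD A L q)) →
        Function.Bijective (fun g : L ⟶ X => g ≫ η) := by
  induction l with
  | nil =>
    exact ⟨X, 𝟙 X, ⟨fun f hf => absurd hf List.not_mem_nil, fun Z _ n =>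
      ⟨fun p q h => by simpa using h, fun q => ⟨q, Category.id_comp q⟩⟩⟩, fun L _ =>
        ⟨fun p q h => by simpa using h, fun q => ⟨q, Category.comp_id q⟩⟩⟩
  | cons f l ih =>
    obtain ⟨Y, η, hη, hb⟩ := ih fun g hg => hl g (List.mem_cons_of_mem _ hg)
    obtain ⟨Z, θ, hθ, -, hg, W, j, d, hT, hW⟩ := exists_refl_one f Y
    refine ⟨Z, η ≫ θ, Refl.comp (Cg f) hη hθ _ ?_ (fun W hW g hg' => hW g (List.mem_cons_of_mem _ hg'))
      (fun W hW => hW f List.mem_cons_self), fun L hL => ?_⟩
    · intro g hg'
      rcases List.mem_cons.1 hg' with rfl | hg'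
      · exact hθ.mem
      · exact hg g (hη.mem g hg')
    · convert (bijective_of_loc_cone I hT (hl f List.mem_cons_self) hW L hL).comp (hb L hL) using 1
      funext g
      exact (Category.assoc _ _ _).symm

variable [DRing.HasDerivedCompletion I]

/-- Derived torsion does not see derived completion. -/
theorem isIso_rgamma_toCompletion (K : Dual.D A) :
    IsIso ((DRing.RgammaI I).map (DRing.toDerivedCompletion I K)) := by
  obtain ⟨s, hs⟩ := (IsNoetherian.noetherian I : I.FG)
  have hs' : Ideal.span (s : Set A) = I := hs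
  obtain ⟨Y, η, hη, hb⟩ := exists_refl_torsion I s.toList
    (fun f hf => hs' ▸ Ideal.subset_span (Finset.mem_toList.1 hf)) K
  haveI := isIso_rgamma_map I η hb
  have hη' : Refl (DRing.IsDerivedComplete I) η :=
    ⟨(isDerivedComplete_iff_gens s hs' Y).2 fun f hf => hη.mem f (by simpa using hf),
      fun Z hZ n => hη.bij Z (fun f hf => (isDerivedComplete_iff_gens s hs' Z).1 hZ f (by simpa using hf)) n⟩
  have hu := refl_unit (I := I) K
  let Lc := ((DRing.derivedCompletion I).obj K).obj
  let e₀ := (shiftFunctorZero (Dual.D A) ℤ).app Lc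
  let e₁ := (shiftFunctorZero (Dual.D A) ℤ).app Y
  obtain ⟨a, ha⟩ := (hη'.bij Lc hu.mem 0).2 (DRing.toDerivedCompletion I K ≫ e₀.inv)
  obtain ⟨b, hb'⟩ := (hu.bij Y hη'.mem 0).2 (η ≫ e₁.inv)
  dsimp only at ha hb'
  haveI : IsIso (a ≫ e₀.hom) := by
    refine ⟨b ≫ e₁.hom, ?_, ?_⟩
    · rw [← cancel_mono e₁.inv]
      refine hη'.cancel hη'.mem ?_
      simp [reassoc_of% ha, hb']
    · rw [← cancel_mono e₀.inv]
      refine hu.cancel hu.mem ?_
      simp [reassoc_of% hb', ha]
  rw [show DRing.toDerivedCompletion I K = η ≫ a ≫ e₀.hom by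
    rw [← Category.assoc, ha, Category.assoc, Iso.inv_hom_id, Category.comp_id], Functor.map_comp]
  infer_instance

/-- Derived completion does not see derived torsion. -/
theorem bijective_rgammaε_precomp (K Z : Dual.D A) (hZ : DRing.IsDerivedComplete I Z) :
    Function.Bijective (fun φ : K ⟶ Z => (DRing.RgammaIε I).app K ≫ φ) := by
  classical
  obtain ⟨J, hJ, -, hinj, ⟨eK⟩⟩ := exists_injective_model K
  haveI := hJ
  obtain ⟨e, he⟩ := exists_rgamma_iso I J
  have hmain : ∀ (s : Finset A), (∀ f ∈ s, f ∈ I) →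
      Function.Bijective (fun φ : DerivedCategory.Q.obj J ⟶ Z =>
        DerivedCategory.Q.map (gIncl (Ideal.span (s : Set A)) J) ≫ φ) := by
    intro s hs
    induction s using Finset.induction_on with
    | empty =>
      haveI : IsIso (gIncl (Ideal.span ((∅ : Finset A) : Set A)) J) := by
        haveI : ∀ n, IsIso ((gIncl (Ideal.span ((∅ : Finset A) : Set A)) J).f n) := fun n =>
          (ConcreteCategory.isIso_iff_bijective _).2 ⟨Subtype.val_injective, fun x =>
            ⟨(⟨x, 1, fun a ha => by
              rw [Finset.coe_empty, Ideal.span_empty, pow_one, Ideal.mem_bot] at ha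
              rw [ha, zero_smul]⟩ : DRing.torsionSub _ (J.X n)), rfl⟩⟩
        exact HomologicalComplex.Hom.isIso_of_components _
      exact (asIso (DerivedCategory.Q.map (gIncl (Ideal.span ((∅ : Finset A) : Set A)) J))).symm.homFromEquiv.bijective
    | insert f s hf ih =>
      have h1 := ih fun g hg => hs g (Finset.mem_insert_of_mem hg)
      let I₀ := Ideal.span (s : Set A)
      let M := RgammaHDI.gCx I₀ J
      have hX : ∀ n, Module.Injective A (M.X n) := fun n => by
        haveI := hinj n
        show Module.Injective A (DRing.torsionSub I₀ (J.X n))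
        rw [LC.torsionSub_eq_iSup]; exact LC.injective_torsion I₀
      let S := CompletionDuality.gammaSeq (Ideal.span {f}) M
      have hS : S.ShortExact := by
        refine HomologicalComplex.shortExact_of_degreewise_shortExact S fun n => ?_
        exact (CompletionDuality.nonempty_splitting _ M hX n).some.shortExact
      have hW : RlimSmul.Loc f (DerivedCategory.Q.obj S.X₃) := by
        haveI : ∀ i, IsIso ((f • 𝟙 S.X₃).f i) := fun i =>
          (ConcreteCategory.isIso_iff_bijective _).2 (CompletionDuality.bijective_smul_quotCx f M hX i)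
        haveI : IsIso (f • 𝟙 S.X₃) := HomologicalComplex.Hom.isIso_of_components _
        show IsIso (f • 𝟙 (DerivedCategory.Q.obj S.X₃))
        rw [← CategoryTheory.Functor.map_id, ← Functor.map_smul]
        infer_instance
      have h2 : Function.Bijective (fun φ : DerivedCategory.Q.obj M ⟶ Z => DerivedCategory.Q.map S.f ≫ φ) :=
        bijective_of_loc (DerivedCategory.triangleOfSES_distinguished hS) hW
          (hZ f (hs f (Finset.mem_insert_self f s)))
      have heq : Ideal.span (↑(insert f s) : Set A) = I₀ ⊔ Ideal.span {f} := by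
        rw [Finset.coe_insert, Ideal.span_insert, sup_comm]
      rw [heq]
      let g := gCxSupIso I₀ (Ideal.span {f}) J
      have hcomp : g.hom ≫ gIncl (I₀ ⊔ Ideal.span {f}) J = S.f ≫ gIncl I₀ J := by ext n x; rfl
      refine (Function.Bijective.of_comp_iff'
        (DerivedCategory.Q.mapIso g).symm.homFromEquiv.bijective _).1 ?_
      convert h2.comp h1 using 1
      funext φ
      show DerivedCategory.Q.map g.hom ≫ _ = DerivedCategory.Q.map S.f ≫ _
      rw [← Category.assoc, ← Functor.map_comp, hcomp, Functor.map_comp, Category.assoc]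
  obtain ⟨s, hs⟩ := (IsNoetherian.noetherian I : I.FG)
  have hb : Function.Bijective (fun φ : DerivedCategory.Q.obj J ⟶ Z =>
      (DRing.RgammaIε I).app (DerivedCategory.Q.obj J) ≫ φ) := by
    rw [show (DRing.RgammaIε I).app (DerivedCategory.Q.obj J) = e.inv ≫ DerivedCategory.Q.map (gIncl I J) from
      (Iso.eq_inv_comp e).2 he]
    subst hs
    convert e.homFromEquiv.bijective.comp (hmain s fun f hf => Submodule.subset_span hf) using 1
    funext φ
    exact Category.assoc _ _ _
  have h2 := ((DRing.RgammaI I).mapIso eK.symm).homFromEquiv.bijective.comp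
    (hb.comp eK.homFromEquiv.bijective)
  convert h2 using 1
  funext φ
  simp

/-- Derived completion inverts the map from the derived torsion. -/
theorem isIso_completion_map_rgammaε (K : Dual.D A) :
    IsIso ((DRing.derivedCompletion I).map ((DRing.RgammaIε I).app K)) := by
  refine (isIso_iff_coyoneda_map_bijective _).2 fun Z => ?_
  let adj := DRing.derivedCompletionAdj I
  refine (Function.Bijective.of_comp_iff' (adj.homEquiv _ Z).bijective _).1 ?_
  convert (bijective_rgammaε_precomp I K Z.obj Z.property).comp (adj.homEquiv _ Z).bijective using 1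
  funext φ
  exact adj.homEquiv_naturality_left _ φ

/-- Derived completions of an object and of its derived torsion agree. -/
theorem nonempty_completion_rgamma_iso (K : Dual.D A) :
    Nonempty ((DRing.derivedCompletion I).obj ((DRing.RgammaI I).obj K) ≅ (DRing.derivedCompletion I).obj K) :=
  ⟨@asIso _ _ _ _ _ (isIso_completion_map_rgammaε I K)⟩

end Groth.Agent.KFlatLib.RgammaCompletion
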