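import Groth.Agent.KFlatLib.Ring.ExtTen
import Groth.Agent.KFlatLib.Ring.LTen3

/-!
# Derived base change is monoidal, and the comparison for derived hom
-/

set_option linter.style.haveILetI false
set_option backward.isDefEq.respectTransparency false

universe u

open CategoryTheory CategoryTheory.Limits MonoidalCategory

attribute [local instance] HasDerivedCategory.standard

namespace Groth.Agent.KFlatLib

variable {R A : Type u} [CommRing R] [CommRing A] (φ : R →+* A)
  [DTen.HasLTen R] [DTen.HasLTen A] [DTen.HasLBase φ] [DTen.HasResTen φ] [DTen.ResLegIso φ]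

/-- `(Z ⊗ K) ⊗_R A ⟶ (Z ⊗_R A) ⊗_A (K ⊗_R A)`. -/
noncomputable def lbaseTenCmp (Z K : Dual.D R) :
    (DTen.LBase φ).obj ((DTen.LTen₂ R).obj (Z, K)) ⟶
      (DTen.LTen₂ A).obj ((DTen.LBase φ).obj Z, (DTen.LBase φ).obj K) :=
  ((DTen.baseAdj φ).homEquiv _ _).symm
    ((DTen.LTen₂ R).map (Prod.mkHom ((DTen.baseAdj φ).unit.app Z) ((DTen.baseAdj φ).unit.app K)) ≫
      (DTen.resPF φ).app ((DTen.LBase φ).obj Z, (DTen.LBase φ).obj K))

lemma lbaseTenCmp_natural {Z Z' K K' : Dual.D R} (f : Z ⟶ Z') (g : K ⟶ K') :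
    (DTen.LBase φ).map ((DTen.LTen₂ R).map (Prod.mkHom f g)) ≫ lbaseTenCmp φ Z' K' =
      lbaseTenCmp φ Z K ≫
        (DTen.LTen₂ A).map (Prod.mkHom ((DTen.LBase φ).map f) ((DTen.LBase φ).map g)) := by
  dsimp only [lbaseTenCmp]
  rw [← Adjunction.homEquiv_naturality_left_symm, ← Adjunction.homEquiv_naturality_right_symm]
  refine congrArg _ ?_
  have h := (DTen.resPF φ).naturality
    (Prod.mkHom ((DTen.LBase φ).map f) ((DTen.LBase φ).map g))
  simp only [Functor.comp_map] at h
  simp only [Category.assoc]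
  erw [← h]
  rw [← Functor.map_comp_assoc]
  erw [← Functor.map_comp_assoc]
  congr 2
  exact Prod.ext ((DTen.baseAdj φ).unit.naturality f) ((DTen.baseAdj φ).unit.naturality g)

/-- Base change is monoidal. -/
theorem isIso_lbaseTenCmp (Z K : Dual.D R) : IsIso (lbaseTenCmp φ Z K) := by
  suffices h : ∀ {P P' : DRing.Cx R}, KFlat (curriedTensor (ModuleCat.{u} R)) P →
      KFlat (curriedTensor (ModuleCat.{u} R)) P' →
      IsIso (lbaseTenCmp φ (DerivedCategory.Q.obj P) (DerivedCategory.Q.obj P')) by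
    have hf : ∀ E : Dual.D R, KFlat (curriedTensor (ModuleCat.{u} R)) (flatRep E) := fun E =>
      kFlat_ringRes _
    haveI := h (hf Z) (hf K)
    haveI : IsIso (Prod.mkHom (flatRepIso Z).hom (flatRepIso K).hom) :=
      (isIso_prod_iff _ _).2 ⟨inferInstance, inferInstance⟩
    haveI : IsIso (Prod.mkHom ((DTen.LBase φ).map (flatRepIso Z).hom)
        ((DTen.LBase φ).map (flatRepIso K).hom)) :=
      (isIso_prod_iff _ _).2 ⟨inferInstance, inferInstance⟩
    have e := lbaseTenCmp_natural φ (flatRepIso Z).hom (flatRepIso K).hom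
    haveI : IsIso ((DTen.LBase φ).map ((DTen.LTen₂ R).map
        (Prod.mkHom (flatRepIso Z).hom (flatRepIso K).hom)) ≫ lbaseTenCmp φ Z K) := by
      rw [e]
      infer_instance
    exact IsIso.of_isIso_comp_left ((DTen.LBase φ).map ((DTen.LTen₂ R).map
      (Prod.mkHom (flatRepIso Z).hom (flatRepIso K).hom))) _
  intro P P' hP hP'
  let X := (DTen.extCx φ).obj P
  let X' := (DTen.extCx φ).obj P'
  let PP := (DTen.tensorT R).obj (P, P')
  have hPP : KFlat (curriedTensor (ModuleCat.{u} R)) PP := kFlat_tensor hP hP'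
  haveI := isIso_baseCmp φ hP
  haveI := isIso_baseCmp φ hP'
  haveI := isIso_baseCmp φ hPP
  haveI : IsIso ((DTen.ε R).app (P, P')) := isIso_ε hP P'
  haveI : IsIso ((DTen.ε A).app (X, X')) := isIso_ε (kFlat_extendScalars φ hP) X'
  let b := Prod.mkHom ((DTen.baseCmp φ).app P) ((DTen.baseCmp φ).app P')
  haveI : IsIso b := (isIso_prod_iff _ _).2 ⟨inferInstance, inferInstance⟩
  let c := (DTen.LTen₂ A).map b ≫ (DTen.ε A).app (X, X') ≫
    DerivedCategory.Q.map (extTenIso φ P P').hom
  haveI : IsIso c := by dsimp only [c]; infer_instance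
  have key : lbaseTenCmp φ (DerivedCategory.Q.obj P) (DerivedCategory.Q.obj P') ≫ c =
      (DTen.LBase φ).map ((DTen.ε R).app (P, P')) ≫ (DTen.baseCmp φ).app PP := by
    refine ((DTen.baseAdj φ).homEquiv _ _).injective ?_
    rw [Adjunction.homEquiv_naturality_left, lbaseTenCmp, ← Adjunction.homEquiv_naturality_right_symm,
      Equiv.apply_symm_apply]
    erw [(DTen.baseAdj φ).homEquiv_unit]
    erw [DTen.baseCmp_fac φ PP]
    have hn := (DTen.resPF φ).naturality b
    simp only [Functor.comp_map] at hn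
    have hf := DTen.resPF_fac φ (X, X')
    have hε := (DTen.ε R).naturality
      (Prod.mkHom ((DTen.unitCx φ).app P) ((DTen.unitCx φ).app P'))
    simp only [Functor.comp_map] at hε
    have hr := (DTen.resFactors φ).inv.naturality (extTenIso φ P P').hom
    simp only [Functor.comp_map] at hr
    have hf' : (DTen.resPF φ).app (DerivedCategory.Q.obj X, DerivedCategory.Q.obj X') ≫
        (DRing.restrictD φ).map ((DTen.ε A).app (X, X')) =
        (DTen.resβA φ).app (X, X') ≫ (DTen.resFactors φ).inv.app _ := by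
      rw [← hf]
      simp only [DTen.resβB, Category.assoc]
      exact congrArg (_ ≫ ·) ((congrArg (_ ≫ ·) ((DTen.resFactors φ).hom_inv_id_app _)).trans
        (Category.comp_id _)).symm
    simp only [c, Functor.map_comp, Category.assoc]
    erw [← reassoc_of% hn]
    erw [reassoc_of% hf']
    simp only [DTen.resβA, Category.assoc]
    erw [← Functor.map_comp_assoc, ← Functor.map_comp_assoc]
    erw [← hr]
    have hp : Prod.mkHom ((DTen.baseAdj φ).unit.app (DerivedCategory.Q.obj P))
          ((DTen.baseAdj φ).unit.app (DerivedCategory.Q.obj P')) ≫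
          ((DRing.restrictD φ).prod (DRing.restrictD φ)).map b ≫
            Prod.mkHom ((DTen.resFactors φ).hom.app X) ((DTen.resFactors φ).hom.app X') =
        (DTen.QQ R).map (Prod.mkHom ((DTen.unitCx φ).app P) ((DTen.unitCx φ).app P')) := by
      have h₁ : ∀ T : DRing.Cx R, (DTen.baseAdj φ).unit.app (DerivedCategory.Q.obj T) ≫
          (DRing.restrictD φ).map ((DTen.baseCmp φ).app T) ≫
            (DTen.resFactors φ).hom.app ((DTen.extCx φ).obj T) =
          DerivedCategory.Q.map ((DTen.unitCx φ).app T) := fun T => by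
        rw [← Category.assoc, DTen.baseCmp_fac]
        exact (Category.assoc _ _ _).trans ((congrArg (_ ≫ ·)
          ((DTen.resFactors φ).inv_hom_id_app _)).trans (Category.comp_id _))
      exact Prod.ext (h₁ P) (h₁ P')
    rw [← Category.assoc] at hp
    refine Eq.trans (congrArg (fun z => (DTen.LTen₂ R).map z ≫ _) hp) ?_
    erw [reassoc_of% hε]
    refine congrArg (_ ≫ ·) ?_
    simp only [DTen.baseγ]
    rw [← Functor.map_comp_assoc, ← Functor.map_comp_assoc]
    refine congrArg (fun z => DerivedCategory.Q.map z ≫ _) ?_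
    rw [Category.assoc, ← unit_extTenIso φ P P', MonoidalCategory.tensorHom_def, Category.assoc]
    rfl
  haveI : IsIso (lbaseTenCmp φ (DerivedCategory.Q.obj P) (DerivedCategory.Q.obj P') ≫ c) := by
    rw [key]
    infer_instance
  exact IsIso.of_isIso_comp_right _ c

variable [DTen.HasRHom R] [DTen.HasRHom A]

/-- `rhomBC` on morphisms. -/
lemma rhomBC_comp (K Z : Dual.D R) (M : Dual.D A)
    (h : (DTen.LBase φ).obj Z ⟶ (DTen.RHomR A ((DTen.LBase φ).obj K)).obj M) :
    (DTen.baseAdj φ).homEquiv Z _ h ≫ DTen.rhomBC φ K M =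
      DTen.rhomHomEquiv Z K _ ((DTen.baseAdj φ).homEquiv _ M
        (lbaseTenCmp φ Z K ≫ (DTen.rhomHomEquiv _ _ M).symm h)) := by
  rw [DTen.rhomBC]
  refine ((DTen.rhomAdj R K).homEquiv_naturality_left _ _).symm.trans ?_
  refine congrArg (DTen.rhomHomEquiv Z K _) ?_
  rw [lbaseTenCmp, ← Adjunction.homEquiv_naturality_right_symm, Equiv.apply_symm_apply,
    (DTen.baseAdj φ).homEquiv_unit]
  erw [(DTen.rhomAdj A ((DTen.LBase φ).obj K)).homEquiv_counit]
  dsimp only [DTen.rhomBCCore]
  change (DTen.LTen₂ R).map (Prod.mkHom ((DTen.baseAdj φ).unit.app Z ≫ (DRing.restrictD φ).map h) (𝟙 K)) ≫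
      _ = _
  rw [← Category.assoc, ← Functor.map_comp, Category.assoc, Functor.map_comp (DRing.restrictD φ)]
  have hn := (DTen.resPF φ).naturality (Prod.mkHom h (𝟙 ((DTen.LBase φ).obj K)))
  simp only [Functor.comp_map] at hn
  erw [← reassoc_of% hn]
  erw [← Functor.map_comp_assoc]
  congr 2
  refine Prod.ext ?_ ?_
  · exact Category.comp_id _
  · refine (Category.id_comp _).trans ?_
    exact ((congrArg (_ ≫ ·) ((DRing.restrictD φ).map_id _)).trans (Category.comp_id _)).symm

/-- Base change for derived hom. -/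
theorem isIso_rhomBC (K : Dual.D R) (M : Dual.D A) : IsIso (DTen.rhomBC φ K M) := by
  refine isIso_of_yoneda_map_bijective _ fun Z => ?_
  haveI := isIso_lbaseTenCmp φ Z K
  let b : (Z ⟶ (DRing.restrictD φ).obj ((DTen.RHomR A ((DTen.LBase φ).obj K)).obj M)) ≃
      (Z ⟶ (DTen.RHomR R K).obj ((DRing.restrictD φ).obj M)) :=
    ((DTen.baseAdj φ).homEquiv _ _).symm.trans ((DTen.rhomHomEquiv _ _ M).symm.trans
      ((Iso.homFromEquiv (asIso (lbaseTenCmp φ Z K)).symm).trans
        (((DTen.baseAdj φ).homEquiv _ M).trans (DTen.rhomHomEquiv Z K _))))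
  convert b.bijective using 1
  funext g
  obtain ⟨h, rfl⟩ := ((DTen.baseAdj φ).homEquiv Z _).surjective g
  rw [rhomBC_comp]
  simp [b, Iso.homFromEquiv]

end Groth.Agent.KFlatLib
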