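import Groth.Agent.KFlatLib.Ring.ProjPairSymm
import Groth.Agent.KFlatLib.Ring.RHomFinite
import Groth.Agent.KFlatLib.Ring.EvalPerfect
import Groth.Agent.KFlatLib.Ring.ResTenBinders
import Groth.Agent.KFlatLib.Ring.BaseChangeSquare

/-!
# Trivial duality for derived hom and biduality into a shriek
-/

set_option linter.style.haveILetI false
set_option backward.isDefEq.respectTransparency false

universe u

open CategoryTheory CategoryTheory.Limits Pretriangulated MonoidalCategory Opposite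

attribute [local instance] HasDerivedCategory.standard

namespace Groth.Agent.KFlatLib

variable {P A : Type u} [CommRing P] [CommRing A] (φ : P →+* A)
  [DTen.HasLTen P] [DTen.HasLTen A] [DTen.HasRHom P] [DTen.HasRHom A]

section Shriek

variable [DTen.HasLBase φ] [DTen.HasResTen φ] [DTen.ResLegIso φ]
  {Rφ : Dual.D P ⥤ Dual.D A} (adj : DRing.restrictD φ ⊣ Rφ)

/-- The adjunct of trivial duality. -/
noncomputable def shriekPairCore (X : Dual.D A) (Y : Dual.D P) :
    (DTen.LTen₂ P).obj ((DRing.restrictD φ).obj ((DTen.RHomR A X).obj (Rφ.obj Y)),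
      (DRing.restrictD φ).obj X) ⟶ Y :=
  (DTen.resPF φ).app ((DTen.RHomR A X).obj (Rφ.obj Y), X) ≫
    (DRing.restrictD φ).map (DTen.ev X (Rφ.obj Y)) ≫ adj.counit.app Y

/-- `RHom(X, φ^! Y)|_P → RHom(X|_P, Y)`. -/
noncomputable def shriekPair (X : Dual.D A) (Y : Dual.D P) :
    (DRing.restrictD φ).obj ((DTen.RHomR A X).obj (Rφ.obj Y)) ⟶
      (DTen.RHomR P ((DRing.restrictD φ).obj X)).obj Y :=
  DTen.rhomHomEquiv _ _ _ (shriekPairCore φ adj X Y)

/-- Trivial duality. -/
theorem isIso_shriekPair (X : Dual.D A) (Y : Dual.D P) : IsIso (shriekPair φ adj X Y) := by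
  refine isIso_of_yoneda_map_bijective _ fun Z => ?_
  let N := (DTen.RHomR A X).obj (Rφ.obj Y)
  let L := (DTen.LBase φ).obj Z
  haveI := isIso_piD φ Z X
  let e : (Z ⟶ (DRing.restrictD φ).obj N) ≃ (Z ⟶ (DTen.RHomR P ((DRing.restrictD φ).obj X)).obj Y) :=
    ((DTen.baseAdj φ).homEquiv Z N).symm.trans ((DTen.rhomHomEquiv L X (Rφ.obj Y)).symm.trans
      ((adj.homEquiv _ Y).symm.trans ((Iso.homFromEquiv (asIso (piD φ Z X)).symm).trans
        (DTen.rhomHomEquiv Z ((DRing.restrictD φ).obj X) Y))))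
  convert e.bijective using 1
  funext g
  obtain ⟨h, rfl⟩ := ((DTen.baseAdj φ).homEquiv Z N).surjective g
  dsimp only [shriekPair]
  rw [← rhomHomEquiv_comp]
  simp only [e, Equiv.trans_apply, Equiv.symm_apply_apply]
  refine congrArg (DTen.rhomHomEquiv Z _ Y) ?_
  rw [(DTen.baseAdj φ).homEquiv_unit, adj.homEquiv_counit]
  have hn := (DTen.resPF φ).naturality (Prod.mkHom h (𝟙 X))
  simp only [Functor.comp_map] at hn
  have hl : (DTen.LTen₂ P).map (Prod.mkHom ((DTen.baseAdj φ).unit.app Z ≫ (DRing.restrictD φ).map h)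
      (𝟙 ((DRing.restrictD φ).obj X))) =
      (DTen.LTen₂ P).map (Prod.mkHom ((DTen.baseAdj φ).unit.app Z) (𝟙 _)) ≫
        (DTen.LTen₂ P).map (((DRing.restrictD φ).prod (DRing.restrictD φ)).map (Prod.mkHom h (𝟙 X))) := by
    rw [← Functor.map_comp]
    refine congrArg _ (Prod.ext rfl ?_)
    exact ((congrArg (_ ≫ ·) ((DRing.restrictD φ).map_id X)).trans (Category.comp_id _)).symm
  have hh : (DTen.rhomHomEquiv L X (Rφ.obj Y)).symm h =
      (DTen.LTen₂ A).map (Prod.mkHom h (𝟙 X)) ≫ DTen.ev X (Rφ.obj Y) :=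
    (DTen.rhomAdj A X).homEquiv_counit ..
  dsimp only [shriekPairCore, piD]
  rw [hl, Category.assoc]
  erw [reassoc_of% hn]
  erw [hh, Functor.map_comp]
  simp only [Category.assoc]
  exact (Category.assoc _ _ _).symm

end Shriek

variable {φ}

/-- The biduality map. -/
noncomputable def bidualMap (K M : Dual.D A) :
    K ⟶ (DTen.RHomR A ((DTen.RHomR A K).obj M)).obj M :=
  DTen.rhomHomEquiv _ _ _ ((DTen.symm A).app ((DTen.RHomR A K).obj M, K) ≫ DTen.ev K M)

/-- The biduality map is natural. -/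
lemma bidualMap_natural {K K' : Dual.D A} (f : K ⟶ K') (M : Dual.D A) :
    f ≫ bidualMap K' M = bidualMap K M ≫ DTen.RHomMap (DTen.RHomMap f M) M := by
  refine Eq.trans (rhomHomEquiv_comp (R := A) f _).symm
    (Eq.trans ?_ (rhomHomEquiv_comp_right (R := A) (DTen.RHomMap f M) _))
  refine congrArg _ ?_
  have n₁ := (DTen.symm A).naturality (Prod.mkHom (𝟙 ((DTen.RHomR A K').obj M)) f)
  have n₂ := (DTen.symm A).naturality (Prod.mkHom (DTen.RHomMap f M) (𝟙 K))
  simp only [Functor.comp_map] at n₁ n₂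
  erw [reassoc_of% n₁, reassoc_of% n₂, DTen.RHom_map_ev]

/-- The biduality map as a natural transformation. -/
noncomputable def bidualNat (M : Dual.D A) :
    𝟭 (Dual.D A) ⟶ ((DTen.RHom A).flip.obj M).rightOp ⋙ (DTen.RHom A).flip.obj M where
  app K := bidualMap K M
  naturality _ _ f := bidualMap_natural f M

/-- Biduality into a shift of the unit for perfect objects. -/
theorem isIso_bidualMap_of_isPerfect (K : Dual.D A) (m : ℤ) (hK : DRing.IsPerfect A K) :
    IsIso (bidualMap K ((DTen.unit A)⟦m⟧)) := by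
  haveI := hasLTen₃ A
  haveI := isSymMonoidal A
  let M := (DTen.unit A)⟦m⟧
  haveI := preservesZeroMorphisms_RHom M
  haveI : ((DTen.RHom A).flip.obj M).rightOp.PreservesZeroMorphisms :=
    ⟨fun _ _ => Quiver.Hom.unop_inj (((DTen.RHom A).flip.obj M).map_zero _ _)⟩
  refine isIso_app_of_isPerfect homExact_id (homExact_RHom_RHom M M) (bidualNat M) (fun j => ?_) hK
  let u := (DTen.unit A)⟦j⟧
  let D := (DTen.RHomR A u).obj M
  haveI := isEquivalence_tensorRightD_shift_unit (A := A) j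
  haveI : (DTen.RHomR A u).IsEquivalence :=
    (DTen.rhomAdj A u).isEquivalence_right_of_isEquivalence_left
  haveI : IsIso (DTen.ev u M) := inferInstance
  obtain ⟨e⟩ := nonempty_RHomR_unit_iso (A := A) j
  let eD : D ≅ (DTen.unit A)⟦m + -j⟧ := e.app M ≪≫ ((shiftFunctorAdd (Dual.D A) m (-j)).app _).symm
  haveI := isEquivalence_tensorRightD_shift_unit (A := A) (m + -j)
  haveI : (DTen.tensorRightD A D).IsEquivalence :=
    Functor.isEquivalence_of_iso (F := DTen.tensorRightD A ((DTen.unit A)⟦m + -j⟧))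
      (NatIso.ofComponents (fun X => (DTen.LTen₂ A).mapIso (Iso.prod (Iso.refl X) eD.symm))
        fun {X X'} f => (ten_swap f eD.inv).symm)
  haveI := isIso_symm_app D u
  refine isIso_of_yoneda_map_bijective _ fun Z => ?_
  let F := DTen.tensorRightD A D
  have key : (fun z : Z ⟶ u => z ≫ bidualMap u M) =
      (DTen.rhomHomEquiv Z D M) ∘ (fun z => F.map z ≫ ((DTen.symm A).app (D, u) ≫ DTen.ev u M)) :=
    funext fun z => ((DTen.rhomAdj A D).homEquiv_naturality_left z _).symm
  change Function.Bijective (fun z : Z ⟶ u => z ≫ bidualMap u M)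
  rw [key]
  refine (Equiv.bijective _).comp ?_
  let g := (DTen.symm A).app (D, u) ≫ DTen.ev u M
  exact ((Functor.FullyFaithful.ofFullyFaithful F).homEquiv.trans
    (Iso.homToEquiv (asIso g) (Z := F.obj Z))).bijective

variable (φ) [DTen.HasLBase φ] [DTen.HasResTen φ] [DTen.ResLegIso φ]
  {Rφ : Dual.D P ⥤ Dual.D A} (adj : DRing.restrictD φ ⊣ Rφ)

omit [DTen.HasLBase φ] in
/-- Biduality upstairs is biduality downstairs. -/
theorem restrict_bidualMap (K : Dual.D A) (Y : Dual.D P) :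
    (DRing.restrictD φ).map (bidualMap K (Rφ.obj Y)) ≫
        shriekPair φ adj ((DTen.RHomR A K).obj (Rφ.obj Y)) Y =
      bidualMap ((DRing.restrictD φ).obj K) Y ≫ DTen.RHomMap (shriekPair φ adj K Y) Y := by
  let D := (DTen.RHomR A K).obj (Rφ.obj Y)
  refine Eq.trans (rhomHomEquiv_comp (R := P) _ _).symm
    (Eq.trans ?_ (rhomHomEquiv_comp_right (R := P) (shriekPair φ adj K Y) _))
  refine congrArg _ ?_
  have hn := (DTen.resPF φ).naturality (Prod.mkHom (bidualMap K (Rφ.obj Y)) (𝟙 D))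
  simp only [Functor.comp_map] at hn
  have hb : (DTen.LTen₂ A).map (Prod.mkHom (bidualMap K (Rφ.obj Y)) (𝟙 D)) ≫ DTen.ev D (Rφ.obj Y) =
      (DTen.symm A).app (D, K) ≫ DTen.ev K (Rφ.obj Y) :=
    ((DTen.rhomAdj A D).homEquiv_counit ..).symm.trans (Equiv.symm_apply_apply _ _)
  have n₂ := (DTen.symm P).naturality
    (Prod.mkHom (shriekPair φ adj K Y) (𝟙 ((DRing.restrictD φ).obj K)))
  simp only [Functor.comp_map] at n₂
  have hp : (DTen.LTen₂ P).map (Prod.mkHom (shriekPair φ adj K Y) (𝟙 ((DRing.restrictD φ).obj K))) ≫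
      DTen.ev ((DRing.restrictD φ).obj K) Y = shriekPairCore φ adj K Y :=
    ((DTen.rhomAdj P _).homEquiv_counit ..).symm.trans (Equiv.symm_apply_apply _ _)
  erw [reassoc_of% n₂, hp]
  dsimp only [shriekPairCore]
  erw [reassoc_of% (symm_resPF φ D K), ← Functor.map_comp_assoc, ← hb, Functor.map_comp_assoc,
    ← reassoc_of% hn]
  congr 2
  refine Prod.ext rfl ?_
  exact ((DRing.restrictD φ).map_id D).symm

include adj in
/-- An object perfect downstairs is bidual upstairs. -/
theorem isIso_bidualMap_shriek (K : Dual.D A) (m : ℤ)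
    (hK : DRing.IsPerfect P ((DRing.restrictD φ).obj K)) :
    IsIso (bidualMap K (Rφ.obj ((DTen.unit P)⟦m⟧))) := by
  let Y := (DTen.unit P)⟦m⟧
  let D := (DTen.RHomR A K).obj (Rφ.obj Y)
  haveI := isIso_shriekPair φ adj K Y
  haveI := isIso_shriekPair φ adj D Y
  haveI := isIso_bidualMap_of_isPerfect ((DRing.restrictD φ).obj K) m hK
  haveI : IsIso (DTen.RHomMap (shriekPair φ adj K Y) Y) := by
    dsimp only [DTen.RHomMap]
    infer_instance
  haveI : IsIso ((DRing.restrictD φ).map (bidualMap K (Rφ.obj Y)) ≫ shriekPair φ adj D Y) := by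
    rw [restrict_bidualMap φ adj K Y]
    infer_instance
  haveI : IsIso ((DRing.restrictD φ).map (bidualMap K (Rφ.obj Y))) :=
    IsIso.of_isIso_comp_right _ (shriekPair φ adj D Y)
  exact isIso_of_isIso_restrictScalars φ _

end Groth.Agent.KFlatLib
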