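import Groth.Agent.KFlatLib.Ring.ShriekGorenstein
import Groth.Agent.KFlatLib.Ring.ExtRegularBelow
import Groth.Agent.KRegLib.Perfect
import Groth.Agent.KRegLib.Pres
import Groth.Agent.LC.GorLCI
import Mathlib.Algebra.Homology.DerivedCategory.Ext.Linear

/-!
# The relative dualizing complex of a local complete intersection
-/

set_option linter.style.haveILetI false
set_option backward.isDefEq.respectTransparency false

universe u

open CategoryTheory CategoryTheory.Limits MonoidalCategory RingTheory.Sequence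
open scoped TensorProduct
open Groth.Agent.DefGlueLib (dot trivR)

attribute [local instance] HasDerivedCategory.standard

namespace Groth.Agent.KFlatLib

section Transfer

variable {P A : Type u} [CommRing P] [CommRing A] [Algebra P A] (H : Type u) [AddCommGroup H] [Module A H]
  [Module P H] [IsScalarTower P A H] (hsurj : Function.Surjective (algebraMap P A)) (q : Ideal A) [q.IsPrime]
  (Q : Ideal P) [Q.IsPrime] (hQ : Q = q.comap (algebraMap P A))

include hsurj hQ

/-- Localization of a module over a quotient can be computed upstairs: vanishing. -/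
lemma subsingleton_localized_of_quotient (h : Subsingleton (LocalizedModule Q.primeCompl H)) :
    Subsingleton (LocalizedModule q.primeCompl H) := by
  rw [LocalizedModule.subsingleton_iff] at h ⊢
  intro m
  obtain ⟨r, hr, hm⟩ := h m
  refine ⟨algebraMap P A r, fun hq => hr ((SetLike.ext_iff.1 hQ r).2 hq), ?_⟩
  rw [algebraMap_smul]
  exact hm

/-- Localization of a module over a quotient can be computed upstairs: rank one. -/
lemma exists_localized_linearEquiv_of_quotient
    (e : LocalizedModule Q.primeCompl H ≃ₗ[Localization.AtPrime Q]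
      (Localization.AtPrime Q ⧸ (RingHom.ker (algebraMap P A)).map (algebraMap P (Localization.AtPrime Q)))) :
    Nonempty (LocalizedModule q.primeCompl H ≃ₗ[Localization.AtPrime q] Localization.AtPrime q) := by
  let S := Localization.AtPrime Q
  let J := (RingHom.ker (algebraMap P A)).map (algebraMap P S)
  obtain ⟨x, s, hxs⟩ : ∃ (x : H) (s : Q.primeCompl),
      e.symm (Submodule.Quotient.mk (1 : S)) = LocalizedModule.mk x s := by
    induction e.symm (Submodule.Quotient.mk (1 : S)) using LocalizedModule.induction_on with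
    | _ x s => exact ⟨x, s, rfl⟩
  have hmem : ∀ t : Q.primeCompl, algebraMap P A t ∈ q.primeCompl := fun t ht => t.2 ((SetLike.ext_iff.1 hQ t.1).2 ht)
  let l : Localization.AtPrime q →ₗ[Localization.AtPrime q] LocalizedModule q.primeCompl H :=
    LinearMap.toSpanSingleton _ _ (LocalizedModule.mk x 1)
  have hl : ∀ (a : A) (t : q.primeCompl), l (Localization.mk a t) = LocalizedModule.mk (a • x) t := fun a t => by
    simp only [l, LinearMap.toSpanSingleton_apply]
    rw [LocalizedModule.mk_smul_mk, mul_one]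
  refine ⟨(LinearEquiv.ofBijective l ⟨?_, ?_⟩).symm⟩
  · rw [injective_iff_map_eq_zero]
    intro z hz
    induction z using Localization.induction_on with
    | H y =>
      obtain ⟨a, t⟩ := y
      rw [hl, ← LocalizedModule.zero_mk t, LocalizedModule.mk_eq] at hz
      obtain ⟨u, hu⟩ := hz
      obtain ⟨p, hp⟩ := hsurj ((u : A) * ((t : A) * a))
      have h1 : p • x = 0 := by
        rw [← algebraMap_smul A p x, hp, mul_smul, mul_smul]
        simpa [Submonoid.smul_def] using hu
      have h2 : (Submodule.Quotient.mk (algebraMap P S p) : S ⧸ J) = 0 := by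
        have h3 : algebraMap P S p • e.symm (Submodule.Quotient.mk (1 : S)) = 0 := by
          rw [hxs, algebraMap_smul, LocalizedModule.smul'_mk, h1, LocalizedModule.zero_mk]
        rw [← map_smul, LinearEquiv.map_eq_zero_iff, ← Submodule.Quotient.mk_smul, smul_eq_mul, mul_one] at h3
        exact h3
      rw [Submodule.Quotient.mk_eq_zero, IsLocalization.algebraMap_mem_map_algebraMap_iff Q.primeCompl] at h2
      obtain ⟨v, hv, hvp⟩ := h2
      rw [RingHom.mem_ker, map_mul, hp] at hvp
      rw [← Localization.mk_zero t, Localization.mk_eq_mk_iff, Localization.r_iff_exists]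
      refine ⟨⟨algebraMap P A v, hmem ⟨v, hv⟩⟩ * u, ?_⟩
      simp only [Submonoid.coe_mul, mul_zero]
      rw [← hvp]
      ring
  · intro z
    induction z using LocalizedModule.induction_on with
    | _ h t =>
      obtain ⟨c, hc⟩ := Submodule.Quotient.mk_surjective J (e (LocalizedModule.mk h 1))
      obtain ⟨a, b, rfl⟩ := IsLocalization.exists_mk'_eq Q.primeCompl c
      have h1 : algebraMap P S b • LocalizedModule.mk h (1 : Q.primeCompl) =
          algebraMap P S a • e.symm (Submodule.Quotient.mk (1 : S)) := by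
        apply e.injective
        rw [map_smul, map_smul, e.apply_symm_apply, ← hc, ← Submodule.Quotient.mk_smul,
          ← Submodule.Quotient.mk_smul, smul_eq_mul, smul_eq_mul, mul_one, IsLocalization.mk'_spec']
      rw [hxs, algebraMap_smul, algebraMap_smul, LocalizedModule.smul'_mk, LocalizedModule.smul'_mk,
        LocalizedModule.mk_eq] at h1
      obtain ⟨u, hu⟩ := h1
      simp only [Submonoid.smul_def, OneMemClass.coe_one, one_smul] at hu
      refine ⟨Localization.mk (algebraMap P A a)
        (⟨_, hmem s⟩ * ⟨_, hmem b⟩ * t : q.primeCompl) * 1, ?_⟩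
      rw [mul_one, hl, LocalizedModule.mk_eq]
      refine ⟨⟨_, hmem u⟩, ?_⟩
      simp only [Submonoid.smul_def, Submonoid.coe_mul, mul_smul, algebraMap_smul]
      have hu' := congrArg (fun z => (t : A) • z) hu
      simp only [smul_comm (t : A)] at hu' ⊢
      exact hu'.symm

end Transfer

section Generators

/-- Locally at a point a Koszul regular ideal is generated by a weakly regular sequence. -/
theorem exists_weaklyRegular_generators {P : Type u} [CommRing P] [IsNoetherianRing P] (I : Ideal P)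
    (hK : LCI.IsKoszulRegularIdeal I) (Q : Ideal P) [Q.IsPrime] (hQ : I ≤ Q) :
    ∃ l : List (Localization.AtPrime Q), IsWeaklyRegular (Localization.AtPrime Q) l ∧
      Ideal.ofList l = I.map (algebraMap P (Localization.AtPrime Q)) := by
  obtain ⟨g, hg, l, hl, hI⟩ := hK ⟨Q, ‹_›⟩ hQ
  let T := Localization.Away g
  let S := Localization.AtPrime Q
  have hMQ : Submonoid.powers g ≤ Q.primeCompl := Submonoid.powers_le.2 hg
  have hunit : ∀ y : Submonoid.powers g, IsUnit (algebraMap P S y) :=
    fun y => IsLocalization.map_units S (⟨y.1, hMQ y.2⟩ : Q.primeCompl)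
  letI : Algebra T S := (IsLocalization.lift hunit).toAlgebra
  haveI : IsScalarTower P T S := IsScalarTower.of_algebraMap_eq fun z => by
    rw [RingHom.algebraMap_toAlgebra, IsLocalization.lift_eq]
  haveI : IsLocalization (Q.primeCompl.map (algebraMap P T)) S :=
    IsLocalization.isLocalization_of_submonoid_le T S (Submonoid.powers g) Q.primeCompl hMQ
  let fS : Fin l.length → S := fun i => algebraMap T S l[i]
  have h1 : Ideal.ofList (List.ofFn fS) = I.map (algebraMap P S) := by
    rw [IsScalarTower.algebraMap_eq P T S, ← Ideal.map_map, hI, ← LC.range_list_get l, Ideal.map_span,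
      ← Set.range_comp, Ideal.ofList]
    congr 1
    ext z
    constructor
    · intro hz
      obtain ⟨i, rfl⟩ := List.mem_ofFn.1 hz
      exact ⟨i, rfl⟩
    · rintro ⟨i, rfl⟩
      exact List.mem_ofFn.2 ⟨i, rfl⟩
  have hmem : ∀ i, fS i ∈ IsLocalRing.maximalIdeal S := fun i => by
    rw [← Localization.AtPrime.map_eq_maximalIdeal]
    refine Ideal.map_mono hQ ?_
    rw [← h1]
    exact Ideal.subset_span ((List.mem_ofFn).2 ⟨i, rfl⟩)
  haveI : IsNoetherianRing S := IsLocalization.isNoetherianRing Q.primeCompl _ inferInstance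
  exact ⟨List.ofFn fS, LC.weaklyRegular_of_rel _ fS hmem fun u hu =>
    LC.rel_localize (Q.primeCompl.map (algebraMap P T)) (fun i : Fin l.length => l[i])
      (fun v hv => DefGlueLib.mem_trivR_of_isKoszulRegularSeq hl hv) u hu, h1⟩

end Generators

variable {R A : Type u} [CommRing R] [CommRing A] [IsNoetherianRing R] {n : ℕ}
  (ψ : MvPolynomial (Fin n) R →+* A) {Rψ : Dual.D (MvPolynomial (Fin n) R) ⥤ Dual.D A}

omit [IsNoetherianRing R] in
/-- The shriek of the ring restricts to the dual of the algebra. -/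
lemma nonempty_res_shriek_unit' (a : DRing.restrictD ψ ⊣ Rψ) [DTen.HasLTen (MvPolynomial (Fin n) R)]
    [DTen.HasRHom (MvPolynomial (Fin n) R)] :
    Nonempty ((DRing.restrictD ψ).obj (Rψ.obj (DTen.unit _)) ≅
      (DTen.RHomR _ ((DRing.restrictD ψ).obj (DTen.unit A))).obj (DTen.unit _)) := by
  haveI := hasLTen A
  haveI := hasLBase ψ
  haveI := hasResTen ψ
  haveI := resLegIso ψ
  obtain ⟨i⟩ := nonempty_tensorRight_shift (B := A) (N := DTen.unit A) 0
    ((shiftFunctorZero (Dual.D A) ℤ).app (DTen.unit A)).symm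
  haveI := isIso_rhomHomEquiv_pairing ψ a (i ≪≫ shiftFunctorZero (Dual.D A) ℤ) (DTen.unit _)
  exact ⟨asIso (DTen.rhomHomEquiv _ _ _ (pairingD ψ a (i ≪≫ shiftFunctorZero (Dual.D A) ℤ) (DTen.unit _)))⟩

variable (hψ : Function.Surjective ψ) (a : DRing.restrictD ψ ⊣ Rψ)
  (hK : LCI.IsKoszulRegularIdeal (RingHom.ker ψ))

include hψ

omit [IsNoetherianRing R] in
/-- Restriction of the ring is the quotient by the kernel. -/
lemma nonempty_res_unit_iso_quotient :
    Nonempty ((DRing.restrictD ψ).obj (DTen.unit A) ≅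
      Dual.inD (MvPolynomial (Fin n) R) (MvPolynomial (Fin n) R ⧸ RingHom.ker ψ)) := by
  let P := MvPolynomial (Fin n) R
  letI : Algebra P A := ψ.toAlgebra
  let f : P →ₗ[P] ((ModuleCat.restrictScalars ψ).obj (ModuleCat.of A A) : Type u) :=
    { toFun := fun p => ψ p
      map_add' := map_add ψ
      map_smul' := fun p x => map_mul ψ p x }
  let e : (P ⧸ RingHom.ker ψ) ≃ₗ[P] ((ModuleCat.restrictScalars ψ).obj (ModuleCat.of A A) : Type u) :=
    (Submodule.quotEquivOfEq _ _ (Submodule.ext fun p => Iff.rfl)).trans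
      (LinearMap.quotKerEquivOfSurjective f hψ)
  exact ⟨(DRing.restrictD ψ).mapIso
      ((DerivedCategory.singleFunctorIsoCompQ (ModuleCat.{u} A) 0).app (ModuleCat.of A A)).symm ≪≫
    H9Misc.DRingRestrict.restrictInDIso ψ (ModuleCat.of A A) ≪≫
    (DerivedCategory.singleFunctor (ModuleCat.{u} P) 0).mapIso e.toModuleIso.symm⟩

include a hK

/-- The shriek of a Koszul regular presentation has bounded finite cohomology. -/
theorem bounded_finite_shriek_unit_of_koszul :
    (∃ p q : ℤ, ∀ i : ℤ, (i < p ∨ q < i) → Subsingleton (Dual.HD A (Rψ.obj (DTen.unit _)) i)) ∧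
    ∀ i : ℤ, Module.Finite A (Dual.HD A (Rψ.obj (DTen.unit _)) i) := by
  let P := MvPolynomial (Fin n) R
  haveI := hasLTen P
  haveI := hasRHom (A := P)
  obtain ⟨e⟩ := nonempty_res_shriek_unit' ψ a
  obtain ⟨r⟩ := nonempty_res_unit_iso_quotient ψ hψ
  have hE : DRing.IsPerfect P ((DRing.restrictD ψ).obj (DTen.unit A)) :=
    H9Misc.DRingPC.isPerfect_of_iso r.symm (KRegLib.isPerfectModule_quotient _ hK)
  obtain ⟨⟨p, q, hpq⟩, hfin⟩ := H9Misc.DRingRegular.finite_homology_of_isPerfect
    (H9Misc.DRingPC.isPerfect_of_iso e.symm (isPerfect_dual hE))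
  let W := Rψ.obj (DTen.unit P)
  refine ⟨⟨p, q, fun i hi => ?_⟩, fun i => ?_⟩
  · haveI := hpq i hi
    exact ((H9Misc.DRingRestrict.HDRestrictIso ψ W i).toLinearEquiv.symm).toEquiv.subsingleton
  · haveI := hfin i
    have hfinP := Module.Finite.equiv (H9Misc.DRingRestrict.HDRestrictIso ψ W i).toLinearEquiv
    letI := ψ.toAlgebra
    letI : Module P (Dual.HD A W i) := Module.compHom _ ψ
    haveI : IsScalarTower P A (Dual.HD A W i) := IsScalarTower.of_algebraMap_smul fun _ _ => rfl
    haveI : Module.Finite P (Dual.HD A W i) := hfinP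
    exact Module.Finite.of_restrictScalars_finite P A _

include a in
omit hK in
/-- The cohomology of the shriek at a point is computed by `Ext` upstairs. -/
theorem exists_localized_hd_shriek_equiv (Q : Ideal (MvPolynomial (Fin n) R)) [Q.IsPrime] (i : ℤ) :
    letI : Module (MvPolynomial (Fin n) R) (Dual.HD A (Rψ.obj (DTen.unit _)) i) := Module.compHom _ ψ
    Nonempty (LocalizedModule Q.primeCompl (Dual.HD A (Rψ.obj (DTen.unit _)) i) ≃ₗ[Localization.AtPrime Q]
      (Dual.inD (Localization.AtPrime Q) (Localization.AtPrime Q ⧸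
          (RingHom.ker ψ).map (algebraMap _ (Localization.AtPrime Q))) ⟶
        (Dual.inD (Localization.AtPrime Q) (Localization.AtPrime Q))⟦i⟧)) := by
  let P := MvPolynomial (Fin n) R
  let S := Localization.AtPrime Q
  let I := RingHom.ker ψ
  haveI := hasLTen P
  haveI := hasRHom (A := P)
  haveI := hasLBase (algebraMap P S)
  obtain ⟨d⟩ := nonempty_res_shriek_unit' ψ a
  obtain ⟨r⟩ := nonempty_res_unit_iso_quotient ψ hψ
  obtain ⟨iP⟩ := nonempty_unit_iso_inD P
  obtain ⟨iS⟩ := nonempty_unit_iso_inD S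
  obtain ⟨u⟩ := nonempty_LBase_unit (algebraMap P S)
  obtain ⟨bq⟩ := nonempty_LBase_inD_quotient (B := S) I
  haveI : DerivedCategory.IsGE (Dual.inD P P) 0 :=
    inferInstanceAs (DerivedCategory.IsGE ((DerivedCategory.singleFunctor (ModuleCat.{u} P) 0).obj _) 0)
  have hpc : DRing.IsPseudoCoherent' P (Dual.inD P (P ⧸ I)) :=
    (Groth.Agent.S6942.result P 0 (Dual.inD P (P ⧸ I)) (P ⧸ I)).2.2 inferInstance
  let W := Rψ.obj (DTen.unit P)
  letI : Module P (Dual.HD A W i) := Module.compHom _ ψ
  obtain ⟨e₁⟩ := exists_hdRHomShiftLEquiv ((DRing.restrictD ψ).obj (DTen.unit A)) (DTen.unit P) i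
  let g : Dual.HD A W i ≃ₗ[P] (Dual.inD P (P ⧸ I) ⟶ (Dual.inD P P)⟦i⟧) :=
    (H9Misc.DRingRestrict.HDRestrictIso ψ W i).toLinearEquiv.symm.trans
      (((DerivedCategory.homologyFunctor (ModuleCat.{u} P) i).mapIso d).toLinearEquiv.trans
        (e₁.trans (Linear.homCongr P r ((CategoryTheory.shiftFunctor _ i).mapIso iP))))
  obtain ⟨e₂⟩ := exists_homBaseChangeLEquiv (B := S) (Y := Dual.inD P P) hpc 0 i
  exact ⟨(LocalizedModule.equivTensorProduct Q.primeCompl (Dual.HD A W i)).trans
    ((TensorProduct.AlgebraTensorModule.congr (LinearEquiv.refl S S) g).trans (e₂.symm.trans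
      (Linear.homCongr S bq ((CategoryTheory.shiftFunctor _ i).mapIso
        ((DTen.LBase (algebraMap P S)).mapIso iP.symm ≪≫ u ≪≫ iS)))))⟩

/-- At a point, the shriek of a Koszul regular presentation is a shift of the ring. -/
theorem exists_localized_hd_shriek_unit (q : Ideal A) [q.IsPrime] :
    ∃ c : ℕ, (∀ i : ℤ, i ≠ c → Subsingleton (LocalizedModule q.primeCompl (Dual.HD A (Rψ.obj (DTen.unit _)) i))) ∧
      Nonempty (LocalizedModule q.primeCompl (Dual.HD A (Rψ.obj (DTen.unit _)) c)
        ≃ₗ[Localization.AtPrime q] Localization.AtPrime q) := by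
  let P := MvPolynomial (Fin n) R
  let Q := q.comap ψ
  let S := Localization.AtPrime Q
  let I := RingHom.ker ψ
  obtain ⟨l, hl, hlI⟩ := exists_weaklyRegular_generators I hK Q (Ideal.ker_le_comap ψ)
  letI : Algebra P A := ψ.toAlgebra
  let W := Rψ.obj (DTen.unit P)
  have key : ∀ i : ℤ, letI : Module P (Dual.HD A W i) := Module.compHom _ ψ
      Nonempty (LocalizedModule Q.primeCompl (Dual.HD A W i) ≃ₗ[S]
        (Dual.inD S (S ⧸ I.map (algebraMap P S)) ⟶ (Dual.inD S S)⟦i⟧)) :=
    fun i => exists_localized_hd_shriek_equiv ψ hψ a Q i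
  let eq : qList l ≅ ModuleCat.of S (S ⧸ I.map (algebraMap P S)) :=
    (Submodule.quotEquivOfEq _ _ hlI).toModuleIso
  have ext : ∀ k : ℕ, Nonempty ((Dual.inD S (S ⧸ I.map (algebraMap P S)) ⟶ (Dual.inD S S)⟦(k : ℤ)⟧) ≃ₗ[S]
      Abelian.Ext.{u} (qList l) (ModuleCat.of S S) k) := fun k =>
    ⟨(Linear.homCongr S ((DerivedCategory.singleFunctor (ModuleCat.{u} S) 0).mapIso eq.symm) (Iso.refl _)).trans
      (Abelian.Ext.homLinearEquiv (R := S) (X := qList l) (Y := ModuleCat.of S S) (n := k)).symm⟩
  obtain ⟨habove, ⟨etop⟩⟩ := ext_qList_top l hl S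
  refine ⟨l.length, fun i hi => ?_, ?_⟩
  · letI : Module P (Dual.HD A W i) := Module.compHom _ ψ
    haveI : IsScalarTower P A (Dual.HD A W i) := IsScalarTower.of_algebraMap_smul fun _ _ => rfl
    obtain ⟨e⟩ := key i
    refine subsingleton_localized_of_quotient (P := P) _ hψ q Q rfl ?_
    haveI : Subsingleton (Dual.inD S (S ⧸ I.map (algebraMap P S)) ⟶ (Dual.inD S S)⟦i⟧) := by
      by_cases h0 : i < 0
      · exact LC.subsingleton_hom_shift_neg S _ _ i h0
      · obtain ⟨k, rfl⟩ := Int.eq_ofNat_of_zero_le (not_lt.1 h0)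
        obtain ⟨e'⟩ := ext k
        haveI : Subsingleton (Abelian.Ext.{u} (qList l) (ModuleCat.of S S) k) := by
          rcases Nat.lt_or_ge k l.length with h | h
          · exact ext_qList_below l hl k h
          · exact habove k (lt_of_le_of_ne h fun h' => hi (by rw [h']))
        exact e'.injective.subsingleton
    exact e.injective.subsingleton
  · letI : Module P (Dual.HD A W l.length) := Module.compHom _ ψ
    haveI : IsScalarTower P A (Dual.HD A W l.length) := IsScalarTower.of_algebraMap_smul fun _ _ => rfl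
    obtain ⟨e⟩ := key l.length
    obtain ⟨e'⟩ := ext l.length
    exact exists_localized_linearEquiv_of_quotient (P := P) _ hψ q Q rfl (e.trans (e'.trans (etop.trans
      (Submodule.quotEquivOfEq _ _ (by rw [smul_eq_mul, Ideal.mul_top, hlI]; rfl)))))

/-- The shriek of a Koszul regular presentation is locally a shift of the ring. -/
theorem exists_away_iso_shriek_unit_of_koszul [IsNoetherianRing A] (q : Ideal A) [q.IsPrime] (k : ℤ) :
    ∃ f : A, f ∉ q ∧ ∃ m : ℤ, ∀ [DTen.HasLBase (algebraMap A (Localization.Away f))],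
      Nonempty ((DTen.LBase (algebraMap A (Localization.Away f))).obj ((Rψ.obj (DTen.unit _))⟦k⟧) ≅
        (DTen.unit (Localization.Away f))⟦m⟧) := by
  let W := Rψ.obj (DTen.unit (MvPolynomial (Fin n) R))
  obtain ⟨⟨lo, hi, hb⟩, hfin⟩ := bounded_finite_shriek_unit_of_koszul ψ hψ a hK
  obtain ⟨c, hvan, ⟨ec⟩⟩ := exists_localized_hd_shriek_unit ψ hψ a hK q
  haveI : W.IsGE lo := (DerivedCategory.isGE_iff _ _).2 fun i h =>
    @ModuleCat.isZero_of_subsingleton _ _ _ (hb i (Or.inl h))
  haveI : W.IsLE hi := (DerivedCategory.isLE_iff _ _).2 fun i h =>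
    @ModuleCat.isZero_of_subsingleton _ _ _ (hb i (Or.inr h))
  let Aq := Localization.AtPrime q
  haveI := hasLBase (algebraMap A Aq)
  let X := (DTen.LBase (algebraMap A Aq)).obj W
  have e : ∀ i : ℤ, Nonempty (Dual.HD Aq X i ≃ₗ[Aq] LocalizedModule q.primeCompl (Dual.HD A W i)) := fun i => by
    obtain ⟨e⟩ := exists_hdLBaseLEquiv (B := Aq) W i
    exact ⟨e.trans (LocalizedModule.equivTensorProduct q.primeCompl _).symm⟩
  obtain ⟨eX⟩ := nonempty_iso_unit_of_hd (X⟦(c : ℤ)⟧) (fun i hi' => by
    obtain ⟨e₁⟩ := exists_hdShiftLEquiv X (c : ℤ) i ((c : ℤ) + i) rfl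
    obtain ⟨e₂⟩ := e ((c : ℤ) + i)
    haveI := hvan ((c : ℤ) + i) (by omega)
    exact (e₁.trans e₂).injective.subsingleton)
    (((exists_hdShiftLEquiv X (c : ℤ) 0 (c : ℤ) (add_zero _)).some.trans (e c).some).trans ec)
  obtain ⟨f, hf, hiso⟩ := exists_away_iso_shift W lo hi hfin q (-(c : ℤ))
    (((shiftFunctorCompIsoId (Dual.D Aq) (c : ℤ) (-(c : ℤ)) (by omega)).app X).symm ≪≫
      (CategoryTheory.shiftFunctor _ (-(c : ℤ))).mapIso eX)
  refine ⟨f, hf, -(c : ℤ) + k, ?_⟩
  intro _
  obtain ⟨e₃⟩ := hiso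
  obtain ⟨s⟩ := nonempty_LBase_shift (algebraMap A (Localization.Away f)) k
  exact ⟨s.app W ≪≫ (CategoryTheory.shiftFunctor _ k).mapIso e₃ ≪≫
    ((shiftFunctorAdd (Dual.D (Localization.Away f)) (-(c : ℤ)) k).app _).symm⟩

end Groth.Agent.KFlatLib
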