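import Groth.Agent.KFlatLib.Ring.TorsionFactor
import Groth.Agent.KFlatLib.Ring.BcRHomPerfect

/-!
# Approximation by torsion perfect objects
-/

set_option linter.style.haveILetI false
set_option backward.isDefEq.respectTransparency false

universe u

open CategoryTheory CategoryTheory.Limits Pretriangulated ZeroObject

attribute [local instance] HasDerivedCategory.standard

namespace Groth.Agent.KFlatLib.TorsionApprox

variable {A : Type u} [CommRing A]

/-- Torsion cohomology in a range of degrees. -/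
def WinTors (fs : List A) (C : Dual.D A) (lo : ℤ) : Prop :=
  ∀ i, lo ≤ i → ∀ f ∈ fs, ∀ x : Dual.HD A C i, ∃ k : ℕ, f ^ k • x = 0

/-- Identities killed by powers of the elements of a list. -/
def Killed (fs : List A) (K : Dual.D A) : Prop := ∀ f ∈ fs, ∃ k : ℕ, f ^ k • 𝟙 K = 0

/-- Each class comes from a shift of the unit. -/
theorem exists_map_hitting (Y : Dual.D A) (n : ℤ) (x : Dual.HD A Y n) :
    ∃ φ : (DTen.unit A)⟦-n⟧ ⟶ Y, x ∈ Set.range ((DerivedCategory.homologyFunctor (ModuleCat.{u} A) n).map φ).hom := by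
  obtain ⟨eU'⟩ := nonempty_unit_shift_iso (A := A) (-n)
  let eU : (DTen.unit A)⟦-n⟧ ≅ DerivedCategory.Q.obj (H9Misc.BrownGroth.gen A n) :=
    eU' ≪≫ eqToIso (by rw [neg_neg])
  let G := DerivedCategory.Q.obj (H9Misc.BrownGroth.gen A n)
  let H := DerivedCategory.homologyFunctor (ModuleCat.{u} A) n
  let eG : H.obj G ≅ ModuleCat.of A A :=
    (DerivedCategory.homologyFunctorFactors _ n).app (H9Misc.BrownGroth.gen A n) ≪≫
      HomologicalComplex.singleObjHomologySelfIso (ComplexShape.up ℤ) n (ModuleCat.of A A)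
  haveI : G.IsLE n := (DerivedCategory.isLE_Q_obj_iff _ _).2 inferInstance
  let t := DerivedCategory.TStructure.t (C := ModuleCat.{u} A)
  let Y' := (t.truncGE n).obj Y
  let π : Y ⟶ Y' := (t.truncGEπ n).app Y
  haveI : Y'.IsGE n := t.isGE_truncGE_obj ..
  haveI : IsIso (H.map π) := H9Misc.isIso_map_truncGEπ n n le_rfl Y
  let h : H.obj G ⟶ H.obj Y := eG.hom ≫ ModuleCat.ofHom (LinearMap.toSpanSingleton A _ x)
  obtain ⟨ψ, hψ⟩ := (bijective_homologyMap n (X := G) (Y := Y')).2 (h ≫ H.map π)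
  have hT := rot_of_distTriang _ (t.triangleLTGE_distinguished n Y)
  obtain ⟨φ, hφ⟩ := Triangle.coyoneda_exact₂ _ hT ψ (by
    rw [← cancel_epi eU.hom]
    haveI : ((t.truncLT n).obj Y).IsLE (n - 1) := t.isLE_truncLT_obj ..
    haveI := t.isLE_shift ((t.truncLT n).obj Y) (n - 1) 1 (n - 2) (by omega)
    exact (eq_zero_of_isLE_unit (((t.truncLT n).obj Y)⟦(1 : ℤ)⟧) (-n) (n - 2) (by omega) _).trans
      comp_zero.symm)
  have hφ' : H.map φ = h := (cancel_mono (H.map π)).1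
    ((H.map_comp φ π).symm.trans ((congrArg H.map hφ.symm).trans hψ))
  refine ⟨eU.hom ≫ φ, ((eG.inv ≫ H.map eU.inv).hom (1 : A)), ?_⟩
  change ((eG.inv ≫ H.map eU.inv) ≫ H.map (eU.hom ≫ φ)).hom (1 : A) = x
  rw [Category.assoc, ← Functor.map_comp, eU.inv_hom_id_assoc, hφ', Iso.inv_hom_id_assoc]
  exact one_smul A x

lemma isZero_hd_unit_shift {n i : ℤ} (hi : n < i) :
    IsZero ((DerivedCategory.homologyFunctor (ModuleCat.{u} A) i).obj ((DTen.unit A)⟦-n⟧)) := by
  obtain ⟨eU'⟩ := nonempty_unit_shift_iso (A := A) (-n)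
  haveI : (DerivedCategory.Q.obj (H9Misc.BrownGroth.gen A (- -n))).IsLE (- -n) :=
    (DerivedCategory.isLE_Q_obj_iff _ _).2 inferInstance
  exact (DerivedCategory.isZero_of_isLE _ (- -n) i (by omega)).of_iso ((DerivedCategory.homologyFunctor (ModuleCat.{u} A) i).mapIso eU')

/-- Killing, one element at a time, a map whose composites are torsion. -/
theorem exists_kill {C : Dual.D A} (p : ℤ) : ∀ (l : List A) (E : Dual.D A), DRing.IsPerfect A E →
    (∀ i, p < i → IsZero ((DerivedCategory.homologyFunctor (ModuleCat.{u} A) i).obj E)) →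
    (∀ g ∈ l, ∀ m : ℤ, 1 - (l.length : ℤ) ≤ m → m ≤ 0 → ∀ φ : E ⟶ C⟦m⟧, ∃ k : ℕ, g ^ k • φ = 0) →
    ∀ φ : E ⟶ C, ∃ (E' : Dual.D A) (q : E ⟶ E') (ψ : E' ⟶ C), DRing.IsPerfect A E' ∧ q ≫ ψ = φ ∧
      (∀ i, p < i → IsZero ((DerivedCategory.homologyFunctor (ModuleCat.{u} A) i).obj E')) ∧ Killed l E' ∧
      ∀ g : A, (∃ k : ℕ, g ^ k • 𝟙 E = 0) → ∃ k : ℕ, g ^ k • 𝟙 E' = 0
  | [], E, hE, hz, _, φ =>
    ⟨E, 𝟙 E, φ, hE, Category.id_comp _, hz, fun f hf => absurd hf List.not_mem_nil, fun _ h => h⟩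
  | f :: l, E, hE, hz, ht, φ => by
    let e := (shiftFunctorZero (Dual.D A) ℤ).app C
    obtain ⟨k, hk⟩ := ht f List.mem_cons_self 0 (by simp only [List.length_cons]; omega) le_rfl (φ ≫ e.inv)
    rw [← Linear.smul_comp, ← zero_comp (f := e.inv), cancel_mono] at hk
    obtain ⟨E₁, u, v, hT, hx, hg⟩ := TorsionFactor.exists_cone (f ^ k) E
    obtain ⟨χ, hχ⟩ := Triangle.yoneda_exact₂ _ hT φ
      ((Linear.smul_comp _ _ _ _ _ _).trans ((congrArg (f ^ k • ·) (Category.id_comp φ)).trans hk))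
    have hz₁ : ∀ i, p < i → IsZero ((DerivedCategory.homologyFunctor (ModuleCat.{u} A) i).obj E₁) := fun i hi => by
      refine (DerivedCategory.HomologySequence.exact₃ _ hT i (i + 1) rfl).isZero_X₂ ?_ ?_
      · exact (hz i hi).eq_of_src _ _
      · exact (hz (i + 1) (by omega)).eq_of_tgt _ _
    have ht₁ : ∀ g ∈ l, ∀ m : ℤ, 1 - (l.length : ℤ) ≤ m → m ≤ 0 → ∀ φ : E₁ ⟶ C⟦m⟧,
        ∃ k : ℕ, g ^ k • φ = 0 := by
      intro g hgl m hm₁ hm₂ φ
      obtain ⟨k₁, hk₁⟩ := ht g (List.mem_cons_of_mem _ hgl) m (by simp only [List.length_cons]; omega) hm₂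
        (u ≫ φ)
      obtain ⟨χ', hχ'⟩ := Triangle.yoneda_exact₃ _ hT (g ^ k₁ • φ)
        ((Linear.comp_smul _ _ _ _ _ _).trans hk₁)
      change E⟦(1 : ℤ)⟧ ⟶ C⟦m⟧ at χ'
      let a := (shiftFunctorCompIsoId (Dual.D A) (1 : ℤ) (-1) (by omega)).app E
      let w := (shiftFunctorAdd' (Dual.D A) m (-1) (m - 1) (by omega)).app C
      obtain ⟨j, hj⟩ := ht g (List.mem_cons_of_mem _ hgl) (m - 1)
        (by simp only [List.length_cons]; omega) (by omega)
        (a.inv ≫ χ'⟦(-1 : ℤ)⟧' ≫ w.inv)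
      have h0 : g ^ j • χ' = 0 := by
        refine (shiftFunctor (Dual.D A) (-1)).map_injective ?_
        rw [Functor.map_zero, Functor.map_smul, ← cancel_epi a.inv, ← cancel_mono w.inv]
        simp only [Category.assoc, Linear.comp_smul, Linear.smul_comp, comp_zero, zero_comp]
        exact hj
      refine ⟨j + k₁, ?_⟩
      rw [pow_add, mul_smul, hχ', ← Linear.comp_smul]
      exact (congrArg (_ ≫ ·) h0).trans comp_zero
    obtain ⟨E', q, ψ, hE', hqψ, hz', hkill, hold⟩ :=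
      exists_kill p l E₁ (H9Misc.DRingPC.isPerfect₃ _ hT hE hE) hz₁ ht₁ χ
    refine ⟨E', u ≫ q, ψ, hE', ?_, hz', fun g hgm => ?_, fun g ⟨j, hj⟩ => ?_⟩
    · rw [Category.assoc, hqψ]
      exact hχ.symm
    · rcases List.mem_cons.1 hgm with rfl | hgl
      · exact hold g ⟨k + k, by rw [pow_add]; exact hx⟩
      · exact hkill g hgl
    · exact hold g ⟨j + j, by rw [pow_add]; exact hg _ hj⟩

/-- A class in top degree comes from a torsion perfect object. -/
theorem exists_torsion_hitting (fs : List A) (C : Dual.D A) (n : ℤ)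
    (ht : WinTors fs C (n + 1 - fs.length)) (x : Dual.HD A C n) :
    ∃ (Q : Dual.D A) (ψ : Q ⟶ C), DRing.IsPerfect A Q ∧ Killed fs Q ∧
      (∀ i, n < i → IsZero ((DerivedCategory.homologyFunctor (ModuleCat.{u} A) i).obj Q)) ∧ x ∈ Set.range ((DerivedCategory.homologyFunctor (ModuleCat.{u} A) n).map ψ).hom := by
  obtain ⟨φ, a, ha⟩ := exists_map_hitting C n x
  have htor : ∀ g ∈ fs, ∀ m : ℤ, 1 - (fs.length : ℤ) ≤ m → m ≤ 0 →
      ∀ φ : (DTen.unit A)⟦-n⟧ ⟶ C⟦m⟧, ∃ k : ℕ, g ^ k • φ = 0 := fun g hg m hm _ φ => by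
    obtain ⟨θ⟩ := exists_homUnitLEquiv (A := A) (C⟦m⟧) (-n) n (neg_add_cancel n)
    let e : Dual.HD A (C⟦m⟧) n ≃ₗ[A] Dual.HD A C (m + n) :=
      ((((DerivedCategory.homologyFunctor (ModuleCat.{u} A) 0).shiftIso m n (m + n) rfl)).app C).toLinearEquiv
    obtain ⟨k, hk⟩ := ht (m + n) (by omega) g hg (e (θ φ))
    exact ⟨k, θ.injective (e.injective (by rw [map_smul, map_smul, hk, map_zero, map_zero]))⟩
  obtain ⟨Q, q, ψ, hQ, hqψ, hz, hkill, -⟩ := exists_kill n fs _ (isPerfect_unit_shift _)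
    (fun i hi => isZero_hd_unit_shift hi) htor φ
  refine ⟨Q, ψ, hQ, hkill, hz, ((DerivedCategory.homologyFunctor (ModuleCat.{u} A) n).map q).hom a, ?_⟩
  rw [← ha, ← hqψ, Functor.map_comp]
  rfl

/-- An extension of killed objects is killed. -/
lemma killed_of_triangle (T : Triangle (Dual.D A)) (hT : T ∈ distTriang _) (a b : A)
    (ha : a • 𝟙 T.obj₁ = 0) (hb : b • 𝟙 T.obj₃ = 0) : (b * a) • 𝟙 T.obj₂ = 0 := by
  have h0 : (b • 𝟙 T.obj₂) ≫ T.mor₂ = 0 := by
    rw [Linear.smul_comp, Category.id_comp, ← Category.comp_id T.mor₂, ← Linear.comp_smul, hb, comp_zero]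
  obtain ⟨w, hw⟩ := Triangle.coyoneda_exact₂ _ hT (b • 𝟙 T.obj₂) h0
  rw [mul_comm, mul_smul, hw, ← Linear.comp_smul, ← Category.id_comp T.mor₁, ← Linear.smul_comp, ha,
    zero_comp, comp_zero]

/-- A finitely generated cohomology module in a given degree is hit by a torsion perfect object. -/
theorem exists_torsion_epi (fs : List A) (C : Dual.D A) (n : ℤ)
    (ht : WinTors fs C (n + 1 - fs.length)) (hfin : Module.Finite A (Dual.HD A C n)) :
    ∃ (Q : Dual.D A) (ψ : Q ⟶ C), DRing.IsPerfect A Q ∧ Killed fs Q ∧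
      (∀ i, n < i → IsZero ((DerivedCategory.homologyFunctor (ModuleCat.{u} A) i).obj Q)) ∧ Epi ((DerivedCategory.homologyFunctor (ModuleCat.{u} A) n).map ψ) := by
  classical
  obtain ⟨s, hs⟩ := hfin.fg_top
  suffices h : ∀ t : Finset (Dual.HD A C n), ∃ (Q : Dual.D A) (ψ : Q ⟶ C), DRing.IsPerfect A Q ∧
      Killed fs Q ∧ (∀ i, n < i → IsZero ((DerivedCategory.homologyFunctor (ModuleCat.{u} A) i).obj Q)) ∧ ∀ x ∈ t, x ∈ LinearMap.range ((DerivedCategory.homologyFunctor (ModuleCat.{u} A) n).map ψ).hom by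
    obtain ⟨Q, ψ, hQ, hk, hz, hmem⟩ := h s
    refine ⟨Q, ψ, hQ, hk, hz, (ModuleCat.epi_iff_range_eq_top _).2 ?_⟩
    rw [eq_top_iff, ← hs, Submodule.span_le]
    exact hmem
  intro t
  induction t using Finset.induction_on with
  | empty => exact ⟨0, 0, H9Misc.DRingPC.isPerfect_of_isZero (isZero_zero _),
      fun f _ => ⟨0, (isZero_zero _).eq_of_src _ _⟩, fun i _ => (DerivedCategory.homologyFunctor (ModuleCat.{u} A) i).map_isZero (isZero_zero _),
      fun x hx => absurd hx (Finset.notMem_empty x)⟩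
  | insert x t _ ih =>
    obtain ⟨Q₁, ψ₁, hQ₁, hk₁, hz₁, hmem⟩ := ih
    obtain ⟨Q₂, ψ₂, hQ₂, hk₂, hz₂, hx⟩ := exists_torsion_hitting fs C n ht x
    refine ⟨Q₁ ⊞ Q₂, biprod.desc ψ₁ ψ₂, H9Misc.DRingPC.isPerfect₂ _
      (binaryBiproductTriangle_distinguished Q₁ Q₂) hQ₁ hQ₂, fun f hf => ?_, fun i hi => ?_, ?_⟩
    · obtain ⟨k₁, h₁⟩ := hk₁ f hf
      obtain ⟨k₂, h₂⟩ := hk₂ f hf
      refine ⟨k₁ + k₂, biprod.hom_ext' _ _ ?_ ?_⟩
      · rw [Linear.comp_smul, Category.comp_id, comp_zero, pow_add, mul_comm, mul_smul,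
          ← Category.id_comp (biprod.inl : Q₁ ⟶ Q₁ ⊞ Q₂), ← Linear.smul_comp, h₁, zero_comp, smul_zero]
      · rw [Linear.comp_smul, Category.comp_id, comp_zero, pow_add, mul_smul,
          ← Category.id_comp (biprod.inr : Q₂ ⟶ Q₁ ⊞ Q₂), ← Linear.smul_comp, h₂, zero_comp, smul_zero]
    · exact (DerivedCategory.HomologySequence.exact₂ _ (binaryBiproductTriangle_distinguished Q₁ Q₂) i).isZero_X₂
        ((hz₁ i hi).eq_of_src _ _) ((hz₂ i hi).eq_of_tgt _ _)
    · intro y hy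
      rcases Finset.mem_insert.1 hy with rfl | hy
      · obtain ⟨a, ha⟩ := hx
        refine ⟨((DerivedCategory.homologyFunctor (ModuleCat.{u} A) n).map (biprod.inr : Q₂ ⟶ Q₁ ⊞ Q₂)).hom a, ?_⟩
        rw [← ha]
        exact ConcreteCategory.congr_hom (((DerivedCategory.homologyFunctor (ModuleCat.{u} A) n).map_comp _ _).symm.trans
          (congrArg ((DerivedCategory.homologyFunctor (ModuleCat.{u} A) n).map ·) (biprod.inr_desc ψ₁ ψ₂))) a
      · obtain ⟨a, ha⟩ := hmem y hy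
        refine ⟨((DerivedCategory.homologyFunctor (ModuleCat.{u} A) n).map (biprod.inl : Q₁ ⟶ Q₁ ⊞ Q₂)).hom a, ?_⟩
        rw [← ha]
        exact ConcreteCategory.congr_hom (((DerivedCategory.homologyFunctor (ModuleCat.{u} A) n).map_comp _ _).symm.trans
          (congrArg ((DerivedCategory.homologyFunctor (ModuleCat.{u} A) n).map ·) (biprod.inl_desc ψ₁ ψ₂))) a

/-- A pseudo-coherent object with torsion cohomology in high degrees is approximated by torsion perfect
objects. -/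
theorem exists_approx (fs : List A) (m : ℤ) (M : Dual.D A) (hM : DRing.IsPseudoCoherent A m M)
    (ht : WinTors fs M (m + 1 - fs.length)) :
    ∃ (P : Dual.D A) (α : P ⟶ M), DRing.IsPerfect A P ∧ Killed fs P ∧
      (∀ i, m < i → IsIso ((DerivedCategory.homologyFunctor (ModuleCat.{u} A) i).map α)) ∧ Epi ((DerivedCategory.homologyFunctor (ModuleCat.{u} A) m).map α) := by
  -- `P` approximates above degree `n` when the cone has no cohomology in degrees `≥ n`
  suffices h : ∀ (d : ℕ) (n : ℤ), m ≤ n → (∀ (b : ℤ), (∀ i, b ≤ i → IsZero ((DerivedCategory.homologyFunctor (ModuleCat.{u} A) i).obj M)) → b ≤ n + d →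
      ∃ (P Z : Dual.D A) (α : P ⟶ M) (g : M ⟶ Z) (δ : Z ⟶ P⟦(1 : ℤ)⟧), DRing.IsPerfect A P ∧ Killed fs P ∧
        Triangle.mk α g δ ∈ distTriang _ ∧ ∀ i, n ≤ i → IsZero ((DerivedCategory.homologyFunctor (ModuleCat.{u} A) i).obj Z)) by
    obtain ⟨b, hb⟩ := H9Misc.DRingPC.exists_bound hM
    obtain ⟨P, Z, α, g, δ, hP, hk, hT, hz⟩ := h (b + 1 - m).toNat m le_rfl (b + 1)
      (fun i hi => hb i (by omega)) (by omega)
    refine ⟨P, α, hP, hk, fun i hi => ?_, ?_⟩
    · haveI : Mono ((DerivedCategory.homologyFunctor (ModuleCat.{u} A) i).map α) := (DerivedCategory.HomologySequence.exact₁ _ hT (i - 1) i (by omega)).mono_g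
        ((hz (i - 1) (by omega)).eq_of_src _ _)
      haveI : Epi ((DerivedCategory.homologyFunctor (ModuleCat.{u} A) i).map α) :=
        (DerivedCategory.HomologySequence.exact₂ _ hT i).epi_f ((hz i (by omega)).eq_of_tgt _ _)
      exact isIso_of_mono_of_epi _
    · exact (DerivedCategory.HomologySequence.exact₂ _ hT m).epi_f ((hz m le_rfl).eq_of_tgt _ _)
  intro d
  induction d with
  | zero =>
    intro n _ b hb hbn
    refine ⟨0, M, 0, 𝟙 M, 0, H9Misc.DRingPC.isPerfect_of_isZero (isZero_zero _),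
      fun f _ => ⟨0, (isZero_zero _).eq_of_src _ _⟩, ?_, fun i hi => hb i (by omega)⟩
    exact isomorphic_distinguished _ (contractible_distinguished₁ M) _
      (Triangle.isoMk _ _ (Iso.refl _) (Iso.refl _) (Iso.refl _) (by simp) (by simp) (by simp))
  | succ d ih =>
    intro n hn b hb hbn
    obtain ⟨P, Z, α, g, δ, hP, hk, hT, hz⟩ := ih (n + 1) (by omega) b hb (by omega)
    have hZpc : DRing.IsPseudoCoherent A n Z := (Groth.Agent.S2067.result _ hT n).1
      ((H9Misc.DRingPC.pc'_iff P).1 ((H9Misc.DRingPerfect.isPerfect_iff P).1 hP).1 _)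
      (H9Misc.DRingPC.mono hn hM)
    have hfin : Module.Finite A (Dual.HD A Z n) :=
      (Groth.Agent.S2068.result Z n hZpc).1 fun i hi => hz i (by omega)
    have htZ : WinTors fs Z (n + 1 - fs.length) := by
      intro i hi f hf x
      obtain ⟨k₁, hk₁⟩ := TorsionFactor.torsion_of_pow_smul_id f (hk f hf) (i + 1)
        (((DerivedCategory.homologyFunctor (ModuleCat.{u} A) 0).homologySequenceδ (Triangle.mk α g δ) i (i + 1) rfl).hom x)
      have hx : ((DerivedCategory.homologyFunctor (ModuleCat.{u} A) 0).homologySequenceδ (Triangle.mk α g δ) i (i + 1) rfl).hom (f ^ k₁ • x) = 0 := by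
        rw [map_smul]; exact hk₁
      obtain ⟨y, hy⟩ := (ShortComplex.moduleCat_exact_iff _).1
        (DerivedCategory.HomologySequence.exact₃ _ hT i (i + 1) rfl) _ hx
      obtain ⟨k₂, hk₂⟩ := ht i (by omega) f hf y
      refine ⟨k₂ + k₁, ?_⟩
      rw [pow_add, mul_smul, ← hy]
      refine (map_smul _ _ _).symm.trans ?_
      rw [show f ^ k₂ • y = 0 from hk₂]
      exact map_zero _
    obtain ⟨Q, ψ, hQ, hkQ, hzQ, hψ⟩ := exists_torsion_epi fs Z n htZ hfin
    obtain ⟨Z', r, ε, hT'⟩ := distinguished_cocone_triangle ψ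
    obtain ⟨P', α', δ', hT''⟩ := distinguished_cocone_triangle₁ (g ≫ r)
    let h := Triangulated.someOctahedron (rfl : g ≫ r = g ≫ r) (rot_of_distTriang _ hT)
      (rot_of_distTriang _ hT') (rot_of_distTriang _ hT'')
    refine ⟨P', Z', α', g ≫ r, δ', ?_, ?_, hT'', fun i hi => ?_⟩
    · exact H9Misc.DRingPC.isPerfect_of_iso ((shiftFunctorCompIsoId (Dual.D A) (1 : ℤ) (-1) (by omega)).app P') (H9Misc.DRingPC.isPerfect_shift (H9Misc.DRingPC.isPerfect₂ _ h.mem (H9Misc.DRingPC.isPerfect_shift hP 1)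
        (H9Misc.DRingPC.isPerfect_shift hQ 1)) (-1))
    · intro f hf
      obtain ⟨k₁, h₁⟩ := hk f hf
      obtain ⟨k₂, h₂⟩ := hkQ f hf
      refine ⟨k₂ + k₁, (shiftFunctor (Dual.D A) (1 : ℤ)).map_injective ?_⟩
      rw [Functor.map_smul, CategoryTheory.Functor.map_id, Functor.map_zero]
      rw [pow_add]
      exact killed_of_triangle _ h.mem _ _
        (show f ^ k₁ • 𝟙 (P⟦(1 : ℤ)⟧) = 0 by
          rw [← CategoryTheory.Functor.map_id, ← Functor.map_smul, h₁, Functor.map_zero])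
        (show f ^ k₂ • 𝟙 (Q⟦(1 : ℤ)⟧) = 0 by
          rw [← CategoryTheory.Functor.map_id, ← Functor.map_smul, h₂, Functor.map_zero])
    · rcases eq_or_lt_of_le hi with rfl | hi
      · haveI := hψ
        refine (DerivedCategory.HomologySequence.exact₃ _ hT' n (n + 1) rfl).isZero_X₂ ?_ ?_
        · exact (cancel_epi ((DerivedCategory.homologyFunctor (ModuleCat.{u} A) n).map ψ)).1 ((((DerivedCategory.homologyFunctor (ModuleCat.{u} A) n).map_comp ψ r).symm.trans
            ((congrArg (DerivedCategory.homologyFunctor (ModuleCat.{u} A) n).map (comp_distTriang_mor_zero₁₂ _ hT')).trans (Functor.map_zero _ _ _))).trans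
              comp_zero.symm)
        · exact (hzQ (n + 1) (by omega)).eq_of_tgt _ _
      · refine (DerivedCategory.HomologySequence.exact₃ _ hT' i (i + 1) rfl).isZero_X₂ ?_ ?_
        · exact (hz i (by omega)).eq_of_src _ _
        · exact (hzQ (i + 1) (by omega)).eq_of_tgt _ _

end Groth.Agent.KFlatLib.TorsionApprox
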