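import Groth.Agent.KFlatLib.Ring.KoszulOrth
import Groth.Agent.KFlatLib.Ring.PerfectInduction
import Groth.Agent.H9Misc.DRingCompact

/-!
# Maps from perfect objects to torsion objects factor through torsion perfect objects
-/

set_option linter.style.haveILetI false
set_option backward.isDefEq.respectTransparency false

universe u

open CategoryTheory CategoryTheory.Limits Pretriangulated

attribute [local instance] HasDerivedCategory.standard

namespace Groth.Agent.KFlatLib.TorsionFactor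

variable {A : Type u} [CommRing A]

/-- Maps from a perfect object to a torsion object are torsion. -/
theorem exists_pow_smul_eq_zero {N : Dual.D A} (g : A)
    (ht : ∀ (i : ℤ) (x : Dual.HD A N i), ∃ k : ℕ, g ^ k • x = 0)
    {K : Dual.D A} (hK : DRing.IsPerfect A K) :
    ∀ (m : ℤ) (φ : K ⟶ N⟦m⟧), ∃ k : ℕ, g ^ k • φ = 0 := by
  haveI := hasLTen A
  refine perfect_induction (fun K => ∀ (m : ℤ) (φ : K ⟶ N⟦m⟧), ∃ k : ℕ, g ^ k • φ = 0) ?_ ?_ ?_ ?_ hK
  · intro K K' e h m φ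
    obtain ⟨k, hk⟩ := h m (e.hom ≫ φ)
    exact ⟨k, (cancel_epi e.hom).1 ((Linear.comp_smul _ _ _ _ _ _).trans (hk.trans comp_zero.symm))⟩
  · intro T hT h₁ h₃ m φ
    obtain ⟨k, hk⟩ := h₁ m (T.mor₁ ≫ φ)
    obtain ⟨χ, hχ⟩ := Triangle.yoneda_exact₂ _ hT (g ^ k • φ) ((Linear.comp_smul _ _ _ _ _ _).trans hk)
    obtain ⟨j, hj⟩ := h₃ m χ
    refine ⟨j + k, ?_⟩
    rw [pow_add, mul_smul, hχ, ← Linear.comp_smul]
    exact (congrArg (T.mor₂ ≫ ·) hj).trans comp_zero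
  · intro K K' i r hir h m φ
    obtain ⟨k, hk⟩ := h m (r ≫ φ)
    refine ⟨k, ?_⟩
    have : g ^ k • φ = i ≫ (g ^ k • (r ≫ φ)) := by
      rw [Linear.comp_smul, ← Category.assoc, hir, Category.id_comp]
    rw [this, hk, comp_zero]
  · intro n m φ
    obtain ⟨θ⟩ := exists_homUnitLEquiv (A := A) (N⟦m⟧) n (-n) (add_neg_cancel n)
    let e : Dual.HD A (N⟦m⟧) (-n) ≃ₗ[A] Dual.HD A N (m + -n) :=
      (((DerivedCategory.homologyFunctor (ModuleCat.{u} A) 0).shiftIso m (-n) (m + -n) rfl).app N).toLinearEquiv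
    obtain ⟨k, hk⟩ := ht (m + -n) (e (θ φ))
    exact ⟨k, θ.injective (e.injective (by rw [map_smul, map_smul, hk, map_zero, map_zero]))⟩

/-- The cone of a scalar on an object. -/
theorem exists_cone (x : A) (K : Dual.D A) :
    ∃ (C : Dual.D A) (u : K ⟶ C) (v : C ⟶ K⟦(1 : ℤ)⟧),
      Triangle.mk (x • 𝟙 K) u v ∈ distTriang _ ∧ (x * x) • 𝟙 C = 0 ∧
      ∀ g : A, g • 𝟙 K = 0 → (g * g) • 𝟙 C = 0 := by
  obtain ⟨C, u, v, hT⟩ := distinguished_cocone_triangle (x • 𝟙 K)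
  have key : ∀ g : A, g • u = 0 → g • v = 0 → (g * g) • 𝟙 C = 0 := fun g hu hv => by
    obtain ⟨χ, hχ⟩ := Triangle.yoneda_exact₃ _ hT (g • 𝟙 C)
      ((Linear.comp_smul _ _ _ _ _ _).trans ((congrArg (g • ·) (Category.comp_id u)).trans hu))
    rw [mul_smul]
    refine (congrArg (g • ·) hχ).trans ((Linear.smul_comp _ _ _ _ _ _).symm.trans ?_)
    exact (congrArg (· ≫ χ) hv).trans zero_comp
  refine ⟨C, u, v, hT, key x ?_ ?_, fun g hg => key g ?_ ?_⟩
  · have h : (x • 𝟙 K) ≫ u = 0 := comp_distTriang_mor_zero₁₂ _ hT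
    rwa [Linear.smul_comp, Category.id_comp] at h
  · have h : v ≫ (x • 𝟙 K)⟦(1 : ℤ)⟧' = 0 := comp_distTriang_mor_zero₃₁ _ hT
    rwa [Functor.map_smul, CategoryTheory.Functor.map_id, Linear.comp_smul, Category.comp_id] at h
  · rw [← Category.id_comp u, ← Linear.smul_comp]
    exact (congrArg (· ≫ u) hg).trans zero_comp
  · rw [← Category.comp_id v, ← Linear.comp_smul, ← CategoryTheory.Functor.map_id, ← Functor.map_smul,
      hg, Functor.map_zero, comp_zero]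

/-- A map to a torsion object factors through a torsion perfect object. -/
theorem exists_factor {N : Dual.D A} :
    ∀ (l : List A), (∀ i : ℤ, ∀ f ∈ l, ∀ x : Dual.HD A N i, ∃ k : ℕ, f ^ k • x = 0) →
      ∀ (E : Dual.D A), DRing.IsPerfect A E → ∀ φ : E ⟶ N,
      ∃ (E' : Dual.D A) (q : E ⟶ E') (ψ : E' ⟶ N), DRing.IsPerfect A E' ∧ q ≫ ψ = φ ∧
        ∀ f ∈ l, ∃ k : ℕ, f ^ k • 𝟙 E' = 0
  | [], _, E, hE, φ => ⟨E, 𝟙 E, φ, hE, Category.id_comp _, fun f hf => absurd hf List.not_mem_nil⟩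
  | f :: l, ht, E, hE, φ => by
    obtain ⟨E₁, q₁, ψ₁, hE₁, hq₁, hk₁⟩ :=
      exists_factor l (fun i g hg => ht i g (List.mem_cons_of_mem _ hg)) E hE φ
    let e := (shiftFunctorZero (Dual.D A) ℤ).app N
    obtain ⟨k, hk⟩ := exists_pow_smul_eq_zero f (fun i => ht i f List.mem_cons_self) hE₁ 0 (ψ₁ ≫ e.inv)
    rw [← Linear.smul_comp, ← zero_comp (f := e.inv), cancel_mono] at hk
    obtain ⟨C, u, v, hT, hx, hg⟩ := exists_cone (f ^ k) E₁
    obtain ⟨χ, hχ⟩ := Triangle.yoneda_exact₂ _ hT ψ₁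
      ((Linear.smul_comp _ _ _ _ _ _).trans ((congrArg (f ^ k • ·) (Category.id_comp ψ₁)).trans hk))
    refine ⟨C, q₁ ≫ u, χ, ?_, ?_, ?_⟩
    · exact H9Misc.DRingPC.isPerfect₃ _ hT hE₁ hE₁
    · rw [Category.assoc]
      exact (congrArg (q₁ ≫ ·) hχ.symm).trans hq₁
    · intro g hgm
      rcases List.mem_cons.1 hgm with rfl | hgl
      · exact ⟨k + k, by rw [pow_add]; exact hx⟩
      · obtain ⟨j, hj⟩ := hk₁ g hgl
        exact ⟨j + j, by rw [pow_add]; exact hg _ hj⟩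

/-- Powers killing an object kill its cohomology. -/
theorem torsion_of_pow_smul_id {K : Dual.D A} (g : A) (h : ∃ k : ℕ, g ^ k • 𝟙 K = 0) (i : ℤ)
    (x : Dual.HD A K i) : ∃ k : ℕ, g ^ k • x = 0 := by
  obtain ⟨k, hk⟩ := h
  refine ⟨k, ?_⟩
  have h := congrArg (DerivedCategory.homologyFunctor (ModuleCat.{u} A) i).map hk
  rw [Functor.map_smul, Functor.map_zero, CategoryTheory.Functor.map_id] at h
  exact ConcreteCategory.congr_hom h x

end Groth.Agent.KFlatLib.TorsionFactor
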